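import Cfsg.Agent.Lib.Helper1.CD3.Defs
import Cfsg.Agent.Lib.Helper81.CharRam
import Cfsg.Agent.Lib.Helper74.LinChar
import Mathlib

set_option autoImplicit false
set_option linter.unusedVariables false

namespace Cfsg.Agent.Helper12.CD3B

open Cfsg Cfsg.Agent.Helper81 Cfsg.Agent.Helper1.CD3
open scoped ComplexConjugate

universe u

/-- the trivial function is an irreducible character -/
theorem isIrr_one {W : Type u} [Group W] : IsIrrCharacter W (fun _ => (1 : ℂ)) := by
  have h := (Cfsg.Agent.Helper74.Lin.ofHom (1 : W →* ℂˣ)).2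
  have e : ((Cfsg.Agent.Helper74.Lin.ofHom (1 : W →* ℂˣ) : IrrCharacter W) : W → ℂ) =
      fun _ => (1 : ℂ) := by
    funext g
    simp
  rwa [e] at h

/-- (K3) [EASY-MED] every `ω ∈ Irr(W)` lies under some `χ ∈ Irr(G)`; if `ω ≠ 1_W` then `χ` is not constant on `W`. -/
theorem exists_over {G : Type u} [Group G] [Fintype G] (W : Subgroup G) [Fintype W] (hW : W.Normal)
    {ω : W → ℂ} (hω : IsIrrCharacter W ω) (hne : ω ≠ fun _ => 1) :
    ∃ χ : G → ℂ, IsIrrCharacter G χ ∧ classInner (fun w : W => χ w) ω ≠ 0 ∧ ∃ w : W, χ w ≠ χ 1 := by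
  classical
  have hα : IsCharacter G (indFun W ω) := isCharacter_indFun W (IsIrrCharacter.isCharacter hω)
  have hα0 : indFun W ω ≠ 0 := by
    intro h0
    have h1 := indFun_one W ω
    rw [h0] at h1
    obtain ⟨n, hn0, hn⟩ := irr_one_pos hω
    have hidx : (W.index : ℂ) ≠ 0 := by
      exact_mod_cast (Nat.pos_of_ne_zero Subgroup.index_ne_zero_of_finite).ne'
    have hn' : (n : ℂ) ≠ 0 := by exact_mod_cast hn0.ne'
    rw [hn] at h1
    simp only [Pi.zero_apply] at h1
    exact (mul_ne_zero hidx hn') h1.symm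
  obtain ⟨χ, hχ, hχne⟩ := exists_irr_constituent hα hα0
  have hχc := isClassFunction_of_isCharacter (IsIrrCharacter.isCharacter hχ)
  rw [frobenius_reciprocity W ω hχc] at hχne
  have hne2 : classInner (fun w : W => χ w) ω ≠ 0 := by
    rw [classInner_conj_symm]
    intro h0
    apply hχne
    have := congrArg conj h0
    simpa using this
  refine ⟨χ, hχ, hne2, ?_⟩
  by_contra hcon
  push Not at hcon
  apply hne2
  have e : (fun w : W => χ w) = χ 1 • (fun _ : W => (1 : ℂ)) := by
    funext w
    simp [hcon w]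
  rw [e, classInner_smul_left, irr_orthonormal isIrr_one hω, if_neg (fun h => hne h.symm), mul_zero]

end Cfsg.Agent.Helper12.CD3B
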