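import Mathlib
import Cfsg.Agent.Lib.Helper14.SPIDefs

set_option autoImplicit false

namespace Cfsg.Agent.Helper12.SPI

open Module Polynomial Cfsg.Agent.Helper14.SPI

/-- dimension of a finite sup of an independent family -/
theorem h12_finrank_biSup {F V : Type*} [Field F] [AddCommGroup V] [Module F V]
    [FiniteDimensional F V] {K : Type*} (W : K → Submodule F V) (hind : iSupIndep W)
    (S : Finset K) :
    finrank F ↥(⨆ k ∈ S, W k) = ∑ k ∈ S, finrank F (W k) := by
  classical
  induction S using Finset.induction_on with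
  | empty => simp
  | insert a S ha ih =>
    rw [Finset.iSup_insert, Finset.sum_insert ha, ← ih]
    have hdis : Disjoint (W a) (⨆ k ∈ S, W k) := by
      have := hind.disjoint_biSup (x := a) (y := (S : Set K)) (by simpa using ha)
      simpa using this
    have h1 := Submodule.finrank_sup_add_finrank_inf_eq (W a) (⨆ k ∈ S, W k)
    rw [hdis.eq_bot, finrank_bot, add_zero] at h1
    exact h1

/-- (COARSE) coarsening an orthogonal family along `g : K → Fin t`. -/
theorem coarsen {F V : Type*} [Field F] [AddCommGroup V] [Module F V] [FiniteDimensional F V]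
    {K : Type*} [Fintype K] (B : LinearMap.BilinForm F V) (hB : B.IsAlt) (R : Submodule F V)
    (W : K → Submodule F V) (hW : IsOrthFam B R W) {t : ℕ} (g : K → Fin t) :
    IsOrthFam B R (fun j : Fin t => ⨆ (k : K) (_ : g k = j), W k) ∧
      ∀ j : Fin t, finrank F ↥(⨆ (k : K) (_ : g k = j), W k) =
        ∑ k ∈ Finset.univ.filter (fun k => g k = j), finrank F (W k) := by
  classical
  have hfin : ∀ j : Fin t, (⨆ (k : K) (_ : g k = j), W k) =
      ⨆ k ∈ Finset.univ.filter (fun k => g k = j), W k := by
    intro j
    simp only [Finset.mem_filter, Finset.mem_univ, true_and]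
  -- decomposition of an element of a fibre
  have hdec : ∀ (j : Fin t) (u : V), u ∈ (⨆ (k : K) (_ : g k = j), W k) →
      ∃ μ : K → V, (∀ k, μ k ∈ W k) ∧ (∀ k, g k ≠ j → μ k = 0) ∧ u = ∑ k, μ k := by
    intro j u hu
    rw [hfin j, Submodule.mem_iSup_finset_iff_exists_sum] at hu
    obtain ⟨μ, hμ⟩ := hu
    refine ⟨fun k => if g k = j then (μ k : V) else 0, ?_, ?_, ?_⟩
    · intro k
      by_cases hk : g k = j
      · simp only [hk, if_true]; exact (μ k).2
      · simp only [hk, if_false]; exact Submodule.zero_mem _
    · intro k hk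
      simp only [hk, if_false]
    · rw [← hμ, Finset.sum_filter]
  refine ⟨⟨?_, ?_, ?_, ?_⟩, ?_⟩
  · -- independence
    intro j
    have hd : Disjoint ({k | g k = j} : Set K) {k | g k ≠ j} := by
      rw [Set.disjoint_left]
      intro k hk hk'
      exact hk' hk
    have h1 := hW.indep.disjoint_biSup_biSup' hd (Set.toFinite _)
    refine Disjoint.mono ?_ ?_ h1
    · exact le_of_eq rfl
    · refine iSup_le fun j' => iSup_le fun hj' => iSup_le fun k => iSup_le fun hk => ?_
      exact le_biSup (f := W) (s := {k | g k ≠ j}) (by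
        change g k ≠ j
        rw [hk]; exact hj')
  · -- sup
    rw [← hW.sup]
    apply le_antisymm
    · exact iSup_le fun j => iSup_le fun k => iSup_le fun _ => le_iSup W k
    · exact iSup_le fun k => le_trans (le_iSup₂ (f := fun k' (_ : g k' = g k) => W k') k rfl)
        (le_iSup (fun j : Fin t => ⨆ (k : K) (_ : g k = j), W k) (g k))
  · -- nondegeneracy
    intro j u hu hu0
    obtain ⟨μ, hμW, hμ0, hsum⟩ := hdec j u hu
    have hex : ∃ k, μ k ≠ 0 := by
      by_contra hcon
      push Not at hcon
      apply hu0
      rw [hsum]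
      exact Finset.sum_eq_zero fun k _ => hcon k
    obtain ⟨k, hk⟩ := hex
    have hgk : g k = j := by
      by_contra hne
      exact hk (hμ0 k hne)
    obtain ⟨v, hvW, hv⟩ := hW.nondeg k (μ k) (hμW k) hk
    refine ⟨v, ?_, ?_⟩
    · exact (le_iSup₂ (f := fun k' (_ : g k' = j) => W k') k hgk) hvW
    · rw [hsum, map_sum, LinearMap.sum_apply, Finset.sum_eq_single k]
      · exact hv
      · intro k' _ hk'
        exact hW.orth k' k hk' (μ k') (hμW k') v hvW
      · intro hk'
        exact absurd (Finset.mem_univ k) hk'
  · -- orthogonality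
    intro j j' hjj' u hu v hv
    obtain ⟨μ, hμW, hμ0, hsum⟩ := hdec j u hu
    obtain ⟨ν, hνW, hν0, hsum'⟩ := hdec j' v hv
    have key : ∀ k k', B (μ k) (ν k') = 0 := by
      intro k k'
      by_cases hk : g k = j
      · by_cases hk' : g k' = j'
        · have hne : k ≠ k' := by
            rintro rfl
            exact hjj' (hk.symm.trans hk')
          exact hW.orth k k' hne (μ k) (hμW k) (ν k') (hνW k')
        · rw [hν0 k' hk', map_zero]
      · rw [hμ0 k hk, map_zero, LinearMap.zero_apply]
    rw [hsum, hsum']
    simp only [map_sum, LinearMap.sum_apply, key, Finset.sum_const_zero]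
  · intro j
    rw [hfin j]
    exact h12_finrank_biSup W hW.indep _

end Cfsg.Agent.Helper12.SPI
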