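import Mathlib
import Cfsg.Agent.Lib.Helper14.GLIDefs
import Cfsg.Agent.Lib.Helper12.SPICOARSE

set_option autoImplicit false

namespace Cfsg.Agent.Helper12.GLI

open Module Polynomial Cfsg.Agent.Helper14.GLI

/-- (GCOARSE) = SPI (COARSE) without the form. -/
theorem gl_coarsen {F V : Type*} [Field F] [AddCommGroup V] [Module F V] [FiniteDimensional F V]
    {K : Type*} [Fintype K] (R : Submodule F V)
    (W : K → Submodule F V) (hW : IsIndepFam R W) {t : ℕ} (g : K → Fin t) :
    IsIndepFam R (fun j : Fin t => ⨆ (k : K) (_ : g k = j), W k) ∧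
      ∀ j : Fin t, finrank F ↥(⨆ (k : K) (_ : g k = j), W k) =
        ∑ k ∈ Finset.univ.filter (fun k => g k = j), finrank F (W k) := by
  classical
  have hfin : ∀ j : Fin t, (⨆ (k : K) (_ : g k = j), W k) =
      ⨆ k ∈ Finset.univ.filter (fun k => g k = j), W k := by
    intro j
    simp only [Finset.mem_filter, Finset.mem_univ, true_and]
  refine ⟨⟨?_, ?_⟩, ?_⟩
  · -- independence
    intro j
    have hd : Disjoint ({k | g k = j} : Set K) {k | g k ≠ j} := by
      rw [Set.disjoint_left]
      intro k hk hk'
      exact hk' hk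
    have h1 := hW.indep.disjoint_biSup_biSup' hd (Set.toFinite _)
    refine Disjoint.mono ?_ ?_ h1
    · exact le_of_eq rfl
    · refine iSup_le fun j' => iSup_le fun hj' => iSup_le fun k => iSup_le fun hk => ?_
      exact le_biSup (f := W) (s := {k | g k ≠ j}) (by
        change g k ≠ j
        rw [hk]; exact hj')
  · -- sup
    rw [← hW.sup]
    apply le_antisymm
    · exact iSup_le fun j => iSup_le fun k => iSup_le fun _ => le_iSup W k
    · exact iSup_le fun k => le_trans (le_iSup₂ (f := fun k' (_ : g k' = g k) => W k') k rfl)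
        (le_iSup (fun j : Fin t => ⨆ (k : K) (_ : g k = j), W k) (g k))
  · intro j
    rw [hfin j]
    exact Cfsg.Agent.Helper12.SPI.h12_finrank_biSup W hW.indep _

end Cfsg.Agent.Helper12.GLI
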