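import Mathlib
import Cfsg.Agent.Lib.Helper14.GLIDefs
import Cfsg.Agent.Lib.Helper12.GLIGCOARSE

set_option autoImplicit false

namespace Cfsg.Agent.Helper12.GLI

open Module Polynomial Cfsg.Agent.Helper14.GLI

/-- (MONO) a monomial matrix with a block system: `D j = span {b i | β i = j}`. -/
theorem mono_decomp {F V : Type*} [Field F] [AddCommGroup V] [Module F V]
    {ι : Type*} [Fintype ι] (b : Basis ι F V) (x : V →ₗ[F] V)
    (π : Equiv.Perm ι) (lam : ι → F) (hlam : ∀ i, lam i ≠ 0)
    (hx : ∀ i, x (b i) = lam i • b (π i))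
    {t : ℕ} (a : ℕ) (β : ι → Fin t)
    (hβ : ∀ j, (Finset.univ.filter (fun i => β i = j)).card = a)
    (τ : Equiv.Perm (Fin t)) (hτ : ∀ i, β (π i) = τ (β i)) :
    ∃ D : Fin t → Submodule F V, IsIndepFam ⊤ D ∧ (∀ j, finrank F (D j) = a) ∧
      ∀ j, (D j).map x = D (τ j) := by
  classical
  haveI : FiniteDimensional F V := Module.Finite.of_basis b
  set W : ι → Submodule F V := fun i => Submodule.span F {b i} with hWdef
  have hW : IsIndepFam ⊤ W := by
    refine ⟨b.linearIndependent.iSupIndep_span_singleton, ?_⟩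
    rw [hWdef, ← Submodule.span_range_eq_iSup, b.span_eq]
  obtain ⟨h1, h2⟩ := gl_coarsen ⊤ W hW β
  refine ⟨fun j : Fin t => ⨆ (k : ι) (_ : β k = j), W k, h1, ?_, ?_⟩
  · intro j
    rw [h2 j]
    have : ∀ k, finrank F (W k) = 1 := fun k => finrank_span_singleton (b.ne_zero k)
    simp only [this, Finset.sum_const, smul_eq_mul, mul_one]
    exact hβ j
  · intro j
    have hmapW : ∀ k, (W k).map x = W (π k) := by
      intro k
      rw [hWdef]
      simp only
      rw [Submodule.map_span, Set.image_singleton, hx k]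
      exact Submodule.span_singleton_smul_eq (IsUnit.mk0 _ (hlam k)) _
    simp only [Submodule.map_iSup, hmapW]
    apply le_antisymm
    · refine iSup_le fun k => iSup_le fun hk => ?_
      exact le_iSup₂ (f := fun k' (_ : β k' = τ j) => W k') (π k) (by rw [hτ, hk])
    · refine iSup_le fun k' => iSup_le fun hk' => ?_
      have hk : β (π.symm k') = j := by
        apply τ.injective
        rw [← hτ, Equiv.apply_symm_apply, hk']
      have := le_iSup₂ (f := fun k (_ : β k = j) => W (π k)) (π.symm k') hk
      simpa using this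

end Cfsg.Agent.Helper12.GLI
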