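import Mathlib
import Cfsg.Agent.Lib.Helper87.PsuA
import Cfsg.Agent.Lib.Helper87.PsuB0

/-!
# SUOT (S2282, concrete block): shared definitions (helper12).

In a hyperbolic basis `b` (`HB q b`) let `N` be the shift `N b_j = b_(j-1)`, `N b_0 = 0`.
`N` is self-adjoint for the Hermitian form, so `A(al) = 1 + al N` has adjoint `A(al^q)` and
`u = A(al) A(al^q)⁻¹` is a regular unipotent element of `SU_n` for every `n` (`al ∉ F_q`), with the
key relation `u (z + al^q N z) = z + al N z`.
-/

set_option autoImplicit false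

namespace Cfsg.Agent.Helper12.SUOT

open Matrix Cfsg Cfsg.Agent.Helper13 Cfsg.Agent.Helper87.PsuA

variable {F : Type*} [Field F] [Fintype F] {n : ℕ}

/-- the shift in coordinates: `Sh i j = 1` iff `i + 1 = j` -/
def Sh (n : ℕ) (F : Type*) [Field F] : Matrix (Fin n) (Fin n) F :=
  Matrix.of fun i j => if i.val + 1 = j.val then 1 else 0

/-- the shift `N b_j = b_(j-1)`, `N b_0 = 0`, as a matrix in the standard basis -/
def Nm (q : ℕ) (b : Fin n → Fin n → F) : Matrix (Fin n) (Fin n) F := Pm b * Sh n F * Qm q b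

/-- `A(al) = 1 + al N` -/
def Am (q : ℕ) (b : Fin n → Fin n → F) (al : F) : Matrix (Fin n) (Fin n) F := 1 + al • Nm q b

/-- the matrix of `u = A(al) A(al^q)⁻¹` -/
noncomputable def uMat (q : ℕ) (b : Fin n → Fin n → F) (al : F) : Matrix (Fin n) (Fin n) F :=
  Am q b al * (Am q b (al ^ q))⁻¹

open Classical in
/-- the regular unipotent element `u = A(al) A(al^q)⁻¹` (junk value `1` unless the matrix is in
`SU_n`; piece T4 shows that it is for a hyperbolic basis `b`) -/
noncomputable def uEl (q : ℕ) (b : Fin n → Fin n → F) (al : F) : ↥(Cfsg.SU n F q) :=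
  if h : (uMat q b al).det = 1 ∧ ∀ x y : Fin n → F,
      Cfsg.hermForm n F q (uMat q b al *ᵥ x) (uMat q b al *ᵥ y) = Cfsg.hermForm n F q x y then
    mkSU (uMat q b al) h.1 h.2
  else 1

/-- the frame vector `v = b_(n-1) + al^q b_(n-2)` -/
def vV (q : ℕ) (b : Fin n → Fin n → F) (al : F) (hn : 5 ≤ n) : Fin n → F :=
  b (Fin.rev ⟨0, by omega⟩) + al ^ q • b (Fin.rev ⟨1, by omega⟩)

/-- `al` generates the multiplicative group of `F` -/
def IsMulGen (al : F) : Prop := ∀ x : F, x ≠ 0 → ∃ k : ℕ, x = al ^ k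

end Cfsg.Agent.Helper12.SUOT
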