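import Mathlib
import Cfsg.Agent.Lib.Helper12.SUOT0

/-!
# SUOT (S2282 concrete block): pieces T1 T2 T3 T4 (helper12)
the shift `N`, its self-adjointness, `A(al) = 1 + al N`, and the key relation for `u`.
-/

set_option autoImplicit false
set_option linter.unusedSectionVars false
set_option linter.unusedVariables false

namespace Cfsg.Agent.Helper12.SUOT

open Matrix Cfsg Cfsg.Agent.Helper13 Cfsg.Agent.Helper87.PsuA

variable {F : Type*} [Field F] [Fintype F] {q n : ℕ}

/-! ### T1 -/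

theorem Sh_mulVec_succ (c : Fin n → F) (i j : Fin n) (hij : i.val + 1 = j.val) :
    (Sh n F *ᵥ c) i = c j := by
  rw [Matrix.mulVec, dotProduct, Finset.sum_eq_single j]
  · simp [Sh, hij]
  · intro m _ hmj
    have : ¬ (i.val + 1 = m.val) := fun h => hmj (Fin.ext (by omega))
    simp [Sh, this]
  · intro h; exact absurd (Finset.mem_univ j) h

theorem Sh_mulVec_last (c : Fin n → F) (i : Fin n) (hi : i.val + 1 = n) :
    (Sh n F *ᵥ c) i = 0 := by
  rw [Matrix.mulVec, dotProduct]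
  apply Finset.sum_eq_zero
  intro m _
  have : ¬ (i.val + 1 = m.val) := fun h => by have := m.isLt; omega
  simp [Sh, this]

theorem co_Nm (hF : Fintype.card F = q ^ 2) {b : Fin n → Fin n → F} (hb : HB q b)
    (x : Fin n → F) : co q b (Nm q b *ᵥ x) = Sh n F *ᵥ co q b x := by
  rw [← Qm_mulVec, ← Qm_mulVec]
  unfold Nm
  rw [Matrix.mulVec_mulVec, ← Matrix.mul_assoc, ← Matrix.mul_assoc, Qm_mul_Pm hb, Matrix.one_mul,
    ← Matrix.mulVec_mulVec]

theorem co_Nm_succ (hF : Fintype.card F = q ^ 2) {b : Fin n → Fin n → F} (hb : HB q b)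
    (x : Fin n → F) (i j : Fin n) (hij : i.val + 1 = j.val) :
    co q b (Nm q b *ᵥ x) i = co q b x j := by
  rw [co_Nm hF hb, Sh_mulVec_succ _ i j hij]

theorem co_Nm_last (hF : Fintype.card F = q ^ 2) {b : Fin n → Fin n → F} (hb : HB q b)
    (x : Fin n → F) (i : Fin n) (hi : i.val + 1 = n) : co q b (Nm q b *ᵥ x) i = 0 := by
  rw [co_Nm hF hb, Sh_mulVec_last _ i hi]

theorem Nm_b_zero (hF : Fintype.card F = q ^ 2) {b : Fin n → Fin n → F} (hb : HB q b)
    (j : Fin n) (hj : j.val = 0) : Nm q b *ᵥ b j = 0 := by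
  apply ext_co hb
  intro i
  rw [co_zero hF]
  by_cases hi : i.val + 1 = n
  · exact co_Nm_last hF hb _ i hi
  · have hlt : i.val + 1 < n := by have := i.isLt; omega
    rw [co_Nm_succ hF hb _ i ⟨i.val + 1, hlt⟩ rfl, co_b hb, if_neg]
    intro e
    have := congrArg Fin.val e
    simp at this
    omega

theorem Nm_b_succ (hF : Fintype.card F = q ^ 2) {b : Fin n → Fin n → F} (hb : HB q b)
    (i j : Fin n) (hij : i.val + 1 = j.val) : Nm q b *ᵥ b j = b i := by
  apply ext_co hb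
  intro i'
  rw [co_b hb i i']
  by_cases hi : i'.val + 1 = n
  · rw [co_Nm_last hF hb _ i' hi, if_neg]
    intro e
    have := j.isLt
    rw [e] at hi
    omega
  · have hlt : i'.val + 1 < n := by have := i'.isLt; omega
    rw [co_Nm_succ hF hb _ i' ⟨i'.val + 1, hlt⟩ rfl, co_b hb]
    by_cases e : i' = i
    · rw [if_pos e, if_pos]
      apply Fin.ext
      show i'.val + 1 = j.val
      rw [e]
      exact hij
    · rw [if_neg e, if_neg]
      intro e'
      apply e
      have := congrArg Fin.val e'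
      simp at this
      exact Fin.ext (by omega)

/-! ### T2 -/

theorem Nm_mulVec_add {b : Fin n → Fin n → F} (x y : Fin n → F) :
    Nm q b *ᵥ (x + y) = Nm q b *ᵥ x + Nm q b *ᵥ y := Matrix.mulVec_add _ _ _

theorem Nm_mulVec_smul {b : Fin n → Fin n → F} (c : F) (x : Fin n → F) :
    Nm q b *ᵥ (c • x) = c • (Nm q b *ᵥ x) := Matrix.mulVec_smul _ _ _

theorem Nm_adj_b (hF : Fintype.card F = q ^ 2) {b : Fin n → Fin n → F} (hb : HB q b)
    (j : Fin n) (y : Fin n → F) :
    Cfsg.hermForm n F q (Nm q b *ᵥ b j) y = Cfsg.hermForm n F q (b j) (Nm q b *ᵥ y) := by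
  rw [H_b_right hF]
  by_cases hj : j.val = 0
  · rw [Nm_b_zero hF hb j hj, H_zero_left hF, co_Nm_last hF hb y (Fin.rev j)
      (by rw [Fin.val_rev]; have := j.isLt; omega), frob_zero hF]
  · have hlt : j.val - 1 < n := by have := j.isLt; omega
    have hij : (⟨j.val - 1, hlt⟩ : Fin n).val + 1 = j.val := by simp; omega
    rw [Nm_b_succ hF hb ⟨j.val - 1, hlt⟩ j hij, H_b_right hF,
      co_Nm_succ hF hb y (Fin.rev j) (Fin.rev ⟨j.val - 1, hlt⟩)
        (by rw [Fin.val_rev, Fin.val_rev]; have := j.isLt; simp; omega)]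

theorem Nm_adj (hF : Fintype.card F = q ^ 2) {b : Fin n → Fin n → F} (hb : HB q b)
    (x y : Fin n → F) :
    Cfsg.hermForm n F q (Nm q b *ᵥ x) y = Cfsg.hermForm n F q x (Nm q b *ᵥ y) := by
  conv_lhs => rw [expand hb x]
  conv_rhs => rw [expand hb x]
  rw [Matrix.mulVec_sum, H_sum_left hF, H_sum_left hF]
  apply Finset.sum_congr rfl
  intro j _
  rw [Matrix.mulVec_smul, hermForm_smul_left, hermForm_smul_left, Nm_adj_b hF hb]

/-! ### T3 -/

theorem Am_mulVec {b : Fin n → Fin n → F} (al : F) (x : Fin n → F) :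
    Am q b al *ᵥ x = x + al • (Nm q b *ᵥ x) := by
  unfold Am
  rw [Matrix.add_mulVec, Matrix.one_mulVec, Matrix.smul_mulVec]

theorem Am_adj (hF : Fintype.card F = q ^ 2) {b : Fin n → Fin n → F} (hb : HB q b) (al : F)
    (x y : Fin n → F) :
    Cfsg.hermForm n F q (Am q b al *ᵥ x) y = Cfsg.hermForm n F q x (Am q b (al ^ q) *ᵥ y) := by
  rw [Am_mulVec, Am_mulVec, hermForm_add_left, hermForm_smul_left, hermForm_add_right hF,
    hermForm_smul_right, frob_frob hF, Nm_adj hF hb]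

theorem Am_eq {b : Fin n → Fin n → F} (hb : HB q b) (al : F) :
    Am q b al = Pm b * (1 + al • Sh n F) * Qm q b := by
  unfold Am Nm
  rw [Matrix.mul_add, Matrix.add_mul, Matrix.mul_one, Pm_mul_Qm hb, Matrix.mul_smul,
    Matrix.smul_mul]

theorem Am_det (hF : Fintype.card F = q ^ 2) {b : Fin n → Fin n → F} (hb : HB q b) (al : F) :
    (Am q b al).det = 1 := by
  rw [Am_eq hb, Matrix.det_mul, Matrix.det_mul, mul_right_comm, ← Matrix.det_mul, Pm_mul_Qm hb,
    Matrix.det_one, one_mul]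
  have htri : (1 + al • Sh n F : Matrix (Fin n) (Fin n) F).BlockTriangular id := by
    intro i j hji
    have hji' : j < i := hji
    have h1 : (1 : Matrix (Fin n) (Fin n) F) i j = 0 := Matrix.one_apply_ne (ne_of_gt hji')
    have h2 : Sh n F i j = 0 := by
      have : ¬ (i.val + 1 = j.val) := by rw [Fin.lt_def] at hji'; omega
      simp [Sh, this]
    rw [Matrix.add_apply, Matrix.smul_apply, h1, h2, smul_zero, add_zero]
  rw [Matrix.det_of_isUpperTriangular htri]
  apply Finset.prod_eq_one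
  intro i _
  have h2 : Sh n F i i = 0 := by simp [Sh]
  rw [Matrix.add_apply, Matrix.smul_apply, Matrix.one_apply_eq, h2, smul_zero, add_zero]

theorem Am_comm {b : Fin n → Fin n → F} (al be : F) :
    Am q b al * Am q b be = Am q b be * Am q b al := by
  unfold Am
  have h : Commute (Nm q b) (Nm q b) := Commute.refl _
  have h1 : Commute (al • Nm q b) (be • Nm q b) := (h.smul_left al).smul_right be
  exact ((Commute.one_left _).add_left
    ((Commute.one_right _).add_right h1)).eq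

/-! ### T4 -/

theorem Am_inv_mul (hF : Fintype.card F = q ^ 2) {b : Fin n → Fin n → F} (hb : HB q b) (al : F) :
    (Am q b al)⁻¹ * Am q b al = 1 :=
  Matrix.nonsing_inv_mul _ (by rw [Am_det hF hb]; exact isUnit_one)

theorem Am_mul_inv (hF : Fintype.card F = q ^ 2) {b : Fin n → Fin n → F} (hb : HB q b) (al : F) :
    Am q b al * (Am q b al)⁻¹ = 1 :=
  Matrix.mul_nonsing_inv _ (by rw [Am_det hF hb]; exact isUnit_one)

theorem uMat_det (hF : Fintype.card F = q ^ 2) {b : Fin n → Fin n → F} (hb : HB q b) (al : F) :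
    (uMat q b al).det = 1 := by
  unfold uMat
  rw [Matrix.det_mul, Matrix.det_nonsing_inv, Am_det hF hb, Am_det hF hb, Ring.inverse_one,
    mul_one]

theorem uMat_key (hF : Fintype.card F = q ^ 2) {b : Fin n → Fin n → F} (hb : HB q b) (al : F)
    (z : Fin n → F) : uMat q b al *ᵥ (Am q b (al ^ q) *ᵥ z) = Am q b al *ᵥ z := by
  unfold uMat
  rw [Matrix.mulVec_mulVec, Matrix.mul_assoc, Am_inv_mul hF hb, Matrix.mul_one]

theorem uMat_iso (hF : Fintype.card F = q ^ 2) {b : Fin n → Fin n → F} (hb : HB q b) (al : F)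
    (x y : Fin n → F) :
    Cfsg.hermForm n F q (uMat q b al *ᵥ x) (uMat q b al *ᵥ y) = Cfsg.hermForm n F q x y := by
  obtain ⟨x', rfl⟩ : ∃ x', x = Am q b (al ^ q) *ᵥ x' :=
    ⟨(Am q b (al ^ q))⁻¹ *ᵥ x, by rw [Matrix.mulVec_mulVec, Am_mul_inv hF hb, Matrix.one_mulVec]⟩
  obtain ⟨y', rfl⟩ : ∃ y', y = Am q b (al ^ q) *ᵥ y' :=
    ⟨(Am q b (al ^ q))⁻¹ *ᵥ y, by rw [Matrix.mulVec_mulVec, Am_mul_inv hF hb, Matrix.one_mulVec]⟩
  rw [uMat_key hF hb, uMat_key hF hb, Am_adj hF hb al, Am_adj hF hb (al ^ q), frob_frob hF,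
    Matrix.mulVec_mulVec, Matrix.mulVec_mulVec, Am_comm]

theorem uEl_eq (hF : Fintype.card F = q ^ 2) {b : Fin n → Fin n → F} (hb : HB q b) (al : F)
    (x : Fin n → F) : actv (uEl q b al) x = uMat q b al *ᵥ x := by
  unfold uEl
  rw [dif_pos ⟨uMat_det hF hb al, uMat_iso hF hb al⟩]
  rfl

/-- KEY RELATION: `u (z + al^q N z) = z + al N z` -/
theorem uEl_key (hF : Fintype.card F = q ^ 2) {b : Fin n → Fin n → F} (hb : HB q b) (al : F)
    (z : Fin n → F) :
    actv (uEl q b al) (z + al ^ q • (Nm q b *ᵥ z)) = z + al • (Nm q b *ᵥ z) := by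
  rw [uEl_eq hF hb, ← Am_mulVec, ← Am_mulVec, uMat_key hF hb]

end Cfsg.Agent.Helper12.SUOT
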