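import Mathlib

set_option autoImplicit false
set_option linter.unusedSectionVars false
set_option linter.style.haveILetI false

/-! A group acting regularly by conjugation on the non-identity elements of an elementary abelian
subgroup is isomorphic to a regular linear group over the prime field. -/

namespace Cfsg.Agent.Helper12.LinTransport

universe u

section additive

variable {p : ℕ} {V : Type u} [AddCommGroup V] [Module (ZMod p) V]

/-- an additive automorphism as a linear automorphism over `ZMod p` -/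
def linOf (p : ℕ) {V : Type u} [AddCommGroup V] [Module (ZMod p) V] (f : V ≃+ V) :
    V ≃ₗ[ZMod p] V :=
  { f.toAddMonoidHom.toZModLinearMap p with
    invFun := f.symm
    left_inv := f.left_inv
    right_inv := f.right_inv }

theorem linOf_apply (f : V ≃+ V) (v : V) : linOf p f v = f v := rfl

/-- the linear action attached to an action by additive automorphisms -/
def linHom (p : ℕ) {V : Type u} [AddCommGroup V] [Module (ZMod p) V] {Q : Type*} [Group Q]
    (ψ : Q → (V ≃+ V)) (hone : ∀ v, ψ 1 v = v) (hmul : ∀ q q' v, ψ (q * q') v = ψ q (ψ q' v)) :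
    Q →* (V ≃ₗ[ZMod p] V) where
  toFun q := linOf p (ψ q)
  map_one' := by
    apply LinearEquiv.ext
    intro v
    rw [linOf_apply, hone]
    rfl
  map_mul' := by
    intro q q'
    apply LinearEquiv.ext
    intro v
    rw [linOf_apply, hmul]
    rfl

theorem linHom_apply {Q : Type*} [Group Q] (ψ : Q → (V ≃+ V)) (hone : ∀ v, ψ 1 v = v)
    (hmul : ∀ q q' v, ψ (q * q') v = ψ q (ψ q' v)) (q : Q) (v : V) :
    linHom p ψ hone hmul q v = ψ q v := rfl

/-- a regular action by additive automorphisms gives a regular linear group -/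
theorem exists_of_addAut {Q : Type*} [Group Q] (ψ : Q → (V ≃+ V)) (hone : ∀ v, ψ 1 v = v)
    (hmul : ∀ q q' v, ψ (q * q') v = ψ q (ψ q' v))
    (hreg : ∀ v w : V, v ≠ 0 → w ≠ 0 → ∃! q : Q, ψ q v = w) (v₀ : V) (hv₀ : v₀ ≠ 0) :
    ∃ H' : Subgroup (V ≃ₗ[ZMod p] V),
      (∀ v w : V, v ≠ 0 → w ≠ 0 → ∃! h : H', (h : V ≃ₗ[ZMod p] V) v = w) ∧
      Nonempty (Q ≃* H') := by
  have hne : ∀ (q : Q) (v : V), v ≠ 0 → ψ q v ≠ 0 := by
    intro q v hv h
    apply hv
    have : ψ q v = ψ q 0 := by rw [h, map_zero]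
    exact (ψ q).injective this
  have hinj : Function.Injective (linHom p ψ hone hmul) := by
    intro q q' h
    have h1 : ψ q v₀ = ψ q' v₀ := by
      rw [← linHom_apply (p := p) ψ hone hmul, ← linHom_apply (p := p) ψ hone hmul, h]
    exact (hreg v₀ (ψ q v₀) hv₀ (hne q v₀ hv₀)).unique rfl h1.symm
  refine ⟨(linHom p ψ hone hmul).range, ?_, ⟨MonoidHom.ofInjective hinj⟩⟩
  intro v w hv hw
  obtain ⟨q, hq, hquniq⟩ := hreg v w hv hw
  refine ⟨⟨linHom p ψ hone hmul q, ⟨q, rfl⟩⟩, hq, ?_⟩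
  rintro ⟨_, q', rfl⟩ hq'
  have : q' = q := hquniq q' hq'
  subst this
  rfl

end additive

section conj

variable {Γ : Type u} [Group Γ]

/-- conjugation by an element normalising `K`, as an automorphism of `K` -/
def conjK (K : Subgroup Γ) (h : Γ) (hh : ∀ k ∈ K, h * k * h⁻¹ ∈ K)
    (hh' : ∀ k ∈ K, h⁻¹ * k * h ∈ K) : K ≃* K where
  toFun k := ⟨h * k * h⁻¹, hh k k.2⟩
  invFun k := ⟨h⁻¹ * k * h, hh' k k.2⟩
  left_inv k := by
    apply Subtype.ext
    change h⁻¹ * (h * (k : Γ) * h⁻¹) * h = k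
    group
  right_inv k := by
    apply Subtype.ext
    change h * (h⁻¹ * (k : Γ) * h) * h⁻¹ = k
    group
  map_mul' k k' := by
    apply Subtype.ext
    change h * ((k : Γ) * (k' : Γ)) * h⁻¹ = h * (k : Γ) * h⁻¹ * (h * (k' : Γ) * h⁻¹)
    group

/-- the main transport statement -/
theorem exists_linear (K H : Subgroup Γ) [Finite K] (p : ℕ) [Fact p.Prime]
    (hKc : ∀ x ∈ K, ∀ y ∈ K, x * y = y * x) (hKp : ∀ x ∈ K, x ^ p = 1)
    (hnorm : ∀ h ∈ H, ∀ k ∈ K, h * k * h⁻¹ ∈ K)
    (hreg : ∀ k ∈ K, ∀ k' ∈ K, k ≠ 1 → k' ≠ 1 → ∃! h : H, (h : Γ) * k * (h : Γ)⁻¹ = k')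
    (hKnt : ∃ k ∈ K, k ≠ 1) :
    ∃ (V : Type u) (_ : AddCommGroup V) (_ : Module (ZMod p) V) (_ : Finite V)
      (H' : Subgroup (V ≃ₗ[ZMod p] V)),
      (∀ v w : V, v ≠ 0 → w ≠ 0 → ∃! h : H', (h : V ≃ₗ[ZMod p] V) v = w) ∧
      Nonempty (H ≃* H') ∧ Nat.card V = Nat.card K := by
  letI : CommGroup K :=
    { (inferInstance : Group K) with
      mul_comm := fun x y => Subtype.ext (hKc x x.2 y y.2) }
  have hp0 : ∀ v : Additive K, p • v = 0 := by
    intro v
    have h1 : (Additive.toMul v) ^ p = 1 := by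
      apply Subtype.ext
      have := hKp (Additive.toMul v : K) (Additive.toMul v).2
      simpa using this
    have h2 : p • v = Additive.ofMul ((Additive.toMul v) ^ p) := rfl
    rw [h2, h1]
    rfl
  letI : Module (ZMod p) (Additive K) := AddCommGroup.zmodModule hp0
  have hnorm' : ∀ h ∈ H, ∀ k ∈ K, h⁻¹ * k * h ∈ K := by
    intro h hh k hk
    have := hnorm h⁻¹ (H.inv_mem hh) k hk
    rwa [inv_inv] at this
  let ψ : H → (Additive K ≃+ Additive K) := fun h =>
    MulEquiv.toAdditive (conjK K (h : Γ) (hnorm h h.2) (hnorm' h h.2))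
  have hψ : ∀ (h : H) (v : Additive K),
      ((ψ h v).toMul : Γ) = (h : Γ) * (v.toMul : Γ) * (h : Γ)⁻¹ := fun _ _ => rfl
  have hext : ∀ v w : Additive K, ((v.toMul : K) : Γ) = ((w.toMul : K) : Γ) → v = w := by
    intro v w h
    have : v.toMul = w.toMul := Subtype.ext h
    exact this
  have hone : ∀ v, ψ 1 v = v := by
    intro v
    apply hext
    rw [hψ]
    simp
  have hmul : ∀ q q' v, ψ (q * q') v = ψ q (ψ q' v) := by
    intro q q' v
    apply hext
    rw [hψ, hψ, hψ, Subgroup.coe_mul]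
    group
  have hzero : ∀ v : Additive K, v ≠ 0 ↔ ((v.toMul : K) : Γ) ≠ 1 := by
    intro v
    constructor
    · intro hv h
      apply hv
      have : v.toMul = 1 := Subtype.ext h
      exact this
    · intro hv h
      apply hv
      rw [h]
      rfl
  have hreg' : ∀ v w : Additive K, v ≠ 0 → w ≠ 0 → ∃! q : H, ψ q v = w := by
    intro v w hv hw
    obtain ⟨q, hq, hquniq⟩ := hreg (v.toMul : K) (v.toMul : K).2 (w.toMul : K) (w.toMul : K).2
      ((hzero v).mp hv) ((hzero w).mp hw)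
    refine ⟨q, ?_, ?_⟩
    · have : (ψ q v).toMul = w.toMul := Subtype.ext (by rw [hψ]; exact hq)
      exact this
    · intro q' hq'
      apply hquniq
      rw [← hψ, hq']
  obtain ⟨k₀, hk₀, hk₀1⟩ := hKnt
  have hv₀ : (Additive.ofMul (⟨k₀, hk₀⟩ : K)) ≠ 0 := by
    rw [hzero]
    exact hk₀1
  obtain ⟨H', hH', hiso⟩ := exists_of_addAut (p := p) ψ hone hmul hreg' _ hv₀
  exact ⟨Additive K, inferInstance, inferInstance, inferInstance, H', hH', hiso, rfl⟩

end conj

end Cfsg.Agent.Helper12.LinTransport
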