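import Mathlib

set_option autoImplicit false
set_option linter.unusedSectionVars false
set_option linter.style.haveILetI false

/-! Abelian groups of linear maps acting without fixed points. -/

namespace Cfsg.Agent.Helper12.FpfLinear

open Module

variable {p : ℕ} [Fact p.Prime] {V : Type*} [AddCommGroup V] [Module (ZMod p) V]

/-- `W` is invariant under `B` -/
def Inv (B : Subgroup (V ≃ₗ[ZMod p] V)) (W : Submodule (ZMod p) V) : Prop :=
  ∀ b ∈ B, ∀ v ∈ W, b v ∈ W

/-- `W` is minimal among non-zero `B`-invariant subspaces -/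
def Minimal (B : Subgroup (V ≃ₗ[ZMod p] V)) (W : Submodule (ZMod p) V) : Prop :=
  W ≠ ⊥ ∧ Inv B W ∧ ∀ W' : Submodule (ZMod p) V, W' ≤ W → Inv B W' → W' = ⊥ ∨ W' = W

theorem exists_minimal [Finite V] (B : Subgroup (V ≃ₗ[ZMod p] V)) (W₀ : Submodule (ZMod p) V)
    (h0 : W₀ ≠ ⊥) (hinv : Inv B W₀) : ∃ W ≤ W₀, Minimal B W := by
  have : Module.Finite (ZMod p) V := Module.Finite.of_finite
  have hwf : WellFounded (fun a b : Submodule (ZMod p) V => a < b) := wellFounded_lt
  let S : Set (Submodule (ZMod p) V) := {W | W ≤ W₀ ∧ W ≠ ⊥ ∧ Inv B W}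
  have hS : S.Nonempty := ⟨W₀, le_refl _, h0, hinv⟩
  obtain ⟨W, ⟨hW1, hW2, hW3⟩, hmin⟩ := hwf.has_min S hS
  refine ⟨W, hW1, hW2, hW3, ?_⟩
  intro W' hW' hinv'
  by_cases h : W' = ⊥
  · left; exact h
  · right
    by_contra hne
    exact hmin W' ⟨hW'.trans hW1, h, hinv'⟩ (lt_of_le_of_ne hW' hne)

/-- restriction of the action to an invariant subspace -/
def rho (B : Subgroup (V ≃ₗ[ZMod p] V)) (W : Submodule (ZMod p) V) (hinv : Inv B W) :
    B →* Module.End (ZMod p) W where
  toFun b := LinearMap.restrict (b.1 : V →ₗ[ZMod p] V) (fun v hv => hinv b.1 b.2 v hv)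
  map_one' := by
    apply LinearMap.ext
    intro w
    apply Subtype.ext
    rfl
  map_mul' a b := by
    apply LinearMap.ext
    intro w
    apply Subtype.ext
    rfl

theorem rho_apply (B : Subgroup (V ≃ₗ[ZMod p] V)) (W : Submodule (ZMod p) V) (hinv : Inv B W)
    (b : B) (w : W) : ((rho B W hinv b) w : V) = b.1 w.1 := rfl

theorem rho_injective (B : Subgroup (V ≃ₗ[ZMod p] V)) (W : Submodule (ZMod p) V) (hinv : Inv B W)
    (h0 : W ≠ ⊥) (hfpf : ∀ b ∈ B, ∀ v : V, v ≠ 0 → b v = v → b = 1) :
    Function.Injective (rho B W hinv) := by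
  intro a b hab
  obtain ⟨w, hw, hw0⟩ := Submodule.exists_mem_ne_zero_of_ne_bot h0
  have h1 := congrArg (fun f => ((f ⟨w, hw⟩ : W) : V)) hab
  simp only [rho_apply] at h1
  have h2 : (a.1⁻¹ * b.1) w = w := by
    change a.1⁻¹ (b.1 w) = w
    rw [← h1]
    exact a.1.symm_apply_apply w
  have h3 := hfpf _ (B.mul_mem (B.inv_mem a.2) b.2) w hw0 h2
  apply Subtype.ext
  exact (inv_mul_eq_one.mp h3)

section domain
open scoped IsMulCommutative

variable (B : Subgroup (V ≃ₗ[ZMod p] V)) (W : Submodule (ZMod p) V)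

theorem range_comm (hinv : Inv B W) (hcomm : ∀ a ∈ B, ∀ b ∈ B, a * b = b * a) :
    ∀ x ∈ Set.range (rho B W hinv), ∀ y ∈ Set.range (rho B W hinv), x * y = y * x := by
  rintro _ ⟨a, rfl⟩ _ ⟨b, rfl⟩
  rw [← map_mul, ← map_mul]
  congr 1
  exact Subtype.ext (hcomm a.1 a.2 b.1 b.2)

/-- the commutative algebra generated by the restricted action -/
abbrev KK (hinv : Inv B W) : Subalgebra (ZMod p) (Module.End (ZMod p) W) :=
  Algebra.adjoin (ZMod p) (Set.range (rho B W hinv))

theorem ker_cases (hW : Minimal B W) (hcomm : ∀ a ∈ B, ∀ b ∈ B, a * b = b * a)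
    (x : Module.End (ZMod p) W) (hx : x ∈ KK B W hW.2.1) :
    x = 0 ∨ Function.Injective x := by
  have hinv := hW.2.1
  have hcx : ∀ b : B, Commute (rho B W hinv b) x := by
    intro b
    apply Algebra.commute_of_mem_adjoin_of_forall_mem_commute hx
    rintro _ ⟨c, rfl⟩
    exact range_comm B W hinv hcomm _ ⟨b, rfl⟩ _ ⟨c, rfl⟩
  let W' : Submodule (ZMod p) V := (LinearMap.ker x).map W.subtype
  have hW'le : W' ≤ W := Submodule.map_subtype_le W _
  have hW'inv : Inv B W' := by
    rintro b hb v ⟨w, hw, rfl⟩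
    refine ⟨rho B W hinv ⟨b, hb⟩ w, ?_, rfl⟩
    rw [SetLike.mem_coe, LinearMap.mem_ker] at hw ⊢
    have := congrArg (fun f => f w) (hcx ⟨b, hb⟩).eq
    simp only [Module.End.mul_apply] at this
    rw [← this, hw, map_zero]
  rcases hW.2.2 W' hW'le hW'inv with h | h
  · right
    rw [← LinearMap.ker_eq_bot]
    apply Submodule.map_injective_of_injective W.subtype_injective
    rw [Submodule.map_bot]
    exact h
  · left
    have h2 : LinearMap.ker x = ⊤ := by
      apply Submodule.map_injective_of_injective W.subtype_injective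
      rw [Submodule.map_subtype_top]
      exact h
    exact LinearMap.ker_eq_top.mp h2

theorem cyclic_of_fpf [Finite V] (hcomm : ∀ a ∈ B, ∀ b ∈ B, a * b = b * a)
    (hfpf : ∀ b ∈ B, ∀ v : V, v ≠ 0 → b v = v → b = 1) (hW : Minimal B W) : IsCyclic B := by
  have hinv := hW.2.1
  haveI : IsMulCommutative (KK B W hinv) :=
    Algebra.isMulCommutative_adjoin (ZMod p) (range_comm B W hinv hcomm)
  haveI : Nontrivial W := by
    obtain ⟨w, hw, hw0⟩ := Submodule.exists_mem_ne_zero_of_ne_bot hW.1
    exact ⟨⟨⟨w, hw⟩, 0, fun h => hw0 (congrArg Subtype.val h)⟩⟩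
  haveI : NoZeroDivisors (KK B W hinv) := by
    refine ⟨?_⟩
    intro x y hxy
    rcases ker_cases B W hW hcomm x.1 x.2 with h | h
    · left; exact Subtype.ext h
    · right
      apply Subtype.ext
      apply LinearMap.ext
      intro w
      apply h
      have := congrArg (fun f : KK B W hinv => (f.1 : Module.End (ZMod p) W) w) hxy
      simpa using this
  haveI : IsDomain (KK B W hinv) := NoZeroDivisors.to_isDomain _
  let f : B →* KK B W hinv :=
    { toFun := fun b => ⟨rho B W hinv b, Algebra.subset_adjoin ⟨b, rfl⟩⟩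
      map_one' := Subtype.ext (map_one _)
      map_mul' := fun a b => Subtype.ext (map_mul _ a b) }
  have hf : Function.Injective f := by
    intro a b hab
    exact rho_injective B W hinv hW.1 hfpf (congrArg Subtype.val hab)
  have hfinE : Finite (V ≃ₗ[ZMod p] V) :=
    Finite.of_injective (fun e : V ≃ₗ[ZMod p] V => (e : V → V)) DFunLike.coe_injective
  have : Finite B := inferInstance
  exact isCyclic_of_injective_ringHom f hf

end domain

section count

variable (B : Subgroup (V ≃ₗ[ZMod p] V)) (W : Submodule (ZMod p) V)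

/-- the action on the non-zero vectors of an invariant subspace -/
@[instance_reducible] def nzAction (hinv : Inv B W) : MulAction B {w : W // w ≠ 0} where
  smul b x := ⟨rho B W hinv b x.1, by
    intro h
    apply x.2
    have h1 : ((rho B W hinv b x.1 : W) : V) = 0 := by rw [h]; rfl
    rw [rho_apply] at h1
    apply Subtype.ext
    have := b.1.injective (h1.trans (map_zero b.1).symm)
    exact this⟩
  one_smul x := by
    apply Subtype.ext
    change rho B W hinv 1 x.1 = x.1
    rw [map_one]
    rfl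
  mul_smul a b x := by
    apply Subtype.ext
    change rho B W hinv (a * b) x.1 = rho B W hinv a (rho B W hinv b x.1)
    rw [map_mul]
    rfl

theorem card_dvd [Finite V] (hinv : Inv B W)
    (hfpf : ∀ b ∈ B, ∀ v : V, v ≠ 0 → b v = v → b = 1) :
    Nat.card B ∣ p ^ finrank (ZMod p) W - 1 := by
  classical
  letI := nzAction B W hinv
  have hfinE : Finite (V ≃ₗ[ZMod p] V) :=
    Finite.of_injective (fun e : V ≃ₗ[ZMod p] V => (e : V → V)) DFunLike.coe_injective
  have : Finite B := inferInstance
  have hstab : ∀ x : {w : W // w ≠ 0}, MulAction.stabilizer B x = ⊥ := by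
    intro x
    rw [eq_bot_iff]
    intro b hb
    rw [MulAction.mem_stabilizer_iff] at hb
    have h1 : ((rho B W hinv b x.1 : W) : V) = (x.1 : V) :=
      congrArg (fun y : {w : W // w ≠ 0} => ((y.1 : W) : V)) hb
    rw [rho_apply] at h1
    have hx0 : (x.1 : V) ≠ 0 := fun h => x.2 (Subtype.ext h)
    have := hfpf b.1 b.2 _ hx0 h1
    rw [Subgroup.mem_bot]
    exact Subtype.ext this
  have horb : ∀ x : {w : W // w ≠ 0}, Nat.card (MulAction.orbit B x) = Nat.card B := by
    intro x
    have h1 := MulAction.index_stabilizer B x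
    rw [hstab x, Subgroup.index_bot] at h1
    rw [h1, ← Nat.card_coe_set_eq]
  have hX : Nat.card {w : W // w ≠ 0} =
      Nat.card (MulAction.orbitRel.Quotient B {w : W // w ≠ 0}) * Nat.card B := by
    have hQfin : Fintype (MulAction.orbitRel.Quotient B {w : W // w ≠ 0}) := Fintype.ofFinite _
    rw [Nat.card_congr (MulAction.selfEquivSigmaOrbits B {w : W // w ≠ 0}), Nat.card_sigma]
    simp_rw [horb]
    simp [Nat.card_eq_fintype_card]
  have hW : Nat.card {w : W // w ≠ 0} = p ^ finrank (ZMod p) W - 1 := by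
    have : Fintype W := Fintype.ofFinite _
    have h1 : Nat.card W = p ^ finrank (ZMod p) W := by
      rw [Module.natCard_eq_pow_finrank (K := ZMod p) (V := W)]
      simp
    rw [← h1, Nat.card_eq_fintype_card, Nat.card_eq_fintype_card]
    exact Set.card_ne_eq (0 : W)
  rw [← hW, hX]
  exact dvd_mul_left _ _

end count

section roots
open scoped IsMulCommutative
open Polynomial

variable (B : Subgroup (V ≃ₗ[ZMod p] V)) (W : Submodule (ZMod p) V)

theorem rho_pow_apply (hinv : Inv B W) (b : B) (n : ℕ) (w : W) :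
    (((rho B W hinv b) ^ n) w : V) = ((b.1 : V →ₗ[ZMod p] V) ^ n) w.1 := by
  induction n generalizing w with
  | zero => rfl
  | succ n ih =>
    rw [pow_succ, pow_succ, Module.End.mul_apply, Module.End.mul_apply, ih]
    rfl

theorem aeval_rho (hinv : Inv B W) (b : B) (P : (ZMod p)[X]) (w : W) :
    ((Polynomial.aeval (rho B W hinv b) P) w : V) =
      (Polynomial.aeval (b.1 : V →ₗ[ZMod p] V) P) w.1 := by
  rw [Polynomial.aeval_endomorphism, Polynomial.aeval_endomorphism, Polynomial.sum_def,
    Polynomial.sum_def, Submodule.coe_sum]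
  apply Finset.sum_congr rfl
  intro n _
  rw [Submodule.coe_smul, rho_pow_apply]

theorem card_roots_bound [Finite V] (hcomm : ∀ a ∈ B, ∀ b ∈ B, a * b = b * a)
    (hfpf : ∀ b ∈ B, ∀ v : V, v ≠ 0 → b v = v → b = 1) (hW : Minimal B W)
    (P : (ZMod p)[X]) (hP : P.Monic) (S : Finset B)
    (hS : ∀ b ∈ S, Polynomial.aeval (b.1 : V →ₗ[ZMod p] V) P = 0) :
    S.card ≤ P.natDegree := by
  classical
  have hinv := hW.2.1
  haveI : IsMulCommutative (KK B W hinv) :=
    Algebra.isMulCommutative_adjoin (ZMod p) (range_comm B W hinv hcomm)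
  haveI : Nontrivial W := by
    obtain ⟨w, hw, hw0⟩ := Submodule.exists_mem_ne_zero_of_ne_bot hW.1
    exact ⟨⟨⟨w, hw⟩, 0, fun h => hw0 (congrArg Subtype.val h)⟩⟩
  haveI : NoZeroDivisors (KK B W hinv) := by
    refine ⟨?_⟩
    intro x y hxy
    rcases ker_cases B W hW hcomm x.1 x.2 with h | h
    · left; exact Subtype.ext h
    · right
      apply Subtype.ext
      apply LinearMap.ext
      intro w
      apply h
      have := congrArg (fun f : KK B W hinv => (f.1 : Module.End (ZMod p) W) w) hxy
      simpa using this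
  haveI : IsDomain (KK B W hinv) := NoZeroDivisors.to_isDomain _
  let f : B → KK B W hinv := fun b => ⟨rho B W hinv b, Algebra.subset_adjoin ⟨b, rfl⟩⟩
  have hf : Function.Injective f := by
    intro a b hab
    exact rho_injective B W hinv hW.1 hfpf (congrArg Subtype.val hab)
  have hPm : (P.map (algebraMap (ZMod p) (KK B W hinv))) ≠ 0 := (hP.map _).ne_zero
  have hsub : S.image f ⊆ (P.aroots (KK B W hinv)).toFinset := by
    intro x hx
    obtain ⟨b, hb, rfl⟩ := Finset.mem_image.mp hx
    rw [Multiset.mem_toFinset, Polynomial.mem_aroots]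
    refine ⟨hP.ne_zero, ?_⟩
    apply Subtype.ext
    rw [Polynomial.aeval_subalgebra_coe]
    change Polynomial.aeval (rho B W hinv b) P = 0
    apply LinearMap.ext
    intro w
    apply Subtype.ext
    rw [aeval_rho, hS b hb]
    rfl
  calc S.card = (S.image f).card := (Finset.card_image_of_injective S hf).symm
    _ ≤ (P.aroots (KK B W hinv)).toFinset.card := Finset.card_le_card hsub
    _ ≤ Multiset.card (P.aroots (KK B W hinv)) := Multiset.toFinset_card_le _
    _ ≤ (P.map (algebraMap (ZMod p) (KK B W hinv))).natDegree := Polynomial.card_roots' _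
    _ ≤ P.natDegree := Polynomial.natDegree_map_le

end roots

end Cfsg.Agent.Helper12.FpfLinear
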