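import Mathlib
import Cfsg.Agent.Lib.Helper12.FpfLinear

set_option autoImplicit false
set_option linter.unusedSectionVars false

/-! A non-abelian normal subgroup of a linear group transitive on the non-zero vectors is
irreducible; the centraliser of an irreducible linear group is commutative
(Wedderburn's little theorem). -/

namespace Cfsg.Agent.Helper12.NormalIrred

open Module Cfsg.Agent.Helper12.FpfLinear

variable {p : ℕ} [Fact p.Prime] {V : Type*} [AddCommGroup V] [Module (ZMod p) V]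

/-- a finite ring of injective endomorphisms is commutative -/
theorem comm_of_injective [Finite V] (S : Subring (Module.End (ZMod p) V))
    (hS : ∀ a ∈ S, a ≠ 0 → Function.Injective a) :
    ∀ a ∈ S, ∀ b ∈ S, a * b = b * a := by
  intro a ha b hb
  by_cases hV : Subsingleton V
  · apply LinearMap.ext
    intro v
    exact Subsingleton.elim _ _
  · have hVn : Nontrivial V := not_subsingleton_iff_nontrivial.mp hV
    have hfin : Finite (Module.End (ZMod p) V) :=
      Finite.of_injective (fun f : Module.End (ZMod p) V => (f : V → V)) DFunLike.coe_injective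
    have hnzd : NoZeroDivisors S := ⟨fun {x y} hxy => by
      by_contra hcon
      rw [not_or] at hcon
      have hx : (x : Module.End (ZMod p) V) ≠ 0 := fun h => hcon.1 (Subtype.ext h)
      apply hcon.2
      apply Subtype.ext
      apply LinearMap.ext
      intro v
      apply hS x.1 x.2 hx
      have h1 : (x : Module.End (ZMod p) V) * (y : Module.End (ZMod p) V) = 0 :=
        congrArg Subtype.val hxy
      have h2 := congrArg (fun f : Module.End (ZMod p) V => f v) h1
      simpa using h2⟩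
    have hnt : Nontrivial S := ⟨⟨0, 1, fun h => by
      obtain ⟨v, hv⟩ := exists_ne (0 : V)
      have h1 : (0 : Module.End (ZMod p) V) = 1 := congrArg Subtype.val h
      have h2 := congrArg (fun f : Module.End (ZMod p) V => f v) h1
      exact hv (by simpa using h2.symm)⟩⟩
    have hdom : IsDomain S := NoZeroDivisors.to_isDomain S
    have := (Finite.isDomain_to_isField S).mul_comm ⟨a, ha⟩ ⟨b, hb⟩
    exact congrArg Subtype.val this

/-- the linear maps of a subgroup -/
def gens (B : Subgroup (V ≃ₗ[ZMod p] V)) : Set (Module.End (ZMod p) V) :=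
  {f | ∃ b ∈ B, f = (b : V ≃ₗ[ZMod p] V).toLinearMap}

/-- the enveloping algebra of a linear group -/
def alg (B : Subgroup (V ≃ₗ[ZMod p] V)) : Subalgebra (ZMod p) (Module.End (ZMod p) V) :=
  Algebra.adjoin (ZMod p) (gens B)

theorem mem_alg_of_mem {B : Subgroup (V ≃ₗ[ZMod p] V)} {b : V ≃ₗ[ZMod p] V} (hb : b ∈ B) :
    (b.toLinearMap : Module.End (ZMod p) V) ∈ alg B :=
  Algebra.subset_adjoin ⟨b, hb, rfl⟩

/-- invariant subspaces are invariant under the enveloping algebra -/
theorem alg_inv {B : Subgroup (V ≃ₗ[ZMod p] V)} {W : Submodule (ZMod p) V} (hW : Inv B W)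
    {a : Module.End (ZMod p) V} (ha : a ∈ alg B) : ∀ v ∈ W, a v ∈ W := by
  unfold alg at ha
  induction ha using Algebra.adjoin_induction with
  | mem x hx =>
    obtain ⟨b, hb, rfl⟩ := hx
    intro v hv
    exact hW b hb v hv
  | algebraMap r =>
    intro v hv
    rw [Module.algebraMap_end_apply]
    exact W.smul_mem r hv
  | add x y _ _ hx hy =>
    intro v hv
    rw [LinearMap.add_apply]
    exact W.add_mem (hx v hv) (hy v hv)
  | mul x y _ _ hx hy =>
    intro v hv
    rw [Module.End.mul_apply]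
    exact hx _ (hy v hv)

/-- the cyclic submodule generated by `w` -/
def orb (B : Subgroup (V ≃ₗ[ZMod p] V)) (w : V) : Submodule (ZMod p) V where
  carrier := {x | ∃ a ∈ alg B, a w = x}
  zero_mem' := ⟨0, (alg B).zero_mem, by simp⟩
  add_mem' := by
    rintro _ _ ⟨a, ha, rfl⟩ ⟨b, hb, rfl⟩
    exact ⟨a + b, (alg B).add_mem ha hb, by simp⟩
  smul_mem' := by
    rintro c _ ⟨a, ha, rfl⟩
    exact ⟨c • a, (alg B).smul_mem ha c, by simp⟩

theorem mem_orb {B : Subgroup (V ≃ₗ[ZMod p] V)} {w x : V} :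
    x ∈ orb B w ↔ ∃ a ∈ alg B, a w = x := Iff.rfl

theorem self_mem_orb (B : Subgroup (V ≃ₗ[ZMod p] V)) (w : V) : w ∈ orb B w :=
  ⟨1, (alg B).one_mem, by simp⟩

theorem orb_inv (B : Subgroup (V ≃ₗ[ZMod p] V)) (w : V) : Inv B (orb B w) := by
  rintro b hb _ ⟨a, ha, rfl⟩
  exact ⟨b.toLinearMap * a, (alg B).mul_mem (mem_alg_of_mem hb) ha, by simp⟩

theorem orb_le {B : Subgroup (V ≃ₗ[ZMod p] V)} {W : Submodule (ZMod p) V} (hW : Inv B W) {w : V}
    (hw : w ∈ W) : orb B w ≤ W := by
  rintro _ ⟨a, ha, rfl⟩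
  exact alg_inv hW ha w hw

theorem orb_ne_bot (B : Subgroup (V ≃ₗ[ZMod p] V)) {w : V} (hw : w ≠ 0) : orb B w ≠ ⊥ := by
  intro h
  have := self_mem_orb B w
  rw [h, Submodule.mem_bot] at this
  exact hw this

/-- conjugation by a normalising element preserves the enveloping algebra -/
theorem conj_mem_alg {B : Subgroup (V ≃ₗ[ZMod p] V)} (g : V ≃ₗ[ZMod p] V)
    (hg : ∀ b ∈ B, g * b * g⁻¹ ∈ B) {a : Module.End (ZMod p) V} (ha : a ∈ alg B) :
    (g.toLinearMap * a * (g⁻¹ : V ≃ₗ[ZMod p] V).toLinearMap : Module.End (ZMod p) V) ∈ alg B := by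
  have hgg : ∀ v : V, (g⁻¹ : V ≃ₗ[ZMod p] V) (g v) = v := fun v => by
    have := congrArg (fun f : V ≃ₗ[ZMod p] V => f v) (inv_mul_cancel g)
    simpa using this
  unfold alg at ha
  induction ha using Algebra.adjoin_induction with
  | mem x hx =>
    obtain ⟨b, hb, rfl⟩ := hx
    have := mem_alg_of_mem (hg b hb)
    convert this using 1
    apply LinearMap.ext
    intro v
    rfl
  | algebraMap r =>
    have : (g.toLinearMap * (algebraMap (ZMod p) (Module.End (ZMod p) V) r) *
        (g⁻¹ : V ≃ₗ[ZMod p] V).toLinearMap : Module.End (ZMod p) V) =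
        algebraMap (ZMod p) (Module.End (ZMod p) V) r := by
      apply LinearMap.ext
      intro v
      have h2 : g ((g⁻¹ : V ≃ₗ[ZMod p] V) v) = v := by
        have := congrArg (fun f : V ≃ₗ[ZMod p] V => f v) (mul_inv_cancel g)
        simpa using this
      simp [Module.algebraMap_end_apply, h2]
    rw [this]
    exact (alg B).algebraMap_mem r
  | add x y _ _ hx hy =>
    have : (g.toLinearMap * (x + y) * (g⁻¹ : V ≃ₗ[ZMod p] V).toLinearMap :
        Module.End (ZMod p) V) =
        g.toLinearMap * x * (g⁻¹ : V ≃ₗ[ZMod p] V).toLinearMap +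
        g.toLinearMap * y * (g⁻¹ : V ≃ₗ[ZMod p] V).toLinearMap := by
      rw [mul_add, add_mul]
    rw [this]
    exact (alg B).add_mem hx hy
  | mul x y _ _ hx hy =>
    have : (g.toLinearMap * (x * y) * (g⁻¹ : V ≃ₗ[ZMod p] V).toLinearMap :
        Module.End (ZMod p) V) =
        (g.toLinearMap * x * (g⁻¹ : V ≃ₗ[ZMod p] V).toLinearMap) *
        (g.toLinearMap * y * (g⁻¹ : V ≃ₗ[ZMod p] V).toLinearMap) := by
      apply LinearMap.ext
      intro v
      simp [hgg]
    rw [this]
    exact (alg B).mul_mem hx hy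


variable [Finite V]

theorem finrank_orb_le {B G : Subgroup (V ≃ₗ[ZMod p] V)}
    (hnorm : ∀ g ∈ G, ∀ b ∈ B, g * b * g⁻¹ ∈ B) (g : V ≃ₗ[ZMod p] V) (hg : g ∈ G) (w : V) :
    finrank (ZMod p) (orb B w) ≤ finrank (ZMod p) (orb B (g w)) := by
  have : Module.Finite (ZMod p) V := Module.Finite.of_finite
  have hgg : ∀ v : V, (g⁻¹ : V ≃ₗ[ZMod p] V) (g v) = v := fun v => by
    have := congrArg (fun f : V ≃ₗ[ZMod p] V => f v) (inv_mul_cancel g)
    simpa using this
  rw [← LinearEquiv.finrank_map_eq g (orb B w)]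
  apply Submodule.finrank_mono
  rintro _ ⟨_, ⟨a, ha, rfl⟩, rfl⟩
  refine ⟨g.toLinearMap * a * (g⁻¹ : V ≃ₗ[ZMod p] V).toLinearMap,
    conj_mem_alg g (hnorm g hg) ha, ?_⟩
  simp [hgg]

theorem finrank_orb_eq {B G : Subgroup (V ≃ₗ[ZMod p] V)}
    (htrans : ∀ v w : V, v ≠ 0 → w ≠ 0 → ∃ g ∈ G, g v = w)
    (hnorm : ∀ g ∈ G, ∀ b ∈ B, g * b * g⁻¹ ∈ B) {w w' : V} (hw : w ≠ 0) (hw' : w' ≠ 0) :
    finrank (ZMod p) (orb B w) = finrank (ZMod p) (orb B w') := by
  obtain ⟨g, hg, rfl⟩ := htrans w w' hw hw'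
  apply le_antisymm (finrank_orb_le hnorm g hg w)
  have := finrank_orb_le hnorm g⁻¹ (G.inv_mem hg) (g w)
  have hgg : (g⁻¹ : V ≃ₗ[ZMod p] V) (g w) = w := by
    have := congrArg (fun f : V ≃ₗ[ZMod p] V => f w) (inv_mul_cancel g)
    simpa using this
  rwa [hgg] at this

theorem orb_minimal {B G : Subgroup (V ≃ₗ[ZMod p] V)}
    (htrans : ∀ v w : V, v ≠ 0 → w ≠ 0 → ∃ g ∈ G, g v = w)
    (hnorm : ∀ g ∈ G, ∀ b ∈ B, g * b * g⁻¹ ∈ B) {w : V} (hw : w ≠ 0)
    {W : Submodule (ZMod p) V} (hle : W ≤ orb B w) (hW : Inv B W) (hW0 : W ≠ ⊥) :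
    W = orb B w := by
  have : Module.Finite (ZMod p) V := Module.Finite.of_finite
  obtain ⟨w', hw', hw'0⟩ := Submodule.exists_mem_ne_zero_of_ne_bot hW0
  have h1 : orb B w' ≤ W := orb_le hW hw'
  have h2 : orb B w' = orb B w :=
    Submodule.eq_of_le_of_finrank_eq (h1.trans hle) (finrank_orb_eq htrans hnorm hw'0 hw)
  exact le_antisymm hle (h2 ▸ h1)

theorem inv_inf {B : Subgroup (V ≃ₗ[ZMod p] V)} {W W' : Submodule (ZMod p) V} (h : Inv B W)
    (h' : Inv B W') : Inv B (W ⊓ W') :=
  fun b hb x hx => ⟨h b hb x hx.1, h' b hb x hx.2⟩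

theorem ann_eq_of_disjoint {B G : Subgroup (V ≃ₗ[ZMod p] V)}
    (htrans : ∀ v w : V, v ≠ 0 → w ≠ 0 → ∃ g ∈ G, g v = w)
    (hnorm : ∀ g ∈ G, ∀ b ∈ B, g * b * g⁻¹ ∈ B) {u v : V} (hu : u ≠ 0)
    (hdis : orb B u ⊓ orb B v = ⊥) {a : Module.End (ZMod p) V} (ha : a ∈ alg B)
    (hau : a u = 0) : a v = 0 := by
  have hw : u + v ≠ 0 := by
    intro h
    have hv : u = -v := eq_neg_of_add_eq_zero_left h
    have : u ∈ orb B u ⊓ orb B v := by
      refine ⟨self_mem_orb B u, ?_⟩
      have h1 : -v ∈ orb B v := (orb B v).neg_mem (self_mem_orb B v)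
      rwa [← hv] at h1
    rw [hdis, Submodule.mem_bot] at this
    exact hu this
  have hinv : Inv B (orb B (u + v) ⊓ orb B v) := inv_inf (orb_inv B _) (orb_inv B _)
  by_cases h0 : orb B (u + v) ⊓ orb B v = ⊥
  · have h1 : a (u + v) ∈ orb B (u + v) ⊓ orb B v := by
      refine ⟨⟨a, ha, rfl⟩, ?_⟩
      rw [map_add, hau, zero_add]
      exact ⟨a, ha, rfl⟩
    rw [h0, Submodule.mem_bot, map_add, hau, zero_add] at h1
    exact h1
  · exfalso
    have h1 := orb_minimal htrans hnorm hw inf_le_left hinv h0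
    have hwv : u + v ∈ orb B v := by
      have h2 : u + v ∈ orb B (u + v) ⊓ orb B v := by
        rw [h1]; exact self_mem_orb B _
      exact h2.2
    have huv : u ∈ orb B v := by
      have h3 := (orb B v).sub_mem hwv (self_mem_orb B v)
      rwa [add_sub_cancel_right] at h3
    have : u ∈ orb B u ⊓ orb B v := ⟨self_mem_orb B u, huv⟩
    rw [hdis, Submodule.mem_bot] at this
    exact hu this

/-- a non-abelian subgroup normalised by a group transitive on the non-zero vectors is
irreducible -/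
theorem irreducible_of_normal {B G : Subgroup (V ≃ₗ[ZMod p] V)}
    (htrans : ∀ v w : V, v ≠ 0 → w ≠ 0 → ∃ g ∈ G, g v = w)
    (hnorm : ∀ g ∈ G, ∀ b ∈ B, g * b * g⁻¹ ∈ B)
    (hna : ¬ ∀ a ∈ B, ∀ b ∈ B, a * b = b * a) :
    ∀ W : Submodule (ZMod p) V, Inv B W → W = ⊥ ∨ W = ⊤ := by
  have hMF : Module.Finite (ZMod p) V := Module.Finite.of_finite
  intro W hW
  by_cases hW0 : W = ⊥
  · left; exact hW0
  right
  by_contra hWtop
  have hne : ∀ u : V, u ≠ 0 → orb B u ≠ ⊤ := by
    intro u hu htop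
    obtain ⟨w', hw', hw'0⟩ := Submodule.exists_mem_ne_zero_of_ne_bot hW0
    have h1 := orb_le hW hw'
    have h2 : orb B w' = ⊤ := by
      apply Submodule.eq_of_le_of_finrank_eq le_top
      rw [finrank_orb_eq htrans hnorm hw'0 hu, htop]
    apply hWtop
    rw [eq_top_iff, ← h2]
    exact h1
  have key : ∀ a ∈ alg B, ∀ u v : V, u ≠ 0 → v ≠ 0 → a u = 0 → a v = 0 := by
    intro a ha u v hu hv hau
    by_cases hdis : orb B u ⊓ orb B v = ⊥
    · exact ann_eq_of_disjoint htrans hnorm hu hdis ha hau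
    · have hinv : Inv B (orb B u ⊓ orb B v) := inv_inf (orb_inv B _) (orb_inv B _)
      have e1 := orb_minimal htrans hnorm hu inf_le_left hinv hdis
      have e2 := orb_minimal htrans hnorm hv inf_le_right hinv hdis
      have huv : orb B u = orb B v := e1.symm.trans e2
      obtain ⟨v', hv'⟩ : ∃ v', v' ∉ orb B u := by
        by_contra h
        rw [not_exists] at h
        exact hne u hu (eq_top_iff.mpr fun x _ => not_not.mp (h x))
      have hv'0 : v' ≠ 0 := fun h => hv' (h ▸ (orb B u).zero_mem)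
      have hd1 : orb B u ⊓ orb B v' = ⊥ := by
        by_contra hd
        have hinv' : Inv B (orb B u ⊓ orb B v') := inv_inf (orb_inv B _) (orb_inv B _)
        have h5 := orb_minimal htrans hnorm hv'0 inf_le_right hinv' hd
        apply hv'
        have h3 : v' ∈ orb B u ⊓ orb B v' := by
          rw [h5]; exact self_mem_orb B v'
        exact h3.1
      have h4 := ann_eq_of_disjoint htrans hnorm hu hd1 ha hau
      have hd2 : orb B v' ⊓ orb B v = ⊥ := by
        rw [← huv, inf_comm]; exact hd1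
      exact ann_eq_of_disjoint htrans hnorm hv'0 hd2 ha h4
  have hinj : ∀ a ∈ (alg B).toSubring, a ≠ 0 → Function.Injective a := by
    intro a ha ha0
    rw [Subalgebra.mem_toSubring] at ha
    rw [← LinearMap.ker_eq_bot, eq_bot_iff]
    intro u hu
    rw [LinearMap.mem_ker] at hu
    rw [Submodule.mem_bot]
    by_contra hu0
    apply ha0
    apply LinearMap.ext
    intro v
    by_cases hv : v = 0
    · rw [hv, map_zero, map_zero]
    · rw [key a ha u v hu0 hv hu]; rfl
  have hcomm := comm_of_injective (alg B).toSubring hinj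
  apply hna
  intro a ha b hb
  have h1 := hcomm a.toLinearMap (Subalgebra.mem_toSubring.mpr (mem_alg_of_mem ha))
    b.toLinearMap (Subalgebra.mem_toSubring.mpr (mem_alg_of_mem hb))
  apply LinearEquiv.ext
  intro v
  have h2 := congrArg (fun f : Module.End (ZMod p) V => f v) h1
  simpa using h2

/-- the centraliser of an irreducible linear group is commutative -/
theorem centralizer_comm {B : Subgroup (V ≃ₗ[ZMod p] V)}
    (hirr : ∀ W : Submodule (ZMod p) V, Inv B W → W = ⊥ ∨ W = ⊤)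
    (c c' : V ≃ₗ[ZMod p] V) (hc : ∀ b ∈ B, c * b = b * c) (hc' : ∀ b ∈ B, c' * b = b * c') :
    c * c' = c' * c := by
  have hinj : ∀ a ∈ Subring.centralizer (gens B), a ≠ 0 → Function.Injective a := by
    intro a ha ha0
    rw [Subring.mem_centralizer_iff] at ha
    have hinv : Inv B (LinearMap.ker a) := by
      intro b hb v hv
      rw [LinearMap.mem_ker] at hv ⊢
      have h1 := ha b.toLinearMap ⟨b, hb, rfl⟩
      have h2 : b (a v) = a (b v) := congrArg (fun f : Module.End (ZMod p) V => f v) h1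
      rw [← h2, hv, map_zero]
    rcases hirr _ hinv with h | h
    · exact LinearMap.ker_eq_bot.mp h
    · exact absurd (LinearMap.ker_eq_top.mp h) ha0
  have hmem : ∀ d : V ≃ₗ[ZMod p] V, (∀ b ∈ B, d * b = b * d) →
      (d.toLinearMap : Module.End (ZMod p) V) ∈ Subring.centralizer (gens B) := by
    intro d hd
    rw [Subring.mem_centralizer_iff]
    rintro _ ⟨b, hb, rfl⟩
    apply LinearMap.ext
    intro v
    exact (congrArg (fun f : V ≃ₗ[ZMod p] V => f v) (hd b hb)).symm
  have h1 := comm_of_injective _ hinj _ (hmem c hc) _ (hmem c' hc')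
  apply LinearEquiv.ext
  intro v
  have h2 := congrArg (fun f : Module.End (ZMod p) V => f v) h1
  simpa using h2

end Cfsg.Agent.Helper12.NormalIrred
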