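import Mathlib
import Cfsg.Agent.Lib.Helper12.NormalIrred

set_option autoImplicit false
set_option linter.unusedSectionVars false
set_option linter.style.haveILetI false

/-! A linear group over the prime field normalising an irreducible abelian subgroup acts
semilinearly on a finite field. -/

namespace Cfsg.Agent.Helper12.Semilinear

open Module Cfsg.Agent.Helper12.FpfLinear Cfsg.Agent.Helper12.NormalIrred

open scoped IsMulCommutative

variable {p : ℕ} [Fact p.Prime] {V : Type*} [AddCommGroup V] [Module (ZMod p) V]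

theorem gens_comm (B : Subgroup (V ≃ₗ[ZMod p] V)) (hcomm : ∀ a ∈ B, ∀ b ∈ B, a * b = b * a) :
    ∀ x ∈ gens B, ∀ y ∈ gens B, x * y = y * x := by
  rintro _ ⟨a, ha, rfl⟩ _ ⟨b, hb, rfl⟩
  apply LinearMap.ext
  intro v
  have := congrArg (fun f : V ≃ₗ[ZMod p] V => f v) (hcomm a ha b hb)
  simpa using this

theorem alg_comm (B : Subgroup (V ≃ₗ[ZMod p] V)) (hcomm : ∀ a ∈ B, ∀ b ∈ B, a * b = b * a) :
    ∀ x ∈ alg B, ∀ y ∈ alg B, x * y = y * x := by
  intro x hx y hy
  haveI : IsMulCommutative (alg B) :=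
    Algebra.isMulCommutative_adjoin (ZMod p) (gens_comm B hcomm)
  have := mul_comm (⟨x, hx⟩ : alg B) ⟨y, hy⟩
  exact congrArg Subtype.val this

theorem injective_of_ne_zero (B : Subgroup (V ≃ₗ[ZMod p] V))
    (hcomm : ∀ a ∈ B, ∀ b ∈ B, a * b = b * a)
    (hirr : ∀ W : Submodule (ZMod p) V, Inv B W → W = ⊥ ∨ W = ⊤)
    {a : Module.End (ZMod p) V} (ha : a ∈ alg B) (ha0 : a ≠ 0) : Function.Injective a := by
  have hinv : Inv B (LinearMap.ker a) := by
    intro b hb v hv
    rw [LinearMap.mem_ker] at hv ⊢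
    have h1 := alg_comm B hcomm a ha _ (mem_alg_of_mem hb)
    have h2 : a (b v) = b (a v) := congrArg (fun f : Module.End (ZMod p) V => f v) h1
    rw [h2, hv, map_zero]
  rcases hirr _ hinv with h | h
  · exact LinearMap.ker_eq_bot.mp h
  · exact absurd (LinearMap.ker_eq_top.mp h) ha0

/-- the semilinear description -/
theorem exists_semilinear [Finite V] [Nontrivial V] (H B : Subgroup (V ≃ₗ[ZMod p] V))
    (hnorm : ∀ h ∈ H, ∀ b ∈ B, h * b * h⁻¹ ∈ B)
    (hcomm : ∀ a ∈ B, ∀ b ∈ B, a * b = b * a)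
    (hirr : ∀ W : Submodule (ZMod p) V, Inv B W → W = ⊥ ∨ W = ⊤) :
    ∃ (F : Type) (_ : Field F) (_ : Fintype F) (e : V ≃+ F),
      ∀ h ∈ H, ∃ (a : F) (σ : F ≃+* F), ∀ v : V, e (h v) = a * σ (e v) := by
  classical
  have hp : p.Prime := Fact.out
  have hfinEnd : Finite (Module.End (ZMod p) V) :=
    Finite.of_injective (fun f : Module.End (ZMod p) V => (f : V → V)) DFunLike.coe_injective
  haveI : IsMulCommutative (alg B) :=
    Algebra.isMulCommutative_adjoin (ZMod p) (gens_comm B hcomm)
  obtain ⟨v₀, hv₀⟩ := exists_ne (0 : V)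
  haveI : NoZeroDivisors (alg B) := by
    refine ⟨?_⟩
    intro x y hxy
    by_contra hcon
    rw [not_or] at hcon
    have hx : (x : Module.End (ZMod p) V) ≠ 0 := fun h => hcon.1 (Subtype.ext h)
    apply hcon.2
    apply Subtype.ext
    apply LinearMap.ext
    intro v
    apply injective_of_ne_zero B hcomm hirr x.2 hx
    have h1 : (x : Module.End (ZMod p) V) * (y : Module.End (ZMod p) V) = 0 :=
      congrArg Subtype.val hxy
    have h2 := congrArg (fun f : Module.End (ZMod p) V => f v) h1
    simpa using h2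
  haveI : Nontrivial (alg B) := ⟨⟨0, 1, fun h => by
    have h1 : (0 : Module.End (ZMod p) V) = 1 := congrArg Subtype.val h
    have h2 := congrArg (fun f : Module.End (ZMod p) V => f v₀) h1
    exact hv₀ (by simpa using h2.symm)⟩⟩
  haveI : IsDomain (alg B) := NoZeroDivisors.to_isDomain _
  haveI : Fintype (alg B) := Fintype.ofFinite _
  letI : Field (alg B) := Fintype.fieldOfDomain (alg B)
  -- evaluation at `v₀`
  let ev : alg B →+ V :=
    { toFun := fun a => (a : Module.End (ZMod p) V) v₀
      map_zero' := by simp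
      map_add' := by
        intro a b
        simp }
  have hev : ∀ a : alg B, ev a = (a : Module.End (ZMod p) V) v₀ := fun _ => rfl
  have hevinj : Function.Injective ev := by
    rw [injective_iff_map_eq_zero]
    intro a ha
    by_contra ha0
    have ha0' : (a : Module.End (ZMod p) V) ≠ 0 := fun h => ha0 (Subtype.ext h)
    have := injective_of_ne_zero B hcomm hirr a.2 ha0'
    rw [hev] at ha
    exact hv₀ (this (ha.trans (map_zero _).symm))
  have hevsurj : Function.Surjective ev := by
    intro v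
    have htop : orb B v₀ = ⊤ := by
      rcases hirr _ (orb_inv B v₀) with h | h
      · exact absurd h (orb_ne_bot B hv₀)
      · exact h
    have hv : v ∈ orb B v₀ := by rw [htop]; exact Submodule.mem_top
    obtain ⟨a, ha, hav⟩ := mem_orb.mp hv
    exact ⟨⟨a, ha⟩, hav⟩
  let e₀ : V ≃+ alg B := (AddEquiv.ofBijective ev ⟨hevinj, hevsurj⟩).symm
  have he₀ : ∀ v : V, ((e₀ v : alg B) : Module.End (ZMod p) V) v₀ = v := by
    intro v
    have := (AddEquiv.ofBijective ev ⟨hevinj, hevsurj⟩).apply_symm_apply v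
    exact this
  have he₀' : ∀ a : alg B, e₀ ((a : Module.End (ZMod p) V) v₀) = a := by
    intro a
    exact (AddEquiv.ofBijective ev ⟨hevinj, hevsurj⟩).symm_apply_apply a
  -- transport to a field in `Type`
  have hMF : Module.Finite (ZMod p) V := Module.Finite.of_finite
  have hcardV : Nat.card V = p ^ finrank (ZMod p) V := by
    have : Fintype V := Fintype.ofFinite _
    rw [Module.natCard_eq_pow_finrank (K := ZMod p) (V := V)]
    simp
  have hn0 : finrank (ZMod p) V ≠ 0 := by
    have : 0 < finrank (ZMod p) V := Module.finrank_pos_iff_exists_ne_zero.mpr ⟨v₀, hv₀⟩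
    omega
  let F₀ := GaloisField p (finrank (ZMod p) V)
  haveI : Fintype F₀ := Fintype.ofFinite _
  have hF₀ : Fintype.card F₀ = p ^ finrank (ZMod p) V := by
    rw [← Nat.card_eq_fintype_card]
    exact GaloisField.card p _ hn0
  have hcardE : Fintype.card (alg B) = p ^ finrank (ZMod p) V := by
    rw [← Nat.card_eq_fintype_card, ← hcardV]
    exact (Nat.card_congr e₀.toEquiv).symm
  let r : alg B ≃+* F₀ := FiniteField.ringEquivOfCardEq (by rw [hcardE, hF₀])
  refine ⟨F₀, inferInstance, inferInstance, e₀.trans r.toAddEquiv, ?_⟩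
  intro h hh
  have hhinv : ∀ v : V, (h⁻¹ : V ≃ₗ[ZMod p] V) (h v) = v := fun v => by
    have := congrArg (fun f : V ≃ₗ[ZMod p] V => f v) (inv_mul_cancel h)
    simpa using this
  have hhinv' : ∀ v : V, h ((h⁻¹ : V ≃ₗ[ZMod p] V) v) = v := fun v => by
    have := congrArg (fun f : V ≃ₗ[ZMod p] V => f v) (mul_inv_cancel h)
    simpa using this
  have hnorm' : ∀ b ∈ B, h⁻¹ * b * h⁻¹⁻¹ ∈ B := hnorm h⁻¹ (H.inv_mem hh)
  -- conjugation by `h` on the enveloping algebra
  let cj : alg B → alg B := fun a =>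
    ⟨h.toLinearMap * (a : Module.End (ZMod p) V) * (h⁻¹ : V ≃ₗ[ZMod p] V).toLinearMap,
      conj_mem_alg h (hnorm h hh) a.2⟩
  let cj' : alg B → alg B := fun a =>
    ⟨(h⁻¹ : V ≃ₗ[ZMod p] V).toLinearMap * (a : Module.End (ZMod p) V) *
      ((h⁻¹)⁻¹ : V ≃ₗ[ZMod p] V).toLinearMap, conj_mem_alg h⁻¹ hnorm' a.2⟩
  have hcj : ∀ (a : alg B) (v : V),
      ((cj a : alg B) : Module.End (ZMod p) V) v =
        h ((a : Module.End (ZMod p) V) ((h⁻¹ : V ≃ₗ[ZMod p] V) v)) := fun _ _ => rfl
  have hcj' : ∀ (a : alg B) (v : V),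
      ((cj' a : alg B) : Module.End (ZMod p) V) v =
        (h⁻¹ : V ≃ₗ[ZMod p] V) ((a : Module.End (ZMod p) V) (h v)) := by
    intro a v
    change (h⁻¹ : V ≃ₗ[ZMod p] V) ((a : Module.End (ZMod p) V)
      (((h⁻¹)⁻¹ : V ≃ₗ[ZMod p] V) v)) = _
    rw [inv_inv]
  have hext : ∀ a b : alg B, (∀ v : V, (a : Module.End (ZMod p) V) v =
      (b : Module.End (ZMod p) V) v) → a = b := by
    intro a b hab
    apply Subtype.ext
    apply LinearMap.ext
    exact hab
  let σ₀ : alg B ≃+* alg B :=
    { toFun := cj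
      invFun := cj'
      left_inv := by
        intro a
        apply hext
        intro v
        rw [hcj', hcj, hhinv, hhinv]
      right_inv := by
        intro a
        apply hext
        intro v
        rw [hcj, hcj', hhinv', hhinv']
      map_mul' := by
        intro a b
        apply hext
        intro v
        change ((cj (a * b) : alg B) : Module.End (ZMod p) V) v =
          ((cj a : alg B) : Module.End (ZMod p) V) (((cj b : alg B) : Module.End (ZMod p) V) v)
        rw [hcj, hcj, hcj, hhinv]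
        rfl
      map_add' := by
        intro a b
        apply hext
        intro v
        change ((cj (a + b) : alg B) : Module.End (ZMod p) V) v =
          ((cj a : alg B) : Module.End (ZMod p) V) v + ((cj b : alg B) : Module.End (ZMod p) V) v
        rw [hcj, hcj, hcj]
        change h (((a : Module.End (ZMod p) V) + (b : Module.End (ZMod p) V)) _) = _
        rw [LinearMap.add_apply, map_add] }
  have hσ₀ : ∀ a : alg B, σ₀ a = cj a := fun _ => rfl
  -- the key identity
  have hkey : ∀ v : V, e₀ (h v) = e₀ (h v₀) * σ₀ (e₀ v) := by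
    intro v
    have h1 : ((e₀ (h v₀) * σ₀ (e₀ v) : alg B) : Module.End (ZMod p) V) v₀ = h v := by
      rw [mul_comm]
      change ((σ₀ (e₀ v) : alg B) : Module.End (ZMod p) V)
        (((e₀ (h v₀) : alg B) : Module.End (ZMod p) V) v₀) = h v
      rw [he₀, hσ₀, hcj, hhinv, he₀]
    rw [← h1, he₀']
  refine ⟨r (e₀ (h v₀)), (r.symm.trans σ₀).trans r, ?_⟩
  intro v
  change r (e₀ (h v)) = r (e₀ (h v₀)) * r (σ₀ (r.symm (r (e₀ v))))
  rw [RingEquiv.symm_apply_apply, hkey, map_mul]

end Cfsg.Agent.Helper12.Semilinear
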