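import Mathlib
import Cfsg.Agent.Lib.Helper12.Semilinear
import Cfsg.Agent.Lib.Helper12.LinTransport

set_option autoImplicit false
set_option linter.unusedSectionVars false
set_option linter.style.haveILetI false
set_option linter.unusedVariables false

/-! A permutation group with a regular normal elementary abelian `2`-subgroup `N` whose point
stabiliser normalises an abelian subgroup `P` transitive on the remaining points acts as a group
of semi-affine maps `x ↦ c σ(x) + b` of a finite field of characteristic `2`. -/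

namespace Cfsg.Agent.Helper12.AffCoord

open MulAction Cfsg.Agent.Helper12.LinTransport Cfsg.Agent.Helper12.FpfLinear

universe u v

variable {Γ : Type u} [Group Γ] {α : Type v} [MulAction Γ α]

set_option maxHeartbeats 1000000 in
theorem exists_semiaffine [Finite α] (N P : Subgroup Γ) [hNn : N.Normal] (a : α)
    (hNreg : ∀ x y : α, ∃! n : N, (n : Γ) • x = y)
    (hN2 : ∀ n ∈ N, n * n = 1)
    (hPa : ∀ u ∈ P, u • a = a)
    (hPnorm : ∀ g : Γ, g • a = a → ∀ u ∈ P, g * u * g⁻¹ ∈ P)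
    (hPcomm : ∀ u ∈ P, ∀ v ∈ P, u * v = v * u)
    (hPtrans : ∀ x y : α, x ≠ a → y ≠ a → ∃ u ∈ P, u • x = y)
    (hα : ∃ x : α, x ≠ a) :
    ∃ (F : Type) (_ : Field F) (_ : Fintype F) (e : α ≃ F), e a = 0 ∧ (2 : F) = 0 ∧
      ∀ g : Γ, ∃ (c : F) (σ : F ≃+* F) (b : F), ∀ x, e (g • x) = c * σ (e x) + b := by
  classical
  haveI : Fact (Nat.Prime 2) := ⟨Nat.prime_two⟩
  -- `N` is commutative
  have hNc : ∀ x ∈ N, ∀ y ∈ N, x * y = y * x := by
    intro x hx y hy
    have h1 := hN2 x hx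
    have h2 := hN2 y hy
    have h3 := hN2 (x * y) (N.mul_mem hx hy)
    have hx' : x⁻¹ = x := inv_eq_of_mul_eq_one_left h1
    have hy' : y⁻¹ = y := inv_eq_of_mul_eq_one_left h2
    have h4 : (x * y)⁻¹ = x * y := inv_eq_of_mul_eq_one_left h3
    rw [mul_inv_rev, hx', hy'] at h4
    exact h4.symm
  letI : CommGroup N :=
    { (inferInstance : Group N) with
      mul_comm := fun x y => Subtype.ext (hNc x x.2 y y.2) }
  have hp0 : ∀ v : Additive N, 2 • v = 0 := by
    intro v
    have h1 : (Additive.toMul v) ^ 2 = 1 := by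
      apply Subtype.ext
      have := hN2 (Additive.toMul v : N) (Additive.toMul v).2
      rw [pow_two]
      exact this
    have h2 : 2 • v = Additive.ofMul ((Additive.toMul v) ^ 2) := rfl
    rw [h2, h1]
    rfl
  letI : Module (ZMod 2) (Additive N) := AddCommGroup.zmodModule hp0
  -- regular action: the point map
  have hν : ∀ x : α, ∃ n : N, (n : Γ) • a = x := fun x => (hNreg a x).exists
  choose ν hν using hν
  have hνuniq : ∀ (n : N) (x : α), (n : Γ) • a = x → n = ν x := by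
    intro n x hn
    exact (hNreg a x).unique hn (hν x)
  have hνinj : Function.Injective ν := by
    intro x y hxy
    rw [← hν x, ← hν y, hxy]
  have hνsurj : Function.Surjective ν := by
    intro n
    exact ⟨(n : Γ) • a, (hνuniq n _ rfl).symm⟩
  have hνa : ν a = 1 := (hνuniq 1 a (by simp)).symm
  haveI : Finite N := Finite.of_surjective ν hνsurj
  haveI : Finite (Additive N) := inferInstanceAs (Finite N)
  -- conjugation action
  let ψ : Γ → (Additive N ≃+ Additive N) := fun h =>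
    MulEquiv.toAdditive (conjK N h (fun k hk => hNn.conj_mem k hk h)
      (fun k hk => by simpa using hNn.conj_mem k hk h⁻¹))
  have hψ : ∀ (h : Γ) (v : Additive N),
      (((ψ h v).toMul : N) : Γ) = h * ((v.toMul : N) : Γ) * h⁻¹ := fun _ _ => rfl
  have hext : ∀ v w : Additive N, ((v.toMul : N) : Γ) = ((w.toMul : N) : Γ) → v = w := by
    intro v w h
    have : v.toMul = w.toMul := Subtype.ext h
    exact this
  have hone : ∀ v, ψ 1 v = v := by
    intro v
    apply hext
    rw [hψ]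
    simp
  have hmul : ∀ q q' v, ψ (q * q') v = ψ q (ψ q' v) := by
    intro q q' v
    apply hext
    rw [hψ, hψ, hψ]
    group
  let L : Γ →* (Additive N ≃ₗ[ZMod 2] Additive N) := linHom 2 ψ hone hmul
  have hL : ∀ (g : Γ) (v : Additive N), L g v = ψ g v := fun g v => rfl
  let H : Subgroup (Additive N ≃ₗ[ZMod 2] Additive N) := (stabilizer Γ a).map L
  let B : Subgroup (Additive N ≃ₗ[ZMod 2] Additive N) := P.map L
  have hnorm : ∀ h ∈ H, ∀ b ∈ B, h * b * h⁻¹ ∈ B := by
    rintro _ ⟨g, hg, rfl⟩ _ ⟨u, hu, rfl⟩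
    refine ⟨g * u * g⁻¹, hPnorm g hg u hu, ?_⟩
    rw [map_mul, map_mul, map_inv]
  have hcomm : ∀ x ∈ B, ∀ y ∈ B, x * y = y * x := by
    rintro _ ⟨u, hu, rfl⟩ _ ⟨w, hw, rfl⟩
    rw [← map_mul, ← map_mul, hPcomm u hu w hw]
  have hne1 : ∀ n : N, n ≠ 1 → (n : Γ) • a ≠ a := by
    intro n hn h
    apply hn
    exact (hNreg a a).unique h (by simp)
  have hirr : ∀ W : Submodule (ZMod 2) (Additive N), Inv B W → W = ⊥ ∨ W = ⊤ := by
    intro W hW
    by_cases hbot : W = ⊥
    · exact Or.inl hbot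
    right
    obtain ⟨w, hwW, hw0⟩ := (Submodule.ne_bot_iff W).mp hbot
    rw [eq_top_iff]
    intro v _
    by_cases hv0 : v = 0
    · rw [hv0]; exact W.zero_mem
    have hw1 : (w.toMul : N) ≠ 1 := fun h => hw0 h
    have hv1 : (v.toMul : N) ≠ 1 := fun h => hv0 h
    obtain ⟨u, hu, hux⟩ := hPtrans _ _ (hne1 _ hw1) (hne1 _ hv1)
    have hmem := hW (L u) ⟨u, hu, rfl⟩ w hwW
    have heq : L u w = v := by
      rw [hL]
      apply hext
      rw [hψ]
      have hmemN : u * ((w.toMul : N) : Γ) * u⁻¹ ∈ N := hNn.conj_mem _ (w.toMul : N).2 u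
      have h1 : ((⟨u * ((w.toMul : N) : Γ) * u⁻¹, hmemN⟩ : N) : Γ) • a =
          ((v.toMul : N) : Γ) • a := by
        change (u * ((w.toMul : N) : Γ) * u⁻¹) • a = _
        rw [mul_smul, mul_smul]
        have hua : u⁻¹ • a = a := by
          have := hPa u hu
          rw [inv_smul_eq_iff, this]
        rw [hua, hux]
      have := (hNreg a (((v.toMul : N) : Γ) • a)).unique h1 rfl
      exact congrArg Subtype.val this
    rw [← heq]
    exact hmem
  haveI : Nontrivial (Additive N) := by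
    obtain ⟨x, hx⟩ := hα
    refine ⟨⟨Additive.ofMul (ν x), 0, ?_⟩⟩
    intro h
    apply hx
    have h1 : ν x = 1 := h
    rw [← hν x, h1]
    simp
  obtain ⟨F, iF, iT, e₀, he₀⟩ := Semilinear.exists_semilinear (p := 2) H B hnorm hcomm hirr
  -- the coordinate map
  let e : α ≃ F := (Equiv.ofBijective ν ⟨hνinj, hνsurj⟩).trans
    (Additive.ofMul.trans e₀.toEquiv)
  have he : ∀ x, e x = e₀ (Additive.ofMul (ν x)) := fun x => rfl
  refine ⟨F, iF, iT, e, ?_, ?_, ?_⟩
  · rw [he, hνa]
    exact map_zero e₀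
  · have h1 : (2 : F) = e₀ (e₀.symm 1) + e₀ (e₀.symm 1) := by
      rw [AddEquiv.apply_symm_apply]; norm_num
    rw [h1, ← map_add, ← two_nsmul, hp0, map_zero]
  · intro g
    obtain ⟨m, hm⟩ : ∃ m : N, m = ν (g • a) := ⟨_, rfl⟩
    have hma : (m : Γ) • a = g • a := by rw [hm]; exact hν _
    have hg'a : ((m : Γ)⁻¹ * g) • a = a := by
      rw [mul_smul, ← hma, inv_smul_smul]
    obtain ⟨c, σ, hcσ⟩ := he₀ (L ((m : Γ)⁻¹ * g)) ⟨_, hg'a, rfl⟩
    refine ⟨c, σ, e₀ (Additive.ofMul m), fun x => ?_⟩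
    have hkey : ν (g • x) = m * (ψ ((m : Γ)⁻¹ * g) (Additive.ofMul (ν x))).toMul := by
      symm
      apply hνuniq
      rw [Subgroup.coe_mul, hψ]
      have h1 : ((Additive.toMul (Additive.ofMul (ν x)) : N) : Γ) = (ν x : Γ) := rfl
      rw [h1, mul_smul, mul_smul, mul_smul]
      have h2 : ((m : Γ)⁻¹ * g)⁻¹ • a = a := by
        rw [inv_smul_eq_iff, hg'a]
      rw [h2, hν x, mul_smul, smul_inv_smul]
    rw [he, hkey, he]
    have h3 : Additive.ofMul (m * (ψ ((m : Γ)⁻¹ * g) (Additive.ofMul (ν x))).toMul) =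
        Additive.ofMul m + ψ ((m : Γ)⁻¹ * g) (Additive.ofMul (ν x)) := rfl
    rw [h3, map_add, ← hL, hcσ, add_comm]

end Cfsg.Agent.Helper12.AffCoord
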