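import Mathlib

set_option autoImplicit false
set_option linter.unusedSectionVars false
set_option linter.style.haveILetI false

/-! The order of the automorphism group of an elementary abelian group. -/

namespace Cfsg.Agent.Helper12.AutCard

open Module

/-- additive automorphisms of a finite vector space over a prime field -/
theorem card_addAut {W : Type*} [AddCommGroup W] {s : ℕ} [hs : Fact s.Prime] [Module (ZMod s) W]
    [Finite W] (c : ℕ) (hcard : Nat.card W = s ^ c) :
    Nat.card (W ≃+ W) = ∏ i : Fin c, (s ^ c - s ^ (i : ℕ)) := by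
  classical
  haveI hMF : Module.Finite (ZMod s) W := Module.Finite.of_finite
  have hfr : finrank (ZMod s) W = c := by
    have h1 : Nat.card W = Nat.card (ZMod s) ^ finrank (ZMod s) W :=
      Module.natCard_eq_pow_finrank (K := ZMod s) (V := W)
    rw [hcard, Nat.card_zmod] at h1
    exact (Nat.pow_right_injective hs.out.two_le h1).symm
  let b : Basis (Fin c) (ZMod s) W := Module.finBasisOfFinrankEq (ZMod s) W hfr
  have e2 : (W ≃+ W) ≃ (W ≃ₗ[ZMod s] W) :=
    { toFun := fun e => AddEquiv.toLinearEquiv e (fun k x =>
        (AddMonoidHom.toZModLinearMap s e.toAddMonoidHom).map_smul k x)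
      invFun := fun e => e.toAddEquiv
      left_inv := fun e => by
        ext x
        rfl
      right_inv := fun e => by
        ext x
        rfl }
  have e3 : (W ≃ₗ[ZMod s] W) ≃ (Module.End (ZMod s) W)ˣ :=
    (LinearMap.GeneralLinearGroup.generalLinearEquiv (ZMod s) W).symm.toEquiv
  have e4 : (Module.End (ZMod s) W)ˣ ≃ GL (Fin c) (ZMod s) :=
    (Units.mapEquiv (LinearMap.toMatrixAlgEquiv b).toMulEquiv).toEquiv
  rw [Nat.card_congr ((e2.trans e3).trans e4), Matrix.card_GL_field, ZMod.card]

/-- the automorphism group of an elementary abelian group of order `s ^ c` has the order of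
`GL (c, s)` -/
theorem card_mulAut {A : Type*} [CommGroup A] [Finite A] {s : ℕ} [hs : Fact s.Prime] (c : ℕ)
    (hexp : ∀ a : A, a ^ s = 1) (hcard : Nat.card A = s ^ c) :
    Nat.card (MulAut A) = ∏ i : Fin c, (s ^ c - s ^ (i : ℕ)) := by
  classical
  letI inst : Module (ZMod s) (Additive A) := AddCommGroup.zmodModule (n := s) (fun x => by
    have := hexp (Additive.toMul x)
    exact congrArg Additive.ofMul this)
  haveI : Finite (Additive A) := ‹Finite A›
  have e1 : MulAut A ≃ (Additive A ≃+ Additive A) := MulEquiv.toAdditive
  rw [Nat.card_congr e1]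
  exact @card_addAut (Additive A) _ s hs inst _ c hcard

end Cfsg.Agent.Helper12.AutCard
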