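import Mathlib
import Cfsg.Agent.S1324
import Cfsg.Agent.S1403
import Cfsg.Agent.S1405
import Cfsg.Agent.Lib.Helper34.BG10i
import Cfsg.Agent.Lib.Helper82.BG1215b
import Cfsg.Agent.Lib.Helper95.BG15.FitSigma

/-!
# Bender–Glauberman Proposition 12.4 (statement S1416), part 1: generalities, `p ∉ α(M)`, `M_α = 1`.
-/

set_option autoImplicit false
open Pointwise

namespace Cfsg.Agent.Helper12.BG124

open Subgroup Cfsg
open Cfsg.Agent.Helper33 (IsSylIn isSylIn_of_sylow exists_isSylIn_ge exists_isSylIn)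
open Cfsg.Agent.Helper34.BG

variable {G : Type*} [Group G]

/-- the "no `M`-unique line" hypothesis of Proposition 12.4(b). -/
def NoUniqLine (M : Subgroup G) (p : ℕ) (A : Subgroup G) : Prop :=
  ∀ A₀ : Subgroup G, A₀ ≤ A → Nat.card A₀ = p →
    ¬ (normalizer (A₀ : Set G) ≤ M ∧
      ∀ L : Subgroup G, IsCoatom L → normalizer (A₀ : Set G) ≤ L → L = M)

theorem ne_bot_of_card_prime {p : ℕ} (hp : p.Prime) {X : Subgroup G} (h : Nat.card X = p) :
    X ≠ ⊥ := by
  rintro rfl
  rw [Subgroup.card_bot] at h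
  exact hp.one_lt.ne h

theorem ne_bot_of_card_sq {p : ℕ} (hp : p.Prime) {X : Subgroup G} (h : Nat.card X = p ^ 2) :
    X ≠ ⊥ := by
  rintro rfl
  rw [Subgroup.card_bot] at h
  have := Nat.one_lt_pow (n := 2) (by norm_num) hp.one_lt
  omega

theorem le_centralizer_of_elemAb {p : ℕ} {A A₀ : Subgroup G} (hA : IsElementaryAbelian p A)
    (h : A₀ ≤ A) : A ≤ centralizer (A₀ : Set G) := by
  intro a ha
  rw [mem_centralizer_iff]
  intro b hb
  exact commute_of_isElementaryAbelian hA (h hb) ha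

theorem centralizer_le_normalizer' (X : Subgroup G) :
    centralizer (X : Set G) ≤ normalizer (X : Set G) := by
  intro g hg
  rw [mem_normalizer_iff]
  intro x
  have key : ∀ y : G, y ∈ X → g * y * g⁻¹ = y := by
    intro y hy
    have := mem_centralizer_iff.mp hg y hy
    rw [← this]; group
  constructor
  · intro hx
    rw [key x hx]; exact hx
  · intro hx
    have h1 := key _ hx
    have h2 : x = g⁻¹ * (g * x * g⁻¹) * g := by group
    have h3 : g⁻¹ * (g * x * g⁻¹) * g = g * x * g⁻¹ := by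
      have := mem_centralizer_iff.mp hg _ hx
      calc g⁻¹ * (g * x * g⁻¹) * g = g⁻¹ * ((g * x * g⁻¹) * g) := by group
        _ = g⁻¹ * (g * (g * x * g⁻¹)) := by rw [this]
        _ = g * x * g⁻¹ := by group
    rw [h2, h3]; exact hx

section fin

variable [Finite G]

/-- a second maximal subgroup over `N_G(A₀)` when `M` is not the only one. -/
theorem exists_other_coatom (hG : IsMinSimpleOddOrder G) {M : Subgroup G} (hM : IsCoatom M)
    {p : ℕ} (hp : p.Prime) {A₀ : Subgroup G} (hA₀M : A₀ ≤ M) (hA₀c : Nat.card A₀ = p)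
    (h : ¬ (normalizer (A₀ : Set G) ≤ M ∧
      ∀ L : Subgroup G, IsCoatom L → normalizer (A₀ : Set G) ≤ L → L = M)) :
    ∃ H : Subgroup G, IsCoatom H ∧ M ≠ H ∧ normalizer (A₀ : Set G) ≤ H := by
  have hN : normalizer (A₀ : Set G) ≠ ⊤ :=
    normalizer_ne_top hG (ne_bot_of_card_prime hp hA₀c) (ne_top_of_le_coatom hM hA₀M)
  obtain ⟨L, hL, hNL⟩ := exists_coatom_ge hN
  by_cases hLM : L = M
  · subst hLM
    by_contra hcon
    apply h
    refine ⟨hNL, fun L' hL' hNL' => ?_⟩
    by_contra hne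
    exact hcon ⟨L', hL', fun e => hne e.symm, hNL'⟩
  · exact ⟨L, hL, fun e => hLM e.symm, hNL⟩

/-- a uniqueness subgroup of `M` inside `N_G(A₀)` makes `M` the unique maximal subgroup over
`N_G(A₀)`. -/
theorem uniq_normalizer (hG : IsMinSimpleOddOrder G) {M U A₀ : Subgroup G} (hM : IsCoatom M)
    {p : ℕ} (hp : p.Prime) (hU : InUniqueMaximal U) (hUM : U ≤ M) (hA₀M : A₀ ≤ M)
    (hA₀c : Nat.card A₀ = p) (hUN : U ≤ normalizer (A₀ : Set G)) :
    normalizer (A₀ : Set G) ≤ M ∧
      ∀ L : Subgroup G, IsCoatom L → normalizer (A₀ : Set G) ≤ L → L = M := by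
  have hN : normalizer (A₀ : Set G) ≠ ⊤ :=
    normalizer_ne_top hG (ne_bot_of_card_prime hp hA₀c) (ne_top_of_le_coatom hM hA₀M)
  exact ⟨uniq_le_of_le hU hM hUM hUN hN, fun L hL h => uniq_eq_of_le hU hM hUM hL (hUN.trans h)⟩

/-- a nontrivial `p`-subgroup has a central element of order `p`. -/
theorem exists_central_order_p {p : ℕ} [hp : Fact p.Prime] {T : Subgroup G} (hT : IsPGroup p T)
    (hT1 : T ≠ ⊥) : ∃ z ∈ T, orderOf z = p ∧ ∀ t ∈ T, t * z = z * t := by
  haveI : Nontrivial T := (Subgroup.nontrivial_iff_ne_bot T).mpr hT1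
  haveI := hT.center_nontrivial
  have hZp : IsPGroup p (Subgroup.center T) := hT.to_subgroup _
  obtain ⟨k, hk⟩ := IsPGroup.iff_card.mp hZp
  have hk0 : k ≠ 0 := by
    rintro rfl
    rw [pow_zero] at hk
    have := Finite.one_lt_card (α := Subgroup.center T)
    omega
  have hdvd : p ∣ Nat.card (Subgroup.center T) := by rw [hk]; exact dvd_pow_self p hk0
  obtain ⟨z, hz⟩ := exists_prime_orderOf_dvd_card' p hdvd
  refine ⟨((z : T) : G), (z : T).2, ?_, ?_⟩
  · rw [← hz, Subgroup.orderOf_coe, Subgroup.orderOf_coe]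
  · intro t ht
    have := Subgroup.mem_center_iff.mp z.2 ⟨t, ht⟩
    exact congrArg Subtype.val this

/-- an element of order `p` of an elementary abelian group `A` of order `p²` spans a line -/
theorem exists_line {p : ℕ} [hp : Fact p.Prime] {A : Subgroup G} (hA2 : Nat.card A = p ^ 2) :
    ∃ A₀ : Subgroup G, A₀ ≤ A ∧ Nat.card A₀ = p := by
  have hdvd : p ∣ Nat.card A := by rw [hA2]; exact dvd_pow_self p (by norm_num)
  obtain ⟨z, hz⟩ := exists_prime_orderOf_dvd_card' p hdvd
  refine ⟨zpowers (z : G), ?_, ?_⟩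
  · rw [zpowers_le]; exact z.2
  · rw [Nat.card_zpowers, Subgroup.orderOf_coe, hz]

/-- coprime generation (S1324) for `A` of order `p²`: a `p'`-group `X` normalized by `A` all of
whose line centralizers are centralized by `A` is centralized by `A`. -/
theorem le_centralizer_of_lines {p : ℕ} [hp : Fact p.Prime] {A X : Subgroup G}
    (hAe : IsElementaryAbelian p A) (hA2 : Nat.card A = p ^ 2) (hX : ¬ p ∣ Nat.card X)
    (hAX : A ≤ normalizer (X : Set G))
    (h : ∀ A₀ : Subgroup G, A₀ ≤ A → Nat.card A₀ = p →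
      X ⊓ centralizer (A₀ : Set G) ≤ centralizer (A : Set G)) :
    X ≤ centralizer (A : Set G) := by
  have h24 := Cfsg.Agent.S1324.result p A X hAe (by rw [hA2]) hX hAX
  rw [h24]
  apply iSup_le
  rintro ⟨B, hBA, hBi⟩
  have hmul : Nat.card B * B.relIndex A = Nat.card A :=
    Cfsg.Agent.Helper95.BG15.FitSigma.card_mul_relIndex' hBA
  have hdvd : B.relIndex A ∣ p ^ 2 := by rw [← hA2, ← hmul]; exact dvd_mul_left _ _
  obtain ⟨k, hk2, hk⟩ := (Nat.dvd_prime_pow hp.out).mp hdvd
  have hk1 : k ≤ 1 := by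
    by_contra hcon
    have hk2' : k = 2 := by omega
    rw [hk2'] at hk
    rw [hk] at hBi
    have := hp.out.one_lt
    nlinarith
  interval_cases k
  · -- relIndex 1 : `A ≤ B`
    rw [pow_zero] at hk
    have hAB : A ≤ B := Subgroup.relIndex_eq_one.mp hk
    exact inf_le_right.trans (centralizer_le hAB)
  · rw [pow_one] at hk
    rw [hk, hA2] at hmul
    have hBc : Nat.card B = p := by
      have hp0 := hp.out.pos
      nlinarith
    exact h B hBA hBc

/-! ### Step 1: `p ∉ α(M)` -/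

theorem not_mem_alpha (hG : IsMinSimpleOddOrder G) (hU : UniqHyp G) {M : Subgroup G}
    (hM : IsCoatom M) {p : ℕ} [hp : Fact p.Prime] {A : Subgroup G} (hAM : A ≤ M)
    (hAe : IsElementaryAbelian p A) (hA2 : Nat.card A = p ^ 2) (hH : NoUniqLine M p A) :
    p ∉ alpha M := by
  intro hα
  obtain ⟨T, hT, hAT⟩ := exists_isSylIn_ge (isElementaryAbelian_isPGroup hAe) hAM
  have hTU := uniq_of_rank3_sylow hU hM hT hα.2
  have hA1 : A ≠ ⊥ := ne_bot_of_card_sq hp.out hA2
  have hT1 : T ≠ ⊥ := fun h => hA1 (le_bot_iff.mp (h ▸ hAT))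
  obtain ⟨z, hzT, hzo, hzc⟩ := exists_central_order_p hT.isPGroup hT1
  have hzp : z ^ p = 1 := by rw [← hzo]; exact pow_orderOf_eq_one z
  by_cases hzA : z ∈ A
  · -- the line `⟨z⟩` is normalized by `T`
    have hA₀A : zpowers z ≤ A := by rw [zpowers_le]; exact hzA
    have hA₀c : Nat.card (zpowers z) = p := by rw [Nat.card_zpowers, hzo]
    have hTN : T ≤ normalizer ((zpowers z : Subgroup G) : Set G) := by
      refine le_trans ?_ (centralizer_le_normalizer' _)
      intro t ht
      rw [mem_centralizer_iff]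
      intro y hy
      obtain ⟨k, rfl⟩ := mem_zpowers_iff.mp hy
      have h1 : Commute t z := hzc t ht
      exact (h1.zpow_right k).eq.symm
    exact hH _ hA₀A hA₀c
      (uniq_normalizer hG hM hp.out hTU hT.le (hA₀A.trans hAM) hA₀c hTN)
  · -- `B = A⟨z⟩` is elementary abelian of order `> p²`
    have hB : IsElementaryAbelian p (A ⊔ zpowers z) := by
      refine isElementaryAbelian_sup hAe (isElementaryAbelian_zpowers hzp) ?_
      intro a ha b hb
      obtain ⟨k, rfl⟩ := mem_zpowers_iff.mp hb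
      have h1 : Commute a z := hzc a (hAT ha)
      exact (h1.zpow_right k).eq
    have hBT : A ⊔ zpowers z ≤ T := sup_le hAT (by rw [zpowers_le]; exact hzT)
    have hlt : A < A ⊔ zpowers z := by
      refine lt_of_le_of_ne le_sup_left ?_
      intro h
      apply hzA
      rw [h]
      exact le_sup_right (a := A) (mem_zpowers z)
    have hc : p ^ 2 < Nat.card ↥(A ⊔ zpowers z) := by
      rw [← hA2]
      exact Set.ncard_lt_ncard (SetLike.coe_ssubset_coe.mpr hlt) (Set.toFinite _)
    have hc1 : p ^ 1 < Nat.card ↥(A ⊔ zpowers z) :=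
      lt_trans (Nat.pow_lt_pow_right hp.out.one_lt (by norm_num)) hc
    have hBU : InUniqueMaximal (A ⊔ zpowers z) :=
      hU _ (ne_top_of_le_coatom hM (hBT.trans hT.le))
        (not_rankLE_of_elemAb hp.out le_rfl hB hc1)
        (Or.inl (not_rankLE_of_elemAb hp.out le_rfl hB hc))
    obtain ⟨A₀, hA₀A, hA₀c⟩ := exists_line (p := p) hA2
    have hBN : A ⊔ zpowers z ≤ normalizer (A₀ : Set G) :=
      (le_centralizer_of_elemAb hB (hA₀A.trans le_sup_left)).trans (centralizer_le_normalizer' _)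
    exact hH _ hA₀A hA₀c
      (uniq_normalizer hG hM hp.out hBU (hBT.trans hT.le) (hA₀A.trans hAM) hA₀c hBN)

end fin

end Cfsg.Agent.Helper12.BG124
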