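import Mathlib
import Cfsg.Agent.S1350
import Cfsg.Agent.S1408
import Cfsg.Agent.S1410
import Cfsg.Agent.S1451
import Cfsg.Agent.Lib.Helper12.BG124a
import Cfsg.Agent.Lib.Helper22.BG1010
import Cfsg.Agent.Lib.Helper33.BG125

/-!
# Bender–Glauberman Proposition 12.4 (statement S1416), part 2: `M_α = 1`, rank at most 2,
`p ∈ σ(M)`, `M_σ` nilpotent, and `C_G(A) ≤ M`; parametrised by Lemma 12.3.
-/

set_option autoImplicit false
open Pointwise

namespace Cfsg.Agent.Helper12.BG124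

open Subgroup Cfsg
open Cfsg.Agent.Helper33 (IsSylIn isSylIn_of_sylow exists_isSylIn_ge exists_isSylIn)
open Cfsg.Agent.Helper34.BG

variable {G : Type*} [Group G] [Finite G]

/-- the conclusion of Lemma 12.3 for `(M, p, A)`, as a hypothesis. -/
def L123 (M : Subgroup G) (p : ℕ) (A : Subgroup G) : Prop :=
  ∀ H : Subgroup G, IsCoatom H → M ≠ H → ∀ A₀ : Subgroup G, A₀ ≤ A → Nat.card A₀ = p →
    normalizer (A₀ : Set G) ≤ H →
    (p ∉ sigma M → sigmaCore M ⊓ H ≤ centralizer (A : Set G)) ∧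
    (p ∉ alpha M → alphaCore M ⊓ H ≤ centralizer (A : Set G))

theorem alphaCore_le (M : Subgroup G) : alphaCore M ≤ M := map_subtype_le _

theorem le_normalizer_alphaCore (M : Subgroup G) :
    M ≤ normalizer ((alphaCore M : Subgroup G) : Set G) :=
  Cfsg.Agent.Helper55.BGB.le_normalizer_map_subtype M (piCore (alpha M) ↥M)

/-- common part of Steps 2 and 4: a normal `p'`-subgroup `X` of `M` with `X ⊓ H ≤ C_G(A)` for the
second maximal subgroups `H` over the line normalizers is centralized by `A`. -/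
theorem le_centralizer_of_L123 (hG : IsMinSimpleOddOrder G) {M : Subgroup G} (hM : IsCoatom M)
    {p : ℕ} [hp : Fact p.Prime] {A : Subgroup G} (hAM : A ≤ M) (hAe : IsElementaryAbelian p A)
    (hA2 : Nat.card A = p ^ 2) (hH : NoUniqLine M p A) {X : Subgroup G}
    (hXn : M ≤ normalizer (X : Set G)) (hXp : ¬ p ∣ Nat.card X)
    (h : ∀ H : Subgroup G, IsCoatom H → M ≠ H → ∀ A₀ : Subgroup G, A₀ ≤ A → Nat.card A₀ = p →
      normalizer (A₀ : Set G) ≤ H → X ⊓ H ≤ centralizer (A : Set G)) :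
    X ≤ centralizer (A : Set G) := by
  refine le_centralizer_of_lines hAe hA2 hXp (hAM.trans hXn) ?_
  intro A₀ hA₀A hA₀c
  obtain ⟨H, hHc, hMH, hNH⟩ :=
    exists_other_coatom hG hM hp.out (hA₀A.trans hAM) hA₀c (hH A₀ hA₀A hA₀c)
  exact (inf_le_inf_left X ((centralizer_le_normalizer' A₀).trans hNH)).trans
    (h H hHc hMH A₀ hA₀A hA₀c hNH)

/-! ### Step 2: `M_α = 1` -/

theorem alphaCore_eq_bot (hG : IsMinSimpleOddOrder G) (hU : UniqHyp G) {M : Subgroup G}
    (hM : IsCoatom M) {p : ℕ} [hp : Fact p.Prime] {A : Subgroup G} (hAM : A ≤ M)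
    (hAe : IsElementaryAbelian p A) (hA2 : Nat.card A = p ^ 2) (hH : NoUniqLine M p A)
    (h123 : L123 M p A) : alphaCore M = ⊥ := by
  have hpα : p ∉ alpha M := not_mem_alpha hG hU hM hAM hAe hA2 hH
  obtain ⟨hHallα, -, -, -, -⟩ := Cfsg.Agent.S1405.result hG M hM
  have hXp : ¬ p ∣ Nat.card (alphaCore M) := fun hd => hpα (hHallα.2.1 p hp.out hd)
  have hXC : alphaCore M ≤ centralizer (A : Set G) :=
    le_centralizer_of_L123 hG hM hAM hAe hA2 hH (le_normalizer_alphaCore M) hXp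
      (fun H hHc hMH A₀ hA₀A hA₀c hNH => (h123 H hHc hMH A₀ hA₀A hA₀c hNH).2 hpα)
  by_contra hne
  have hcard : Nat.card (alphaCore M) ≠ 1 := fun h => hne (Subgroup.card_eq_one.mp h)
  obtain ⟨q, hq, hqd⟩ := Nat.exists_prime_and_dvd hcard
  haveI : Fact q.Prime := ⟨hq⟩
  have hqα : q ∈ alpha M := hHallα.2.1 q hq hqd
  obtain ⟨S, hS⟩ := exists_isSylIn (p := q) (alphaCore M)
  have hSM : IsSylIn q S M := by
    refine ⟨hS.le.trans (alphaCore_le M), hS.isPGroup, ?_⟩
    rw [← Subgroup.relIndex_mul_relIndex _ _ _ hS.le (alphaCore_le M)]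
    intro hd
    rcases (Nat.Prime.dvd_mul hq).mp hd with h | h
    · exact hS.not_dvd h
    · exact hHallα.2.2 q hq hqα h
  have hSU : InUniqueMaximal S := uniq_of_rank3_sylow hU hM hSM hqα.2
  obtain ⟨A₀, hA₀A, hA₀c⟩ := exists_line (p := p) hA2
  have hSN : S ≤ normalizer (A₀ : Set G) :=
    hS.le.trans (hXC.trans ((centralizer_le hA₀A).trans (centralizer_le_normalizer' A₀)))
  exact hH A₀ hA₀A hA₀c
    (uniq_normalizer hG hM hp.out hSU hSM.le (hA₀A.trans hAM) hA₀c hSN)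

/-! ### Step 3: rank at most 2 and `M'` nilpotent -/

theorem rankLE_two_of_alphaCore_eq_bot (hG : IsMinSimpleOddOrder G) {M : Subgroup G}
    (hM : IsCoatom M) (hα : alphaCore M = ⊥) : RankLE 2 ↥M := by
  obtain ⟨hHallα, -, -, -, -⟩ := Cfsg.Agent.S1405.result hG M hM
  intro q hq
  by_contra h
  haveI : Fact q.Prime := ⟨hq⟩
  have h1 := hHallα.2.2 q hq ⟨hq, h⟩
  rw [hα, Subgroup.relIndex_bot_left] at h1
  exact h1 (dvd_card_of_not_pRankLE h)

theorem nilpotent_commutator_of_rankLE_two (hG : IsMinSimpleOddOrder G) {M : Subgroup G}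
    (hM : IsCoatom M) (hr : RankLE 2 ↥M) : Group.IsNilpotent ↥⁅M, M⁆ := by
  haveI : Group.IsSolvable ↥M := solvable_of_ne_top hG hM.1
  have h := (Cfsg.Agent.S1451.result (G := ↥M) (odd_card_subgroup hG M) (Or.inl hr)).1
  have h2 := Cfsg.Agent.Helper95.BG15.FitSigma.isNilpotent_map_subtype (H := M) (commutator ↥M) h
  rwa [Subgroup.map_subtype_commutator] at h2

theorem nilpotent_of_le' {H K : Subgroup G} (hK : Group.IsNilpotent K) (hle : H ≤ K) :
    Group.IsNilpotent H := by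
  have : Group.IsNilpotent (H.subgroupOf K) := inferInstance
  exact Group.nilpotent_of_mulEquiv (Subgroup.subgroupOfEquivOfLe hle)

/-! ### Step 5: `M_σ` nilpotent -/

theorem nilpotent_sigmaCore_of_rankLE_two (hG : IsMinSimpleOddOrder G) (hU : UniqHyp G)
    {M : Subgroup G} (hM : IsCoatom M) (hr : RankLE 2 ↥M) : Group.IsNilpotent ↥(sigmaCore M) :=
  nilpotent_of_le' (nilpotent_commutator_of_rankLE_two hG hM hr) (sigmaCore_le_commutator hG hU hM)

/-! ### Step 4: `p ∈ σ(M)` -/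

theorem mem_sigma (hG : IsMinSimpleOddOrder G) (hU : UniqHyp G) {M : Subgroup G}
    (hM : IsCoatom M) {p : ℕ} [hp : Fact p.Prime] {A : Subgroup G} (hAM : A ≤ M)
    (hAe : IsElementaryAbelian p A) (hA2 : Nat.card A = p ^ 2) (hH : NoUniqLine M p A)
    (h123 : L123 M p A) (hr : RankLE 2 ↥M) : p ∈ sigma M := by
  by_contra hpσ
  obtain ⟨hHall, hHallG, -⟩ := Cfsg.Agent.S1350.result hG M hM
  have hnil : Group.IsNilpotent ↥⁅M, M⁆ := nilpotent_commutator_of_rankLE_two hG hM hr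
  -- `A` is a maximal elementary abelian subgroup of `G`
  have hr1 : ¬ PRankLE p 1 ↥M :=
    not_pRankLE_of_elemAb hAM hAe (by
      rw [hA2]; exact Nat.pow_lt_pow_right hp.out.one_lt (by norm_num))
  have hAmax := (Cfsg.Agent.S1408.result hG M hM p hpσ (hr p hp.out) hr1).2 A hAM hAe hA2
  -- `A` centralizes `M_σ`
  have hXp : ¬ p ∣ Nat.card (sigmaCore M) :=
    fun hd => hpσ (hHall.2.1 p hp.out hd)
  have hXC : sigmaCore M ≤ centralizer (A : Set G) :=
    le_centralizer_of_L123 hG hM hAM hAe hA2 hH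
      (Cfsg.Agent.Helper55.BGB.le_normalizer_sigmaCore M) hXp
      (fun H hHc hMH A₀ hA₀A hA₀c hNH => (h123 H hHc hMH A₀ hA₀A hA₀c hNH).1 hpσ)
  -- the largest prime divisor `q` of `|M|` has a normal Sylow subgroup `Q`
  haveI : Group.IsSolvable ↥M := solvable_of_ne_top hG hM.1
  haveI : Nontrivial ↥M := (Subgroup.nontrivial_iff_ne_bot M).mpr (coatom_ne_bot hG hM)
  have hrF : RankLE 2 ↥(fittingSubgroup ↥M) := fun q hq => pRankLE_subgroup_type (hr q hq) _
  obtain ⟨q, hq, hqd, -, Q₀, hQ₀n⟩ :=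
    Cfsg.Agent.Helper82.BG95R3.r3 (X := ↥M) (odd_card_subgroup hG M) hrF
  haveI : Fact q.Prime := ⟨hq⟩
  set Q : Subgroup G := (Q₀ : Subgroup ↥M).map M.subtype with hQdef
  have hQS : IsSylIn q Q M := isSylIn_of_sylow M Q₀
  have hQn : M ≤ normalizer (Q : Set G) :=
    Cfsg.Agent.Helper55.BGB.le_normalizer_map_subtype M (Q₀ : Subgroup ↥M)
  have hQ1 : Q ≠ ⊥ := by
    intro h
    have h1 : (Q₀ : Subgroup ↥M) = ⊥ :=
      (Subgroup.map_eq_bot_iff_of_injective _ M.subtype_injective).mp h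
    exact Q₀.ne_bot_of_dvd_card hqd h1
  have hNQ : normalizer (Q : Set G) = M :=
    Cfsg.Agent.Helper95.BG15.FitSigma.normalizer_eq_of_coatom hG hM hQS.le hQ1 hQn
  have hqσ : q ∈ sigma M := mem_sigma_of_isSylIn hQS hqd hNQ.le
  have hqp : q ≠ p := fun h => hpσ (h ▸ hqσ)
  have hQtop : IsSylIn q Q ⊤ :=
    Cfsg.Agent.Helper82.BG1215.isSylIn_top_of_sigma hHall hHallG hqσ hQS
  have hQσ : Q ≤ sigmaCore M :=
    Cfsg.Agent.Helper55.BGB.le_sigmaCore_of_isPGroup hq hHall hqσ hQS.le hQS.isPGroup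
  have hqC : q ∣ Nat.card (centralizer (A : Set G)) := by
    have h1 : q ∣ Nat.card Q := by
      obtain ⟨k, hk⟩ := IsPGroup.iff_card.mp hQS.isPGroup
      have hk0 : k ≠ 0 := by
        rintro rfl
        rw [pow_zero] at hk
        exact hQ1 (Subgroup.card_eq_one.mp hk)
      rw [hk]; exact dvd_pow_self q hk0
    exact h1.trans (Subgroup.card_dvd_of_le (hQσ.trans hXC))
  -- `Q` is a Sylow subgroup of `G`, so a maximal `A`-invariant `q`-subgroup
  have hQcard : Nat.card Q = q ^ (Nat.card G).factorization q := by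
    obtain ⟨S⟩ : Nonempty (Sylow q G) := inferInstance
    have h1 := (Cfsg.Agent.Helper33.isSylIn_top S).card_eq hQtop
    rw [← h1]
    exact S.card_eq_multiplicity
  have hQmax : Q ∈ maxInvSubgroups ⊤ A {q} :=
    Cfsg.Agent.Helper33.BG125.mem_maxInv_of_card_sylow hQcard (hAM.trans hQn)
  obtain ⟨P, hAP, -, hPc⟩ := Cfsg.Agent.Helper22.BG1010.r1_of hG p A hAe hA2 hAmax
    (fun H hH => Cfsg.Agent.S1410.result hG p H hH) q hq hqp hqC Q hQmax
  rw [hNQ] at hPc
  have hP1 : (P : Subgroup G) ≠ ⊥ := by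
    intro h
    exact ne_bot_of_card_sq hp.out hA2 (le_bot_iff.mp (h ▸ hAP))
  exact hpσ (Cfsg.Agent.Helper22.BG1010.mem_sigma_of_sylow_le_commutator hG M hM hnil p P hP1 hPc)

end Cfsg.Agent.Helper12.BG124
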