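import Mathlib
import Cfsg.Agent.Lib.Helper12.BG124b

/-!
# Bender–Glauberman Proposition 12.4 (statement S1416), part 3: `C_G(A) ≤ M`, and the assembly
(parametrised by Lemma 12.3).
-/

set_option autoImplicit false
open Pointwise

namespace Cfsg.Agent.Helper12.BG124

open Subgroup Cfsg
open Cfsg.Agent.Helper33 (IsSylIn isSylIn_of_sylow exists_isSylIn_ge exists_isSylIn)
open Cfsg.Agent.Helper34.BG

variable {G : Type*} [Group G] [Finite G]

/-- Proposition 12.4(a) from the conclusions of (b). -/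
theorem centralizer_le_of_b (hG : IsMinSimpleOddOrder G) {M : Subgroup G}
    (hM : IsCoatom M) {p : ℕ} [hp : Fact p.Prime] {A : Subgroup G} (hAM : A ≤ M)
    (hAe : IsElementaryAbelian p A) (hA2 : Nat.card A = p ^ 2)
    (hb : NoUniqLine M p A →
      p ∈ sigma M ∧ RankLE 2 ↥M ∧ Group.IsNilpotent ↥(sigmaCore M)) :
    centralizer (A : Set G) ≤ M := by
  by_cases hH : NoUniqLine M p A
  · obtain ⟨hpσ, hr, hnil⟩ := hb hH
    obtain ⟨hHall, -, -⟩ := Cfsg.Agent.S1350.result hG M hM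
    have hAp : IsPGroup p A := isElementaryAbelian_isPGroup hAe
    have hAσ : A ≤ sigmaCore M :=
      Cfsg.Agent.Helper55.BGB.le_sigmaCore_of_isPGroup hp.out hHall hpσ hAM hAp
    obtain ⟨P, hP, hAP⟩ := exists_isSylIn_ge hAp hAσ
    have hPM : P ≤ M := hP.le.trans (Cfsg.Agent.Helper55.BGB.sigmaCore_le M)
    have hMP : M ≤ normalizer (P : Set G) :=
      Cfsg.Agent.Helper82.BG1215.le_normalizer_sylow_of_nilpotent hnil
        (Cfsg.Agent.Helper55.BGB.le_normalizer_sigmaCore M) hP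
    have hA1 : A ≠ ⊥ := ne_bot_of_card_sq hp.out hA2
    have hP1 : P ≠ ⊥ := fun h => hA1 (le_bot_iff.mp (h ▸ hAP))
    -- central elements of order `p` of `P` lie in `A`
    have claim : ∀ z ∈ P, z ^ p = 1 → (∀ t ∈ P, t * z = z * t) → z ∈ A := by
      intro z hzP hzp hzc
      by_contra hzA
      have hB : IsElementaryAbelian p (A ⊔ zpowers z) := by
        refine isElementaryAbelian_sup hAe (isElementaryAbelian_zpowers hzp) ?_
        intro a ha b hb
        obtain ⟨k, rfl⟩ := mem_zpowers_iff.mp hb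
        have h1 : Commute a z := hzc a (hAP ha)
        exact (h1.zpow_right k).eq
      have hBM : A ⊔ zpowers z ≤ M :=
        (sup_le hAP (by rw [zpowers_le]; exact hzP)).trans hPM
      have hlt : A < A ⊔ zpowers z := by
        refine lt_of_le_of_ne le_sup_left ?_
        intro h
        apply hzA
        rw [h]
        exact le_sup_right (a := A) (mem_zpowers z)
      have hc : p ^ 2 < Nat.card ↥(A ⊔ zpowers z) := by
        rw [← hA2]
        exact Set.ncard_lt_ncard (SetLike.coe_ssubset_coe.mpr hlt) (Set.toFinite _)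
      exact not_pRankLE_of_elemAb hBM hB hc (hr p hp.out)
    -- `Ω = A ∩ Z(P)`
    set Ω : Subgroup G := A ⊓ centralizer (P : Set G) with hΩ
    have hΩ1 : Ω ≠ ⊥ := by
      obtain ⟨z, hzP, hzo, hzc⟩ := exists_central_order_p hP.isPGroup hP1
      have hzp : z ^ p = 1 := by rw [← hzo]; exact pow_orderOf_eq_one z
      have hzA : z ∈ A := claim z hzP hzp hzc
      have hzΩ : z ∈ Ω :=
        Subgroup.mem_inf.mpr ⟨hzA, mem_centralizer_iff.mpr (fun t ht => hzc t ht)⟩
      intro h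
      rw [h, mem_bot] at hzΩ
      rw [hzΩ, orderOf_one] at hzo
      exact hp.out.one_lt.ne hzo
    have hconj : ∀ m ∈ M, ∀ x ∈ Ω, m * x * m⁻¹ ∈ Ω := by
      intro m hm x hx
      have hx := Subgroup.mem_inf.mp hx
      have hxP : x ∈ P := hAP hx.1
      have hxc : ∀ t ∈ P, t * x = x * t := fun t ht => mem_centralizer_iff.mp hx.2 t ht
      have h1 : m * x * m⁻¹ ∈ P := (mem_normalizer_iff.mp (hMP hm) x).mp hxP
      have h2 : (m * x * m⁻¹) ^ p = 1 := by
        rw [conj_pow, hAe.2 x hx.1]; group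
      have h3 : ∀ t ∈ P, t * (m * x * m⁻¹) = (m * x * m⁻¹) * t := by
        intro t ht
        have ht' : m⁻¹ * t * m ∈ P := by
          have := (mem_normalizer_iff.mp (hMP (M.inv_mem hm)) t).mp ht
          simpa using this
        have h4 := hxc _ ht'
        calc t * (m * x * m⁻¹) = m * ((m⁻¹ * t * m) * x) * m⁻¹ := by group
          _ = m * (x * (m⁻¹ * t * m)) * m⁻¹ := by rw [h4]
          _ = (m * x * m⁻¹) * t := by group
      exact Subgroup.mem_inf.mpr ⟨claim _ h1 h2 h3, mem_centralizer_iff.mpr (fun t ht => h3 t ht)⟩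
    have hMΩ : M ≤ normalizer (Ω : Set G) := by
      intro m hm
      rw [mem_normalizer_iff]
      intro x
      refine ⟨hconj m hm x, fun hx => ?_⟩
      have := hconj m⁻¹ (M.inv_mem hm) _ hx
      have e : m⁻¹ * (m * x * m⁻¹) * m⁻¹⁻¹ = x := by group
      rwa [e] at this
    have hΩA : Ω ≤ A := inf_le_left
    have hNΩ : normalizer (Ω : Set G) = M :=
      Cfsg.Agent.Helper95.BG15.FitSigma.normalizer_eq_of_coatom hG hM (hΩA.trans hAM) hΩ1 hMΩ
    have hdvd : Nat.card Ω ∣ p ^ 2 := by rw [← hA2]; exact Subgroup.card_dvd_of_le hΩA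
    obtain ⟨k, hk2, hk⟩ := (Nat.dvd_prime_pow hp.out).mp hdvd
    interval_cases k
    · rw [pow_zero] at hk
      exact absurd (Subgroup.card_eq_one.mp hk) hΩ1
    · rw [pow_one] at hk
      exfalso
      refine hH Ω hΩA hk ⟨hNΩ.le, fun L hL hNL => ?_⟩
      rw [hNΩ] at hNL
      by_contra hne
      exact hL.1 (hM.2 L (lt_of_le_of_ne hNL (fun e => hne e.symm)))
    · have hΩeq : Ω = A := by
        apply Subgroup.eq_of_le_of_card_ge hΩA
        rw [hk, hA2]
      rw [hΩeq] at hNΩ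
      rw [← hNΩ]
      exact centralizer_le_normalizer' A
  · unfold NoUniqLine at hH
    push Not at hH
    obtain ⟨A₀, hA₀A, -, hN, -⟩ := hH
    exact (centralizer_le hA₀A).trans ((centralizer_le_normalizer' A₀).trans hN)

/-- **Bender–Glauberman Proposition 12.4**, parametrised by Lemma 12.3. -/
theorem prop124 (hG : IsMinSimpleOddOrder G) (M : Subgroup G) (hM : IsCoatom M) (p : ℕ)
    [hp : Fact p.Prime] (A : Subgroup G)
    (hA : A ≤ M ∧ IsElementaryAbelian p A ∧ Nat.card A = p ^ 2) (h123 : L123 M p A) :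
    centralizer (A : Set G) ≤ M ∧
      ((∀ A₀ : Subgroup G, A₀ ≤ A → Nat.card A₀ = p →
          ¬ (normalizer (A₀ : Set G) ≤ M ∧
            ∀ L : Subgroup G, IsCoatom L → normalizer (A₀ : Set G) ≤ L → L = M)) →
        p ∈ sigma M ∧ alphaCore M = ⊥ ∧ Group.IsNilpotent ↥(sigmaCore M)) := by
  obtain ⟨hAM, hAe, hA2⟩ := hA
  have hU : UniqHyp G := fun K hK h1 h2 => Cfsg.Agent.S1403.result hG K hK h1 h2
  have hb : NoUniqLine M p A →
      p ∈ sigma M ∧ alphaCore M = ⊥ ∧ RankLE 2 ↥M ∧ Group.IsNilpotent ↥(sigmaCore M) := by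
    intro hH
    have hα := alphaCore_eq_bot hG hU hM hAM hAe hA2 hH h123
    have hr := rankLE_two_of_alphaCore_eq_bot hG hM hα
    exact ⟨mem_sigma hG hU hM hAM hAe hA2 hH h123 hr, hα, hr,
      nilpotent_sigmaCore_of_rankLE_two hG hU hM hr⟩
  refine ⟨centralizer_le_of_b hG hM hAM hAe hA2 (fun hH => ?_), fun hH => ?_⟩
  · obtain ⟨h1, -, h3, h4⟩ := hb hH
    exact ⟨h1, h3, h4⟩
  · obtain ⟨h1, h2, -, h4⟩ := hb hH
    exact ⟨h1, h2, h4⟩

end Cfsg.Agent.Helper12.BG124
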