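import Mathlib

/-!
# BG157-E2 (Eb1) + (Eb2): class-2 commutator calculus in a group of order `p^3`
(sub-sub-pieces of helper49's BG157-E2 (E), for S1383)
-/

set_option autoImplicit false

namespace Cfsg.Agent.Helper12.BG157

open Subgroup

variable {G : Type*} [Group G] [Finite G]

/-- (Eb1) commutators of `P` lie in `Z`. -/
theorem commutatorElement_mem_of_cube {p : ℕ} [Fact p.Prime] (P Z : Subgroup G)
    (hPc : Nat.card P = p ^ 3) (hZ : Nat.card Z = p) (hZP : Z ≤ P) (hZc : P ≤ centralizer (Z : Set G)) :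
    ∀ u ∈ P, ∀ v ∈ P, u * v * u⁻¹ * v⁻¹ ∈ Z := by
  intro u hu v hv
  set ZP : Subgroup P := Z.subgroupOf P with hZPdef
  have hnorm : ZP.Normal := by
    constructor
    intro z hz g
    have hzZ : (z : G) ∈ Z := hz
    have hc : (z : G) * (g : G) = (g : G) * (z : G) := (mem_centralizer_iff.mp (hZc g.2)) _ hzZ
    show ((g * z * g⁻¹ : P) : G) ∈ Z
    have h1 : ((g * z * g⁻¹ : P) : G) = (z : G) := by
      show (g : G) * (z : G) * (g : G)⁻¹ = (z : G)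
      rw [← hc]
      group
    rw [h1]
    exact hzZ
  have hcardZP : Nat.card ZP = p := by
    rw [← hZ]
    exact Nat.card_congr (Subgroup.subgroupOfEquivOfLe hZP).toEquiv
  have hcardQ : Nat.card (P ⧸ ZP) = p ^ 2 := by
    have h1 := Subgroup.card_eq_card_quotient_mul_card_subgroup ZP
    rw [hPc, hcardZP] at h1
    have hp : 0 < p := (Fact.out : p.Prime).pos
    apply Nat.eq_of_mul_eq_mul_right hp
    rw [← h1]
    ring
  have hcommQ : ∀ a b : P ⧸ ZP, a * b = b * a :=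
    IsPGroup.commutative_of_card_eq_prime_sq hcardQ
  have h1 : (QuotientGroup.mk' ZP) ((⟨u, hu⟩ : P) * ⟨v, hv⟩ * (⟨u, hu⟩ : P)⁻¹ * (⟨v, hv⟩ : P)⁻¹)
      = 1 := by
    rw [map_mul, map_mul, map_mul, map_inv, map_inv,
      hcommQ (QuotientGroup.mk' ZP ⟨u, hu⟩) (QuotientGroup.mk' ZP ⟨v, hv⟩)]
    group
  rw [← MonoidHom.mem_ker, QuotientGroup.ker_mk'] at h1
  exact h1

theorem helper12_comm_mul_left (P Z : Subgroup G) (hZc : P ≤ centralizer (Z : Set G))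
    (hcomm : ∀ u ∈ P, ∀ v ∈ P, u * v * u⁻¹ * v⁻¹ ∈ Z) (x x' w : G) (hx : x ∈ P)
    (hx' : x' ∈ P) (hw : w ∈ P) :
    (x * x') * w * (x * x')⁻¹ * w⁻¹ = (x' * w * x'⁻¹ * w⁻¹) * (x * w * x⁻¹ * w⁻¹) := by
  have hc : x' * w * x'⁻¹ * w⁻¹ ∈ Z := hcomm x' hx' w hw
  have hcx : (x' * w * x'⁻¹ * w⁻¹) * x = x * (x' * w * x'⁻¹ * w⁻¹) :=
    (mem_centralizer_iff.mp (hZc hx)) _ hc
  calc (x * x') * w * (x * x')⁻¹ * w⁻¹
      = (x * (x' * w * x'⁻¹ * w⁻¹)) * (w * x⁻¹ * w⁻¹) := by group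
    _ = ((x' * w * x'⁻¹ * w⁻¹) * x) * (w * x⁻¹ * w⁻¹) := by rw [hcx]
    _ = (x' * w * x'⁻¹ * w⁻¹) * (x * w * x⁻¹ * w⁻¹) := by group

theorem helper12_comm_pow_left (P Z : Subgroup G) (hZc : P ≤ centralizer (Z : Set G))
    (hcomm : ∀ u ∈ P, ∀ v ∈ P, u * v * u⁻¹ * v⁻¹ ∈ Z) (x w : G) (hx : x ∈ P) (hw : w ∈ P)
    (n : ℕ) : x ^ n * w * (x ^ n)⁻¹ * w⁻¹ = (x * w * x⁻¹ * w⁻¹) ^ n := by
  induction n with
  | zero => simp
  | succ n ih =>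
    rw [pow_succ' x n, helper12_comm_mul_left P Z hZc hcomm x (x ^ n) w hx (P.pow_mem hx n) hw,
      ih, pow_succ]

theorem helper12_comm_mul_central (P Z : Subgroup G) (hZP : Z ≤ P)
    (hZc : P ≤ centralizer (Z : Set G))
    (hcomm : ∀ u ∈ P, ∀ v ∈ P, u * v * u⁻¹ * v⁻¹ ∈ Z) (x z w : G) (hx : x ∈ P) (hz : z ∈ Z)
    (hw : w ∈ P) : (x * z) * w * (x * z)⁻¹ * w⁻¹ = x * w * x⁻¹ * w⁻¹ := by
  rw [helper12_comm_mul_left P Z hZc hcomm x z w hx (hZP hz) hw]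
  have hzw : z * w = w * z := (mem_centralizer_iff.mp (hZc hw)) _ hz
  have h1 : z * w * z⁻¹ * w⁻¹ = 1 := by
    rw [hzw]
    group
  rw [h1, one_mul]

theorem helper12_comm_symm (x w : G) : x * w * x⁻¹ * w⁻¹ = (w * x * w⁻¹ * x⁻¹)⁻¹ := by group

/-- (Eb2) class-2 commutator calculus: `⁅u^a z, v^b z'⁆ = ⁅u,v⁆^(ab)`. -/
theorem commutatorElement_pow_mul_pow_mul (P Z : Subgroup G) (hZP : Z ≤ P) (hZc : P ≤ centralizer (Z : Set G))
    (hcomm : ∀ u ∈ P, ∀ v ∈ P, u * v * u⁻¹ * v⁻¹ ∈ Z) (u v : G) (hu : u ∈ P) (hv : v ∈ P) (z z' : G) (hz : z ∈ Z) (hz' : z' ∈ Z)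
    (a b : ℕ) :
    (u ^ a * z) * (v ^ b * z') * (u ^ a * z)⁻¹ * (v ^ b * z')⁻¹ = (u * v * u⁻¹ * v⁻¹) ^ (a * b) := by
  have hw : v ^ b * z' ∈ P := P.mul_mem (P.pow_mem hv b) (hZP hz')
  have h1 : u * (v ^ b * z') * u⁻¹ * (v ^ b * z')⁻¹ = (u * v * u⁻¹ * v⁻¹) ^ b := by
    rw [helper12_comm_symm u (v ^ b * z'),
      helper12_comm_mul_central P Z hZP hZc hcomm (v ^ b) z' u (P.pow_mem hv b) hz' hu,
      helper12_comm_pow_left P Z hZc hcomm v u hv hu b, ← inv_pow, ← helper12_comm_symm u v]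
  rw [helper12_comm_mul_central P Z hZP hZc hcomm (u ^ a) z (v ^ b * z') (P.pow_mem hu a) hz hw,
    helper12_comm_pow_left P Z hZc hcomm u (v ^ b * z') hu hw a, h1, ← pow_mul, mul_comm b a]

end Cfsg.Agent.Helper12.BG157
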