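import Mathlib
import Cfsg.Prelude.Def_OddOrderLocal
import Cfsg.Agent.Lib.Helper33.Syl
import Cfsg.Agent.Lib.Helper23.FittingHall

/-!
# helper67's request (B2) for S1381 (B–G Type II)

If the complement `U` of the standard factorisation `M = K U M_σ` is trivial, then for any type-P data
`(W₁, U', W₂)` of `M` with `U' ≠ 1` one has `N_G(U') ≤ M`.
-/

set_option autoImplicit false
open Pointwise

namespace Cfsg.Agent.Helper12.BGTypeII

open Subgroup Cfsg Cfsg.Agent.Helper33

/-- a group generated by a cyclic subgroup and a normal subgroup has its derived subgroup inside the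
normal subgroup -/
theorem commutator_le_of_cyclic_sup {H : Type*} [Group H] (K N : Subgroup H) [N.Normal]
    (hK : IsCyclic K) (h : K ⊔ N = ⊤) : commutator H ≤ N := by
  rw [commutator_def, Subgroup.commutator_le]
  intro a _ b _
  have ha : a ∈ K ⊔ N := by rw [h]; exact mem_top a
  have hb : b ∈ K ⊔ N := by rw [h]; exact mem_top b
  rw [← SetLike.mem_coe, Subgroup.mul_normal] at ha hb
  obtain ⟨k1, hk1, n1, hn1, rfl⟩ := ha
  obtain ⟨k2, hk2, n2, hn2, rfl⟩ := hb
  have hcomm : IsMulCommutative K := inferInstance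
  have hc : k1 * k2 = k2 * k1 :=
    congrArg Subtype.val (hcomm.is_comm.comm ⟨k1, hk1⟩ ⟨k2, hk2⟩)
  rw [← QuotientGroup.eq_one_iff (N := N)]
  have e1 : ((n1 : H) : H ⧸ N) = 1 := (QuotientGroup.eq_one_iff n1).mpr hn1
  have e2 : ((n2 : H) : H ⧸ N) = 1 := (QuotientGroup.eq_one_iff n2).mpr hn2
  have e3 : ((k1 * k2 : H) : H ⧸ N) = ((k2 * k1 : H) : H ⧸ N) := by rw [hc]
  simp only [commutatorElement_def, QuotientGroup.mk_mul, QuotientGroup.mk_inv, e1, e2, mul_one] at e3 ⊢
  rw [e3]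
  group

variable {G : Type*} [Group G] [Finite G]

/-- `U = ⊥` in the standard factorisation forces `M' ≤ M_σ`. -/
theorem commutator_le_sigmaCore_of_U_eq_bot {M K U : Subgroup G}
    (hKU : IsSigmaDecomposition M K U) (hU : U = ⊥) : ⁅M, M⁆ ≤ sigmaCore M := by
  have hKM : K ≤ M := hKU.hall.1
  have hcyc : IsCyclic (K.subgroupOf M) := by
    haveI := hKU.cyclic
    exact isCyclic_of_surjective ((Subgroup.subgroupOfEquivOfLe hKM).symm : K →* K.subgroupOf M)
      (Subgroup.subgroupOfEquivOfLe hKM).symm.surjective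
  have htop : K.subgroupOf M ⊔ piCore (sigma M) ↥M = ⊤ := by
    rw [eq_top_iff]
    intro m _
    obtain ⟨a, ha, b, hb, hab⟩ := hKU.compl.2.2.2 m.1 m.2
    rw [hU, Subgroup.mem_bot] at ha
    rw [ha, one_mul] at hab
    have h1 : (K.subgroupOf M ⊔ piCore (sigma M) ↥M).map M.subtype = K ⊔ sigmaCore M := by
      rw [Subgroup.map_sup, Subgroup.map_subgroupOf_eq_of_le hKM]
      rfl
    rw [← h1] at hb
    obtain ⟨y, hy, hyb⟩ := hb
    have : y = m := Subtype.ext (by rw [hab]; exact hyb)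
    rw [← this]; exact hy
  have h2 := commutator_le_of_cyclic_sup (K.subgroupOf M) (piCore (sigma M) ↥M) hcyc htop
  rw [← Subgroup.map_subtype_commutator]
  exact Subgroup.map_mono h2

theorem card_mul_relIndex_eq' {A B : Subgroup G} (h : A ≤ B) :
    Nat.card A * A.relIndex B = Nat.card B := by
  have h1 := Subgroup.card_mul_index (A.subgroupOf B)
  rw [Nat.card_congr (Subgroup.subgroupOfEquivOfLe h).toEquiv] at h1
  exact h1

/-- the normalizer of a Sylow `q`-subgroup of `M` lies in `M` when `q ∈ σ(M)`. -/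
theorem normalizer_le_of_mem_sigma' {q : ℕ} [hq : Fact q.Prime] {S M : Subgroup G}
    (hS : IsSylIn q S M) (hσ : q ∈ Cfsg.sigma M) : normalizer (S : Set G) ≤ M := by
  obtain ⟨-, -, P, hP⟩ := hσ
  obtain ⟨x, hx, hxe⟩ := hS.exists_conj_eq (isSylIn_of_sylow M P)
  rw [← hxe, normalizer_conj_smul]
  calc MulAut.conj x • normalizer ((((P : Subgroup M).map M.subtype : Subgroup G)) : Set G)
      ≤ MulAut.conj x • M := conj_smul_le_conj_smul hP
    _ = M := Cfsg.Agent.Helper33.conj_smul_eq_self_of_mem hx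

/-- the normalizer of a nilpotent subgroup normalizes each of its Sylow subgroups -/
theorem normalizer_le_normalizer_of_isSylIn {q : ℕ} [hq : Fact q.Prime] {Q V : Subgroup G}
    (hV : Group.IsNilpotent V) (hQ : IsSylIn q Q V) :
    normalizer (V : Set G) ≤ normalizer (Q : Set G) := by
  have hn : ((hQ.toSylow : Sylow q V) : Subgroup V).Normal := inferInstance
  rw [hQ.coe_toSylow, Subgroup.normal_subgroupOf_iff_le_normalizer hQ.le] at hn
  intro g hg
  rw [mem_normalizer_iff_smul_eq]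
  have h1 := hQ.conj g
  rw [smul_eq_of_mem_normalizer hg] at h1
  obtain ⟨x, hx, hxe⟩ := hQ.exists_conj_eq h1
  have h2 : MulAut.conj x⁻¹ • Q = Q := smul_eq_of_mem_normalizer (hn (V.inv_mem hx))
  calc MulAut.conj g • Q = MulAut.conj x⁻¹ • (MulAut.conj x • (MulAut.conj g • Q)) := by
        rw [conj_inv_smul_smul]
    _ = MulAut.conj x⁻¹ • Q := by rw [hxe]
    _ = Q := h2

/-- **(B2)** if the complement `U` of the standard factorisation is trivial, then for ANY type-P data
`(W₁, U', W₂)` of `M` with `U' ≠ 1` one has `N_G(U') ≤ M`. -/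
theorem normalizer_le_of_U_eq_bot {M K U W₁ U' W₂ : Subgroup G}
    (hKU : IsSigmaDecomposition M K U) (hU : U = ⊥)
    (hP : IsTypePWith M W₁ U' W₂) (hU'1 : U' ≠ ⊥)
    (hσ : IsPiHallOf (sigma M) (sigmaCore M) M) (hσD : sigmaCore M ≤ ⁅M, M⁆) :
    normalizer (U' : Set G) ≤ M := by
  have hD : ⁅M, M⁆ ≤ sigmaCore M := commutator_le_sigmaCore_of_U_eq_bot hKU hU
  have hU'D : U' ≤ ⁅M, M⁆ := hP.U_compl.2.1
  have hDM : ⁅M, M⁆ ≤ M := hP.W₁_compl.1
  have hU'M : U' ≤ M := hU'D.trans hDM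
  have hU'σ : U' ≤ sigmaCore M := hU'D.trans hD
  -- a prime divisor `q` of `#U'`
  have hc1 : Nat.card U' ≠ 1 := fun h => hU'1 (Subgroup.card_eq_one.mp h)
  obtain ⟨q, hq, hqU⟩ := Nat.exists_prime_and_dvd hc1
  haveI : Fact q.Prime := ⟨hq⟩
  have hqσ : q ∈ sigma M := hσ.2.1 q hq (hqU.trans (Subgroup.card_dvd_of_le hU'σ))
  obtain ⟨Q, hQ⟩ := exists_isSylIn (p := q) U'
  have hN1 : normalizer (U' : Set G) ≤ normalizer (Q : Set G) :=
    normalizer_le_normalizer_of_isSylIn hP.U_nilpotent hQ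
  -- cardinalities
  have hcM : Nat.card M = Nat.card ↥⁅M, M⁆ * Nat.card W₁ :=
    Cfsg.Agent.Helper23.card_of_isComplIn hP.W₁_compl
  have hcD : Nat.card ↥⁅M, M⁆ = Nat.card ↥(fittingHallOf M) * Nat.card U' :=
    Cfsg.Agent.Helper23.card_of_isComplIn hP.U_compl
  have hposU : 0 < Nat.card U' := Nat.card_pos
  have hposW : 0 < Nat.card W₁ := Nat.card_pos
  have hposF : 0 < Nat.card ↥(fittingHallOf M) := Nat.card_pos
  -- `q ∤ #M_F`
  have hqF : ¬ q ∣ Nat.card ↥(fittingHallOf M) := by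
    intro hdvd
    have hcop := Cfsg.Agent.Helper23.fittingHall_coprime ↥M
    rw [← Cfsg.Agent.Helper23.card_fittingHallOf] at hcop
    have hidx : (fittingHall ↥M).index = Nat.card U' * Nat.card W₁ := by
      have h1 := Subgroup.card_mul_index (fittingHall ↥M)
      rw [← Cfsg.Agent.Helper23.card_fittingHallOf, hcM, hcD, mul_assoc] at h1
      exact Nat.eq_of_mul_eq_mul_left hposF h1
    have h2 : q ∣ (fittingHall ↥M).index := by rw [hidx]; exact Dvd.dvd.mul_right hqU _
    exact Nat.Prime.not_coprime_iff_dvd.mpr ⟨q, hq, hdvd, h2⟩ hcop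
  -- `q ∤ #W₁`
  have hW₁M : W₁ ≤ M := hP.W₁_compl.2.1
  have hqW : ¬ q ∣ Nat.card W₁ := by
    intro hdvd
    have hcop := hP.W₁_hall
    have hidx : W₁.relIndex M = Nat.card ↥(fittingHallOf M) * Nat.card U' := by
      have h1 := card_mul_relIndex_eq' hW₁M
      rw [hcM, hcD, mul_comm] at h1
      exact Nat.eq_of_mul_eq_mul_right hposW h1
    have h2 : q ∣ W₁.relIndex M := by rw [hidx]; exact Dvd.dvd.mul_left hqU _
    exact Nat.Prime.not_coprime_iff_dvd.mpr ⟨q, hq, hdvd, h2⟩ hcop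
  -- `Q` is a Sylow `q`-subgroup of `M`
  have hQM : IsSylIn q Q M := by
    refine ⟨hQ.le.trans hU'M, hQ.isPGroup, ?_⟩
    rw [← Subgroup.relIndex_mul_relIndex Q U' M hQ.le hU'M]
    have hidx : U'.relIndex M = Nat.card ↥(fittingHallOf M) * Nat.card W₁ := by
      have h1 := card_mul_relIndex_eq' hU'M
      rw [hcM, hcD] at h1
      have h2 : Nat.card U' * U'.relIndex M
          = Nat.card U' * (Nat.card ↥(fittingHallOf M) * Nat.card W₁) := by
        rw [h1]; ring
      exact Nat.eq_of_mul_eq_mul_left hposU h2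
    rw [hidx]
    intro h
    rcases (Nat.Prime.dvd_mul hq).mp h with h | h
    · exact hQ.not_dvd h
    · rcases (Nat.Prime.dvd_mul hq).mp h with h | h
      · exact hqF h
      · exact hqW h
  exact hN1.trans (normalizer_le_of_mem_sigma' hQM hqσ)

end Cfsg.Agent.Helper12.BGTypeII
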