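import Mathlib
import Cfsg.Agent.Lib.Helper98.BrownDefs
import Cfsg.Agent.S3742

set_option autoImplicit false

/-!
# BROWN (E3): existence when `O₂(G/K) ≅ Q8` is self-centralising (piece of S4291, helper98 server)
-/

namespace Cfsg.Agent.Helper12.Brown

open Cfsg.Agent.Helper98.Brown

variable {G : Type*} [Group G]

theorem helper12_card_center_Q8 : Nat.card (Subgroup.center (QuaternionGroup 2)) = 2 := by
  rw [Nat.card_eq_fintype_card]
  decide

theorem helper12_sq_central_Q8 : ∀ x y : QuaternionGroup 2, x * x * y = y * (x * x) := by decide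

theorem helper12_ker_conjNormal {Γ : Type*} [Group Γ] (T : Subgroup Γ) [T.Normal] :
    (MulAut.conjNormal : Γ →* MulAut T).ker = Subgroup.centralizer (T : Set Γ) := by
  ext g
  rw [MonoidHom.mem_ker, Subgroup.mem_centralizer_iff]
  constructor
  · intro hg t ht
    have h1 := congrArg (fun a : MulAut T => ((a ⟨t, ht⟩ : T) : Γ)) hg
    simp only [MulAut.conjNormal_apply, MulAut.one_apply] at h1
    -- h1 : g * t * g⁻¹ = t
    calc t * g = (g * t * g⁻¹) * g := by rw [h1]
      _ = g * t := by group
  · intro hg
    apply MulEquiv.ext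
    intro t
    apply Subtype.ext
    rw [MulAut.conjNormal_apply, MulAut.one_apply]
    have := hg t t.2
    calc g * t * g⁻¹ = (t * g) * g⁻¹ := by rw [this]
      _ = t := by group

theorem helper12_isCyclic_of_card_le_two {A : Type*} [Group A] [Finite A] (h : Nat.card A ≤ 2) :
    IsCyclic A := by
  have hpos : 0 < Nat.card A := Nat.card_pos
  rcases Nat.lt_or_ge (Nat.card A) 2 with h1 | h2
  · have : Nat.card A = 1 := by omega
    have hs : Subsingleton A := (Nat.card_eq_one_iff_unique.mp this).1
    exact isCyclic_of_subsingleton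
  · have h2' : Nat.card A = 2 := by omega
    have : Fact (Nat.Prime 2) := ⟨Nat.prime_two⟩
    exact isCyclic_of_prime_card h2'

/-- (E3) existence when `O₂(G/K) = T ≅ Q8` is self-centralising. -/
theorem good_of_quaternion_core [Finite G] (h : FpfLike G) (K : Subgroup G) [K.Normal]
    (hK : (Nat.card K).Coprime 2) (T : Subgroup (G ⧸ K)) [T.Normal]
    (e₂ : T ≃* QuaternionGroup 2)
    (hC : Subgroup.centralizer (T : Set (G ⧸ K)) ≤ T)
    (hmax : ∀ R : Subgroup (G ⧸ K), R.Normal → IsPGroup 2 R → R ≤ T) :
    ∃ N : Subgroup G, Good N := by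
  classical
  obtain ⟨ι₀⟩ := Cfsg.Agent.S3742.result
  set ψ : G ⧸ K →* MulAut T := MulAut.conjNormal with hψ
  set ι : MulAut T ≃* Equiv.Perm (Fin 4) := (MulAut.congr e₂).trans ι₀ with hι
  set π : G →* G ⧸ K := QuotientGroup.mk' K with hπ
  have hπsurj : Function.Surjective π := QuotientGroup.mk'_surjective K
  set f₀ : G ⧸ K →* Equiv.Perm (Fin 4) := ι.toMonoidHom.comp ψ with hf₀
  set f : G →* Equiv.Perm (Fin 4) := f₀.comp π with hf
  set C : Subgroup (G ⧸ K) := Subgroup.centralizer (T : Set (G ⧸ K)) with hCdef
  have hkerψ : ψ.ker = C := helper12_ker_conjNormal T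
  have hkerf₀ : f₀.ker = C := by
    rw [← hkerψ]
    ext g
    rw [MonoidHom.mem_ker, MonoidHom.mem_ker, hf₀, MonoidHom.comp_apply]
    exact EmbeddingLike.map_eq_one_iff (f := ι)
  -- `C ⊓ T` is the centre of `T`
  have hCT : C.subgroupOf T = Subgroup.center T := by
    ext t
    rw [Subgroup.mem_subgroupOf, Subgroup.mem_center_iff, hCdef, Subgroup.mem_centralizer_iff]
    constructor
    · intro ht s
      exact Subtype.ext (ht s s.2)
    · intro ht s hs
      exact congrArg Subtype.val (ht ⟨s, hs⟩)
  have hcardZ : Nat.card (Subgroup.center T) = 2 := by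
    rw [Nat.card_congr (Subgroup.centerCongr e₂).toEquiv]
    exact helper12_card_center_Q8
  have hcardC : Nat.card C = 2 := by
    rw [← Nat.card_congr (Subgroup.subgroupOfEquivOfLe hC).toEquiv, hCT]
    exact hcardZ
  have hcardT : Nat.card T = 8 := by
    rw [Nat.card_congr e₂.toEquiv, Nat.card_eq_fintype_card, QuaternionGroup.card]
  have hsqT : ∀ t s : T, t * t * s = s * (t * t) := by
    intro t s
    apply e₂.injective
    rw [map_mul, map_mul, map_mul, map_mul]
    exact helper12_sq_central_Q8 _ _
  -- the subgroup
  set N : Subgroup G := f.ker with hN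
  have hNcomap : N = C.comap π := by
    rw [hN, hf, ← MonoidHom.comap_ker, hkerf₀]
  have hcardG : Nat.card G = Nat.card (G ⧸ K) * Nat.card K :=
    Subgroup.card_eq_card_quotient_mul_card_subgroup K
  have hcardN : Nat.card N = 2 * Nat.card K := by
    have h1 : N.index = C.index := by
      rw [hNcomap]
      exact Subgroup.index_comap_of_surjective C hπsurj
    have h2 := Subgroup.card_mul_index N
    have h3 := Subgroup.card_mul_index C
    rw [h1, hcardG, ← h3, hcardC] at h2
    have hpos : 0 < C.index := Nat.pos_of_ne_zero Subgroup.index_ne_zero_of_finite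
    have h4 : Nat.card N * C.index = (2 * Nat.card K) * C.index := by
      rw [h2]; ring
    exact Nat.eq_of_mul_eq_mul_right hpos h4
  -- the range
  have hrange : f.range = f₀.range := by
    rw [hf, MonoidHom.range_comp, MonoidHom.range_eq_top.mpr hπsurj, ← MonoidHom.range_eq_map]
  have hRcard : Nat.card f.range * 2 = Nat.card (G ⧸ K) := by
    rw [hrange, ← Subgroup.index_ker, hkerf₀, ← hcardC, mul_comm]
    exact Subgroup.card_mul_index C
  have hperm : Nat.card (Equiv.Perm (Fin 4)) = 24 := by
    rw [Nat.card_eq_fintype_card, Fintype.card_perm, Fintype.card_fin]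
    rfl
  have hR24 : Nat.card f.range ∣ 24 := by
    rw [← hperm]
    exact Subgroup.card_subgroup_dvd_card f.range
  have hTmap : Nat.card (T.map f₀) = 4 := by
    have h1 : (f₀.comp T.subtype).range = T.map f₀ := by
      rw [MonoidHom.range_comp, Subgroup.range_subtype]
    have h2 : (f₀.comp T.subtype).ker = Subgroup.center T := by
      rw [← MonoidHom.comap_ker, hkerf₀, ← hCT]
      rfl
    have h3 := Subgroup.index_ker (f₀.comp T.subtype)
    rw [h1, h2] at h3
    have h4 := Subgroup.card_mul_index (Subgroup.center T)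
    rw [hcardZ, hcardT, h3] at h4
    omega
  have hTle : T.map f₀ ≤ f.range := by
    rw [hrange, MonoidHom.range_eq_map]
    exact Subgroup.map_mono le_top
  have h4R : 4 ∣ Nat.card f.range := by
    have := Subgroup.card_dvd_of_le hTle
    rwa [hTmap] at this
  -- `N` is good
  refine ⟨N, MonoidHom.normal_ker f, ?_, ?_⟩
  · -- Sylow subgroups are cyclic
    intro p hp P
    set A : Subgroup G := (P : Subgroup N).map N.subtype with hA
    have hAp : IsPGroup p A := P.isPGroup'.map _
    have eA : (P : Subgroup N) ≃* A :=
      Subgroup.equivMapOfInjective _ N.subtype N.subtype_injective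
    have hAcyc : IsCyclic A := by
      by_cases hp2 : p = 2
      · subst hp2
        apply helper12_isCyclic_of_card_le_two
        obtain ⟨m, hm⟩ := hAp.exists_card_eq
        have hAN : A ≤ N := Subgroup.map_subtype_le _
        have hdvd : Nat.card A ∣ 2 * Nat.card K := by
          rw [← hcardN]
          exact Subgroup.card_dvd_of_le hAN
        rw [hm] at hdvd ⊢
        have hcop : Nat.Coprime (2 ^ m) (Nat.card K) := Nat.Coprime.pow_left m hK.symm
        have h2 : 2 ^ m ∣ 2 := hcop.dvd_of_dvd_mul_right hdvd
        exact Nat.le_of_dvd (by norm_num) h2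
      · exact h.odd p hp2 A hAp
    exact (MulEquiv.isCyclic eA).mpr hAcyc
  · -- the quotient
    obtain ⟨c, hc⟩ := h4R
    obtain ⟨d, hd⟩ := hR24
    have hcases : Nat.card f.range = 4 ∨ Nat.card f.range = 8 ∨ Nat.card f.range = 12 ∨
        Nat.card f.range = 24 := by
      have hc6 : c ∣ 6 := by
        refine ⟨d, ?_⟩
        rw [hc] at hd
        have : 4 * 6 = 4 * (c * d) := by rw [← mul_assoc]; exact hd
        exact Nat.eq_of_mul_eq_mul_left (by norm_num) this
      have hcle : c ≤ 6 := Nat.le_of_dvd (by norm_num) hc6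
      have hcpos : 0 < c := Nat.pos_of_dvd_of_pos hc6 (by norm_num)
      rw [hc]
      interval_cases c <;> omega
    rcases hcases with h4 | h8 | h12 | h24
    · -- Klein four quotient
      right; left
      have hTeq : T.map f₀ = f.range :=
        Subgroup.eq_of_le_of_card_ge hTle (by rw [hTmap, h4])
      have hsq : ∀ σ : f.range, σ * σ = 1 := by
        rintro ⟨σ, hσ⟩
        rw [← hTeq] at hσ
        obtain ⟨t, ht, rfl⟩ := hσ
        apply Subtype.ext
        show f₀ t * f₀ t = 1
        rw [← map_mul, ← MonoidHom.mem_ker, hkerf₀, hCdef, Subgroup.mem_centralizer_iff]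
        intro s hs
        have := hsqT ⟨t, ht⟩ ⟨s, hs⟩
        exact (congrArg Subtype.val this).symm
      have : IsKleinFour f.range := by
        refine ⟨h4, ?_⟩
        have h1 : Monoid.exponent f.range ∣ 2 := by
          apply Monoid.exponent_dvd_of_forall_pow_eq_one
          intro σ
          rw [pow_two]
          exact hsq σ
        rcases (Nat.dvd_prime Nat.prime_two).mp h1 with h1 | h2
        · exfalso
          have hs : Subsingleton f.range := Monoid.exp_eq_one_iff.mp h1
          have : Nat.card f.range = 1 := Nat.card_eq_one_iff_unique.mpr ⟨hs, ⟨1⟩⟩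
          omega
        · exact h2
      obtain ⟨ε⟩ : Nonempty (f.range ≃* DihedralGroup 2) := IsKleinFour.nonempty_mulEquiv
      refine ⟨ε.toMonoidHom.comp f.rangeRestrict, ?_, ?_⟩
      · exact ε.surjective.comp f.rangeRestrict_surjective
      · ext g
        rw [MonoidHom.mem_ker, MonoidHom.comp_apply]
        show ε (f.rangeRestrict g) = 1 ↔ g ∈ N
        rw [EmbeddingLike.map_eq_one_iff, ← MonoidHom.mem_ker, MonoidHom.ker_rangeRestrict]
    · -- impossible
      exfalso
      have hcardGK : Nat.card (G ⧸ K) = 2 ^ 4 := by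
        rw [← hRcard, h8]
        norm_num
      have htop : IsPGroup 2 (⊤ : Subgroup (G ⧸ K)) := by
        apply IsPGroup.of_card (n := 4)
        rw [Subgroup.card_top]
        exact hcardGK
      have hle := hmax ⊤ inferInstance htop
      have := Subgroup.card_le_of_le hle
      rw [Subgroup.card_top, hcardGK, hcardT] at this
      omega
    · -- alternating quotient
      right; right; left
      have hidx : f.range.index = 2 := by
        have := Subgroup.card_mul_index f.range
        rw [h12, hperm] at this
        omega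
      have hRA : f.range = alternatingGroup (Fin 4) :=
        Equiv.Perm.eq_alternatingGroup_of_index_eq_two hidx
      have hmem : ∀ g : G, f g ∈ alternatingGroup (Fin 4) := by
        intro g
        rw [← hRA]
        exact ⟨g, rfl⟩
      refine ⟨f.codRestrict (alternatingGroup (Fin 4)) hmem, ?_, ?_⟩
      · rintro ⟨σ, hσ⟩
        rw [← hRA] at hσ
        obtain ⟨g, rfl⟩ := hσ
        exact ⟨g, Subtype.ext rfl⟩
      · exact MonoidHom.ker_codRestrict f _ hmem
    · -- symmetric quotient
      right; right; right; left
      refine ⟨f, ?_, rfl⟩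
      rw [← MonoidHom.range_eq_top]
      apply Subgroup.eq_top_of_card_eq
      rw [h24, hperm]

end Cfsg.Agent.Helper12.Brown
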