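import Mathlib

set_option autoImplicit false
set_option linter.unusedSectionVars false

/-! Translation-invariant subspaces of functions on `ZMod p` in characteristic `p`. -/

namespace Cfsg.Agent.Helper12.ShiftInv

open Polynomial Module

variable {p : ℕ} [hp : Fact p.Prime] {K : Type*} [Field K] [CharP K p]

/-- the shift operator `f ↦ f (· - 1)` -/
def shift (p : ℕ) (K : Type*) [Field K] : (ZMod p → K) →ₗ[K] (ZMod p → K) :=
  LinearMap.funLeft K K (fun j : ZMod p => j - 1)

@[simp] theorem shift_apply (f : ZMod p → K) (j : ZMod p) : shift p K f j = f (j - 1) := rfl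

/-- the difference operator -/
def diff (p : ℕ) (K : Type*) [Field K] : Module.End K (ZMod p → K) := shift p K - 1

theorem diff_apply (f : ZMod p → K) (j : ZMod p) : diff p K f j = f (j - 1) - f j := rfl

/-- evaluation of polynomials on `ZMod p` -/
def evalMap (p : ℕ) (K : Type*) [Field K] : K[X] →ₗ[K] (ZMod p → K) where
  toFun P := fun j => P.eval (ZMod.cast j : K)
  map_add' P Q := by ext j; simp
  map_smul' c P := by ext j; simp

@[simp] theorem evalMap_apply (P : K[X]) (j : ZMod p) :
    evalMap p K P j = P.eval (ZMod.cast j : K) := rfl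

theorem cast_injective : Function.Injective (fun j : ZMod p => (ZMod.cast j : K)) :=
  ZMod.castHom_injective K

theorem evalMap_injOn {P : K[X]} (hP : P.degree < p) (h0 : evalMap p K P = 0) : P = 0 := by
  by_cases hP0 : P = 0
  · exact hP0
  apply eq_zero_of_natDegree_lt_card_of_eval_eq_zero P (cast_injective (p := p) (K := K))
  · intro j
    exact congrFun h0 j
  · rw [ZMod.card]
    exact (natDegree_lt_iff_degree_lt hP0).mpr hP

/-- polynomial functions of degree `< r` -/
noncomputable def polyLT (p : ℕ) (K : Type*) [Field K] (r : ℕ) : Submodule K (ZMod p → K) :=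
  (degreeLT K r).map (evalMap p K)

theorem mem_polyLT {r : ℕ} {f : ZMod p → K} :
    f ∈ polyLT p K r ↔ ∃ P : K[X], P.degree < r ∧ ∀ j : ZMod p, f j = P.eval (ZMod.cast j : K) := by
  unfold polyLT
  rw [Submodule.mem_map]
  constructor
  · rintro ⟨P, hP, rfl⟩
    exact ⟨P, mem_degreeLT.mp hP, fun j => rfl⟩
  · rintro ⟨P, hP, hf⟩
    exact ⟨P, mem_degreeLT.mpr hP, funext fun j => (hf j).symm⟩

theorem finrank_polyLT {r : ℕ} (hr : r ≤ p) : finrank K (polyLT p K r) = r := by
  let ψ : degreeLT K r →ₗ[K] (ZMod p → K) := (evalMap p K).comp (degreeLT K r).subtype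
  have hψ : Function.Injective ψ := by
    rw [← LinearMap.ker_eq_bot, LinearMap.ker_eq_bot']
    intro P hP
    apply Subtype.ext
    apply evalMap_injOn (p := p) (lt_of_lt_of_le (mem_degreeLT.mp P.2) (by exact_mod_cast hr))
    exact hP
  have hrange : LinearMap.range ψ = polyLT p K r := by
    unfold polyLT
    rw [LinearMap.range_comp, Submodule.range_subtype]
  rw [← hrange, LinearMap.finrank_range_of_inj hψ, (degreeLTEquiv K r).finrank_eq,
    Module.finrank_fin_fun]

theorem polyLT_mono {r s : ℕ} (h : r ≤ s) : polyLT p K r ≤ polyLT p K s :=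
  Submodule.map_mono (degreeLT_mono h)

theorem polyLT_top : polyLT p K p = ⊤ := by
  apply Submodule.eq_top_of_finrank_eq
  rw [finrank_polyLT le_rfl, Module.finrank_fintype_fun_eq_card, ZMod.card]

/-- the difference operator lowers the degree -/
theorem diff_polyLT (r : ℕ) : ∀ f ∈ polyLT p K (r + 1), diff p K f ∈ polyLT p K r := by
  intro f hf
  rw [mem_polyLT] at hf ⊢
  obtain ⟨P, hP, hf⟩ := hf
  refine ⟨taylor (-1) P - P, ?_, ?_⟩
  · by_cases hP0 : P = 0
    · rw [hP0]
      simp only [map_zero, sub_zero, degree_zero]
      exact WithBot.bot_lt_coe r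
    · have h1 : (taylor (-1) P - P).degree < (taylor (-1) P).degree := by
        apply degree_sub_lt_left (degree_taylor P (-1))
        · intro h
          apply hP0
          have h2 := congrArg leadingCoeff h
          rw [leadingCoeff_taylor, leadingCoeff_zero] at h2
          exact leadingCoeff_eq_zero.mp h2
        · rw [leadingCoeff_taylor]
      rw [degree_taylor] at h1
      have hnat : P.natDegree < r + 1 := (natDegree_lt_iff_degree_lt hP0).mpr hP
      have h2 : P.degree ≤ (r : WithBot ℕ) := by
        rw [degree_eq_natDegree hP0]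
        exact_mod_cast Nat.lt_succ_iff.mp hnat
      exact lt_of_lt_of_le h1 h2
  · intro j
    rw [diff_apply, hf, hf, eval_sub, taylor_eval, ZMod.cast_sub', ZMod.cast_one']
    ring_nf

theorem polyLT_le_ker (r : ℕ) : polyLT p K r ≤ LinearMap.ker ((diff p K) ^ r) := by
  induction r with
  | zero =>
    intro f hf
    rw [mem_polyLT] at hf
    obtain ⟨P, hP, hf⟩ := hf
    have : P = 0 := by
      rw [← degree_eq_bot]
      by_contra h
      obtain ⟨n, hn⟩ := WithBot.ne_bot_iff_exists.mp h
      rw [← hn] at hP
      have : (n : WithBot ℕ) < ((0 : ℕ) : WithBot ℕ) := hP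
      exact absurd (WithBot.coe_lt_coe.mp this) (Nat.not_lt_zero n)
    have hf0 : f = 0 := by
      funext j
      rw [hf, this]
      simp
    rw [hf0]
    exact Submodule.zero_mem _
  | succ r ih =>
    intro f hf
    rw [LinearMap.mem_ker, pow_succ, Module.End.mul_apply]
    exact ih (diff_polyLT r f hf)

section general
variable {V : Type*} [AddCommGroup V] [Module K V] [FiniteDimensional K V]

theorem finrank_ker_pow_le (D : Module.End K V) (h : finrank K (LinearMap.ker D) ≤ 1) (r : ℕ) :
    finrank K (LinearMap.ker (D ^ r)) ≤ r := by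
  induction r with
  | zero =>
    rw [pow_zero]
    have : LinearMap.ker (1 : Module.End K V) = ⊥ := by
      rw [LinearMap.ker_eq_bot]
      exact fun x y hxy => hxy
    rw [this, finrank_bot]
  | succ r ih =>
    have hmaps : ∀ x ∈ LinearMap.ker (D ^ (r + 1)), D x ∈ LinearMap.ker (D ^ r) := by
      intro x hx
      rw [LinearMap.mem_ker] at hx ⊢
      rw [pow_succ, Module.End.mul_apply] at hx
      exact hx
    let φ : LinearMap.ker (D ^ (r + 1)) →ₗ[K] LinearMap.ker (D ^ r) := D.restrict hmaps
    have h1 := LinearMap.finrank_range_add_finrank_ker φ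
    have h2 : finrank K (LinearMap.range φ) ≤ finrank K (LinearMap.ker (D ^ r)) :=
      Submodule.finrank_le _
    let ι : LinearMap.ker φ →ₗ[K] LinearMap.ker D :=
      LinearMap.codRestrict (LinearMap.ker D)
        ((LinearMap.ker (D ^ (r + 1))).subtype ∘ₗ (LinearMap.ker φ).subtype) (by
          intro x
          rw [LinearMap.mem_ker]
          have := x.2
          rw [LinearMap.mem_ker] at this
          exact congrArg Subtype.val this)
    have hι : Function.Injective ι := by
      intro x y hxy
      apply Subtype.ext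
      apply Subtype.ext
      have := congrArg Subtype.val hxy
      exact this
    have h3 : finrank K (LinearMap.ker φ) ≤ finrank K (LinearMap.ker D) :=
      LinearMap.finrank_le_finrank_of_injective hι
    omega

end general

theorem ker_diff_le : LinearMap.ker (diff p K) ≤ Submodule.span K {fun _ : ZMod p => (1 : K)} := by
  intro f hf
  rw [LinearMap.mem_ker] at hf
  have hstep : ∀ j : ZMod p, f (j - 1) = f j := by
    intro j
    have := congrFun hf j
    rw [diff_apply] at this
    exact sub_eq_zero.mp this
  have hnat : ∀ n : ℕ, f (n : ZMod p) = f 0 := by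
    intro n
    induction n with
    | zero => simp
    | succ n ih =>
      have := hstep ((n : ZMod p) + 1)
      rw [add_sub_cancel_right] at this
      rw [Nat.cast_succ, ← this, ih]
  have hconst : ∀ j : ZMod p, f j = f 0 := by
    intro j
    have := hnat j.val
    rwa [ZMod.natCast_zmod_val] at this
  rw [Submodule.mem_span_singleton]
  refine ⟨f 0, ?_⟩
  funext j
  rw [hconst j]
  simp

theorem finrank_ker_diff_le : finrank K (LinearMap.ker (diff p K)) ≤ 1 := by
  calc finrank K (LinearMap.ker (diff p K))
      ≤ finrank K (Submodule.span K {fun _ : ZMod p => (1 : K)}) :=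
        Submodule.finrank_mono ker_diff_le
    _ ≤ 1 := by
        have := finrank_span_le_card (R := K) ({fun _ : ZMod p => (1 : K)} : Set (ZMod p → K))
        simpa using this

theorem ker_diff_pow (r : ℕ) (hr : r ≤ p) :
    LinearMap.ker ((diff p K) ^ r) = polyLT p K r := by
  symm
  apply Submodule.eq_of_le_of_finrank_le (polyLT_le_ker r)
  rw [finrank_polyLT hr]
  have := finrank_ker_pow_le (K := K) (V := ZMod p → K) (diff p K) finrank_ker_diff_le r
  exact this

theorem diff_pow_p : (diff p K) ^ p = 0 := by
  have h := ker_diff_pow (p := p) (K := K) p le_rfl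
  rw [polyLT_top] at h
  exact LinearMap.ker_eq_top.mp h

/-- classification of shift-invariant subspaces -/
theorem invariant_eq_polyLT (W : Submodule K (ZMod p → K))
    (hW : ∀ f ∈ W, (fun j => f (j - 1)) ∈ W) :
    finrank K W ≤ p ∧ W = polyLT p K (finrank K W) := by
  have hV : finrank K (ZMod p → K) = p := by
    rw [Module.finrank_fintype_fun_eq_card, ZMod.card]
  have hle : finrank K W ≤ p := (Submodule.finrank_le W).trans_eq hV
  refine ⟨hle, ?_⟩
  have hD : ∀ f ∈ W, diff p K f ∈ W := by
    intro f hf
    have : diff p K f = (fun j => f (j - 1)) - f := rfl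
    rw [this]
    exact W.sub_mem (hW f hf) hf
  let N : Module.End K W := (diff p K).restrict hD
  have hNpow : ∀ (n : ℕ) (x : W), ((N ^ n) x : ZMod p → K) = ((diff p K) ^ n) x := by
    intro n
    induction n with
    | zero => intro x; rfl
    | succ n ih =>
      intro x
      rw [pow_succ, pow_succ, Module.End.mul_apply, Module.End.mul_apply, ih]
      rfl
  have hNp : N ^ p = 0 := by
    ext x
    rw [hNpow, diff_pow_p]
    rfl
  have hNr : N ^ (finrank K W) = 0 := by
    have := Module.End.ker_pow_le_ker_pow_finrank N p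
    rw [hNp, LinearMap.ker_zero, top_le_iff] at this
    exact LinearMap.ker_eq_top.mp this
  have hsub : W ≤ polyLT p K (finrank K W) := by
    rw [← ker_diff_pow _ hle]
    intro f hf
    rw [LinearMap.mem_ker, ← hNpow _ ⟨f, hf⟩, hNr]
    rfl
  apply Submodule.eq_of_le_of_finrank_le hsub
  rw [finrank_polyLT hle]

end Cfsg.Agent.Helper12.ShiftInv
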