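import Mathlib
import Cfsg.Agent.Lib.Helper12.ShiftInv

set_option autoImplicit false
set_option linter.unusedSectionVars false

namespace Cfsg.Agent.Helper12.BurnsidePrime

open Polynomial Module
open Cfsg.Agent.Helper12.ShiftInv

variable {p : ℕ} [hp : Fact p.Prime] {K : Type*} [Field K] [CharP K p]

/-- invariance of a space of functions under precomposition with the elements of `G` -/
def InvSub {Ω : Type*} (G : Subgroup (Equiv.Perm Ω)) (W : Submodule K (Ω → K)) : Prop :=
  ∀ g ∈ G, ∀ f ∈ W, (fun x => f (g x)) ∈ W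

theorem invSub_eq_polyLT (G : Subgroup (Equiv.Perm (ZMod p)))
    (hτ : Equiv.addRight (1 : ZMod p) ∈ G) (W : Submodule K (ZMod p → K)) (hW : InvSub G W) :
    finrank K W ≤ p ∧ W = polyLT p K (finrank K W) := by
  apply invariant_eq_polyLT
  intro f hf
  have := hW _ (G.inv_mem hτ) f hf
  simpa [Equiv.Perm.inv_def, sub_eq_add_neg] using this

/-- the dot product form -/
noncomputable def dot (p : ℕ) [NeZero p] (K : Type*) [Field K] :
    LinearMap.BilinForm K (ZMod p → K) :=
  dotProductBilin K K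

theorem dot_apply [NeZero p] (f h : ZMod p → K) : dot p K f h = ∑ j, f j * h j := rfl

theorem dot_nondegenerate [NeZero p] : (dot p K).Nondegenerate := by
  constructor
  · intro f hf
    exact dotProduct_eq_zero f hf
  · intro f hf
    apply dotProduct_eq_zero f
    intro w
    rw [dotProduct_comm]
    exact hf w

theorem invSub_orthogonal [NeZero p] (G : Subgroup (Equiv.Perm (ZMod p)))
    (W : Submodule K (ZMod p → K)) (hW : InvSub G W) :
    InvSub G ((dot p K).orthogonal W) := by
  intro g hg h hh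
  rw [LinearMap.BilinForm.mem_orthogonal_iff] at hh ⊢
  intro f hf
  have h1 := hh _ (hW g⁻¹ (G.inv_mem hg) f hf)
  rw [dot_apply] at h1 ⊢
  rw [← h1]
  apply Fintype.sum_equiv g
  intro j
  simp

theorem invSub_compl (G : Subgroup (Equiv.Perm (ZMod p)))
    (hτ : Equiv.addRight (1 : ZMod p) ∈ G) {r : ℕ} (hr : r ≤ p)
    (h : InvSub G (polyLT p K r)) : InvSub G (polyLT p K (p - r)) := by
  have : NeZero p := ⟨hp.out.ne_zero⟩
  have h1 := invSub_orthogonal G _ h
  have h2 := invSub_eq_polyLT G hτ _ h1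
  have h3 : finrank K ((dot p K).orthogonal (polyLT p K r)) = p - r := by
    rw [LinearMap.BilinForm.finrank_orthogonal dot_nondegenerate, finrank_polyLT hr,
      Module.finrank_fintype_fun_eq_card, ZMod.card]
  rw [h3] at h2
  rw [← h2.2]
  exact h1

/-- the coordinate function -/
def xfun (p : ℕ) (K : Type*) [Field K] : ZMod p → K := fun j => (ZMod.cast j : K)

theorem xfun_mem {s : ℕ} (hs : 2 ≤ s) : xfun p K ∈ polyLT p K s := by
  rw [mem_polyLT]
  refine ⟨X, ?_, fun j => by simp [xfun]⟩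
  rw [degree_X]
  exact_mod_cast hs

theorem xfun_sq_mem {s : ℕ} (hs : 3 ≤ s) : (fun j => (xfun p K j) ^ 2) ∈ polyLT p K s := by
  rw [mem_polyLT]
  refine ⟨X ^ 2, ?_, fun j => by simp [xfun]⟩
  rw [degree_X_pow]
  exact_mod_cast hs

theorem two_mul_ge (G : Subgroup (Equiv.Perm (ZMod p))) {s : ℕ} (hs3 : 3 ≤ s) (hsp : s ≤ p)
    (hinv : InvSub G (polyLT p K s)) {g : Equiv.Perm (ZMod p)} (hg : g ∈ G)
    (hx : (fun j => xfun p K (g j)) ∉ polyLT p K (s - 1)) : p ≤ 2 * (s - 1) := by
  by_contra hlt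
  push Not at hlt
  obtain ⟨Q, hQ, hQe⟩ := mem_polyLT.mp (hinv g hg _ (xfun_mem (by omega)))
  obtain ⟨R, hR, hRe⟩ := mem_polyLT.mp (hinv g hg _ (xfun_sq_mem hs3))
  have hQ1 : ¬ Q.degree < ((s - 1 : ℕ) : WithBot ℕ) := by
    intro h
    exact hx (mem_polyLT.mpr ⟨Q, h, hQe⟩)
  have hQ0 : Q ≠ 0 := by
    rintro rfl
    apply hQ1
    rw [degree_zero]
    exact WithBot.bot_lt_coe _
  have hQn : Q.natDegree = s - 1 := by
    have h1 : Q.natDegree < s := (natDegree_lt_iff_degree_lt hQ0).mpr hQ
    have h2 : ¬ Q.natDegree < s - 1 := by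
      intro h
      exact hQ1 ((natDegree_lt_iff_degree_lt hQ0).mp h)
    omega
  have hQ2 : (Q ^ 2).natDegree = 2 * (s - 1) := by
    rw [natDegree_pow, hQn]
  have hQ20 : Q ^ 2 ≠ 0 := pow_ne_zero 2 hQ0
  have hdeg : (Q ^ 2 - R).degree < p := by
    refine (degree_sub_le _ _).trans_lt (max_lt ?_ ?_)
    · rw [degree_eq_natDegree hQ20, hQ2]
      exact_mod_cast hlt
    · exact hR.trans_le (by exact_mod_cast hsp)
  have hzero : Q ^ 2 - R = 0 := by
    apply evalMap_injOn (p := p) hdeg
    funext j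
    simp only [evalMap_apply, eval_sub, eval_pow, Pi.zero_apply]
    rw [← hQe j, ← hRe j, sub_self]
  have hQR : Q ^ 2 = R := sub_eq_zero.mp hzero
  rw [← hQR] at hR
  have h3 : (Q ^ 2).natDegree < s := (natDegree_lt_iff_degree_lt hQ20).mpr hR
  omega

theorem xfun_notMem_one : xfun p K ∉ polyLT p K 1 := by
  intro h
  obtain ⟨P, hP, hPe⟩ := mem_polyLT.mp h
  have hP' : P.degree ≤ 0 := by
    have h1 : P.degree < 1 := by simpa using hP
    exact Nat.WithBot.lt_one_iff_le_zero.mp h1
  rw [eq_C_of_degree_le_zero hP'] at hPe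
  have h0 := hPe 0
  have h1 := hPe 1
  simp only [eval_C, xfun] at h0 h1
  rw [ZMod.cast_zero] at h0
  rw [ZMod.cast_one'] at h1
  rw [← h0] at h1
  exact one_ne_zero h1

/-- the span of the translates of the coordinate function -/
noncomputable def xspan (G : Subgroup (Equiv.Perm (ZMod p))) (K : Type*) [Field K] :
    Submodule K (ZMod p → K) :=
  Submodule.span K (Set.range fun g : G => fun j => xfun p K (g.1 j))

theorem xspan_invSub (G : Subgroup (Equiv.Perm (ZMod p))) : InvSub G (xspan G K) := by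
  intro g hg f hf
  have hle : xspan G K ≤ (xspan G K).comap (LinearMap.funLeft K K g) := by
    unfold xspan
    rw [Submodule.span_le]
    rintro _ ⟨g', rfl⟩
    rw [SetLike.mem_coe, Submodule.mem_comap]
    apply Submodule.subset_span
    exact ⟨g' * ⟨g, hg⟩, rfl⟩
  exact hle hf

theorem xfun_mem_xspan (G : Subgroup (Equiv.Perm (ZMod p))) : xfun p K ∈ xspan G K := by
  apply Submodule.subset_span
  exact ⟨1, rfl⟩

theorem exists_notMem (G : Subgroup (Equiv.Perm (ZMod p)))
    (hτ : Equiv.addRight (1 : ZMod p) ∈ G) {s : ℕ} (hs2 : 2 ≤ s) (hsp : s ≤ p)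
    (hmin : ∀ r, 2 ≤ r → r < s → ¬ InvSub G (polyLT p K r)) :
    ∃ g ∈ G, (fun j => xfun p K (g j)) ∉ polyLT p K (s - 1) := by
  by_contra hcon
  push Not at hcon
  have hU : xspan G K ≤ polyLT p K (s - 1) := by
    unfold xspan
    rw [Submodule.span_le]
    rintro _ ⟨g, rfl⟩
    exact hcon g.1 g.2
  obtain ⟨hu1, hu2⟩ := invSub_eq_polyLT G hτ _ (xspan_invSub (K := K) G)
  have hu3 : finrank K (xspan G K) ≤ s - 1 := by
    have := Submodule.finrank_mono hU
    rwa [finrank_polyLT (by omega)] at this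
  have hu4 : 2 ≤ finrank K (xspan G K) := by
    by_contra hlt
    push Not at hlt
    have h1 : xfun p K ∈ polyLT p K (finrank K (xspan G K)) := by
      rw [← hu2]
      exact xfun_mem_xspan G
    exact xfun_notMem_one (polyLT_mono (by omega) h1)
  apply hmin (finrank K (xspan G K)) hu4 (by omega)
  rw [← hu2]
  exact xspan_invSub G

theorem invSub_two (G : Subgroup (Equiv.Perm (ZMod p)))
    (hτ : Equiv.addRight (1 : ZMod p) ∈ G) {r : ℕ} (hr2 : 2 ≤ r) (hrp : r ≤ p - 2)
    (hinv : InvSub G (polyLT p K r)) : InvSub G (polyLT p K 2) := by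
  classical
  have hex : ∃ s, 2 ≤ s ∧ InvSub G (polyLT p K s) := ⟨r, hr2, hinv⟩
  obtain ⟨hs2, hsinv⟩ := Nat.find_spec hex
  have hsr : Nat.find hex ≤ r := Nat.find_min' hex ⟨hr2, hinv⟩
  have hmin : ∀ t, 2 ≤ t → t < Nat.find hex → ¬ InvSub G (polyLT p K t) := by
    intro t ht2 hts ht
    exact Nat.find_min hex hts ⟨ht2, ht⟩
  generalize Nat.find hex = s at hs2 hsinv hsr hmin
  by_cases hs : s = 2
  · rw [← hs]
    exact hsinv
  exfalso
  have hs3 : 3 ≤ s := by omega
  obtain ⟨g, hg, hgx⟩ := exists_notMem (K := K) G hτ hs2 (by omega) hmin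
  have h1 := two_mul_ge G hs3 (by omega) hsinv hg hgx
  have h2 := invSub_compl G hτ (by omega : s ≤ p) hsinv
  have h3 : ¬ (p - s < s) := fun hlt => hmin (p - s) (by omega) hlt h2
  omega

theorem affine_of_invSub_two (G : Subgroup (Equiv.Perm (ZMod p)))
    (hinv : InvSub G (polyLT p K 2)) :
    ∀ g ∈ G, ∀ j, g j = (g 1 - g 0) * j + g 0 := by
  intro g hg j
  obtain ⟨Q, hQ, hQe⟩ := mem_polyLT.mp (hinv g hg _ (xfun_mem le_rfl))
  have hQ1 : Q.degree ≤ 1 := by
    by_cases h0 : Q = 0
    · rw [h0, degree_zero]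
      exact bot_le
    · have := (natDegree_lt_iff_degree_lt h0).mpr hQ
      rw [degree_eq_natDegree h0]
      exact_mod_cast Nat.lt_succ_iff.mp this
  rw [eq_X_add_C_of_degree_le_one hQ1] at hQe
  set a := Q.coeff 1
  set b := Q.coeff 0
  let φ := ZMod.castHom (dvd_refl p) K
  have hφ : ∀ i : ZMod p, (ZMod.cast i : K) = φ i := fun i => rfl
  simp only [xfun, eval_add, eval_mul, eval_C, eval_X, hφ] at hQe
  have e0 := hQe 0
  have e1 := hQe 1
  rw [map_zero φ, mul_zero, zero_add] at e0
  rw [map_one φ, mul_one] at e1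
  have ha : a = φ (g 1 - g 0) := by
    rw [map_sub, e1, e0]
    ring
  apply ZMod.castHom_injective K
  change φ (g j) = φ ((g 1 - g 0) * j + g 0)
  rw [hQe j, map_add, map_mul, ← ha, ← e0]

/-- the slope homomorphism of a group of affine permutations -/
def slope (G : Subgroup (Equiv.Perm (ZMod p)))
    (haff : ∀ g ∈ G, ∀ j, g j = (g 1 - g 0) * j + g 0) : G →* ZMod p where
  toFun g := g.1 1 - g.1 0
  map_one' := by simp
  map_mul' g h := by
    change g.1 (h.1 1) - g.1 (h.1 0) = _
    rw [haff g.1 g.2 (h.1 1), haff g.1 g.2 (h.1 0)]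
    ring

theorem solvable_of_affine (G : Subgroup (Equiv.Perm (ZMod p)))
    (haff : ∀ g ∈ G, ∀ j, g j = (g 1 - g 0) * j + g 0) : Group.IsSolvable G := by
  let f : G →* (ZMod p)ˣ := (slope G haff).toHomUnits
  have hker : ∀ g : G, g ∈ f.ker → ∀ j, g.1 j = j + g.1 0 := by
    intro g hg j
    rw [MonoidHom.mem_ker, Units.ext_iff] at hg
    have h1 : g.1 1 - g.1 0 = 1 := hg
    rw [haff g.1 g.2 j, h1, one_mul]
  have : Group.IsSolvable f.ker := by
    apply Group.isSolvable_of_comm
    intro a b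
    apply Subtype.ext
    apply Subtype.ext
    apply Equiv.ext
    intro j
    change a.1.1 (b.1.1 j) = b.1.1 (a.1.1 j)
    rw [hker a.1 a.2 (b.1.1 j), hker b.1 b.2 j, hker b.1 b.2 (a.1.1 j), hker a.1 a.2 j]
    ring
  exact Group.isSolvable_of_ker_le_range f.ker.subtype f (by simp)

theorem affine_two : ∀ g : Equiv.Perm (ZMod 2), ∀ j, g j = (g 1 - g 0) * j + g 0 := by
  decide

theorem affine_three : ∀ g : Equiv.Perm (ZMod 3), ∀ j, g j = (g 1 - g 0) * j + g 0 := by
  decide

theorem core_dims (G : Subgroup (Equiv.Perm (ZMod p)))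
    (hτ : Equiv.addRight (1 : ZMod p) ∈ G) (hns : ¬ Group.IsSolvable G)
    (W : Submodule K (ZMod p → K)) (hW : InvSub G W) :
    finrank K W = 0 ∨ finrank K W = 1 ∨ finrank K W = p - 1 ∨ finrank K W = p := by
  obtain ⟨h1, h2⟩ := invSub_eq_polyLT G hτ W hW
  by_contra hcon
  apply hns
  apply solvable_of_affine
  apply affine_of_invSub_two (K := K)
  apply invSub_two G hτ (r := finrank K W) (by omega) (by omega)
  rw [← h2]
  exact hW

theorem core_small (G : Subgroup (Equiv.Perm (ZMod p))) (hp3 : p ≤ 3) : Group.IsSolvable G := by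
  have h2 := hp.out.two_le
  apply solvable_of_affine
  intro g _
  obtain rfl | rfl : p = 2 ∨ p = 3 := by omega
  · exact affine_two g
  · exact affine_three g

section transport

variable {α : Type*} [Fintype α] [DecidableEq α]

theorem exists_cycle_equiv (hα : Fintype.card α = p) (G : Subgroup (Equiv.Perm α))
    [MulAction.IsPretransitive G α] :
    ∃ (e : ZMod p ≃ α) (τ : Equiv.Perm α), τ ∈ G ∧ ∀ k, τ (e k) = e (k + 1) := by
  have hne : Nonempty α := by
    rw [← Fintype.card_pos_iff, hα]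
    exact hp.out.pos
  obtain ⟨x₀⟩ := hne
  have hdvd : p ∣ Nat.card G := by
    have h1 := MulAction.index_stabilizer_of_transitive G x₀
    rw [Nat.card_eq_fintype_card, hα] at h1
    rw [← h1]
    exact Subgroup.index_dvd_card _
  obtain ⟨t, ht⟩ := exists_prime_orderOf_dvd_card' p hdvd
  have hτo : orderOf t.1 = p := by
    rw [Subgroup.orderOf_coe, ht]
  have hcyc : t.1.IsCycle :=
    Equiv.Perm.isCycle_of_prime_order'' (by rw [hα]; exact hp.out) (by rw [hα]; exact hτo)
  have hsupp : t.1.support = Finset.univ := by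
    rw [← Finset.card_eq_iff_eq_univ, ← hcyc.orderOf, hτo, hα]
  have hmoved : ∀ y : α, t.1 y ≠ y := by
    intro y
    rw [← Equiv.Perm.mem_support, hsupp]
    exact Finset.mem_univ y
  let e0 : ZMod p → α := fun k => (t.1 ^ k.val) x₀
  have hpow : ∀ n : ℕ, (t.1 ^ n) x₀ = e0 (n : ZMod p) := by
    intro n
    change _ = (t.1 ^ (n : ZMod p).val) x₀
    rw [ZMod.val_natCast, ← hτo, pow_mod_orderOf]
  have hsurj : Function.Surjective e0 := by
    intro y
    obtain ⟨i, hi⟩ := hcyc.exists_pow_eq (hmoved x₀) (hmoved y)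
    exact ⟨(i : ZMod p), by rw [← hpow, hi]⟩
  have hbij : Function.Bijective e0 := by
    rw [Fintype.bijective_iff_surjective_and_card]
    exact ⟨hsurj, by rw [ZMod.card, hα]⟩
  refine ⟨Equiv.ofBijective e0 hbij, t.1, t.2, ?_⟩
  intro k
  rw [Equiv.ofBijective_apply, Equiv.ofBijective_apply]
  have h1 : e0 (k + 1) = (t.1 ^ (k.val + 1)) x₀ := by
    rw [hpow]
    congr 1
    rw [Nat.cast_add, ZMod.natCast_zmod_val, Nat.cast_one]
  rw [h1, pow_succ', Equiv.Perm.mul_apply]

/-- the transported group -/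
def conjGroup (e : ZMod p ≃ α) (G : Subgroup (Equiv.Perm α)) : Subgroup (Equiv.Perm (ZMod p)) :=
  G.map (e.symm.permCongrHom : Equiv.Perm α ≃* Equiv.Perm (ZMod p)).toMonoidHom

/-- the transported subspace -/
def conjSub (e : ZMod p ≃ α) (W : Submodule K (α → K)) : Submodule K (ZMod p → K) :=
  W.map (LinearEquiv.funCongrLeft K K e).toLinearMap

theorem conjSub_invSub (e : ZMod p ≃ α) (G : Subgroup (Equiv.Perm α)) (W : Submodule K (α → K))
    (hW : InvSub G W) : InvSub (conjGroup e G) (conjSub e W) := by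
  rintro g' ⟨g, hg, rfl⟩ f' ⟨f, hf, rfl⟩
  refine ⟨fun x => f (g x), hW g hg f hf, ?_⟩
  funext k
  simp [LinearEquiv.funCongrLeft, LinearMap.funLeft]

theorem finrank_conjSub (e : ZMod p ≃ α) (W : Submodule K (α → K)) :
    finrank K (conjSub e W) = finrank K W :=
  LinearEquiv.finrank_map_eq _ _

theorem solvable_of_conjGroup (e : ZMod p ≃ α) (G : Subgroup (Equiv.Perm α))
    (h : Group.IsSolvable (conjGroup e G)) : Group.IsSolvable G := by
  have hinj : Function.Injective
      (e.symm.permCongrHom : Equiv.Perm α ≃* Equiv.Perm (ZMod p)).toMonoidHom :=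
    (e.symm.permCongrHom : Equiv.Perm α ≃* Equiv.Perm (ZMod p)).injective
  have h' : Group.IsSolvable (G.map
      (e.symm.permCongrHom : Equiv.Perm α ≃* Equiv.Perm (ZMod p)).toMonoidHom) := h
  exact Group.isSolvable_of_isSolvable_injective (f := (G.equivMapOfInjective _ hinj).toMonoidHom)
    (G.equivMapOfInjective _ hinj).injective

theorem addRight_mem_conjGroup (e : ZMod p ≃ α) (G : Subgroup (Equiv.Perm α))
    (τ : Equiv.Perm α) (hτ : τ ∈ G) (he : ∀ k, τ (e k) = e (k + 1)) :
    Equiv.addRight (1 : ZMod p) ∈ conjGroup e G := by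
  refine ⟨τ, hτ, ?_⟩
  ext k
  change e.symm (τ (e.symm.symm k)) = k + 1
  rw [Equiv.symm_symm, he, Equiv.symm_apply_apply]

theorem dims (hα : Fintype.card α = p) (G : Subgroup (Equiv.Perm α))
    [MulAction.IsPretransitive G α] (hns : ¬ Group.IsSolvable G)
    (W : Submodule K (α → K)) (hW : InvSub G W) :
    finrank K W = 0 ∨ finrank K W = 1 ∨ finrank K W = p - 1 ∨ finrank K W = p := by
  obtain ⟨e, τ, hτ, he⟩ := exists_cycle_equiv hα G
  have := core_dims (K := K) (conjGroup e G) (addRight_mem_conjGroup e G τ hτ he)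
    (fun h => hns (solvable_of_conjGroup e G h)) _ (conjSub_invSub e G W hW)
  rwa [finrank_conjSub] at this

theorem unique (hα : Fintype.card α = p) (G : Subgroup (Equiv.Perm α))
    [MulAction.IsPretransitive G α] (W₁ W₂ : Submodule K (α → K))
    (h₁ : InvSub G W₁) (h₂ : InvSub G W₂) (h : finrank K W₁ = finrank K W₂) : W₁ = W₂ := by
  obtain ⟨e, τ, hτ, he⟩ := exists_cycle_equiv hα G
  have hmem := addRight_mem_conjGroup e G τ hτ he
  have e1 := (invSub_eq_polyLT _ hmem _ (conjSub_invSub e G W₁ h₁)).2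
  have e2 := (invSub_eq_polyLT _ hmem _ (conjSub_invSub e G W₂ h₂)).2
  rw [finrank_conjSub] at e1 e2
  rw [h, ← e2] at e1
  exact Submodule.map_injective_of_injective (LinearEquiv.funCongrLeft K K e).injective e1

theorem small (hα : Fintype.card α = p) (G : Subgroup (Equiv.Perm α))
    [MulAction.IsPretransitive G α] (hp3 : p ≤ 3) : Group.IsSolvable G := by
  obtain ⟨e, τ, hτ, he⟩ := exists_cycle_equiv hα G
  exact solvable_of_conjGroup e G (core_small _ hp3)

end transport

section orbital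

variable {α : Type*} [Fintype α] [DecidableEq α]

/-- the sum functional -/
def sumLin (K : Type*) [Field K] (α : Type*) [Fintype α] : (α → K) →ₗ[K] K :=
  ∑ x, LinearMap.proj x

theorem sumLin_apply (f : α → K) : sumLin K α f = ∑ x, f x := by
  simp [sumLin]

/-- the functions of sum zero -/
def sumZeroSub (K : Type*) [Field K] (α : Type*) [Fintype α] : Submodule K (α → K) :=
  LinearMap.ker (sumLin K α)

theorem mem_sumZeroSub {f : α → K} : f ∈ sumZeroSub K α ↔ ∑ x, f x = 0 := by
  unfold sumZeroSub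
  rw [LinearMap.mem_ker, sumLin_apply]

theorem finrank_sumZeroSub [Nonempty α] :
    finrank K (sumZeroSub K α) = Fintype.card α - 1 := by
  have h1 := LinearMap.finrank_range_add_finrank_ker (sumLin K α)
  have h2 : LinearMap.range (sumLin K α) = ⊤ := by
    rw [LinearMap.range_eq_top]
    intro c
    obtain ⟨x₀⟩ := ‹Nonempty α›
    refine ⟨Pi.single x₀ c, ?_⟩
    rw [sumLin_apply]
    simp
  rw [h2, finrank_top, Module.finrank_self, Module.finrank_fintype_fun_eq_card] at h1
  unfold sumZeroSub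
  omega

theorem sumZeroSub_invSub (G : Subgroup (Equiv.Perm α)) : InvSub G (sumZeroSub K α) := by
  intro g _ f hf
  rw [mem_sumZeroSub] at hf ⊢
  rw [← hf]
  exact Fintype.sum_equiv g _ _ (fun x => rfl)

theorem two_transitive (hα : Fintype.card α = p) (G : Subgroup (Equiv.Perm α))
    [MulAction.IsPretransitive G α] (hns : ¬ Group.IsSolvable G)
    {a b c d : α} (hab : a ≠ b) (hcd : c ≠ d) : ∃ g : G, g • a = c ∧ g • b = d := by
  classical
  by_contra hno
  push Not at hno
  have hp4 : 4 ≤ p := by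
    by_contra h
    exact hns (small hα G (by omega))
  have hne : Nonempty α := ⟨a⟩
  set R : α → α → Prop := fun u v => ∃ g ∈ G, g a = u ∧ g b = v with hR
  have R1 : R a b := ⟨1, G.one_mem, rfl, rfl⟩
  have R2 : ∀ u v, R u v → u ≠ v := by
    rintro u v ⟨g, _, rfl, rfl⟩ h
    exact hab (g.injective h)
  have R3 : ¬ R c d := by
    rintro ⟨g, hg, h1, h2⟩
    exact hno ⟨g, hg⟩ h1 h2
  have R4 : ∀ g ∈ G, ∀ u v, R (g u) (g v) ↔ R u v := by
    intro g hg u v
    constructor
    · rintro ⟨g', hg', h1, h2⟩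
      refine ⟨g⁻¹ * g', G.mul_mem (G.inv_mem hg) hg', ?_, ?_⟩
      · rw [Equiv.Perm.mul_apply, h1]
        exact g.symm_apply_apply u
      · rw [Equiv.Perm.mul_apply, h2]
        exact g.symm_apply_apply v
    · rintro ⟨g', hg', rfl, rfl⟩
      exact ⟨g * g', G.mul_mem hg hg', rfl, rfl⟩
  let M : Matrix α α (ZMod p) := fun u v => if R u v then 1 else 0
  let T : (α → ZMod p) →ₗ[ZMod p] (α → ZMod p) := Matrix.mulVecLin M
  have hT : ∀ f u, T f u = ∑ v, M u v * f v := fun f u => rfl
  have hM : ∀ g ∈ G, ∀ u v, M (g u) (g v) = M u v := by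
    intro g hg u v
    simp only [M, R4 g hg]
  have hTeq : ∀ g ∈ G, ∀ f : α → ZMod p, T (fun x => f (g x)) = fun x => T f (g x) := by
    intro g hg f
    funext u
    rw [hT, hT]
    apply Fintype.sum_equiv g
    intro v
    rw [hM g hg]
  let cnt : α → ZMod p := fun u => ∑ v, M u v
  have hcnt : ∀ g ∈ G, ∀ u, cnt (g u) = cnt u := by
    intro g hg u
    symm
    apply Fintype.sum_equiv g
    intro v
    rw [hM g hg]
  have hcnt' : ∀ u, cnt u = cnt a := by
    intro u
    obtain ⟨g, hg⟩ := MulAction.exists_smul_eq G a u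
    rw [← hg]
    exact hcnt g.1 g.2 a
  let ψ : (α → ZMod p) →ₗ[ZMod p] (α → ZMod p) := T - cnt a • LinearMap.id
  have hψ : ∀ f u, ψ f u = T f u - cnt a * f u := fun f u => rfl
  have hψeq : ∀ g ∈ G, ∀ f : α → ZMod p, ψ (fun x => f (g x)) = fun x => ψ f (g x) := by
    intro g hg f
    funext u
    rw [hψ, hψ, hTeq g hg]
  have hker : InvSub G (LinearMap.ker ψ) := by
    intro g hg f hf
    rw [LinearMap.mem_ker] at hf ⊢
    rw [hψeq g hg, hf]
    rfl
  have hconst : (fun _ => (1 : ZMod p)) ∈ LinearMap.ker ψ := by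
    rw [LinearMap.mem_ker]
    funext u
    rw [hψ, hT]
    simp only [mul_one, Pi.zero_apply]
    exact sub_eq_zero.mpr (hcnt' u)
  have hconst0 : (fun _ : α => (1 : ZMod p)) ≠ 0 := by
    intro h
    have := congrFun h a
    simp at this
  have hpos : 1 ≤ finrank (ZMod p) (LinearMap.ker ψ) := by
    rw [Nat.succ_le_iff, Module.finrank_pos_iff_exists_ne_zero]
    exact ⟨⟨_, hconst⟩, fun h => hconst0 (congrArg Subtype.val h)⟩
  have hS : finrank (ZMod p) (sumZeroSub (ZMod p) α) = p - 1 := by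
    rw [finrank_sumZeroSub, hα]
  rcases dims hα G hns _ hker with h0 | h1 | h2 | h3
  · omega
  · -- kernel is the constants
    let S := sumZeroSub (ZMod p) α
    let ψS := ψ.domRestrict S
    have hrn := LinearMap.finrank_range_add_finrank_ker ψS
    rw [LinearMap.range_domRestrict] at hrn
    have hinvS : InvSub G (S.map ψ) := by
      rintro g hg _ ⟨f, hf, rfl⟩
      exact ⟨fun x => f (g x), sumZeroSub_invSub G g hg f hf, hψeq g hg f⟩
    have hk : finrank (ZMod p) (LinearMap.ker ψS) = 1 := by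
      rw [← Submodule.finrank_map_subtype_eq]
      apply le_antisymm
      · rw [← h1]
        apply Submodule.finrank_mono
        rintro _ ⟨x, hx, rfl⟩
        rw [SetLike.mem_coe, LinearMap.mem_ker] at hx
        rw [LinearMap.mem_ker]
        exact hx
      · rw [Nat.succ_le_iff, Module.finrank_pos_iff_exists_ne_zero]
        have hcS : (fun _ => (1 : ZMod p)) ∈ S := by
          rw [mem_sumZeroSub]
          simp [hα]
        refine ⟨⟨_, ⟨⟨_, hcS⟩, ?_, rfl⟩⟩, fun h => hconst0 (congrArg Subtype.val h)⟩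
        rw [SetLike.mem_coe, LinearMap.mem_ker]
        exact LinearMap.mem_ker.mp hconst
    rw [hk] at hrn
    have hS' : finrank (ZMod p) S = p - 1 := hS
    rcases dims hα G hns _ hinvS with h0 | h1 | h2 | h3 <;> omega
  · -- kernel is the sum-zero space
    have hkS : LinearMap.ker ψ = sumZeroSub (ZMod p) α :=
      unique hα G _ _ hker (sumZeroSub_invSub G) (by rw [h2, hS])
    obtain ⟨g, hg⟩ := MulAction.exists_smul_eq G a c
    have hgc : g.1 a = c := hg
    have hRcu : R c (g.1 b) := by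
      rw [← hgc]
      exact (R4 g.1 g.2 a b).mpr R1
    have hmem : (Pi.single d (1 : ZMod p) - Pi.single (g.1 b) 1 : α → ZMod p) ∈
        sumZeroSub (ZMod p) α := by
      rw [mem_sumZeroSub]
      simp
    rw [← hkS, LinearMap.mem_ker] at hmem
    have := congrFun hmem c
    rw [hψ, hT] at this
    simp only [Pi.sub_apply, mul_sub, Finset.sum_sub_distrib, Pi.zero_apply] at this
    rw [Pi.single_eq_of_ne hcd, Pi.single_eq_of_ne (R2 _ _ hRcu)] at this
    simp only [Pi.single_apply, mul_ite, mul_one, mul_zero, Finset.sum_ite_eq',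
      Finset.mem_univ, if_true, sub_self] at this
    simp only [M, if_neg R3, if_pos hRcu] at this
    simp at this
  · -- kernel is everything
    have htop : LinearMap.ker ψ = ⊤ := by
      apply Submodule.eq_top_of_finrank_eq
      rw [h3, Module.finrank_fintype_fun_eq_card, hα]
    have hmem : (Pi.single b (1 : ZMod p) : α → ZMod p) ∈ LinearMap.ker ψ := by
      rw [htop]
      exact Submodule.mem_top
    rw [LinearMap.mem_ker] at hmem
    have := congrFun hmem a
    rw [hψ, hT] at this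
    rw [Pi.single_eq_of_ne hab] at this
    simp only [Pi.single_apply, mul_ite, mul_one, mul_zero, Finset.sum_ite_eq',
      Finset.mem_univ, if_true, sub_zero, Pi.zero_apply] at this
    simp only [M, if_pos R1] at this
    exact one_ne_zero this

end orbital

end Cfsg.Agent.Helper12.BurnsidePrime
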