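import Mathlib

set_option autoImplicit false

/-!
# C3 (M1): the permutation-combinatorial core

A conjugation-closed family of `3`-cycles on `Fin n`, no two of whose supports meet in exactly one
point, and such that every nonempty subset invariant under the family is everything, lives on
`3` or `4` points.
-/

namespace Cfsg.Agent.Helper12.C3

open Equiv

/-- a permutation whose support lies in `Θ` maps `Θ` onto itself -/
theorem h12_map_eq_of_support_subset {n : ℕ} (σ : Perm (Fin n)) (Θ : Finset (Fin n))
    (h : σ.support ⊆ Θ) : Θ.map σ.toEmbedding = Θ := by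
  have hsub : Θ.map σ.toEmbedding ⊆ Θ := by
    intro k hk
    rw [Finset.mem_map] at hk
    obtain ⟨j, hj, rfl⟩ := hk
    change σ j ∈ Θ
    by_cases hfix : σ j = j
    · rw [hfix]; exact hj
    · exact h (Perm.apply_mem_support.mpr (Perm.mem_support.mpr hfix))
  exact Finset.eq_of_subset_of_card_le hsub (by rw [Finset.card_map])

/-- the orbit of a point of the support of a `3`-cycle is the support -/
theorem h12_support_eq_orbit {n : ℕ} (c : Perm (Fin n)) (h3 : c ^ 3 = 1)
    (hcard : c.support.card = 3) (θ : Fin n) (hθ : θ ∈ c.support) :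
    c.support = {θ, c θ, c (c θ)} := by
  have h3' : ∀ k, c (c (c k)) = k := by
    intro k
    have := congrArg (fun σ : Perm (Fin n) => σ k) h3
    simpa [pow_succ, Perm.mul_apply] using this
  have h1 : c θ ≠ θ := Perm.mem_support.mp hθ
  have h2 : c (c θ) ≠ θ := by
    intro h
    apply h1
    have := h3' θ
    rw [h] at this
    exact this
  have h4 : c (c θ) ≠ c θ := by
    intro h
    exact h1 (c.injective h)
  have hsub : ({θ, c θ, c (c θ)} : Finset (Fin n)) ⊆ c.support := by
    intro k hk
    simp only [Finset.mem_insert, Finset.mem_singleton] at hk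
    rcases hk with rfl | rfl | rfl
    · exact hθ
    · exact Perm.apply_mem_support.mpr hθ
    · exact Perm.apply_mem_support.mpr (Perm.apply_mem_support.mpr hθ)
  have hc3 : ({θ, c θ, c (c θ)} : Finset (Fin n)).card = 3 := by
    rw [Finset.card_insert_of_notMem, Finset.card_insert_of_notMem, Finset.card_singleton]
    · simp only [Finset.mem_singleton]; exact fun h => h4 h.symm
    · simp only [Finset.mem_insert, Finset.mem_singleton]
      rintro (h | h)
      · exact h1 h.symm
      · exact h2 h.symm
  exact (Finset.eq_of_subset_of_card_le hsub (by rw [hcard, hc3])).symm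

theorem h12_perm_core (n : ℕ) (C : Set (Perm (Fin n)))
    (h3 : ∀ x ∈ C, x ^ 3 = 1) (hcard : ∀ x ∈ C, x.support.card = 3)
    (hconj : ∀ x ∈ C, ∀ y ∈ C, x * y * x⁻¹ ∈ C)
    (hC : ∀ x ∈ C, ∀ y ∈ C, (x.support ∩ y.support).card ≠ 1)
    (hinv : ∀ X : Finset (Fin n), X.Nonempty → (∀ x ∈ C, ∀ i ∈ X, x i ∈ X) → X = Finset.univ)
    (hne : C.Nonempty) : n = 3 ∨ n = 4 := by
  classical
  obtain ⟨c, hc⟩ := hne
  set Δ := c.support with hΔdef
  have hΔ3 : Δ.card = 3 := hcard c hc
  have hΔne : Δ.Nonempty := by
    rw [← Finset.card_pos, hΔ3]; norm_num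
  by_cases hΔ : ∀ x ∈ C, ∀ i ∈ Δ, x i ∈ Δ
  · left
    have := hinv Δ hΔne hΔ
    rw [this, Finset.card_univ, Fintype.card_fin] at hΔ3
    exact hΔ3
  · right
    push Not at hΔ
    obtain ⟨x, hx, i, hiΔ, hxi⟩ := hΔ
    set Δ' := x.support with hΔ'def
    have hΔ'3 : Δ'.card = 3 := hcard x hx
    have hiΔ' : i ∈ Δ' := by
      rw [hΔ'def, Perm.mem_support]
      intro h
      rw [h] at hxi
      exact hxi hiΔ
    have hxiΔ' : x i ∈ Δ' := Perm.apply_mem_support.mpr hiΔ'
    -- the intersection has exactly two points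
    have hint : (Δ ∩ Δ').card = 2 := by
      have h1 : 1 ≤ (Δ ∩ Δ').card := Finset.card_pos.mpr ⟨i, Finset.mem_inter.mpr ⟨hiΔ, hiΔ'⟩⟩
      have h2 : (Δ ∩ Δ').card ≠ 1 := hC c hc x hx
      have h3' : (Δ ∩ Δ').card ≤ 3 := by
        rw [← hΔ'3]; exact Finset.card_le_card Finset.inter_subset_right
      have h4 : (Δ ∩ Δ').card ≠ 3 := by
        intro h
        have : Δ ∩ Δ' = Δ' :=
          Finset.eq_of_subset_of_card_le Finset.inter_subset_right (by rw [h, hΔ'3])
        have hmem : x i ∈ Δ ∩ Δ' := by rw [this]; exact hxiΔ'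
        exact hxi (Finset.mem_inter.mp hmem).1
      omega
    set Θ := Δ ∪ Δ' with hΘdef
    have hΘ4 : Θ.card = 4 := by
      have := Finset.card_union_add_card_inter Δ Δ'
      rw [← hΘdef] at this
      omega
    have hΔΘ : Δ ⊆ Θ := Finset.subset_union_left
    have hΔ'Θ : Δ' ⊆ Θ := Finset.subset_union_right
    -- supports of members of `C` are the complements in `Θ` of single points
    have herase : ∀ (A : Finset (Fin n)) (q : Fin n), A ⊆ Θ → A.card = 3 → q ∈ Θ → q ∉ A →
        A = Θ.erase q := by
      intro A q hA hA3 hq hqA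
      apply Finset.eq_of_subset_of_card_le
      · intro k hk
        rw [Finset.mem_erase]
        refine ⟨?_, hA hk⟩
        rintro rfl
        exact hqA hk
      · rw [Finset.card_erase_of_mem hq, hΘ4, hA3]
    -- one step: conjugating by `c`
    have hstep : ∀ w ∈ C, ∀ q ∈ Θ, w.support = Θ.erase q →
        ∃ w' ∈ C, w'.support = Θ.erase (c q) := by
      intro w hw q _ hwq
      refine ⟨c * w * c⁻¹, hconj c hc w hw, ?_⟩
      rw [Perm.support_conj, hwq, Finset.map_erase, h12_map_eq_of_support_subset c Θ hΔΘ]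
      rfl
    have hfour : ∀ p' ∈ Θ, ∃ w ∈ C, w.support = Θ.erase p' := by
      intro p' hp'
      by_cases hp'Δ : p' ∈ Δ
      · -- a point θ of Δ outside Δ'
        have hθ : ∃ θ ∈ Δ, θ ∉ Δ' := by
          by_contra hcon
          push Not at hcon
          have : Δ ∩ Δ' = Δ := by
            apply Finset.eq_of_subset_of_card_le Finset.inter_subset_left
            exact Finset.card_le_card fun k hk => Finset.mem_inter.mpr ⟨hk, hcon k hk⟩
          rw [this, hΔ3] at hint
          omega
        obtain ⟨θ, hθΔ, hθΔ'⟩ := hθ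
        have hx0 : x.support = Θ.erase θ := herase Δ' θ hΔ'Θ hΔ'3 (hΔΘ hθΔ) hθΔ'
        have horb := h12_support_eq_orbit c (h3 c hc) (hcard c hc) θ hθΔ
        have hp'orb : p' ∈ ({θ, c θ, c (c θ)} : Finset (Fin n)) := horb ▸ hp'Δ
        simp only [Finset.mem_insert, Finset.mem_singleton] at hp'orb
        obtain ⟨w1, hw1, hw1s⟩ := hstep x hx θ (hΔΘ hθΔ) hx0
        have hcθΘ : c θ ∈ Θ := hΔΘ (Perm.apply_mem_support.mpr hθΔ)
        obtain ⟨w2, hw2, hw2s⟩ := hstep w1 hw1 (c θ) hcθΘ hw1s
        rcases hp'orb with rfl | rfl | rfl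
        · exact ⟨x, hx, hx0⟩
        · exact ⟨w1, hw1, hw1s⟩
        · exact ⟨w2, hw2, hw2s⟩
      · exact ⟨c, hc, herase Δ p' hΔΘ hΔ3 hp' hp'Δ⟩
    -- Θ is invariant
    have hΘinv : ∀ y ∈ C, ∀ j ∈ Θ, y j ∈ Θ := by
      intro y hy j hj
      by_contra hyj
      set Δ'' := y.support with hΔ''def
      have hjΔ'' : j ∈ Δ'' := by
        rw [hΔ''def, Perm.mem_support]
        intro h
        rw [h] at hyj
        exact hyj hj
      have hyjΔ'' : y j ∈ Δ'' := Perm.apply_mem_support.mpr hjΔ''
      set S := Δ'' ∩ Θ with hSdef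
      have hjS : j ∈ S := Finset.mem_inter.mpr ⟨hjΔ'', hj⟩
      have hS2 : S.card ≤ 2 := by
        have hsub : S ⊆ Δ''.erase (y j) := by
          intro k hk
          rw [Finset.mem_erase]
          refine ⟨?_, (Finset.mem_inter.mp hk).1⟩
          rintro rfl
          exact hyj (Finset.mem_inter.mp hk).2
        have := Finset.card_le_card hsub
        rw [Finset.card_erase_of_mem hyjΔ'', hcard y hy] at this
        exact this
      -- a second point p'
      have hp' : ∃ p' ∈ Θ, p' ≠ j ∧ S ⊆ {j, p'} := by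
        rcases (S.erase j).eq_empty_or_nonempty with hem | ⟨p', hp'⟩
        · have hex : (Θ.erase j).Nonempty := by
            rw [← Finset.card_pos, Finset.card_erase_of_mem hj, hΘ4]; norm_num
          obtain ⟨p', hp'⟩ := hex
          refine ⟨p', (Finset.mem_erase.mp hp').2, (Finset.mem_erase.mp hp').1, ?_⟩
          intro k hk
          by_cases hkj : k = j
          · rw [hkj]; exact Finset.mem_insert_self _ _
          · have : k ∈ S.erase j := Finset.mem_erase.mpr ⟨hkj, hk⟩
            rw [hem] at this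
            exact absurd this (Finset.notMem_empty k)
        · have hp'S : p' ∈ S := (Finset.mem_erase.mp hp').2
          have hp'j : p' ≠ j := (Finset.mem_erase.mp hp').1
          refine ⟨p', (Finset.mem_inter.mp hp'S).2, hp'j, ?_⟩
          have h2 : ({j, p'} : Finset (Fin n)) ⊆ S := by
            intro k hk
            simp only [Finset.mem_insert, Finset.mem_singleton] at hk
            rcases hk with rfl | rfl
            · exact hjS
            · exact hp'S
          have hc2 : ({j, p'} : Finset (Fin n)).card = 2 := by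
            rw [Finset.card_insert_of_notMem, Finset.card_singleton]
            simp only [Finset.mem_singleton]
            exact fun h => hp'j h.symm
          have := Finset.eq_of_subset_of_card_le h2 (by rw [hc2]; exact hS2)
          rw [this]
      obtain ⟨p', hp'Θ, hp'j, hSsub⟩ := hp'
      obtain ⟨w, hw, hws⟩ := hfour p' hp'Θ
      have hone : w.support ∩ y.support = {j} := by
        ext k
        rw [hws, Finset.mem_inter, Finset.mem_erase, Finset.mem_singleton]
        constructor
        · rintro ⟨⟨hkp', hkΘ⟩, hkΔ''⟩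
          have hkS : k ∈ S := Finset.mem_inter.mpr ⟨hkΔ'', hkΘ⟩
          have := hSsub hkS
          simp only [Finset.mem_insert, Finset.mem_singleton] at this
          rcases this with h | h
          · exact h
          · exact absurd h hkp'
        · rintro rfl
          exact ⟨⟨hp'j.symm, hj⟩, hjΔ''⟩
      apply hC w hw y hy
      rw [hone, Finset.card_singleton]
    have hΘne : Θ.Nonempty := by
      rw [← Finset.card_pos, hΘ4]; norm_num
    have := hinv Θ hΘne hΘinv
    rw [this, Finset.card_univ, Fintype.card_fin] at hΘ4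
    exact hΘ4

/-- two `3`-cycles meeting in exactly one point: no power of their commutator of exponent prime
to `3` is trivial -/
theorem h12_comm_pow_ne_one {n : ℕ} (x y : Perm (Fin n)) (hx3 : x ^ 3 = 1) (hy3 : y ^ 3 = 1)
    (h1 : (x.support ∩ y.support).card = 1) (m : ℕ) (hm : m.Coprime 3) :
    (x * y * x⁻¹ * y⁻¹) ^ m ≠ 1 := by
  classical
  obtain ⟨p, hp⟩ := Finset.card_eq_one.mp h1
  have hpx : p ∈ x.support := (Finset.mem_inter.mp (hp ▸ Finset.mem_singleton_self p)).1
  have hpy : p ∈ y.support := (Finset.mem_inter.mp (hp ▸ Finset.mem_singleton_self p)).2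
  have hx3' : ∀ k, x (x (x k)) = k := by
    intro k
    have := congrArg (fun σ : Perm (Fin n) => σ k) hx3
    simpa [pow_succ, Perm.mul_apply] using this
  have hy3' : ∀ k, y (y (y k)) = k := by
    intro k
    have := congrArg (fun σ : Perm (Fin n) => σ k) hy3
    simpa [pow_succ, Perm.mul_apply] using this
  have honly : ∀ k, k ∈ x.support → k ∈ y.support → k = p := by
    intro k hkx hky
    have : k ∈ x.support ∩ y.support := Finset.mem_inter.mpr ⟨hkx, hky⟩
    rw [hp] at this
    exact Finset.mem_singleton.mp this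
  have hxp : x p ≠ p := Perm.mem_support.mp hpx
  have hyp : y p ≠ p := Perm.mem_support.mp hpy
  have hxxp : x (x p) ≠ p := by
    intro h
    apply hxp
    have := hx3' p
    rw [h] at this
    exact this
  have hyyp : y (y p) ≠ p := by
    intro h
    apply hyp
    have := hy3' p
    rw [h] at this
    exact this
  -- memberships
  have ha_x : x p ∈ x.support := Perm.apply_mem_support.mpr hpx
  have ha'_x : x (x p) ∈ x.support := Perm.apply_mem_support.mpr ha_x
  have hd_y : y p ∈ y.support := Perm.apply_mem_support.mpr hpy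
  have hd'_y : y (y p) ∈ y.support := Perm.apply_mem_support.mpr hd_y
  have ha_y : y (x p) = x p := by
    by_contra h
    exact hxp (honly _ ha_x (Perm.mem_support.mpr h))
  have ha'_y : y (x (x p)) = x (x p) := by
    by_contra h
    exact hxxp (honly _ ha'_x (Perm.mem_support.mpr h))
  have hd_x : x (y p) = y p := by
    by_contra h
    exact hyp (honly _ (Perm.mem_support.mpr h) hd_y)
  have hd'_x : x (y (y p)) = y (y p) := by
    by_contra h
    exact hyyp (honly _ (Perm.mem_support.mpr h) hd'_y)
  -- inverses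
  have hyinv_p : y⁻¹ p = y (y p) := by
    rw [Perm.inv_eq_iff_eq]; exact (hy3' p).symm
  have hxinv_d' : x⁻¹ (y (y p)) = y (y p) := by
    rw [Perm.inv_eq_iff_eq]; exact hd'_x.symm
  have hyinv_a : y⁻¹ (x p) = x p := by
    rw [Perm.inv_eq_iff_eq]; exact ha_y.symm
  have hxinv_a : x⁻¹ (x p) = p := by
    rw [Perm.inv_eq_iff_eq]
  have hyinv_d : y⁻¹ (y p) = p := by
    rw [Perm.inv_eq_iff_eq]
  have hxinv_p : x⁻¹ p = x (x p) := by
    rw [Perm.inv_eq_iff_eq]; exact (hx3' p).symm
  set w := x * y * x⁻¹ * y⁻¹ with hw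
  have hwp : w p = x p := by
    rw [hw]
    simp only [Perm.mul_apply]
    rw [hyinv_p, hxinv_d', hy3' p]
  have hwa : w (x p) = y p := by
    rw [hw]
    simp only [Perm.mul_apply]
    rw [hyinv_a, hxinv_a, hd_x]
  have hwd : w (y p) = p := by
    rw [hw]
    simp only [Perm.mul_apply]
    rw [hyinv_d, hxinv_p, ha'_y, hx3' p]
  have hw3 : (w ^ 3) p = p := by
    simp only [pow_succ, pow_zero, one_mul, Perm.mul_apply]
    rw [hwp, hwa, hwd]
  have hw3q : ∀ q : ℕ, ((w ^ 3) ^ q) p = p := by
    intro q
    induction q with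
    | zero => simp
    | succ q ih => rw [pow_succ, Perm.mul_apply, hw3, ih]
  intro hcon
  have hmp : (w ^ m) p = p := by rw [hcon]; rfl
  have hmdiv : m = 3 * (m / 3) + m % 3 := (Nat.div_add_mod m 3).symm
  have hr : m % 3 = 1 ∨ m % 3 = 2 := by
    have h0 : m % 3 ≠ 0 := by
      intro h0
      have hdvd : 3 ∣ m := Nat.dvd_of_mod_eq_zero h0
      have : Nat.gcd m 3 = 3 := Nat.gcd_eq_right hdvd
      rw [Nat.Coprime] at hm
      omega
    omega
  rw [hmdiv, pow_add, pow_mul, Perm.mul_apply] at hmp
  rcases hr with hr | hr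
  · rw [hr, pow_one, hwp] at hmp
    -- (w^3)^q (x p) = p
    have : ((w ^ 3) ^ (m / 3)) p = p := hw3q _
    have h2 := (w ^ 3) ^ (m / 3) |>.injective (hmp.trans this.symm)
    exact hxp h2
  · rw [hr] at hmp
    have hw2 : (w ^ 2) p = y p := by
      simp only [pow_succ, pow_zero, one_mul, Perm.mul_apply]
      rw [hwp, hwa]
    rw [hw2] at hmp
    have : ((w ^ 3) ^ (m / 3)) p = p := hw3q _
    have h2 := (w ^ 3) ^ (m / 3) |>.injective (hmp.trans this.symm)
    exact hyp h2


end Cfsg.Agent.Helper12.C3
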