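import Mathlib
import Cfsg.Agent.Lib.Helper32.C3Defs
import Cfsg.Agent.Lib.Helper12.C3M1perm

set_option autoImplicit false

/-!
# C3 (M1): group-theoretic and linear-algebraic inputs
-/

namespace Cfsg.Agent.Helper12.C3

open Cfsg.Agent.Helper32.C3 Equiv

universe u v

section

variable {G : Type u} [Group G] [Finite G] {V : Type v} [AddCommGroup V]
  [Module (ZMod 3) V] [Finite V]

/-- (P1, reproved) a subgroup containing all conjugates of `b` is everything -/
theorem h12_top_of_conj_mem (ρ : Representation (ZMod 3) G V) (R Q : Subgroup G) (b : G)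
    (h : Cfg ρ R Q b) (H : Subgroup G) (hH : ∀ g : G, g * b * g⁻¹ ∈ H) : H = ⊤ := by
  haveI := h.Rn
  set N : Subgroup G := Subgroup.normalClosure {b} with hN
  have hNH : N ≤ H := by
    rw [hN, Subgroup.normalClosure, Subgroup.closure_le]
    intro a ha
    rw [Group.mem_conjugatesOfSet_iff] at ha
    obtain ⟨x, hx, hxa⟩ := ha
    rw [Set.mem_singleton_iff] at hx
    subst hx
    rw [isConj_iff] at hxa
    obtain ⟨g, rfl⟩ := hxa
    exact hH g
  have hbN : b ∈ N := Subgroup.subset_normalClosure (Set.mem_singleton b)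
  have hzN : Subgroup.zpowers b ≤ N := by
    rw [Subgroup.zpowers_le]; exact hbN
  have hRN : R ≤ N := by
    rw [← h.comm]
    exact (Subgroup.commutator_mono le_rfl hzN).trans (Subgroup.commutator_le_right R N)
  rw [eq_top_iff]
  intro g _
  obtain ⟨r, hr, i, rfl⟩ := h.RB g
  exact hNH (N.mul_mem (hRN hr) (N.pow_mem hbN i))

/-- commutators lie in `R` -/
theorem h12_comm_mem (ρ : Representation (ZMod 3) G V) (R Q : Subgroup G) (b : G)
    (h : Cfg ρ R Q b) (x y : G) : x * y * x⁻¹ * y⁻¹ ∈ R := by
  haveI := h.Rn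
  obtain ⟨r1, hr1, i, hx⟩ := h.RB x
  obtain ⟨r2, hr2, j, hy⟩ := h.RB y
  have hx' : (QuotientGroup.mk x : G ⧸ R) = (QuotientGroup.mk b) ^ i := by
    rw [hx, QuotientGroup.mk_mul, (QuotientGroup.eq_one_iff r1).mpr hr1, one_mul,
      QuotientGroup.mk_pow]
  have hy' : (QuotientGroup.mk y : G ⧸ R) = (QuotientGroup.mk b) ^ j := by
    rw [hy, QuotientGroup.mk_mul, (QuotientGroup.eq_one_iff r2).mpr hr2, one_mul,
      QuotientGroup.mk_pow]
  rw [← QuotientGroup.eq_one_iff]
  simp only [QuotientGroup.mk_mul, QuotientGroup.mk_inv, hx', hy']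
  group

theorem h12_zmod3_cube : ∀ a : ZMod 3, a ^ 3 = 1 → a = 1 := by decide

/-- the permutation of `b` in a monomial structure is a `3`-cycle -/
theorem h12_support_card (ρ : Representation (ZMod 3) G V) (R Q : Subgroup G) (b : G)
    (h : Cfg ρ R Q b) (n : ℕ) (e : Module.Basis (Fin n) (ZMod 3) V) (π : G →* Perm (Fin n))
    (s : G → Fin n → (ZMod 3)ˣ)
    (hes : ∀ g i, ρ g (e i) = ((s g i : (ZMod 3)ˣ) : ZMod 3) • e (π g i)) :
    (π b).support.card = 3 := by
  classical
  set c := π b with hc
  set f := ρ b with hf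
  have hc3 : c ^ 3 = 1 := by rw [hc, ← map_pow, h.b3, map_one]
  have hc3' : ∀ k, c (c (c k)) = k := by
    intro k
    have := congrArg (fun σ : Perm (Fin n) => σ k) hc3
    simpa [pow_succ, Perm.mul_apply] using this
  have hf3 : ∀ w, f (f (f w)) = w := by
    intro w
    have h1 : f ^ 3 = 1 := by rw [hf, ← map_pow, h.b3, map_one]
    have := congrArg (fun T : Module.End (ZMod 3) V => T w) h1
    simpa [pow_succ, Module.End.mul_apply] using this
  have hfe : ∀ i, f (e i) = ((s b i : (ZMod 3)ˣ) : ZMod 3) • e (c i) := fun i => hes b i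
  -- fixed points of `c` give fixed basis vectors
  have hfix : ∀ i, c i = i → f (e i) = e i := by
    intro i hi
    have h1 : f (e i) = ((s b i : (ZMod 3)ˣ) : ZMod 3) • e i := by rw [hfe i, hi]
    have h2 : f (f (f (e i))) = (((s b i : (ZMod 3)ˣ) : ZMod 3) ^ 3) • e i := by
      rw [h1, map_smul, h1, map_smul, map_smul, h1, smul_smul, smul_smul]
      congr 1
      ring
    rw [hf3] at h2
    have h3 : ((((s b i : (ZMod 3)ˣ) : ZMod 3) ^ 3) - 1) • e i = 0 := by
      rw [sub_smul, one_smul, ← h2, sub_self]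
    rcases smul_eq_zero.mp h3 with h4 | h4
    · have h5 := h12_zmod3_cube _ (sub_eq_zero.mp h4)
      rw [h1, h5, one_smul]
    · exact absurd h4 (e.ne_zero i)
  -- the support is nonempty
  have hne : c.support.Nonempty := by
    by_contra hem
    rw [Finset.not_nonempty_iff_eq_empty, Perm.support_eq_empty_iff] at hem
    have hf1 : f = 1 := by
      apply e.ext
      intro i
      rw [hfix i (by rw [hem]; rfl)]
      rfl
    have hd : dl ρ b = 0 := by
      unfold dl
      rw [← hf, hf1, sub_self]
    have h2 := h.cubic.1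
    rw [hd, LinearMap.range_zero, finrank_bot] at h2
    omega
  obtain ⟨i, hi⟩ := hne
  have h1 : c i ≠ i := Perm.mem_support.mp hi
  have h2 : c (c i) ≠ i := by
    intro hh
    apply h1
    have := hc3' i
    rw [hh] at this
    exact this
  have h4 : c (c i) ≠ c i := fun hh => h1 (c.injective hh)
  have hsub : ({i, c i, c (c i)} : Finset (Fin n)) ⊆ c.support := by
    intro k hk
    simp only [Finset.mem_insert, Finset.mem_singleton] at hk
    rcases hk with rfl | rfl | rfl
    · exact hi
    · exact Perm.apply_mem_support.mpr hi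
    · exact Perm.apply_mem_support.mpr (Perm.apply_mem_support.mpr hi)
  have hcard3 : ({i, c i, c (c i)} : Finset (Fin n)).card = 3 := by
    rw [Finset.card_insert_of_notMem, Finset.card_insert_of_notMem, Finset.card_singleton]
    · simp only [Finset.mem_singleton]; exact fun hh => h4 hh.symm
    · simp only [Finset.mem_insert, Finset.mem_singleton]
      rintro (hh | hh)
      · exact h1 hh.symm
      · exact h2 hh.symm
  by_contra hcon
  -- a point of the support outside the orbit of `i`
  have hj : ∃ j ∈ c.support, j ∉ ({i, c i, c (c i)} : Finset (Fin n)) := by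
    by_contra hno
    push Not at hno
    have : c.support = {i, c i, c (c i)} := Finset.Subset.antisymm hno hsub
    rw [this, hcard3] at hcon
    exact hcon rfl
  obtain ⟨j, hj, hjo⟩ := hj
  simp only [Finset.mem_insert, Finset.mem_singleton, not_or] at hjo
  obtain ⟨hji, hjci, hjcci⟩ := hjo
  have g1 : c j ≠ j := Perm.mem_support.mp hj
  have g2 : c (c j) ≠ j := by
    intro hh
    apply g1
    have := hc3' j
    rw [hh] at this
    exact this
  have hicj : i ≠ c j := by
    intro hh
    apply hjcci
    rw [hh, hc3' j]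
  have hiccj : i ≠ c (c j) := by
    intro hh
    apply hjci
    rw [hh, hc3' j]
  -- the two vectors
  have hD : ∀ k, (dl ρ b * dl ρ b) (e k) = f (f (e k)) - f (e k) - f (e k) + e k := by
    intro k
    rw [Module.End.mul_apply, dl_apply, dl_apply, map_sub]
    abel
  have hrepr : ∀ k t, e.repr ((dl ρ b * dl ρ b) (e k)) t =
      (((s b k : (ZMod 3)ˣ) : ZMod 3) * ((s b (c k) : (ZMod 3)ˣ) : ZMod 3)) *
        (if c (c k) = t then 1 else 0)
      - ((s b k : (ZMod 3)ˣ) : ZMod 3) * (if c k = t then 1 else 0)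
      - ((s b k : (ZMod 3)ˣ) : ZMod 3) * (if c k = t then 1 else 0)
      + (if k = t then 1 else 0) := by
    intro k t
    rw [hD k, hfe k, map_smul, hfe (c k)]
    simp only [map_add, map_sub, map_smul, Module.Basis.repr_self, Finsupp.coe_add,
      Finsupp.coe_sub, Finsupp.coe_smul, Pi.add_apply, Pi.sub_apply, Pi.smul_apply,
      Finsupp.single_apply, smul_eq_mul]
    ring
  have hii : e.repr ((dl ρ b * dl ρ b) (e i)) i = 1 := by
    rw [hrepr, if_neg h2, if_neg h1, if_pos rfl]; ring
  have hij : e.repr ((dl ρ b * dl ρ b) (e i)) j = 0 := by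
    rw [hrepr, if_neg (Ne.symm hjcci), if_neg (Ne.symm hjci), if_neg (Ne.symm hji)]; ring
  have hjj : e.repr ((dl ρ b * dl ρ b) (e j)) j = 1 := by
    rw [hrepr, if_neg g2, if_neg g1, if_pos rfl]; ring
  have hji' : e.repr ((dl ρ b * dl ρ b) (e j)) i = 0 := by
    rw [hrepr, if_neg (Ne.symm hiccj), if_neg (Ne.symm hicj), if_neg hji]; ring
  have hli : LinearIndependent (ZMod 3)
      ![(dl ρ b * dl ρ b) (e i), (dl ρ b * dl ρ b) (e j)] := by
    rw [LinearIndependent.pair_iff]
    intro a a' haa
    have hr := congrArg (fun w => e.repr w) haa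
    simp only [map_add, map_smul, map_zero] at hr
    have hri := congrArg (fun φ => φ i) hr
    have hrj := congrArg (fun φ => φ j) hr
    simp only [Finsupp.coe_add, Finsupp.coe_smul, Pi.add_apply, Pi.smul_apply, smul_eq_mul,
      Finsupp.coe_zero, Pi.zero_apply, hii, hij, hjj, hji'] at hri hrj
    constructor
    · simpa using hri
    · simpa using hrj
  have hspan : Submodule.span (ZMod 3)
      (Set.range ![(dl ρ b * dl ρ b) (e i), (dl ρ b * dl ρ b) (e j)]) ≤
      LinearMap.range (dl ρ b * dl ρ b) := by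
    rw [Submodule.span_le]
    rintro w ⟨t, rfl⟩
    fin_cases t
    · exact ⟨e i, rfl⟩
    · exact ⟨e j, rfl⟩
  have hfr := finrank_span_eq_card hli
  have hmono := Submodule.finrank_mono hspan
  rw [hfr, h.cubic.2] at hmono
  simp at hmono

end

end Cfsg.Agent.Helper12.C3
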