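import Mathlib
import Cfsg.Agent.Lib.Helper32.C3Defs
import Cfsg.Agent.Lib.Helper12.C3M1perm
import Cfsg.Agent.Lib.Helper12.C3M1a

set_option autoImplicit false

namespace Cfsg.Agent.Helper12.C3

open Cfsg.Agent.Helper32.C3 Equiv

universe u v

/-- **M1.** In the monomial case `n ∈ {3,4}`. -/
theorem mono_dim {G : Type u} [Group G] [Finite G] {V : Type v} [AddCommGroup V]
    [Module (ZMod 3) V] [Finite V] (ρ : Representation (ZMod 3) G V) (R Q : Subgroup G) (b : G)
    (h : Cfg ρ R Q b) (n : ℕ) (hm : IsMono ρ n) : n = 3 ∨ n = 4 := by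
  classical
  obtain ⟨e, π, s, hes⟩ := hm
  have hcb : (π b).support.card = 3 := h12_support_card ρ R Q b h n e π s hes
  have hb3 : (π b) ^ 3 = 1 := by rw [← map_pow, h.b3, map_one]
  set C : Set (Perm (Fin n)) := {x | ∃ g : G, x = π (g * b * g⁻¹)} with hC
  have hCmem : ∀ x ∈ C, ∃ g : G, x = π g * π b * (π g)⁻¹ := by
    rintro x ⟨g, rfl⟩
    exact ⟨g, by rw [map_mul, map_mul, map_inv]⟩
  apply h12_perm_core n C
  · -- cubes
    rintro x ⟨g, rfl⟩
    rw [← map_pow]
    have : (g * b * g⁻¹) ^ 3 = 1 := by
      rw [conj_pow, h.b3, mul_one, mul_inv_cancel]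
    rw [this, map_one]
  · -- support
    intro x hx
    obtain ⟨g, rfl⟩ := hCmem x hx
    rw [Perm.support_conj, Finset.card_map, hcb]
  · -- conjugation
    rintro x ⟨g, rfl⟩ y ⟨g', rfl⟩
    refine ⟨(g * b * g⁻¹) * g', ?_⟩
    rw [← map_inv, ← map_mul, ← map_mul]
    congr 1
    group
  · -- no two supports meet in exactly one point
    rintro x ⟨g, rfl⟩ y ⟨g', rfl⟩ h1
    set u := g * b * g⁻¹ with hu
    set w := g' * b * g'⁻¹ with hw
    have hu3 : (π u) ^ 3 = 1 := by
      rw [← map_pow, hu, conj_pow, h.b3, mul_one, mul_inv_cancel, map_one]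
    have hw3 : (π w) ^ 3 = 1 := by
      rw [← map_pow, hw, conj_pow, h.b3, mul_one, mul_inv_cancel, map_one]
    have hz : u * w * u⁻¹ * w⁻¹ ∈ R := h12_comm_mem ρ R Q b h u w
    have hzpow : (u * w * u⁻¹ * w⁻¹) ^ Nat.card R = 1 := by
      have := pow_card_eq_one' (G := R) (x := ⟨_, hz⟩)
      exact congrArg Subtype.val this
    have := h12_comm_pow_ne_one (π u) (π w) hu3 hw3 h1 (Nat.card R) h.Rcop
    apply this
    rw [← map_inv, ← map_inv, ← map_mul, ← map_mul, ← map_mul, ← map_pow, hzpow, map_one]
  · -- invariant subsets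
    intro X hXne hXinv
    -- the stabiliser of `X`
    let H : Subgroup G :=
      { carrier := {g | ∀ i, i ∈ X ↔ π g i ∈ X}
        one_mem' := by intro i; simp
        mul_mem' := by
          intro g g' hg hg' i
          rw [map_mul, Perm.mul_apply, ← hg, ← hg']
        inv_mem' := by
          intro g hg i
          have := hg ((π g)⁻¹ i)
          rw [← Perm.mul_apply, mul_inv_cancel, Perm.one_apply] at this
          rw [map_inv]
          exact this.symm }
    have hHtop : H = ⊤ := by
      apply h12_top_of_conj_mem ρ R Q b h H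
      intro g i
      have hx : π (g * b * g⁻¹) ∈ C := ⟨g, rfl⟩
      set x := π (g * b * g⁻¹) with hxdef
      have hx3 : ∀ k, x (x (x k)) = k := by
        intro k
        have h3 : x ^ 3 = 1 := by
          rw [hxdef, ← map_pow, conj_pow, h.b3, mul_one, mul_inv_cancel, map_one]
        have := congrArg (fun σ : Perm (Fin n) => σ k) h3
        simpa [pow_succ, Perm.mul_apply] using this
      constructor
      · exact hXinv x hx i
      · intro hxi
        have := hXinv x hx _ (hXinv x hx _ hxi)
        rwa [hx3] at this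
    have hall : ∀ g : G, ∀ i, i ∈ X ↔ π g i ∈ X := by
      intro g
      have : g ∈ H := hHtop ▸ Subgroup.mem_top g
      exact this
    -- the span of the corresponding basis vectors
    set W : Submodule (ZMod 3) V := Submodule.span (ZMod 3) (e '' (X : Set (Fin n))) with hW
    have hWinv : Inv ρ ⊤ W := by
      intro g _ v hv
      have hle : W ≤ W.comap (ρ g) := by
        rw [hW, Submodule.span_le]
        rintro _ ⟨i, hi, rfl⟩
        rw [SetLike.mem_coe, Submodule.mem_comap, hes g i]
        apply Submodule.smul_mem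
        apply Submodule.subset_span
        exact ⟨π g i, (hall g i).mp hi, rfl⟩
      exact hle hv
    obtain ⟨i0, hi0⟩ := hXne
    rcases h.irred W hWinv with hbot | htop
    · exfalso
      have : e i0 ∈ W := Submodule.subset_span ⟨i0, hi0, rfl⟩
      rw [hbot, Submodule.mem_bot] at this
      exact e.ne_zero i0 this
    · ext k
      simp only [Finset.mem_univ, iff_true]
      have : e k ∈ W := htop ▸ Submodule.mem_top
      rw [hW, Module.Basis.self_mem_span_image] at this
      exact this
  · exact ⟨π b, 1, by rw [one_mul, inv_one, mul_one]⟩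

end Cfsg.Agent.Helper12.C3
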