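import Mathlib
import Cfsg.Agent.Lib.Helper32.C3Defs
import Cfsg.Agent.Lib.Helper12.C3M1a

set_option autoImplicit false

namespace Cfsg.Agent.Helper12.C3

open Cfsg.Agent.Helper32.C3 Equiv

universe u v

theorem h12_S3_sq_or_cube : ∀ x : Perm (Fin 3), x ^ 2 = 1 ∨ x ^ 3 = 1 := by decide
theorem h12_S3_d2 : ∀ y : Perm (Fin 3), y ^ 2 = 1 → Perm.sign y = 1 → y = 1 := by decide
theorem h12_S3_d3 : ∀ τ : Perm (Fin 3), τ ^ 2 = 1 → τ ≠ 1 → Perm.sign τ = -1 := by decide

theorem h12_S3_aux (c τ : Perm (Fin 3)) (hc3 : c ^ 3 = 1) (hc1 : c ≠ 1) (hτ : τ ^ 2 = 1)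
    (hy : (τ * (c * τ * c⁻¹)) ^ 2 = 1) : τ = 1 := by
  by_contra hτ1
  have hs := h12_S3_d3 τ hτ hτ1
  have hsy : Perm.sign (τ * (c * τ * c⁻¹)) = 1 := by
    rw [Perm.sign_mul, Perm.sign_mul, Perm.sign_mul, Perm.sign_inv, hs]
    rcases Int.units_eq_one_or (Perm.sign c) with h | h <;> rw [h] <;> decide
  have hy1 := h12_S3_d2 _ hy hsy
  -- c τ c⁻¹ = τ
  have hτinv : τ⁻¹ = τ := by
    rw [inv_eq_iff_mul_eq_one, ← pow_two]; exact hτ
  have hcomm : c * τ = τ * c := by
    have h1 : c * τ * c⁻¹ = τ⁻¹ := (inv_eq_of_mul_eq_one_right hy1).symm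
    rw [hτinv] at h1
    calc c * τ = c * τ * c⁻¹ * c := by group
      _ = τ * c := by rw [h1]
  have hcm : Commute c τ := hcomm
  rcases h12_S3_sq_or_cube (c * τ) with h | h
  · rw [hcm.mul_pow, hτ, mul_one] at h
    apply hc1
    calc c = c ^ 3 * (c ^ 2)⁻¹ := by group
      _ = 1 := by rw [hc3, h]; simp
  · rw [hcm.mul_pow, hc3, one_mul] at h
    apply hτ1
    calc τ = τ ^ 3 * (τ ^ 2)⁻¹ := by group
      _ = 1 := by rw [h, hτ]; simp

theorem h12_S3_sq_of_coprime (x : Perm (Fin 3)) (m : ℕ) (hm : m.Coprime 3) (hx : x ^ m = 1) :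
    x ^ 2 = 1 := by
  rcases h12_S3_sq_or_cube x with h | h
  · exact h
  · have := pow_gcd_eq_one.mpr ⟨hx, h⟩
    rw [Nat.Coprime] at hm
    rw [hm, pow_one] at this
    rw [this, one_pow]

theorem h12_unit3_sq : ∀ t : (ZMod 3)ˣ, t * t = 1 := by decide

section

variable {G : Type u} [Group G] [Finite G] {V : Type v} [AddCommGroup V]
  [Module (ZMod 3) V] [Finite V]

/-- multiplicativity of the signs of a monomial structure -/
theorem h12_sign_mul (ρ : Representation (ZMod 3) G V) (n : ℕ)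
    (e : Module.Basis (Fin n) (ZMod 3) V) (π : G →* Perm (Fin n))
    (s : G → Fin n → (ZMod 3)ˣ)
    (hes : ∀ g i, ρ g (e i) = ((s g i : (ZMod 3)ˣ) : ZMod 3) • e (π g i)) (g g' : G) (i : Fin n) :
    s (g * g') i = s g' i * s g (π g' i) := by
  have h1 : ρ (g * g') (e i) =
      (((s g' i : (ZMod 3)ˣ) : ZMod 3) * ((s g (π g' i) : (ZMod 3)ˣ) : ZMod 3)) •
        e (π g (π g' i)) := by
    rw [map_mul, Module.End.mul_apply, hes g' i, map_smul, hes g (π g' i), smul_smul]
  have h2 := hes (g * g') i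
  have hπ : π (g * g') i = π g (π g' i) := by rw [map_mul]; rfl
  rw [hπ] at h2
  rw [h2] at h1
  have h3 : (((s (g * g') i : (ZMod 3)ˣ) : ZMod 3) -
      ((s g' i : (ZMod 3)ˣ) : ZMod 3) * ((s g (π g' i) : (ZMod 3)ˣ) : ZMod 3)) •
        e (π g (π g' i)) = 0 := by
    rw [sub_smul, h1, sub_self]
  rcases smul_eq_zero.mp h3 with h4 | h4
  · apply Units.ext
    rw [Units.val_mul]
    exact sub_eq_zero.mp h4
  · exact absurd h4 (e.ne_zero _)

/-- the product of the signs is a homomorphism -/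
noncomputable def h12_signProd (ρ : Representation (ZMod 3) G V) (n : ℕ)
    (e : Module.Basis (Fin n) (ZMod 3) V) (π : G →* Perm (Fin n))
    (s : G → Fin n → (ZMod 3)ˣ)
    (hes : ∀ g i, ρ g (e i) = ((s g i : (ZMod 3)ˣ) : ZMod 3) • e (π g i)) : G →* (ZMod 3)ˣ :=
  MonoidHom.mk' (fun g => ∏ i, s g i) (by
    intro g g'
    simp only [h12_sign_mul ρ n e π s hes g g']
    rw [Finset.prod_mul_distrib, Equiv.prod_comp (π g') (s g), mul_comm])

/-- **M2.** Monomial, `n = 3`: `R = Q`. -/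
theorem concl_of_mono_three (ρ : Representation (ZMod 3) G V) (R Q : Subgroup G) (b : G)
    (h : Cfg ρ R Q b) (hm : IsMono ρ 3) : Concl R := by
  classical
  obtain ⟨e, π, s, hes⟩ := hm
  have := h.Rn
  have hcb : (π b).support.card = 3 := h12_support_card ρ R Q b h 3 e π s hes
  have hc3 : (π b) ^ 3 = 1 := by rw [← map_pow, h.b3, map_one]
  have hc1 : π b ≠ 1 := by
    intro h1
    rw [h1, Perm.support_one, Finset.card_empty] at hcb
    omega
  have hRpow : ∀ r ∈ R, (π r) ^ Nat.card R = 1 := by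
    intro r hr
    have := pow_card_eq_one' (G := R) (x := ⟨r, hr⟩)
    have h2 : r ^ Nat.card R = 1 := congrArg Subtype.val this
    rw [← map_pow, h2, map_one]
  -- (a) `R` acts trivially on the indices
  have hπR : ∀ r ∈ R, π r = 1 := by
    intro r hr
    have h1 : (π r) ^ 2 = 1 := h12_S3_sq_of_coprime _ _ h.Rcop (hRpow r hr)
    have hr' : r * (b * r * b⁻¹) ∈ R := R.mul_mem hr (h.Rn.conj_mem r hr b)
    have h2 : (π (r * (b * r * b⁻¹))) ^ 2 = 1 :=
      h12_S3_sq_of_coprime _ _ h.Rcop (hRpow _ hr')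
    rw [map_mul, map_mul, map_mul, map_inv] at h2
    exact h12_S3_aux (π b) (π r) hc3 hc1 h1 h2
  -- (b) `R` is diagonal
  have hdiag : ∀ r ∈ R, ∀ i, ρ r (e i) = ((s r i : (ZMod 3)ˣ) : ZMod 3) • e i := by
    intro r hr i
    rw [hes r i, hπR r hr]
    rfl
  -- two elements of `R` with the same signs are equal
  have hinj : ∀ r ∈ R, ∀ r' ∈ R, (∀ i, s r i = s r' i) → r = r' := by
    intro r hr r' hr' hss
    apply h.faith
    apply e.ext
    intro i
    rw [hdiag r hr i, hdiag r' hr' i, hss i]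
  -- (c) exponent two
  have hsq : ∀ r ∈ R, r * r = 1 := by
    intro r hr
    apply h.faith
    apply e.ext
    intro i
    rw [map_mul, Module.End.mul_apply, hdiag r hr i, map_smul, hdiag r hr i, smul_smul,
      ← Units.val_mul, h12_unit3_sq, map_one]
    simp
  -- (d) commutative
  have hcomm : ∀ x ∈ R, ∀ y ∈ R, x * y = y * x := by
    intro x hx y hy
    have h1 := hsq (x * y) (R.mul_mem hx hy)
    have hx1 := hsq x hx
    have hy1 := hsq y hy
    have hxi : x⁻¹ = x := inv_eq_of_mul_eq_one_left hx1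
    have hyi : y⁻¹ = y := inv_eq_of_mul_eq_one_left hy1
    have h2 : (x * y)⁻¹ = x * y := inv_eq_of_mul_eq_one_left h1
    rw [mul_inv_rev, hxi, hyi] at h2
    exact h2.symm
  -- (e) the product of the signs is trivial on `R`
  have hprod : ∀ r ∈ R, s r 0 * s r 1 * s r 2 = 1 := by
    intro r hr
    have hker : commutator G ≤ (h12_signProd ρ 3 e π s hes).ker :=
      Abelianization.commutator_subset_ker _
    have hRc : R ≤ commutator G := by
      rw [commutator_def, ← h.comm]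
      exact Subgroup.commutator_mono le_top le_top
    have := hker (hRc hr)
    rw [MonoidHom.mem_ker] at this
    have h2 : (h12_signProd ρ 3 e π s hes) r = ∏ i, s r i := rfl
    rw [h2, Fin.prod_univ_three] at this
    exact this
  -- (f) the cardinality
  have hcard_le : Nat.card R ≤ 4 := by
    let φ : R → (ZMod 3)ˣ × (ZMod 3)ˣ := fun r => (s r.1 0, s r.1 1)
    have hφ : Function.Injective φ := by
      intro r r' hrr
      have h0 : s r.1 0 = s r'.1 0 := congrArg Prod.fst hrr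
      have h1 : s r.1 1 = s r'.1 1 := congrArg Prod.snd hrr
      have h2 : s r.1 2 = s r'.1 2 := by
        have e1 := hprod r.1 r.2
        have e2 := hprod r'.1 r'.2
        rw [h0, h1] at e1
        exact mul_left_cancel (e1.trans e2.symm)
      apply Subtype.ext
      apply hinj r.1 r.2 r'.1 r'.2
      intro i
      fin_cases i
      · exact h0
      · exact h1
      · exact h2
    have := Nat.card_le_card_of_injective φ hφ
    have h4 : Nat.card ((ZMod 3)ˣ × (ZMod 3)ˣ) = 4 := by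
      rw [Nat.card_eq_fintype_card]
      decide
    rw [h4] at this
    exact this
  have hcard_ge : 4 ≤ Nat.card R := by
    rw [← h.four.1]
    exact Subgroup.card_le_of_le h.QR
  left
  refine ⟨⟨⟨⟨fun x y => ?_⟩⟩, ?_⟩, le_antisymm hcard_le hcard_ge⟩
  · apply Subtype.ext
    exact hcomm x.1 x.2 y.1 y.2
  · intro a ha
    rw [pow_two]
    exact hsq a ha

end

end Cfsg.Agent.Helper12.C3
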