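import Cfsg.Agent.Lib.Helper1.CD3.Defs
import Mathlib

set_option autoImplicit false

namespace Cfsg.Agent.Helper12.CD3B

open Cfsg Cfsg.Agent.Helper81 Cfsg.Agent.Helper1.CD3

universe u

/-- `θ^{a⁻¹} = θ^{b⁻¹}` iff `a⁻¹ b` lies in the inertia group. -/
theorem conjFun_inv_eq_iff {G : Type u} [Group G] (W : Subgroup G) (hW : W.Normal) (θ : W → ℂ)
    (a b : G) : conjFun W hW θ a⁻¹ = conjFun W hW θ b⁻¹ ↔ a⁻¹ * b ∈ stab W hW θ := by
  rw [mem_stab]
  constructor
  · intro h
    have h1 := congrArg (fun ψ => conjFun W hW ψ b) h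
    simp only [conjFun_mul, inv_mul_cancel, conjFun_one] at h1
    exact h1
  · intro h
    have h1 : conjFun W hW (conjFun W hW θ (a⁻¹ * b)) b⁻¹ = conjFun W hW θ b⁻¹ := by rw [h]
    rw [conjFun_mul] at h1
    rw [← h1]
    congr 1
    group

/-- (K1) [MED] orbit-stabiliser: the number of `G`-conjugates of `θ` is the index of its inertia group. -/
theorem card_conjSet {G : Type u} [Group G] [Fintype G] (W : Subgroup G) (hW : W.Normal) (θ : W → ℂ) :
    Nat.card (conjSet W hW θ) = (stab W hW θ).index := by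
  let f : G ⧸ stab W hW θ → conjSet W hW θ :=
    Quotient.lift (fun g : G => (⟨conjFun W hW θ g⁻¹, g⁻¹, rfl⟩ : conjSet W hW θ)) (by
      intro a b hab
      apply Subtype.ext
      exact (conjFun_inv_eq_iff W hW θ a b).mpr (QuotientGroup.leftRel_apply.mp hab))
  have hinj : Function.Injective f := by
    intro x y
    refine Quotient.inductionOn₂ x y ?_
    intro a b hab
    have h1 : conjFun W hW θ a⁻¹ = conjFun W hW θ b⁻¹ := congrArg Subtype.val hab
    exact Quotient.sound (QuotientGroup.leftRel_apply.mpr ((conjFun_inv_eq_iff W hW θ a b).mp h1))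
  have hsurj : Function.Surjective f := by
    rintro ⟨ψ, g, rfl⟩
    refine ⟨Quotient.mk _ g⁻¹, ?_⟩
    apply Subtype.ext
    show conjFun W hW θ g⁻¹⁻¹ = conjFun W hW θ g
    rw [inv_inv]
  rw [← Nat.card_congr (Equiv.ofBijective f ⟨hinj, hsurj⟩)]
  rfl

end Cfsg.Agent.Helper12.CD3B
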