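import Cfsg.Agent.Lib.Helper1.CD3.Defs
import Cfsg.Agent.Lib.Helper12.CD3BK1
import Mathlib

set_option autoImplicit false
set_option linter.unusedVariables false

namespace Cfsg.Agent.Helper12.CD3B

open Cfsg Cfsg.Agent.Helper81 Cfsg.Agent.Helper1.CD3
open scoped ComplexConjugate

universe u

/-- (K2) [MED] degree formula from Clifford: `χ(1) = e * |G : G_ω| * ω(1)`. -/
theorem degree_over {G : Type u} [Group G] [Fintype G] (W : Subgroup G) [Fintype W] (hW : W.Normal)
    {χ : G → ℂ} (hχ : IsIrrCharacter G χ) {ω : W → ℂ} (hω : IsIrrCharacter W ω)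
    (hne : classInner (fun w : W => χ w) ω ≠ 0) (d : ℕ) (hd : ω 1 = (d : ℂ)) :
    ∃ e : ℕ, 0 < e ∧ χ 1 = ((e * (stab W hW ω).index * d : ℕ) : ℂ) := by
  classical
  have hcl := clifford W hW hχ hω hne
  obtain ⟨e, he⟩ := exists_nat_classInner (isCharacter_restrict W (IsIrrCharacter.isCharacter hχ)) hω
  have he0 : 0 < e := by
    rcases Nat.eq_zero_or_pos e with h0 | h0
    · exfalso
      apply hne
      rw [he, h0]; simp
    · exact h0
  refine ⟨e, he0, ?_⟩
  have hS := conjSet_finite W hW ω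
  rw [finsum_mem_eq_finite_toFinset_sum _ hS, he] at hcl
  have h1 := congrFun hcl (1 : W)
  simp only [Pi.smul_apply, Finset.sum_apply, smul_eq_mul] at h1
  have h2 : ∀ ψ ∈ hS.toFinset, ψ (1 : W) = (d : ℂ) := by
    intro ψ hψ
    rw [Set.Finite.mem_toFinset] at hψ
    obtain ⟨g, rfl⟩ := hψ
    rw [conjFun_apply, ← hd]
    congr 1
    apply Subtype.ext
    simp
  rw [Finset.sum_congr rfl h2, Finset.sum_const, nsmul_eq_mul] at h1
  have h3 : hS.toFinset.card = (stab W hW ω).index := by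
    rw [← card_conjSet W hW ω, ← Set.ncard_eq_toFinset_card _ hS, Nat.card_coe_set_eq]
  rw [h3] at h1
  have h4 : χ ((1 : W) : G) = χ 1 := by simp
  rw [h4] at h1
  rw [h1]
  push_cast
  ring

end Cfsg.Agent.Helper12.CD3B
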