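import Mathlib
import Cfsg.Prelude.Def_Characters
import Cfsg.Agent.Lib.Helper54.CHMDefs
import Cfsg.Agent.Lib.Helper78.CharSchur
import Cfsg.Agent.Lib.Helper74.LinChar

/-!
# CHM (CH2) `vanish_of_conj_coset` (helper12, for helper54's server, S4756)
-/

set_option autoImplicit false

namespace Cfsg.Agent.Helper12.CHM

open Cfsg Cfsg.Agent.Helper54.CHM
open scoped ComplexConjugate commutatorElement

variable {G : Type*} [Group G] [Finite G]

theorem vanish_of_conj_coset (D : Subgroup G) (hD : commutator G ≤ D) (h : G)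
    (hconj : ∀ d ∈ D, IsConj h (h * d)) (χ : IrrCharacter G) (hχ : (χ : G → ℂ) 1 ≠ 1) :
    (χ : G → ℂ) h = 0 := by
  classical
  let _ : Fintype G := Fintype.ofFinite G
  -- `|C(h)| ≤ (commutator G).index`
  have hcent : Nat.card (Subgroup.centralizer ({h} : Set G)) ≤ (commutator G).index := by
    have h1 := Cfsg.Agent.Helper80.card_isConj_mul_card_centralizer h
    have h2 : Nat.card D ≤ Nat.card {x : G // IsConj h x} := by
      apply Nat.card_le_card_of_injective
        (fun d : D => (⟨h * d, hconj d d.2⟩ : {x : G // IsConj h x}))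
      intro d d' hdd
      have := congrArg Subtype.val hdd
      exact Subtype.ext (mul_left_cancel this)
    have h3 : Nat.card D * D.index = Nat.card G := D.card_mul_index
    have h4 : Nat.card (Subgroup.centralizer ({h} : Set G)) ≤ D.index := by
      have hDpos : 0 < Nat.card D := Nat.card_pos
      have : Nat.card D * Nat.card (Subgroup.centralizer ({h} : Set G)) ≤ Nat.card D * D.index := by
        rw [h3, ← h1]
        exact Nat.mul_le_mul_right _ h2
      exact Nat.le_of_mul_le_mul_left this hDpos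
    have h5 : D.index ≤ (commutator G).index :=
      Nat.le_of_dvd (Nat.pos_of_ne_zero Subgroup.index_ne_zero_of_finite)
        (Subgroup.index_dvd_of_le hD)
    exact h4.trans h5
  -- column orthogonality
  have hcol := Cfsg.Agent.Helper78.sum_irr_mul_conj h h
  rw [if_pos (IsConj.refl h)] at hcol
  have hterm : ∀ ψ : IrrCharacter G, (ψ : G → ℂ) h * conj ((ψ : G → ℂ) h) =
      ((Complex.normSq ((ψ : G → ℂ) h) : ℝ) : ℂ) := fun ψ => Complex.mul_conj _
  simp only [hterm] at hcol
  have hreal : ∑ ψ : IrrCharacter G, Complex.normSq ((ψ : G → ℂ) h) =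
      (Nat.card (Subgroup.centralizer ({h} : Set G)) : ℝ) := by
    have := congrArg Complex.re hcol
    simpa using this
  -- linear characters have absolute value `1`
  have hlin : ∀ ψ : IrrCharacter G, (ψ : G → ℂ) 1 = 1 → Complex.normSq ((ψ : G → ℂ) h) = 1 := by
    intro ψ hψ
    have h1 : (ψ : G → ℂ) h * (ψ : G → ℂ) h⁻¹ = 1 := by
      rw [← Cfsg.Agent.Helper15.linear_char_mul _
        ⟨Cfsg.Agent.Helper80.isCharacter_of_irr ψ.2, hψ⟩ h h⁻¹, mul_inv_cancel, hψ]
    rw [Cfsg.Agent.Helper78.IsIrrCharacter.inv ψ.2, Complex.mul_conj] at h1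
    exact_mod_cast h1
  have hcount : (Finset.univ.filter (fun ψ : IrrCharacter G => (ψ : G → ℂ) 1 = 1)).card =
      (commutator G).index := by
    rw [← Cfsg.Agent.Helper74.Lin.card_linear, Nat.card_eq_fintype_card, Fintype.card_subtype]
  have hsplit := Finset.sum_filter_add_sum_filter_not Finset.univ
    (fun ψ : IrrCharacter G => (ψ : G → ℂ) 1 = 1)
    (fun ψ => Complex.normSq ((ψ : G → ℂ) h))
  have hlinsum : ∑ ψ ∈ Finset.univ.filter (fun ψ : IrrCharacter G => (ψ : G → ℂ) 1 = 1),
      Complex.normSq ((ψ : G → ℂ) h) = ((commutator G).index : ℝ) := by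
    rw [Finset.sum_congr rfl (fun ψ hψ => hlin ψ (Finset.mem_filter.1 hψ).2), Finset.sum_const,
      hcount]
    simp
  have hnonlin : ∑ ψ ∈ Finset.univ.filter (fun ψ : IrrCharacter G => ¬ (ψ : G → ℂ) 1 = 1),
      Complex.normSq ((ψ : G → ℂ) h) ≤ 0 := by
    have : (Nat.card (Subgroup.centralizer ({h} : Set G)) : ℝ) ≤ ((commutator G).index : ℝ) := by
      exact_mod_cast hcent
    linarith [hsplit, hreal, hlinsum]
  have hzero := (Finset.sum_eq_zero_iff_of_nonneg (fun ψ _ => Complex.normSq_nonneg _)).1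
    (le_antisymm hnonlin (Finset.sum_nonneg (fun ψ _ => Complex.normSq_nonneg _))) χ
    (Finset.mem_filter.2 ⟨Finset.mem_univ _, hχ⟩)
  exact Complex.normSq_eq_zero.1 hzero

end Cfsg.Agent.Helper12.CHM
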