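import Mathlib
import Cfsg.Prelude.Def_Characters
import Cfsg.Agent.Lib.Helper54.CHMDefs

/-!
# CHM (RV2) `conj_coset_of_struct` (helper12, for helper54's server, S4756)
-/

set_option autoImplicit false

namespace Cfsg.Agent.Helper12.CHM

open Cfsg Cfsg.Agent.Helper54.CHM
open scoped ComplexConjugate commutatorElement

variable {G : Type*} [Group G] [Finite G]

theorem conj_coset_of_struct {p : ℕ} [Fact p.Prime] (P : Sylow p G) (A : Subgroup G)
    (hPn : (P : Subgroup G).Normal) (hcop : (Nat.card ↥A).Coprime p)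
    (htop : A ⊔ (P : Subgroup G) = ⊤) (hDn : (⁅A, (P : Subgroup G)⁆).Normal)
    (hsup : ((P : Subgroup G) ⊓ Subgroup.centralizer (A : Set G)) ⊔ ⁅A, (P : Subgroup G)⁆ = (P : Subgroup G))
    (hfpf : ∀ a ∈ A, a ≠ 1 → ∀ d ∈ ⁅A, (P : Subgroup G)⁆, a * d = d * a → d = 1)
    (h : G) (hh : h ∉ (P : Subgroup G)) (d : G) (hd : d ∈ ⁅A, (P : Subgroup G)⁆) :
    IsConj h (h * d) := by
  classical
  -- decompose `h = a * c * d₀`
  have hmem : h ∈ A ⊔ (P : Subgroup G) := by rw [htop]; exact Subgroup.mem_top h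
  rw [← SetLike.mem_coe, Subgroup.mul_normal] at hmem
  obtain ⟨a, ha, x, hx, rfl⟩ := Set.mem_mul.1 hmem
  have hx' : x ∈ ((P : Subgroup G) ⊓ Subgroup.centralizer (A : Set G)) ⊔ ⁅A, (P : Subgroup G)⁆ := by
    rw [hsup]; exact hx
  rw [← SetLike.mem_coe, Subgroup.mul_normal] at hx'
  obtain ⟨c, hc, d₀, hd₀, rfl⟩ := Set.mem_mul.1 hx'
  have hcP : c ∈ (P : Subgroup G) := hc.1
  have hca : c * a = a * c := (Subgroup.mem_centralizer_iff.1 hc.2 a ha).symm
  have ha1 : a ≠ 1 := by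
    rintro rfl
    apply hh
    rw [one_mul]; exact hx
  -- `a ^ |P|` is a nontrivial element of `A`
  set n := Nat.card (P : Subgroup G) with hn
  have hcn : c ^ n = 1 := by
    have h2 : ((⟨c, hcP⟩ : (P : Subgroup G)) ^ n : (P : Subgroup G)) = 1 := pow_card_eq_one'
    calc c ^ n = ((⟨c, hcP⟩ : (P : Subgroup G)) ^ n : (P : Subgroup G)).1 := rfl
      _ = 1 := by rw [h2]; rfl
  have han : a ^ n ≠ 1 := by
    intro h1
    have h2 : orderOf a ∣ n := orderOf_dvd_of_pow_eq_one h1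
    have h3 : orderOf a ∣ Nat.card ↥A := Subgroup.orderOf_dvd_natCard A ha
    obtain ⟨k, hk⟩ := IsPGroup.iff_card.1 P.2
    have h4 : (orderOf a).Coprime n := by
      rw [hn, hk]
      exact Nat.Coprime.pow_right k (Nat.Coprime.coprime_dvd_left h3 hcop)
    have h5 : orderOf a = 1 := Nat.Coprime.eq_one_of_dvd h4 h2
    exact ha1 (orderOf_eq_one_iff.1 h5)
  have hanA : a ^ n ∈ A := A.pow_mem ha n
  -- no nontrivial element of `D` commutes with `h₀ = a * c`
  have hcent : ∀ u ∈ ⁅A, (P : Subgroup G)⁆, u * (a * c) = a * c * u → u = 1 := by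
    intro u hu hcomm
    have h1 : Commute u (a * c) := hcomm
    have h2 : Commute u ((a * c) ^ n) := h1.pow_right n
    have h3 : (a * c) ^ n = a ^ n := by
      have hac : Commute a c := hca.symm
      rw [hac.mul_pow, hcn, mul_one]
    rw [h3] at h2
    exact hfpf (a ^ n) hanA han u hu h2.eq.symm
  -- the map `u ↦ h₀⁻¹ * (u⁻¹ * h₀ * u)` on `D`
  have hDn' := hDn
  let f : ↥(⁅A, (P : Subgroup G)⁆) → ↥(⁅A, (P : Subgroup G)⁆) := fun u =>
    ⟨(a * c)⁻¹ * ((u : G)⁻¹ * (a * c) * (u : G)), by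
      have e : (a * c)⁻¹ * ((u : G)⁻¹ * (a * c) * (u : G)) =
          ((a * c)⁻¹ * (u : G)⁻¹ * (a * c)⁻¹⁻¹) * (u : G) := by group
      rw [e]
      exact Subgroup.mul_mem _ (hDn'.conj_mem _ (Subgroup.inv_mem _ u.2) _) u.2⟩
  have hf : Function.Injective f := by
    intro u v huv
    have h1 : (a * c)⁻¹ * ((u : G)⁻¹ * (a * c) * (u : G)) =
        (a * c)⁻¹ * ((v : G)⁻¹ * (a * c) * (v : G)) := congrArg Subtype.val huv
    have h2 : (u : G)⁻¹ * (a * c) * (u : G) = (v : G)⁻¹ * (a * c) * (v : G) := mul_left_cancel h1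
    have h3 : (u : G) * (v : G)⁻¹ = 1 := by
      apply hcent _ (Subgroup.mul_mem _ u.2 (Subgroup.inv_mem _ v.2))
      calc (u : G) * (v : G)⁻¹ * (a * c)
          = (u : G) * ((v : G)⁻¹ * (a * c) * (v : G)) * (v : G)⁻¹ := by group
        _ = (u : G) * ((u : G)⁻¹ * (a * c) * (u : G)) * (v : G)⁻¹ := by rw [h2]
        _ = a * c * ((u : G) * (v : G)⁻¹) := by group
    exact Subtype.ext (mul_inv_eq_one.1 h3)
  have hfs : Function.Surjective f := Finite.surjective_of_injective hf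
  have hconj : ∀ d' ∈ ⁅A, (P : Subgroup G)⁆, IsConj (a * c) (a * c * d') := by
    intro d' hd'
    obtain ⟨u, hu⟩ := hfs ⟨d', hd'⟩
    have h1 : (a * c)⁻¹ * ((u : G)⁻¹ * (a * c) * (u : G)) = d' := congrArg Subtype.val hu
    rw [isConj_iff]
    refine ⟨(u : G)⁻¹, ?_⟩
    rw [inv_inv, ← h1]
    group
  have e1 : a * (c * d₀) = a * c * d₀ := by group
  rw [e1, mul_assoc (a * c) d₀ d]
  exact (hconj d₀ hd₀).symm.trans (hconj (d₀ * d) (Subgroup.mul_mem _ hd₀ hd))

end Cfsg.Agent.Helper12.CHM
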