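import Mathlib

set_option autoImplicit false
set_option linter.style.haveILetI false
set_option linter.unusedSimpArgs false

/-! Criteria for a finite group to have a subgroup of index 2, and an invariance trick. -/

namespace Cfsg.Agent.Helper12.IndexTwo

open scoped commutatorElement

variable {Γ : Type*} [Group Γ]

/-- a nontrivial finite 2-group has a subgroup of index 2 -/
theorem exists_of_two_group [Finite Γ] {k : ℕ} (hk : 1 ≤ k) (hcard : Nat.card Γ = 2 ^ k) :
    ∃ N : Subgroup Γ, N.index = 2 := by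
  haveI : Fact (Nat.Prime 2) := ⟨Nat.prime_two⟩
  obtain ⟨j, rfl⟩ : ∃ j, k = j + 1 := ⟨k - 1, by omega⟩
  have hdvd : 2 ^ j ∣ Nat.card Γ := by rw [hcard]; exact pow_dvd_pow 2 (Nat.le_succ j)
  obtain ⟨N, hN⟩ := Sylow.exists_subgroup_card_pow_prime 2 hdvd
  refine ⟨N, ?_⟩
  have h := N.card_mul_index
  rw [hN, hcard, pow_succ] at h
  have hpos : 0 < 2 ^ j := by positivity
  exact Nat.eq_of_mul_eq_mul_left hpos h

/-- pull back a subgroup of index 2 along a surjection -/
theorem exists_of_surjective {Q : Type*} [Group Q] (f : Γ →* Q) (hf : Function.Surjective f)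
    (h : ∃ N : Subgroup Q, N.index = 2) : ∃ N : Subgroup Γ, N.index = 2 := by
  obtain ⟨N, hN⟩ := h
  exact ⟨N.comap f, by rw [Subgroup.index_comap_of_surjective N hf]; exact hN⟩

/-- a normal subgroup whose index is a nontrivial power of 2 -/
theorem exists_of_normal_index_pow [Finite Γ] (M : Subgroup Γ) [M.Normal] {k : ℕ} (hk : 1 ≤ k)
    (hM : M.index = 2 ^ k) : ∃ N : Subgroup Γ, N.index = 2 := by
  apply exists_of_surjective (QuotientGroup.mk' M) (QuotientGroup.mk'_surjective M)
  apply exists_of_two_group hk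
  rw [← Subgroup.index_eq_card]; exact hM

/-- a normal subgroup of even index with abelian quotient -/
theorem exists_of_commutator_le [Finite Γ] (M : Subgroup Γ) [M.Normal] (hab : commutator Γ ≤ M)
    (heven : 2 ∣ M.index) : ∃ N : Subgroup Γ, N.index = 2 := by
  haveI : Fact (Nat.Prime 2) := ⟨Nat.prime_two⟩
  have hcomm : ∀ x y : Γ ⧸ M, x * y = y * x := by
    intro x y
    obtain ⟨g, rfl⟩ := QuotientGroup.mk_surjective x
    obtain ⟨h, rfl⟩ := QuotientGroup.mk_surjective y
    rw [← QuotientGroup.mk_mul, ← QuotientGroup.mk_mul, QuotientGroup.eq]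
    have h1 : ⁅h⁻¹, g⁻¹⁆ ∈ M := by
      apply hab
      rw [commutator_def]
      exact Subgroup.commutator_mem_commutator (Subgroup.mem_top _) (Subgroup.mem_top _)
    have h2 : (g * h)⁻¹ * (h * g) = ⁅h⁻¹, g⁻¹⁆ := by
      rw [commutatorElement_def]; group
    rw [h2]; exact h1
  have hcardQ : Nat.card (Γ ⧸ M) = M.index := (Subgroup.index_eq_card M).symm
  have hne : M.index ≠ 0 := Subgroup.index_ne_zero_of_finite
  obtain ⟨k, m, hm, hkm⟩ := Nat.exists_eq_two_pow_mul_odd hne
  have hk : 1 ≤ k := by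
    rcases Nat.eq_zero_or_pos k with h0 | h0
    · exfalso
      rw [h0, pow_zero, one_mul] at hkm
      rw [hkm] at heven
      exact (Nat.not_even_iff_odd.mpr hm) (even_iff_two_dvd.mpr heven)
    · exact h0
  let φ : (Γ ⧸ M) →* (Γ ⧸ M) :=
    { toFun := fun x => x ^ m
      map_one' := one_pow m
      map_mul' := fun x y => Commute.mul_pow (hcomm x y) m }
  have hφ : ∀ x, φ x = x ^ m := fun _ => rfl
  -- the range is a 2-group
  have hR2 : IsPGroup 2 φ.range := by
    rintro ⟨y, x, rfl⟩
    refine ⟨k, Subtype.ext ?_⟩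
    rw [Subgroup.coe_pow, Subgroup.coe_one]
    change (φ x) ^ 2 ^ k = 1
    rw [hφ, ← pow_mul, mul_comm, ← hkm, ← hcardQ]
    exact pow_card_eq_one'
  obtain ⟨j, hj⟩ := (IsPGroup.iff_card).mp hR2
  have hj1 : 1 ≤ j := by
    rcases Nat.eq_zero_or_pos j with h0 | h0
    · exfalso
      rw [h0, pow_zero] at hj
      have h2dvd : 2 ∣ Nat.card (Γ ⧸ M) := by rw [hcardQ]; exact heven
      obtain ⟨t, ht⟩ := exists_prime_orderOf_dvd_card' 2 h2dvd
      have htm : t ^ m = t := by
        obtain ⟨i, hi⟩ := hm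
        have ht2 : t ^ 2 = 1 := by rw [← ht]; exact pow_orderOf_eq_one t
        rw [hi, pow_succ, pow_mul, ht2, one_pow, one_mul]
      have ht1 : t ≠ 1 := by
        intro h1
        rw [h1, orderOf_one] at ht
        omega
      have hmem : t ∈ φ.range := ⟨t, by rw [hφ, htm]⟩
      have hbot : φ.range = ⊥ := Subgroup.card_eq_one.mp hj
      rw [hbot, Subgroup.mem_bot] at hmem
      exact ht1 hmem
    · exact h0
  have h1 := exists_of_two_group (Γ := φ.range) hj1 hj
  have h2 := exists_of_surjective φ.rangeRestrict φ.rangeRestrict_surjective h1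
  exact exists_of_surjective (QuotientGroup.mk' M) (QuotientGroup.mk'_surjective M) h2

/-- the centraliser of a non-central normal subgroup of order 3 has index 2 -/
theorem centralizer_index_two [Finite Γ] (T : Subgroup Γ) [hTn : T.Normal] (hT : Nat.card T = 3)
    (hnc : ¬ T ≤ Subgroup.center Γ) : (Subgroup.centralizer (T : Set Γ)).index = 2 := by
  classical
  -- a generator
  have hnt : ∃ t ∈ T, t ≠ 1 := by
    by_contra hcon
    push Not at hcon
    have : T = ⊥ := (Subgroup.eq_bot_iff_forall T).mpr hcon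
    rw [this, Subgroup.card_bot] at hT
    omega
  obtain ⟨t, htT, ht1⟩ := hnt
  have ht3 : t ^ 3 = 1 := by
    have h := pow_card_eq_one' (G := T) (x := ⟨t, htT⟩)
    rw [hT] at h
    exact congrArg Subtype.val h
  have hord : orderOf t = 3 := by
    have h3 : Nat.Prime 3 := by norm_num
    rcases (Nat.dvd_prime h3).mp (orderOf_dvd_of_pow_eq_one ht3) with h | h
    · exact absurd (orderOf_eq_one_iff.mp h) ht1
    · exact h
  have hzp : Subgroup.zpowers t = T := by
    apply Subgroup.eq_of_le_of_card_ge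
    · rw [Subgroup.zpowers_le]; exact htT
    · rw [Nat.card_zpowers, hord, hT]
  have hmemT : ∀ x ∈ T, x = 1 ∨ x = t ∨ x = t⁻¹ := by
    intro x hx
    rw [← hzp, Subgroup.mem_zpowers_iff] at hx
    obtain ⟨k, rfl⟩ := hx
    rw [← zpow_mod_orderOf, hord]
    have h0 : 0 ≤ k % ((3 : ℕ) : ℤ) := Int.emod_nonneg _ (by norm_num)
    have h3 : k % ((3 : ℕ) : ℤ) < 3 := Int.emod_lt_of_pos _ (by norm_num)
    obtain ⟨r, hr⟩ : ∃ r : ℕ, k % ((3 : ℕ) : ℤ) = r := ⟨(k % ((3 : ℕ) : ℤ)).toNat, by omega⟩
    rw [hr, zpow_natCast]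
    have hr3 : r < 3 := by omega
    interval_cases r
    · left; simp
    · right; left; simp
    · right; right
      rw [eq_inv_iff_mul_eq_one, ← pow_succ]
      exact ht3
  have htinv : t⁻¹ ≠ t := by
    intro h
    have h2 : t ^ 2 = 1 := by
      rw [pow_two]
      nth_rewrite 1 [← h]
      exact inv_mul_cancel t
    have := orderOf_dvd_of_pow_eq_one h2
    rw [hord] at this
    omega
  have hconj : ∀ g : Γ, g * t * g⁻¹ = t ∨ g * t * g⁻¹ = t⁻¹ := by
    intro g
    rcases hmemT _ (hTn.conj_mem t htT g) with h | h | h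
    · exfalso
      apply ht1
      have : t = g⁻¹ * (g * t * g⁻¹) * g := by group
      rw [this, h]; group
    · exact Or.inl h
    · exact Or.inr h
  have hC : ∀ g : Γ, g ∈ Subgroup.centralizer (T : Set Γ) ↔ g * t * g⁻¹ = t := by
    intro g
    rw [Subgroup.mem_centralizer_iff]
    constructor
    · intro h
      have := h t htT
      rw [← this]; group
    · intro h x hx
      have hx' : x ∈ Subgroup.zpowers t := by rw [hzp]; exact hx
      rw [Subgroup.mem_zpowers_iff] at hx'
      obtain ⟨k, rfl⟩ := hx'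
      have hgt : g * t = t * g := by
        calc g * t = (g * t * g⁻¹) * g := by group
          _ = t * g := by rw [h]
      exact ((Commute.zpow_right (show Commute g t from hgt) k).eq).symm
  -- an element inverting t
  have hexa : ∃ a : Γ, a * t * a⁻¹ = t⁻¹ := by
    by_contra hcon
    push Not at hcon
    apply hnc
    intro x hx
    rw [Subgroup.mem_center_iff]
    intro g
    have hg : g ∈ Subgroup.centralizer (T : Set Γ) := by
      rw [hC]
      rcases hconj g with h | h
      · exact h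
      · exact absurd h (hcon g)
    rw [Subgroup.mem_centralizer_iff] at hg
    exact (hg x hx).symm
  obtain ⟨a, ha⟩ := hexa
  rw [Subgroup.index_eq_two_iff]
  refine ⟨a, fun b => ?_⟩
  rw [hC, hC]
  have hba : b * a * t * (b * a)⁻¹ = b * (a * t * a⁻¹) * b⁻¹ := by group
  rw [hba, ha]
  have hinv : b * t⁻¹ * b⁻¹ = (b * t * b⁻¹)⁻¹ := by group
  rw [hinv]
  rcases hconj b with h | h
  · right
    refine ⟨h, ?_⟩
    rw [h]; exact htinv
  · left
    refine ⟨?_, ?_⟩
    · rw [h, inv_inv]
    · rw [h]; exact htinv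

/-- if some subgroup has index 2 then some subgroup of index 2 is invariant under a given
involutory automorphism -/
theorem exists_invariant (σ : Γ ≃* Γ) (hσ : ∀ x, σ (σ x) = x) (M : Subgroup Γ)
    (hM : M.index = 2) : ∃ M' : Subgroup Γ, M'.index = 2 ∧ ∀ x ∈ M', σ x ∈ M' := by
  by_cases hinv : ∀ x ∈ M, σ x ∈ M
  · exact ⟨M, hM, hinv⟩
  push Not at hinv
  obtain ⟨a₀, ha₀M, ha₀⟩ := hinv
  have hmul := fun a b : Γ => Subgroup.mul_mem_iff_of_index_two hM (a := a) (b := b)
  have hmulσ : ∀ a b : Γ, σ (a * b) ∈ M ↔ (σ a ∈ M ↔ σ b ∈ M) := by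
    intro a b
    rw [map_mul]; exact hmul _ _
  let M' : Subgroup Γ :=
    { carrier := {x | x ∈ M ↔ σ x ∈ M}
      one_mem' := by
        change (1 : Γ) ∈ M ↔ σ 1 ∈ M
        rw [map_one]
      mul_mem' := by
        intro x y hx hy
        change x ∈ M ↔ σ x ∈ M at hx
        change y ∈ M ↔ σ y ∈ M at hy
        change x * y ∈ M ↔ σ (x * y) ∈ M
        rw [hmul, hmulσ, hx, hy]
      inv_mem' := by
        intro x hx
        change x ∈ M ↔ σ x ∈ M at hx
        change x⁻¹ ∈ M ↔ σ x⁻¹ ∈ M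
        rw [map_inv, inv_mem_iff, inv_mem_iff]
        exact hx }
  have hmem : ∀ x, x ∈ M' ↔ (x ∈ M ↔ σ x ∈ M) := fun _ => Iff.rfl
  refine ⟨M', ?_, ?_⟩
  · rw [Subgroup.index_eq_two_iff]
    refine ⟨a₀, fun b => ?_⟩
    rw [hmem, hmem, hmul, hmulσ]
    by_cases h1 : b ∈ M <;> by_cases h2 : σ b ∈ M <;> simp [h1, h2, ha₀M, ha₀, Xor]
  · intro x hx
    rw [hmem] at hx ⊢
    rw [hσ]
    exact hx.symm

end Cfsg.Agent.Helper12.IndexTwo
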