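import Mathlib
import Cfsg.Agent.Lib.Helper12.IndexTwo

set_option autoImplicit false
set_option linter.unusedSectionVars false
set_option linter.style.haveILetI false

/-! Normal subgroups of prime order: centralisers, and splitting off a central Sylow subgroup. -/

namespace Cfsg.Agent.Helper12.CentralSplit

open Cfsg.Agent.Helper12.IndexTwo

open scoped commutatorElement

variable {Γ : Type*} [Group Γ]

/-- the quotient by the centraliser of a cyclic normal subgroup is abelian -/
theorem commutator_le_centralizer (A₀ : Subgroup Γ) [hAn : A₀.Normal] (hAc : IsCyclic A₀) :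
    commutator Γ ≤ Subgroup.centralizer (A₀ : Set Γ) := by
  obtain ⟨a, ha⟩ := hAc.exists_generator
  have hgen : ∀ b ∈ A₀, ∃ k : ℤ, (a : Γ) ^ k = b := by
    intro b hb
    have := ha ⟨b, hb⟩
    rw [Subgroup.mem_zpowers_iff] at this
    obtain ⟨k, hk⟩ := this
    refine ⟨k, ?_⟩
    have := congrArg Subtype.val hk
    simpa using this
  have hconj_eq : ∀ u w : Γ, u * (a : Γ) * u⁻¹ = w * (a : Γ) * w⁻¹ →
      ∀ b ∈ A₀, u * b * u⁻¹ = w * b * w⁻¹ := by
    intro u w h b hb
    obtain ⟨k, rfl⟩ := hgen b hb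
    rw [← conj_zpow, ← conj_zpow, h]
  have hswap : ∀ g h : Γ, (g * h) * (a : Γ) * (g * h)⁻¹ = (h * g) * (a : Γ) * (h * g)⁻¹ := by
    intro g h
    obtain ⟨i, hi⟩ := hgen _ (hAn.conj_mem (a : Γ) a.2 g)
    obtain ⟨j, hj⟩ := hgen _ (hAn.conj_mem (a : Γ) a.2 h)
    have h1 : (g * h) * (a : Γ) * (g * h)⁻¹ = g * (h * (a : Γ) * h⁻¹) * g⁻¹ := by group
    have h2 : (h * g) * (a : Γ) * (h * g)⁻¹ = h * (g * (a : Γ) * g⁻¹) * h⁻¹ := by group
    rw [h1, h2, ← hi, ← hj, ← conj_zpow, ← conj_zpow, ← hi, ← hj, ← zpow_mul, ← zpow_mul, mul_comm]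
  rw [commutator_def, Subgroup.commutator_le]
  intro g _ h _
  rw [Subgroup.mem_centralizer_iff]
  intro b hb
  have hb' : (h * g)⁻¹ * b * (h * g) ∈ A₀ := by
    have := hAn.conj_mem b hb (h * g)⁻¹
    rwa [inv_inv] at this
  have h1 := hconj_eq (g * h) (h * g) (hswap g h) _ hb'
  have h2 : (h * g) * ((h * g)⁻¹ * b * (h * g)) * (h * g)⁻¹ = b := by group
  rw [h2] at h1
  have h3 : ⁅g, h⁆ = (g * h) * (h * g)⁻¹ := by
    rw [commutatorElement_def]; group
  rw [h3]
  calc b * ((g * h) * (h * g)⁻¹)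
      = ((g * h) * ((h * g)⁻¹ * b * (h * g)) * (g * h)⁻¹) * ((g * h) * (h * g)⁻¹) := by rw [h1]
    _ = (g * h) * (h * g)⁻¹ * b := by group

/-- the index of the centraliser of a normal subgroup of prime order `r` divides `r - 1` -/
theorem centralizer_index_dvd [Finite Γ] (P : Subgroup Γ) [P.Normal] {r : ℕ} (hr : r.Prime)
    (hP : Nat.card P = r) : (Subgroup.centralizer (P : Set Γ)).index ∣ r - 1 := by
  haveI : Fact r.Prime := ⟨hr⟩
  haveI : IsCyclic P := isCyclic_of_prime_card hP
  let φ : Γ →* MulAut P := MulAut.conjNormal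
  have hker : φ.ker = Subgroup.centralizer (P : Set Γ) := by
    ext g
    rw [MonoidHom.mem_ker, Subgroup.mem_centralizer_iff]
    constructor
    · intro h x hx
      have h1 := congrArg (fun f : MulAut P => ((f ⟨x, hx⟩ : P) : Γ)) h
      simp only [φ, MulAut.conjNormal_apply, MulAut.one_apply] at h1
      calc x * g = (g * x * g⁻¹) * g := by rw [h1]
        _ = g * x := by group
    · intro h
      apply MulEquiv.ext
      intro x
      apply Subtype.ext
      rw [MulAut.conjNormal_apply, MulAut.one_apply]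
      have := h x x.2
      calc g * (x : Γ) * g⁻¹ = ((x : Γ) * g) * g⁻¹ := by rw [this]
        _ = x := by group
  rw [← hker, Subgroup.index_ker]
  have hfin : Finite (MulAut P) :=
    Finite.of_injective (fun f : MulAut P => (f : P → P)) DFunLike.coe_injective
  have h1 := Subgroup.card_subgroup_dvd_card φ.range
  rw [IsCyclic.card_mulAut, hP, Nat.totient_prime hr] at h1
  exact h1

/-- a normal subgroup of prime order is central, or there is a subgroup of index 2, provided the
only odd common divisor of `r - 1` and the group order is 1 -/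
theorem central_or_index_two [Finite Γ] (P : Subgroup Γ) [P.Normal] {r : ℕ} (hr : r.Prime)
    (hP : Nat.card P = r)
    (hodd : ∀ d : ℕ, d ∣ r - 1 → d ∣ Nat.card Γ → ¬ 2 ∣ d → d = 1) :
    (∃ N : Subgroup Γ, N.index = 2) ∨ P ≤ Subgroup.center Γ := by
  haveI : Fact r.Prime := ⟨hr⟩
  haveI : IsCyclic P := isCyclic_of_prime_card hP
  have hab := commutator_le_centralizer P inferInstance
  by_cases heven : 2 ∣ (Subgroup.centralizer (P : Set Γ)).index
  · exact Or.inl (exists_of_commutator_le _ hab heven)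
  · right
    have h1 := hodd _ (centralizer_index_dvd P hr hP) (Subgroup.index_dvd_card _) heven
    have h2 : Subgroup.centralizer (P : Set Γ) = ⊤ := Subgroup.index_eq_one.mp h1
    intro x hx
    rw [Subgroup.mem_center_iff]
    intro g
    have hg : g ∈ Subgroup.centralizer (P : Set Γ) := by rw [h2]; exact Subgroup.mem_top g
    rw [Subgroup.mem_centralizer_iff] at hg
    exact (hg x hx).symm

/-- splitting off a central subgroup of prime order `r` when `r²` does not divide the order -/
theorem exists_split [Finite Γ] (P : Subgroup Γ) {r : ℕ} (hr : r.Prime) (hP : Nat.card P = r)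
    (hPc : P ≤ Subgroup.center Γ) (hr2 : ¬ r ^ 2 ∣ Nat.card Γ) :
    ∃ X₀ : Subgroup Γ, Nat.card X₀ * r = Nat.card Γ ∧ Nonempty (Γ ≃* X₀ × P) := by
  haveI : Fact r.Prime := ⟨hr⟩
  -- `P` is a Sylow subgroup
  have hfac : (Nat.card Γ).factorization r = 1 := by
    have hdvd : r ∣ Nat.card Γ := by rw [← hP]; exact Subgroup.card_subgroup_dvd_card P
    have hpos : Nat.card Γ ≠ 0 := Nat.card_pos.ne'
    have h1 : 1 ≤ (Nat.card Γ).factorization r :=
      (hr.dvd_iff_one_le_factorization hpos).mp hdvd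
    have h2 : ¬ 2 ≤ (Nat.card Γ).factorization r := by
      intro h
      exact hr2 ((hr.pow_dvd_iff_le_factorization hpos).mpr h)
    omega
  let PS : Sylow r Γ := Sylow.ofCard P (by rw [hP, hfac, pow_one])
  have hPS : (PS : Subgroup Γ) = P := rfl
  have hNC : Subgroup.normalizer ((PS : Subgroup Γ) : Set Γ) ≤
      Subgroup.centralizer ((PS : Subgroup Γ) : Set Γ) := by
    intro g _
    rw [Subgroup.mem_centralizer_iff]
    intro x hx
    have := hPc hx
    rw [Subgroup.mem_center_iff] at this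
    exact (this g).symm
  have hcompl := MonoidHom.ker_transferSylow_isComplement' PS hNC
  set X₀ : Subgroup Γ := (MonoidHom.transferSylow PS hNC).ker with hX₀
  have hcard : Nat.card X₀ * r = Nat.card Γ := by
    have := hcompl.card_mul_card
    rw [hPS, hP] at this
    exact this
  refine ⟨X₀, hcard, ?_⟩
  -- the product map
  have hbij : Function.Bijective (fun x : X₀ × P => (x.1 : Γ) * (x.2 : Γ)) := hcompl
  let ψ : X₀ × P →* Γ :=
    { toFun := fun x => (x.1 : Γ) * (x.2 : Γ)
      map_one' := by simp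
      map_mul' := by
        intro x y
        have hc := hPc x.2.2
        rw [Subgroup.mem_center_iff] at hc
        change ((x.1 * y.1 : X₀) : Γ) * ((x.2 * y.2 : P) : Γ) = _
        rw [Subgroup.coe_mul, Subgroup.coe_mul]
        calc (x.1 : Γ) * (y.1 : Γ) * ((x.2 : Γ) * (y.2 : Γ))
            = (x.1 : Γ) * ((y.1 : Γ) * (x.2 : Γ)) * (y.2 : Γ) := by group
          _ = (x.1 : Γ) * ((x.2 : Γ) * (y.1 : Γ)) * (y.2 : Γ) := by rw [hc (y.1 : Γ)]
          _ = (x.1 : Γ) * (x.2 : Γ) * ((y.1 : Γ) * (y.2 : Γ)) := by group }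
  exact ⟨(MulEquiv.ofBijective ψ hbij).symm⟩

/-- a cyclic group of order `r` is `Multiplicative (ZMod r)` -/
theorem nonempty_mulEquiv_zmod {P : Type*} [Group P] [Finite P] {r : ℕ} (hr : r.Prime)
    (hP : Nat.card P = r) : Nonempty (P ≃* Multiplicative (ZMod r)) := by
  haveI : Fact r.Prime := ⟨hr⟩
  haveI : IsCyclic P := isCyclic_of_prime_card hP
  have e1 := zmodCyclicMulEquiv (inferInstance : IsCyclic P)
  have e2 : ZMod (Nat.card P) ≃+ ZMod r := (ZMod.ringEquivCongr hP).toAddEquiv
  exact ⟨e1.symm.trans (AddEquiv.toMultiplicative e2)⟩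

end Cfsg.Agent.Helper12.CentralSplit
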