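import Mathlib

set_option autoImplicit false
set_option linter.unusedSectionVars false

/-! Coordinates on a set of prime size acted on by a `p`-cycle, and reflections. -/

namespace Cfsg.Agent.Helper12.PrimeDegree

variable {p : ℕ} [hp : Fact p.Prime] {α : Type*} [Fintype α] [DecidableEq α]

theorem exists_equiv_of_orderOf (hα : Fintype.card α = p) (τ : Equiv.Perm α)
    (hτo : orderOf τ = p) : ∃ e : ZMod p ≃ α, ∀ k, τ (e k) = e (k + 1) := by
  have hne : Nonempty α := by
    rw [← Fintype.card_pos_iff, hα]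
    exact hp.out.pos
  obtain ⟨x₀⟩ := hne
  have hcyc : τ.IsCycle :=
    Equiv.Perm.isCycle_of_prime_order'' (by rw [hα]; exact hp.out) (by rw [hα]; exact hτo)
  have hsupp : τ.support = Finset.univ := by
    rw [← Finset.card_eq_iff_eq_univ, ← hcyc.orderOf, hτo, hα]
  have hmoved : ∀ y : α, τ y ≠ y := by
    intro y
    rw [← Equiv.Perm.mem_support, hsupp]
    exact Finset.mem_univ y
  let e0 : ZMod p → α := fun k => (τ ^ k.val) x₀
  have hpow : ∀ n : ℕ, (τ ^ n) x₀ = e0 (n : ZMod p) := by
    intro n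
    change _ = (τ ^ (n : ZMod p).val) x₀
    rw [ZMod.val_natCast, ← hτo, pow_mod_orderOf]
  have hsurj : Function.Surjective e0 := by
    intro y
    obtain ⟨i, hi⟩ := hcyc.exists_pow_eq (hmoved x₀) (hmoved y)
    exact ⟨(i : ZMod p), by rw [← hpow, hi]⟩
  have hbij : Function.Bijective e0 := by
    rw [Fintype.bijective_iff_surjective_and_card]
    exact ⟨hsurj, by rw [ZMod.card, hα]⟩
  refine ⟨Equiv.ofBijective e0 hbij, ?_⟩
  intro k
  rw [Equiv.ofBijective_apply, Equiv.ofBijective_apply]
  have h1 : e0 (k + 1) = (τ ^ (k.val + 1)) x₀ := by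
    rw [hpow]
    congr 1
    rw [Nat.cast_add, ZMod.natCast_zmod_val, Nat.cast_one]
  rw [h1, pow_succ', Equiv.Perm.mul_apply]

theorem pow_apply (e : ZMod p ≃ α) (τ : Equiv.Perm α) (he : ∀ k, τ (e k) = e (k + 1)) (n : ℕ)
    (k : ZMod p) : (τ ^ n) (e k) = e (k + n) := by
  induction n with
  | zero => simp
  | succ n ih =>
    rw [pow_succ', Equiv.Perm.mul_apply, ih, he]
    congr 1
    push_cast
    ring

theorem zpow_apply (e : ZMod p ≃ α) (τ : Equiv.Perm α) (he : ∀ k, τ (e k) = e (k + 1))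
    (hτo : orderOf τ = p) (j : ℤ) (k : ZMod p) : (τ ^ j) (e k) = e (k + j) := by
  have hp0 : (p : ℤ) ≠ 0 := by exact_mod_cast hp.out.ne_zero
  have h1 : τ ^ j = τ ^ (j % p).toNat := by
    rw [← zpow_natCast, Int.toNat_of_nonneg (Int.emod_nonneg j hp0), ← hτo, zpow_mod_orderOf]
  rw [h1, pow_apply e τ he]
  congr 2
  have h2 : (((j % p).toNat : ℤ) : ZMod p) = ((j % p : ℤ) : ZMod p) := by
    rw [Int.toNat_of_nonneg (Int.emod_nonneg j hp0)]
  rw [← Int.cast_natCast, h2]
  rw [ZMod.intCast_eq_intCast_iff]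
  exact Int.mod_modEq j p

theorem sq_not_dvd_factorial : ¬ p * p ∣ p.factorial := by
  intro h
  have hpos := hp.out.pos
  have h1 : p.factorial = p * (p - 1).factorial := by
    obtain ⟨q, hq⟩ : ∃ q, p = q + 1 := ⟨p - 1, by omega⟩
    rw [hq, Nat.factorial_succ, Nat.add_sub_cancel]
  rw [h1] at h
  have h2 : p ∣ (p - 1).factorial := Nat.dvd_of_mul_dvd_mul_left hpos h
  have h3 := (hp.out.dvd_factorial).mp h2
  omega

theorem sylow_card (hα : Fintype.card α = p) (G : Subgroup (Equiv.Perm α))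
    [MulAction.IsPretransitive G α] (P : Sylow p G) : Nat.card P = p := by
  have hne : Nonempty α := by
    rw [← Fintype.card_pos_iff, hα]
    exact hp.out.pos
  obtain ⟨x₀⟩ := hne
  have hdvd : p ∣ Nat.card G := by
    have h1 := MulAction.index_stabilizer_of_transitive G x₀
    rw [Nat.card_eq_fintype_card, hα] at h1
    rw [← h1]
    exact Subgroup.index_dvd_card _
  obtain ⟨k, hk⟩ := (IsPGroup.iff_card.mp P.isPGroup')
  have hPG : Nat.card P ∣ Nat.card G := Subgroup.card_subgroup_dvd_card _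
  have hGS : Nat.card G ∣ p.factorial := by
    have := Subgroup.card_subgroup_dvd_card G
    rwa [Nat.card_eq_fintype_card (α := Equiv.Perm α), Fintype.card_perm, hα] at this
  have hk2 : k < 2 := by
    by_contra hk2
    push Not at hk2
    apply sq_not_dvd_factorial (p := p)
    have : p * p ∣ p ^ k := by
      rw [← sq]
      exact pow_dvd_pow p hk2
    exact this.trans ((hk ▸ hPG).trans hGS)
  have hk0 : k ≠ 0 := by
    intro h0
    rw [h0, pow_zero] at hk
    have hbot : (P : Subgroup G) = ⊥ := Subgroup.card_eq_one.mp hk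
    exact P.ne_bot_of_dvd_card hdvd hbot
  have : k = 1 := by omega
  rw [hk, this, pow_one]

theorem exists_reflection (hα : Fintype.card α = p) (hp2 : p ≠ 2) (G : Subgroup (Equiv.Perm α))
    [MulAction.IsPretransitive G α] (P : Sylow p G)
    (heven : Even (Nat.card (Subgroup.normalizer ((P : Subgroup G) : Set G)))) :
    ∃ (e : ZMod p ≃ α) (τ t : G) (b : ZMod p),
      (∀ k, τ.1 (e k) = e (k + 1)) ∧ (∀ k, t.1 (e k) = e (b - k)) := by
  have hPc := sylow_card hα G P
  obtain ⟨τG, hτmem, hτo⟩ : ∃ τG : G, τG ∈ (P : Subgroup G) ∧ orderOf τG = p := by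
    obtain ⟨τ', hτ'⟩ := exists_prime_orderOf_dvd_card' p (by rw [hPc] : p ∣ Nat.card P)
    refine ⟨τ'.1, τ'.2, ?_⟩
    rw [Subgroup.orderOf_coe]
    exact hτ'
  have hτo' : orderOf (τG.1 : Equiv.Perm α) = p := by
    rw [Subgroup.orderOf_coe]
    exact hτo
  have hPz : (P : Subgroup G) = Subgroup.zpowers τG := by
    symm
    apply Subgroup.eq_of_le_of_card_ge
    · rw [Subgroup.zpowers_le]
      exact hτmem
    · rw [Nat.card_zpowers, hτo, hPc]
  have h2prime : Fact (Nat.Prime 2) := ⟨Nat.prime_two⟩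
  obtain ⟨tG, htmem, hto⟩ : ∃ tG : G, tG ∈ Subgroup.normalizer ((P : Subgroup G) : Set G) ∧
      orderOf tG = 2 := by
    obtain ⟨t', ht'⟩ := exists_prime_orderOf_dvd_card' 2 heven.two_dvd
    refine ⟨t'.1, t'.2, ?_⟩
    rw [Subgroup.orderOf_coe]
    exact ht'
  have h1 : tG * τG * tG⁻¹ ∈ (P : Subgroup G) :=
    (Subgroup.mem_set_normalizer_iff.mp htmem τG).mp hτmem
  rw [hPz, Subgroup.mem_zpowers_iff] at h1
  obtain ⟨j, hj⟩ := h1
  obtain ⟨e, he⟩ := exists_equiv_of_orderOf hα τG.1 hτo'
  set τ : Equiv.Perm α := τG.1 with hτdef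
  set t : Equiv.Perm α := tG.1 with htdef
  have hcomm : t * τ = τ ^ j * t := by
    have h3 : τG ^ j * tG = tG * τG := by
      rw [hj]
      group
    have h4 := congrArg (fun g : G => (g : Equiv.Perm α)) h3
    simp only [Subgroup.coe_mul, Subgroup.coe_zpow] at h4
    exact h4.symm
  have ht2 : t * t = 1 := by
    have h3 : tG ^ 2 = 1 := by
      rw [← hto]
      exact pow_orderOf_eq_one _
    have h4 := congrArg (fun g : G => (g : Equiv.Perm α)) h3
    simp only [Subgroup.coe_pow, Subgroup.coe_one] at h4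
    rw [← sq]
    exact h4
  have ht1 : t ≠ 1 := by
    intro h
    have h3 : tG = 1 := Subtype.ext h
    rw [h3, orderOf_one] at hto
    omega
  let T : ZMod p → ZMod p := fun k => e.symm (t (e k))
  have hT : ∀ k, t (e k) = e (T k) := fun k => (e.apply_symm_apply _).symm
  have hstep : ∀ k, T (k + 1) = T k + j := by
    intro k
    apply e.injective
    rw [← hT, ← he, ← Equiv.Perm.mul_apply, hcomm, Equiv.Perm.mul_apply, hT,
      zpow_apply e τ he hτo' j]
  have hlin : ∀ n : ℕ, T (n : ZMod p) = T 0 + (j : ZMod p) * n := by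
    intro n
    induction n with
    | zero => simp
    | succ n ih =>
      rw [Nat.cast_succ, hstep, ih]
      ring
  have hlin' : ∀ k : ZMod p, T k = T 0 + (j : ZMod p) * k := by
    intro k
    have := hlin k.val
    rwa [ZMod.natCast_zmod_val] at this
  have hTT : ∀ k, T (T k) = k := by
    intro k
    apply e.injective
    rw [← hT, ← hT, ← Equiv.Perm.mul_apply, ht2]
    rfl
  set b := T 0 with hb
  set c := (j : ZMod p) with hc
  have e0 := hTT 0
  have e1 := hTT 1
  rw [hlin' 0, hlin' (b + c * 0)] at e0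
  rw [hlin' 1, hlin' (b + c * 1)] at e1
  have hc2 : c * c = 1 := by linear_combination e1 - e0
  have hc1 : c = 1 ∨ c = -1 := by
    have : (c - 1) * (c + 1) = 0 := by linear_combination hc2
    rcases mul_eq_zero.mp this with h | h
    · left; exact sub_eq_zero.mp h
    · right; exact eq_neg_of_add_eq_zero_left h
  have h2ne : (2 : ZMod p) ≠ 0 := by
    intro h
    have h3 : ((2 : ℕ) : ZMod p) = 0 := by exact_mod_cast h
    rw [ZMod.natCast_eq_zero_iff] at h3
    have := (Nat.prime_dvd_prime_iff_eq hp.out Nat.prime_two).mp h3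
    exact hp2 this
  rcases hc1 with h | h
  · exfalso
    apply ht1
    rw [h] at e0
    have hb0 : b = 0 := by
      have : 2 * b = 0 := by linear_combination e0
      rcases mul_eq_zero.mp this with h' | h'
      · exact absurd h' h2ne
      · exact h'
    ext y
    obtain ⟨k, rfl⟩ := e.surjective y
    rw [hT, hlin', h]
    change e (b + 1 * k) = e k
    rw [hb0]
    congr 1
    ring
  · refine ⟨e, τG, tG, b, he, ?_⟩
    intro k
    change t (e k) = _
    rw [hT, hlin', h]
    congr 1
    ring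

end Cfsg.Agent.Helper12.PrimeDegree
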