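import Mathlib
import Cfsg.Agent.Lib.Helper12.PrimeDegree

set_option autoImplicit false
set_option linter.unusedSectionVars false

/-! Galois: a solvable transitive group of prime degree consists of affine maps. -/

namespace Cfsg.Agent.Helper12.Galois

open MulAction Cfsg.Agent.Helper12.PrimeDegree

variable {p : ℕ} [hp : Fact p.Prime] {α : Type*} [Fintype α] [DecidableEq α]

/-- a solvable non-trivial group has a non-trivial abelian normal subgroup -/
theorem exists_abelian_normal {G : Type*} [Group G] [Nontrivial G] (hs : Group.IsSolvable G) :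
    ∃ A : Subgroup G, A.Normal ∧ A ≠ ⊥ ∧ ∀ x ∈ A, ∀ y ∈ A, x * y = y * x := by
  classical
  have hex := hs.solvable
  have hmin : ∀ m, m < Nat.find hex → ¬ derivedSeries G m = ⊥ := fun m hm => Nat.find_min hex hm
  have hspec := Nat.find_spec hex
  set n := Nat.find hex with hn
  have hn0 : n ≠ 0 := by
    intro h0
    rw [h0, derivedSeries_zero] at hspec
    exact top_ne_bot hspec
  obtain ⟨m, hm⟩ : ∃ m, n = m + 1 := ⟨n - 1, by omega⟩
  refine ⟨derivedSeries G m, derivedSeries_normal G m, ?_, ?_⟩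
  · intro h
    exact hmin m (by omega) h
  · intro x hx y hy
    rw [hm, derivedSeries_succ, Subgroup.commutator_eq_bot_iff_le_centralizer] at hspec
    have := hspec hx
    rw [Subgroup.mem_centralizer_iff] at this
    exact (this y hy).symm

theorem affine_of_solvable (hα : Fintype.card α = p) (G : Subgroup (Equiv.Perm α))
    [MulAction.IsPretransitive G α] (hs : Group.IsSolvable G) :
    ∃ e : ZMod p ≃ α, ∀ g ∈ G, ∃ c b : ZMod p, ∀ k, g (e k) = e (b + c * k) := by
  have hne : Nonempty α := by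
    rw [← Fintype.card_pos_iff, hα]
    exact hp.out.pos
  obtain ⟨x₀⟩ := hne
  have hprim : IsPreprimitive G α :=
    IsPreprimitive.of_prime_card (by rw [Nat.card_eq_fintype_card, hα]; exact hp.out)
  have hntG : Nontrivial G := by
    have h2 : 2 ≤ Fintype.card α := by rw [hα]; exact hp.out.two_le
    obtain ⟨y, hy⟩ : ∃ y, y ≠ x₀ := by
      by_contra hcon
      push Not at hcon
      have : Fintype.card α ≤ 1 :=
        Fintype.card_le_one_iff.mpr (fun a b => (hcon a).trans (hcon b).symm)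
      omega
    obtain ⟨g, hg⟩ := MulAction.exists_smul_eq G x₀ y
    refine ⟨⟨g, 1, ?_⟩⟩
    intro h
    rw [h, one_smul] at hg
    exact hy hg.symm
  obtain ⟨A, hAn, hA0, hAc⟩ := exists_abelian_normal hs
  have hAt : IsPretransitive A α := by
    apply IsQuasiPreprimitive.isPretransitive_of_normal (G := G)
    intro hfix
    apply hA0
    rw [eq_bot_iff]
    intro a ha
    rw [Subgroup.mem_bot]
    apply Subtype.ext
    ext y
    have : y ∈ fixedPoints A α := by rw [hfix]; exact Set.mem_univ y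
    exact this ⟨a, ha⟩
  have hdvd : p ∣ Nat.card A := by
    have h1 := MulAction.index_stabilizer_of_transitive A x₀
    rw [Nat.card_eq_fintype_card, hα] at h1
    rw [← h1]
    exact Subgroup.index_dvd_card _
  obtain ⟨τA, hτA⟩ := exists_prime_orderOf_dvd_card' p hdvd
  have hτo : orderOf (τA.1.1 : Equiv.Perm α) = p := by
    rw [Subgroup.orderOf_coe, Subgroup.orderOf_coe]
    exact hτA
  obtain ⟨e, he⟩ := exists_equiv_of_orderOf hα τA.1.1 hτo
  refine ⟨e, ?_⟩
  intro g hg
  -- σ = g τ g⁻¹ ∈ A commutes with τ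
  have hσA : (⟨g, hg⟩ : G) * τA.1 * (⟨g, hg⟩ : G)⁻¹ ∈ A := hAn.conj_mem _ τA.2 _
  have hcomm := hAc _ hσA _ τA.2
  set τ : Equiv.Perm α := τA.1.1 with hτdef
  set σ : Equiv.Perm α := g * τ * g⁻¹ with hσdef
  have hcomm' : σ * τ = τ * σ := by
    have := congrArg (fun x : G => (x : Equiv.Perm α)) hcomm
    simpa using this
  -- σ is a translation
  let U : ZMod p → ZMod p := fun k => e.symm (σ (e k))
  have hU : ∀ k, σ (e k) = e (U k) := fun k => (e.apply_symm_apply _).symm
  have hUstep : ∀ k, U (k + 1) = U k + 1 := by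
    intro k
    apply e.injective
    rw [← hU, ← he, ← Equiv.Perm.mul_apply, hcomm', Equiv.Perm.mul_apply, hU, he]
  have hUlin : ∀ n : ℕ, U (n : ZMod p) = U 0 + n := by
    intro n
    induction n with
    | zero => simp
    | succ n ih =>
      rw [Nat.cast_succ, hUstep, ih]
      ring
  have hUlin' : ∀ k : ZMod p, U k = U 0 + k := by
    intro k
    have := hUlin k.val
    rwa [ZMod.natCast_zmod_val] at this
  -- g is affine
  let T : ZMod p → ZMod p := fun k => e.symm (g (e k))
  have hT : ∀ k, g (e k) = e (T k) := fun k => (e.apply_symm_apply _).symm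
  have hgτ : g * τ = σ * g := by
    rw [hσdef]
    group
  have hTstep : ∀ k, T (k + 1) = T k + U 0 := by
    intro k
    apply e.injective
    rw [← hT, ← he, ← Equiv.Perm.mul_apply, hgτ, Equiv.Perm.mul_apply, hT, hU, hUlin']
    congr 1
    ring
  have hTlin : ∀ n : ℕ, T (n : ZMod p) = T 0 + U 0 * n := by
    intro n
    induction n with
    | zero => simp
    | succ n ih =>
      rw [Nat.cast_succ, hTstep, ih]
      ring
  refine ⟨U 0, T 0, ?_⟩
  intro k
  rw [hT]
  congr 1
  have := hTlin k.val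
  rwa [ZMod.natCast_zmod_val] at this

theorem fixed_of_affine (e : ZMod p ≃ α) (G : Subgroup (Equiv.Perm α))
    (haff : ∀ g ∈ G, ∃ c b : ZMod p, ∀ k, g (e k) = e (b + c * k))
    (H : Subgroup G) (hH : ¬ p ∣ Nat.card H) : ∃ a : α, ∀ h ∈ H, h • a = a := by
  classical
  have hfin : Fintype H := Fintype.ofFinite _
  have hN : ((Nat.card H : ℕ) : ZMod p) ≠ 0 := by
    rw [Ne, ZMod.natCast_eq_zero_iff]
    exact hH
  set S : ZMod p := ∑ h : H, e.symm (h.1.1 (e 0)) with hS
  set k₀ : ZMod p := ((Nat.card H : ℕ) : ZMod p)⁻¹ * S with hk₀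
  have hNk : ((Nat.card H : ℕ) : ZMod p) * k₀ = S := by
    rw [hk₀, ← mul_assoc, mul_inv_cancel₀ hN, one_mul]
  refine ⟨e k₀, ?_⟩
  intro h' hh'
  obtain ⟨c, b, hcb⟩ := haff h'.1 h'.2
  change h'.1 (e k₀) = e k₀
  rw [hcb]
  congr 1
  have h1 : S = ∑ h : H, e.symm (h'.1 (h.1.1 (e 0))) := by
    rw [hS]
    symm
    apply Fintype.sum_equiv (Equiv.mulLeft (⟨h', hh'⟩ : H))
    intro h
    rfl
  have h2 : ∑ h : H, e.symm (h'.1 (h.1.1 (e 0))) =
      ((Nat.card H : ℕ) : ZMod p) * b + c * S := by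
    have : ∀ h : H, e.symm (h'.1 (h.1.1 (e 0))) = b + c * e.symm (h.1.1 (e 0)) := by
      intro h
      have : h.1.1 (e 0) = e (e.symm (h.1.1 (e 0))) := (e.apply_symm_apply _).symm
      rw [this, hcb, Equiv.symm_apply_apply, Equiv.symm_apply_apply]
    rw [Finset.sum_congr rfl (fun h _ => this h), Finset.sum_add_distrib, Finset.sum_const,
      Finset.card_univ, ← Finset.mul_sum, nsmul_eq_mul, Nat.card_eq_fintype_card]
  have h3 : ((Nat.card H : ℕ) : ZMod p) * (b + c * k₀) = ((Nat.card H : ℕ) : ZMod p) * k₀ := by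
    rw [hNk, mul_add, mul_left_comm, hNk]
    rw [← h2, ← h1]
  exact mul_left_cancel₀ hN h3

end Cfsg.Agent.Helper12.Galois
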