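import Mathlib

set_option autoImplicit false

namespace Cfsg.Agent.Helper12

variable {α : Type*}

/-- The centralizer of a transitive permutation group is semiregular. -/
theorem centralizer_semiregular (T : Subgroup (Equiv.Perm α)) [MulAction.IsPretransitive T α]
    {c : Equiv.Perm α} (hc : c ∈ Subgroup.centralizer (T : Set (Equiv.Perm α))) {a : α}
    (hca : c a = a) : c = 1 := by
  ext b
  obtain ⟨g, rfl⟩ := MulAction.exists_smul_eq T a b
  rw [Subgroup.mem_centralizer_iff] at hc
  have h1 := hc g.1 g.2
  have : c (g.1 a) = g.1 (c a) := by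
    have := congrArg (fun f : Equiv.Perm α => f a) h1
    simpa using this.symm
  change c (g.1 a) = g.1 a
  rw [this, hca]

/-- A transitive subgroup of the centralizer of a transitive group is the whole centralizer. -/
theorem centralizer_eq_of_transitive_le (T R : Subgroup (Equiv.Perm α))
    [MulAction.IsPretransitive T α] [MulAction.IsPretransitive R α]
    (hR : R ≤ Subgroup.centralizer (T : Set (Equiv.Perm α))) :
    Subgroup.centralizer (T : Set (Equiv.Perm α)) = R := by
  apply le_antisymm _ hR
  intro c hc
  rcases isEmpty_or_nonempty α with hα | ⟨⟨a⟩⟩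
  · have : c = 1 := by ext x; exact (hα.false x).elim
    rw [this]; exact R.one_mem
  · obtain ⟨r, hr⟩ := MulAction.exists_smul_eq R a (c a)
    have hr' : r.1 a = c a := hr
    have h1 : r.1⁻¹ * c ∈ Subgroup.centralizer (T : Set (Equiv.Perm α)) :=
      Subgroup.mul_mem _ (Subgroup.inv_mem _ (hR r.2)) hc
    have h2 : (r.1⁻¹ * c) a = a := by
      rw [Equiv.Perm.coe_mul, Function.comp_apply, ← hr', Equiv.Perm.inv_def, Equiv.symm_apply_apply]
    have h3 := centralizer_semiregular T h1 h2
    have : c = r.1 := by
      have := congrArg (fun x => r.1 * x) h3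
      simpa using this
    rw [this]; exact r.2

/-- The image in `Perm α` of a subgroup of a permutation group. -/
abbrev permImage {G : Subgroup (Equiv.Perm α)} (M : Subgroup G) : Subgroup (Equiv.Perm α) :=
  M.map G.subtype

theorem mem_permImage {G : Subgroup (Equiv.Perm α)} (M : Subgroup G) (m : M) :
    ((m : G) : Equiv.Perm α) ∈ permImage M := ⟨m.1, m.2, rfl⟩

theorem permImage_le_iff {G : Subgroup (Equiv.Perm α)} (M N : Subgroup G) :
    permImage M ≤ permImage N ↔ M ≤ N :=
  Subgroup.map_le_map_iff_of_injective (Subgroup.subtype_injective G)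

theorem permImage_pretransitive {G : Subgroup (Equiv.Perm α)} (M : Subgroup G)
    (h : MulAction.IsPretransitive M α) : MulAction.IsPretransitive (permImage M) α := by
  constructor
  intro a b
  obtain ⟨m, hm⟩ := MulAction.exists_smul_eq M a b
  exact ⟨⟨_, mem_permImage M m⟩, hm⟩

/-- If `M`, `N` commute elementwise then the image of `N` centralizes the image of `M`. -/
theorem permImage_le_centralizer {G : Subgroup (Equiv.Perm α)} (M N : Subgroup G)
    (h : ∀ x ∈ M, ∀ y ∈ N, x * y = y * x) :
    permImage N ≤ Subgroup.centralizer ((permImage M : Subgroup (Equiv.Perm α)) : Set _) := by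
  rintro _ ⟨y, hy, rfl⟩
  rw [Subgroup.mem_centralizer_iff]
  rintro _ ⟨x, hx, rfl⟩
  have := h x hx y hy
  have h2 := congrArg (G.subtype) this
  simpa using h2

/-- Regularity from a transitive commuting partner. -/
theorem stabilizer_eq_bot_of_commuting_transitive {G : Subgroup (Equiv.Perm α)}
    (M N : Subgroup G) (hN : MulAction.IsPretransitive N α)
    (h : ∀ x ∈ M, ∀ y ∈ N, x * y = y * x) (a : α) : MulAction.stabilizer M a = ⊥ := by
  rw [Subgroup.eq_bot_iff_forall]
  intro m hm
  rw [MulAction.mem_stabilizer_iff] at hm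
  have : MulAction.IsPretransitive (permImage N) α := permImage_pretransitive N hN
  have h1 : ((m : G) : Equiv.Perm α) ∈
      Subgroup.centralizer ((permImage N : Subgroup (Equiv.Perm α)) : Set _) :=
    permImage_le_centralizer N M (fun x hx y hy => (h y hy x hx).symm) (mem_permImage M m)
  have h2 : ((m : G) : Equiv.Perm α) a = a := hm
  have h3 := centralizer_semiregular (permImage N) h1 h2
  apply Subtype.ext
  apply Subtype.ext
  exact h3

/-- Two distinct minimal normal subgroups meet trivially. -/
theorem minimal_normal_disjoint {G : Type*} [Group G] (M L : Subgroup G) [M.Normal] [L.Normal]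
    (hL : L ≠ ⊥)
    (hMmin : ∀ K : Subgroup G, K.Normal → K ≤ M → K = ⊥ ∨ K = M)
    (hLmin : ∀ K : Subgroup G, K.Normal → K ≤ L → K = ⊥ ∨ K = L)
    (hne : L ≠ M) : Disjoint M L := by
  rw [disjoint_iff]
  have hn : (M ⊓ L).Normal := inferInstance
  rcases hLmin (M ⊓ L) hn inf_le_right with h | h
  · exact h
  · exfalso
    have hLM : L ≤ M := by rw [← h]; exact inf_le_left
    rcases hMmin L inferInstance hLM with h' | h'
    · exact hL h'
    · exact hne h'

end Cfsg.Agent.Helper12
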