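import Mathlib
import Cfsg.Agent.Lib.Helper12.BurnsidePrime
import Cfsg.Agent.Lib.Helper12.PrimeDegree
import Cfsg.Agent.Lib.Helper12.PermCentralizer
import Cfsg.Agent.Lib.Helper12.Galois

set_option autoImplicit false
set_option linter.unusedSectionVars false

/-! Transitive non-solvable groups of degree 7 not containing `A_7` have order 168 and are simple. -/

namespace Cfsg.Agent.Helper12.Deg7

open MulAction Cfsg.Agent.Helper12

section general

variable {p : ℕ} [hp : Fact p.Prime] {α : Type*} [Fintype α] [DecidableEq α]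

/-- A subgroup of a permutation group of prime degree `p` containing an element of order `p`
is transitive. -/
theorem transitive_of_orderOf (hα : Fintype.card α = p) {G : Subgroup (Equiv.Perm α)}
    (H : Subgroup G) (τ : G) (hτH : τ ∈ H) (hτo : orderOf τ = p) : IsPretransitive H α := by
  have hτo' : orderOf (τ : Equiv.Perm α) = p := by rw [Subgroup.orderOf_coe]; exact hτo
  obtain ⟨e, he⟩ := PrimeDegree.exists_equiv_of_orderOf hα (τ : Equiv.Perm α) hτo'
  constructor
  intro x y
  obtain ⟨i, rfl⟩ := e.surjective x
  obtain ⟨j, rfl⟩ := e.surjective y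
  refine ⟨⟨τ ^ (j - i).val, H.pow_mem hτH _⟩, ?_⟩
  change ((τ ^ (j - i).val : G) : Equiv.Perm α) (e i) = e j
  rw [Subgroup.coe_pow, PrimeDegree.pow_apply e _ he, ZMod.natCast_zmod_val]
  congr 1
  ring

/-- An abelian transitive subgroup of a permutation group is self-centralizing. -/
theorem centralizer_eq_self {G : Subgroup (Equiv.Perm α)} (H : Subgroup G)
    (ht : IsPretransitive H α) (hc : ∀ x ∈ H, ∀ y ∈ H, x * y = y * x) (a : α) :
    Subgroup.centralizer (H : Set G) = H := by
  apply le_antisymm
  · intro c hc'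
    obtain ⟨h, hh⟩ := MulAction.exists_smul_eq H a (c • a)
    have hHle : H ≤ Subgroup.centralizer (H : Set G) := by
      intro x hx
      rw [Subgroup.mem_centralizer_iff]
      intro y hy
      exact hc y hy x hx
    have hstab := stabilizer_eq_bot_of_commuting_transitive
      (Subgroup.centralizer (H : Set G)) H ht
      (fun x hx y hy => by
        rw [Subgroup.mem_centralizer_iff] at hx
        exact (hx y hy).symm) a
    have hmem : (h : G)⁻¹ * c ∈ Subgroup.centralizer (H : Set G) :=
      Subgroup.mul_mem _ (Subgroup.inv_mem _ (hHle h.2)) hc'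
    have hfix : (⟨(h : G)⁻¹ * c, hmem⟩ : Subgroup.centralizer (H : Set G)) ∈
        MulAction.stabilizer (Subgroup.centralizer (H : Set G)) a := by
      rw [MulAction.mem_stabilizer_iff]
      change ((h : G)⁻¹ * c) • a = a
      rw [mul_smul, ← hh]
      exact inv_smul_smul _ _
    rw [hstab, Subgroup.mem_bot] at hfix
    have h1 : (h : G)⁻¹ * c = 1 := congrArg Subtype.val hfix
    have h2 : c = h := by
      have := congrArg (fun x => (h : G) * x) h1
      simpa using this
    rw [h2]
    exact h.2
  · intro x hx
    rw [Subgroup.mem_centralizer_iff]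
    intro y hy
    exact hc y hy x hx

/-- A transitive abelian subgroup of a permutation group of degree `n` has order `n`. -/
theorem card_of_abelian_transitive {G : Subgroup (Equiv.Perm α)} (H : Subgroup G)
    (ht : IsPretransitive H α) (hc : ∀ x ∈ H, ∀ y ∈ H, x * y = y * x) (a : α) :
    Nat.card H = Fintype.card α := by
  have hstab := stabilizer_eq_bot_of_commuting_transitive H H ht hc a
  have h1 := MulAction.index_stabilizer_of_transitive H a
  rw [hstab, Subgroup.index_bot, Nat.card_eq_fintype_card (α := α)] at h1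
  exact h1

/-- A transitive group of prime degree with a non-trivial abelian normal subgroup is solvable. -/
theorem solvable_of_abelian_normal (hα : Fintype.card α = p) (G : Subgroup (Equiv.Perm α))
    [IsPretransitive G α] (B : Subgroup G) [hBn : B.Normal] (hB0 : B ≠ ⊥)
    (hBc : ∀ x ∈ B, ∀ y ∈ B, x * y = y * x) : Group.IsSolvable G := by
  have hne : Nonempty α := by
    rw [← Fintype.card_pos_iff, hα]
    exact hp.out.pos
  obtain ⟨x₀⟩ := hne
  have hprim : IsPreprimitive G α :=
    IsPreprimitive.of_prime_card (by rw [Nat.card_eq_fintype_card, hα]; exact hp.out)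
  have hBt : IsPretransitive B α := by
    apply IsQuasiPreprimitive.isPretransitive_of_normal (G := G)
    intro hfix
    apply hB0
    rw [eq_bot_iff]
    intro a ha
    rw [Subgroup.mem_bot]
    apply Subtype.ext
    ext y
    have : y ∈ fixedPoints B α := by rw [hfix]; exact Set.mem_univ y
    exact this ⟨a, ha⟩
  have hcard : Nat.card B = p := by rw [card_of_abelian_transitive B hBt hBc x₀, hα]
  have hcyc : IsCyclic B := isCyclic_of_prime_card hcard
  have hcent := centralizer_eq_self B hBt hBc x₀
  let _ : CommGroup (MulAut B) :=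
    (hcyc.mulAutMulEquiv _).toMonoidHom.commGroupOfInjective (hcyc.mulAutMulEquiv _).injective
  have hBs : Group.IsSolvable B := by
    let _ : CommGroup B := hcyc.commGroup
    infer_instance
  apply Group.isSolvable_of_ker_le_range B.subtype (MulAut.conjNormal (H := B))
  intro g hg
  rw [MonoidHom.mem_ker] at hg
  rw [Subgroup.range_subtype, ← hcent, Subgroup.mem_centralizer_iff]
  intro b hb
  have h1 := congrArg (fun f : MulAut B => ((f ⟨b, hb⟩ : B) : G)) hg
  simp only [MulAut.conjNormal_apply, MulAut.one_apply] at h1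
  have h2 := congrArg (fun x => x * g) h1
  simpa using h2.symm

/-- A group with a non-trivial solvable normal subgroup has a non-trivial abelian normal
subgroup. -/
theorem exists_abelian_normal_of_solvable_normal {G : Type*} [Group G] (N : Subgroup G)
    [hNn : N.Normal] (hN0 : N ≠ ⊥) (hs : Group.IsSolvable N) :
    ∃ B : Subgroup G, B.Normal ∧ B ≠ ⊥ ∧ ∀ x ∈ B, ∀ y ∈ B, x * y = y * x := by
  classical
  have hex := hs.solvable
  have hmin : ∀ m, m < Nat.find hex → ¬ derivedSeries N m = ⊥ := fun m hm => Nat.find_min hex hm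
  have hspec := Nat.find_spec hex
  set n := Nat.find hex with hn
  have hn0 : n ≠ 0 := by
    intro h0
    rw [h0, derivedSeries_zero] at hspec
    apply hN0
    rw [eq_bot_iff]
    intro x hx
    have : (⟨x, hx⟩ : N) ∈ (⊤ : Subgroup N) := Subgroup.mem_top _
    rw [hspec, Subgroup.mem_bot] at this
    rw [Subgroup.mem_bot]
    exact congrArg Subtype.val this
  obtain ⟨m, hm⟩ : ∃ m, n = m + 1 := ⟨n - 1, by omega⟩
  refine ⟨(derivedSeries N m).map N.subtype, ConjAct.normal_of_characteristic_of_normal, ?_, ?_⟩
  · intro h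
    apply hmin m (by omega)
    rw [← Subgroup.map_eq_bot_iff_of_injective _ N.subtype_injective]
    exact h
  · rintro _ ⟨x, hx, rfl⟩ _ ⟨y, hy, rfl⟩
    rw [hm, derivedSeries_succ, Subgroup.commutator_eq_bot_iff_le_centralizer] at hspec
    have := hspec hx
    rw [Subgroup.mem_centralizer_iff] at this
    have h2 := (this y hy).symm
    rw [← map_mul, ← map_mul, h2]

/-- Sylow arithmetic for a self-centralizing Sylow subgroup of prime order. -/
theorem sylow_arith {G : Type*} [Group G] [Finite G] (P : Sylow p G) (hP : Nat.card P = p)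
    (hC : Subgroup.centralizer ((P : Subgroup G) : Set G) = P) :
    ∃ n : ℕ, n % p = 1 ∧
      (Subgroup.centralizer ((P : Subgroup G) : Set G)).relIndex
        (Subgroup.normalizer ((P : Subgroup G) : Set G)) ∣ p - 1 ∧
      Nat.card G = n * ((Subgroup.centralizer ((P : Subgroup G) : Set G)).relIndex
        (Subgroup.normalizer ((P : Subgroup G) : Set G)) * p) := by
  have hcyc : IsCyclic P := isCyclic_of_prime_card hP
  have key := Subgroup.card_dvd_of_injective _
    (QuotientGroup.kerLift_injective (P : Subgroup G).normalizerMonoidHom)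
  rw [Subgroup.normalizerMonoidHom_ker, ← Subgroup.index, ← Subgroup.relIndex] at key
  rw [hcyc.card_mulAut, hP, Nat.totient_prime hp.out] at key
  refine ⟨Nat.card (Sylow p G), ?_, key, ?_⟩
  · have h1 := card_sylow_modEq_one p G
    have h2 : 1 % p = 1 := Nat.mod_eq_of_lt hp.out.one_lt
    rw [← h2]
    exact h1
  · rw [P.card_eq_index_normalizer]
    have hle : Subgroup.centralizer ((P : Subgroup G) : Set G) ≤
        Subgroup.normalizer ((P : Subgroup G) : Set G) := by
      rw [hC]
      exact Subgroup.le_normalizer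
    have h1 : (Subgroup.centralizer ((P : Subgroup G) : Set G)).relIndex
        (Subgroup.normalizer ((P : Subgroup G) : Set G)) *
        Nat.card (Subgroup.centralizer ((P : Subgroup G) : Set G)) =
        Nat.card (Subgroup.normalizer ((P : Subgroup G) : Set G)) := by
      rw [Subgroup.relIndex, ← Nat.card_congr (Subgroup.subgroupOfEquivOfLe hle).toEquiv]
      exact Subgroup.index_mul_card _
    have h2 : Nat.card (Subgroup.centralizer ((P : Subgroup G) : Set G)) = p := by
      rw [hC]; exact hP
    rw [h2] at h1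
    rw [h1]
    exact (Subgroup.index_mul_card _).symm

/-- The order of a 2-transitive group. -/
theorem card_eq_of_two_transitive (G : Subgroup (Equiv.Perm α)) [IsPretransitive G α]
    (h2 : ∀ {a b c d : α}, a ≠ b → c ≠ d → ∃ g : G, g • a = c ∧ g • b = d) {a b : α}
    (hab : a ≠ b) :
    Nat.card G = Fintype.card α *
      ((Fintype.card α - 1) * Nat.card (stabilizer (stabilizer G a) b)) := by
  have h1 := MulAction.index_stabilizer_of_transitive G a
  rw [Nat.card_eq_fintype_card (α := α)] at h1
  have h3 := Subgroup.index_mul_card (stabilizer G a)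
  have horb : orbit (stabilizer G a) b = {x | x ≠ a} := by
    ext x
    constructor
    · rintro ⟨g, rfl⟩ h
      have hg : (g : G) • a = a := g.2
      have : (g : G) • b = (g : G) • a := by rw [hg]; exact h
      exact hab (MulAction.injective (g : G) this).symm
    · intro hx
      obtain ⟨g, hga, hgb⟩ := h2 hab (Ne.symm hx)
      exact ⟨⟨g, hga⟩, hgb⟩
  have h4 := MulAction.index_stabilizer (stabilizer G a) b
  rw [horb] at h4
  have h5 : ({x | x ≠ a} : Set α).ncard = Fintype.card α - 1 := by
    rw [← Set.card_ne_eq a, ← Nat.card_eq_fintype_card]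
    rfl
  rw [h5] at h4
  have h6 := Subgroup.index_mul_card (stabilizer (stabilizer G a) b)
  rw [← h3, h1, ← h6, h4]

/-- A normal non-trivial subgroup of a transitive group of prime degree is transitive. -/
theorem transitive_of_normal (hα : Fintype.card α = p) (G : Subgroup (Equiv.Perm α))
    [IsPretransitive G α] (B : Subgroup G) [hBn : B.Normal] (hB0 : B ≠ ⊥) :
    IsPretransitive B α := by
  have hprim : IsPreprimitive G α :=
    IsPreprimitive.of_prime_card (by rw [Nat.card_eq_fintype_card, hα]; exact hp.out)
  apply IsQuasiPreprimitive.isPretransitive_of_normal (G := G)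
  intro hfix
  apply hB0
  rw [eq_bot_iff]
  intro a ha
  rw [Subgroup.mem_bot]
  apply Subtype.ext
  ext y
  have : y ∈ fixedPoints B α := by rw [hfix]; exact Set.mem_univ y
  exact this ⟨a, ha⟩

/-- The order of a transitive group of degree `p` is divisible by `p`. -/
theorem dvd_card_of_transitive (hα : Fintype.card α = p) {G : Subgroup (Equiv.Perm α)}
    (B : Subgroup G) (hBt : IsPretransitive B α) : p ∣ Nat.card B := by
  have hne : Nonempty α := by
    rw [← Fintype.card_pos_iff, hα]
    exact hp.out.pos
  obtain ⟨x₀⟩ := hne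
  have h1 := MulAction.index_stabilizer_of_transitive B x₀
  rw [Nat.card_eq_fintype_card, hα] at h1
  rw [← h1]
  exact Subgroup.index_dvd_card _

/-- Burnside transfer: in a transitive group of prime degree `p`, a Sylow `p`-subgroup which is
not the whole group is not central in its normalizer. -/
theorem false_of_normalizer_le_centralizer (hα : Fintype.card α = p)
    (G : Subgroup (Equiv.Perm α)) [IsPretransitive G α] (P : Sylow p G)
    (hNC : Subgroup.normalizer ((P : Subgroup G) : Set G) ≤
      Subgroup.centralizer ((P : Subgroup G) : Set G))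
    (hne : Nat.card G ≠ Nat.card P) : False := by
  have hcomp := MonoidHom.ker_transferSylow_isComplement' P hNC
  have hK0 : (MonoidHom.transferSylow P hNC).ker ≠ ⊥ := by
    intro h0
    have h1 := hcomp.card_mul_card
    rw [h0, Subgroup.card_bot, one_mul] at h1
    exact hne h1.symm
  have hKt := transitive_of_normal hα G (MonoidHom.transferSylow P hNC).ker hK0
  exact MonoidHom.not_dvd_card_ker_transferSylow P hNC (dvd_card_of_transitive hα _ hKt)

end general

section seven

variable {α : Type*} [Fintype α] [DecidableEq α]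

/-- An element of order 3 fixing two of seven points is a 3-cycle. -/
theorem isThreeCycle_of_orderOf (hα : Fintype.card α = 7) (g : Equiv.Perm α)
    (ho : orderOf g = 3) {a b : α} (hab : a ≠ b) (ha : g a = a) (hb : g b = b) :
    g.IsThreeCycle := by
  have hsupp : g.support.card ≤ 5 := by
    have h1 : g.support ⊆ Finset.univ \ {a, b} := by
      intro x hx
      rw [Finset.mem_sdiff]
      refine ⟨Finset.mem_univ _, ?_⟩
      intro hx'
      rw [Finset.mem_insert, Finset.mem_singleton] at hx'
      rw [Equiv.Perm.mem_support] at hx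
      rcases hx' with rfl | rfl
      · exact hx ha
      · exact hx hb
    have h2 := Finset.card_le_card h1
    have h3 : (Finset.univ \ {a, b} : Finset α).card = 5 := by
      rw [Finset.card_sdiff_of_subset (Finset.subset_univ _), Finset.card_univ, hα,
        Finset.card_pair hab]
    omega
  have hall : ∀ n ∈ g.cycleType, n = 3 := by
    intro n hn
    have h1 := Equiv.Perm.dvd_of_mem_cycleType hn
    have h2 := Equiv.Perm.two_le_of_mem_cycleType hn
    rw [ho] at h1
    have h3 : n ≤ 3 := Nat.le_of_dvd (by norm_num) h1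
    interval_cases n
    · omega
    · rfl
  have hrep := Multiset.eq_replicate_card.mpr hall
  have hsum := Equiv.Perm.sum_cycleType g
  rw [hrep, Multiset.sum_replicate, smul_eq_mul] at hsum
  have hne : g.cycleType ≠ 0 := by
    intro h0
    rw [Equiv.Perm.cycleType_eq_zero] at h0
    rw [h0, orderOf_one] at ho
    omega
  have hc0 : Multiset.card g.cycleType ≠ 0 := by
    intro h0
    exact hne (Multiset.card_eq_zero.mp h0)
  have hc1 : Multiset.card g.cycleType = 1 := by omega
  rw [Equiv.Perm.IsThreeCycle, hrep, hc1]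
  rfl

/-- A subgroup of `S_7` of order divisible by 16 contains a transposition. -/
theorem exists_swap_of_sixteen_dvd (hα : Fintype.card α = 7) (G : Subgroup (Equiv.Perm α))
    (h16 : 16 ∣ Nat.card G) : ∃ g ∈ G, g.IsSwap := by
  have : Fact (Nat.Prime 2) := ⟨Nat.prime_two⟩
  have hS7 : Nat.card (Equiv.Perm α) = 5040 := by
    rw [Nat.card_eq_fintype_card, Fintype.card_perm, hα]
    rfl
  obtain ⟨Q⟩ := (inferInstance : Nonempty (Sylow 2 G))
  have hQ16 : 16 ∣ Nat.card Q := Q.pow_dvd_card_of_pow_dvd_card (n := 4) h16
  set Q' : Subgroup (Equiv.Perm α) := (Q : Subgroup G).map G.subtype with hQ'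
  have hQ'card : Nat.card Q' = Nat.card Q :=
    Subgroup.card_map_of_injective G.subtype_injective
  have hQ'p : IsPGroup 2 Q' := Q.isPGroup'.map G.subtype
  obtain ⟨R, hR⟩ := hQ'p.exists_le_sylow
  have hRQ : (R : Subgroup (Equiv.Perm α)) = Q' := by
    symm
    apply Subgroup.eq_of_le_of_card_ge hR
    obtain ⟨j, hj⟩ := R.isPGroup'.exists_card_eq
    have h1 : Nat.card R ∣ 5040 := by
      rw [← hS7]; exact Subgroup.card_subgroup_dvd_card _
    have hj4 : j ≤ 4 := by
      by_contra hcon
      push Not at hcon
      have h2 : 2 ^ 5 ∣ 5040 := (pow_dvd_pow 2 hcon).trans (hj ▸ h1)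
      norm_num at h2
    have h3 : Nat.card R ≤ 16 := by
      rw [hj]
      calc 2 ^ j ≤ 2 ^ 4 := Nat.pow_le_pow_right (by norm_num) hj4
        _ = 16 := by norm_num
    have h4 : 16 ≤ Nat.card Q' := by
      rw [hQ'card]
      exact Nat.le_of_dvd Nat.card_pos hQ16
    exact h3.trans h4
  -- a swap
  obtain ⟨a, b, hab⟩ : ∃ a b : α, a ≠ b := by
    have h1 : 1 < Fintype.card α := by rw [hα]; norm_num
    obtain ⟨a, b, hab⟩ := Fintype.exists_pair_of_one_lt_card h1
    exact ⟨a, b, hab⟩
  set s : Equiv.Perm α := Equiv.swap a b with hs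
  have hsswap : s.IsSwap := ⟨a, b, hab, rfl⟩
  have hzp : IsPGroup 2 (Subgroup.zpowers s) := by
    apply IsPGroup.of_card (n := 1)
    rw [Nat.card_zpowers, hsswap.orderOf, pow_one]
  obtain ⟨R₂, hR₂⟩ := hzp.exists_le_sylow
  obtain ⟨g, hg⟩ := MulAction.exists_smul_eq (Equiv.Perm α) R₂ R
  have hsR : g * s * g⁻¹ ∈ (R : Subgroup (Equiv.Perm α)) := by
    rw [← hg, Sylow.smul_def, Sylow.pointwise_smul_def,
      Subgroup.mem_pointwise_smul_iff_inv_smul_mem, ← map_inv, MulAut.smul_def,
      MulAut.conj_apply]
    have : g⁻¹ * (g * s * g⁻¹) * g⁻¹⁻¹ = s := by group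
    rw [this]
    exact hR₂ (Subgroup.mem_zpowers s)
  rw [hRQ] at hsR
  obtain ⟨q, _, hq⟩ := hsR
  refine ⟨g * s * g⁻¹, ?_, ?_⟩
  · rw [← hq]
    exact q.2
  · rw [Equiv.Perm.isSwap_iff_cycleType, Equiv.Perm.cycleType_conj]
    exact Equiv.Perm.isSwap_iff_cycleType.mp hsswap

theorem squarefree_210 : Squarefree 210 := by
  rw [Nat.squarefree_iff_prime_squarefree]
  intro p hp h
  have h1 : p * p ≤ 210 := Nat.le_of_dvd (by norm_num) h
  have hp15 : p ≤ 14 := by nlinarith
  interval_cases p <;> first | omega | (exfalso; norm_num at hp)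

theorem squarefree_42 : Squarefree 42 := by
  rw [Nat.squarefree_iff_prime_squarefree]
  intro p hp h
  have h1 : p * p ≤ 42 := Nat.le_of_dvd (by norm_num) h
  have hp15 : p ≤ 6 := by nlinarith
  interval_cases p <;> first | omega | (exfalso; norm_num at hp)

theorem arith {t n k : ℕ} (ht : t ∣ 40) (hk : k ∣ 6) (hn : n % 7 = 1)
    (h : 7 * (6 * t) = n * (k * 7)) :
    t = 1 ∨ t = 5 ∨ t = 8 ∨ t = 40 ∨ (t = 20 ∧ k = 1) ∨ t = 4 := by
  have ht40 : t ≤ 40 := Nat.le_of_dvd (by norm_num) ht
  have hk6 : k ≤ 6 := Nat.le_of_dvd (by norm_num) hk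
  have ht0 : 0 < t := Nat.pos_of_dvd_of_pos ht (by norm_num)
  have hk0 : 0 < k := Nat.pos_of_dvd_of_pos hk (by norm_num)
  interval_cases t <;> interval_cases k <;> omega

/-- The order of a non-solvable transitive group of degree 7 not containing `A_7` is 168. -/
theorem card_eq (hα : Fintype.card α = 7) (G : Subgroup (Equiv.Perm α)) [IsPretransitive G α]
    (hG : ¬ Group.IsSolvable G) (hA : ¬ alternatingGroup α ≤ G) : Nat.card G = 168 := by
  have : Fact (Nat.Prime 7) := ⟨by norm_num⟩
  have hprim : IsPreprimitive G α :=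
    IsPreprimitive.of_prime_card (by rw [Nat.card_eq_fintype_card, hα]; norm_num)
  obtain ⟨a, b, hab⟩ : ∃ a b : α, a ≠ b := by
    have h1 : 1 < Fintype.card α := by rw [hα]; norm_num
    obtain ⟨a, b, hab⟩ := Fintype.exists_pair_of_one_lt_card h1
    exact ⟨a, b, hab⟩
  have h2 : ∀ {a b c d : α}, a ≠ b → c ≠ d → ∃ g : G, g • a = c ∧ g • b = d :=
    fun hab hcd => BurnsidePrime.two_transitive hα G hG hab hcd
  have hcard := card_eq_of_two_transitive G h2 hab
  rw [hα] at hcard
  set T := stabilizer (stabilizer G a) b with hT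
  set t := Nat.card T with ht
  have hS7 : Nat.card (Equiv.Perm α) = 5040 := by
    rw [Nat.card_eq_fintype_card, Fintype.card_perm, hα]
    rfl
  have hdvd : Nat.card G ∣ 5040 := by
    rw [← hS7]; exact Subgroup.card_subgroup_dvd_card _
  have ht120 : t ∣ 120 := by
    rw [hcard] at hdvd
    have h3 : 42 * t ∣ 42 * 120 := by
      have : 7 * ((7 - 1) * t) = 42 * t := by ring
      rw [this] at hdvd
      exact hdvd
    exact Nat.dvd_of_mul_dvd_mul_left (by norm_num) h3
  have ht3 : ¬ 3 ∣ t := by
    intro h3
    have : Fact (Nat.Prime 3) := ⟨by norm_num⟩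
    obtain ⟨x, hx⟩ := exists_prime_orderOf_dvd_card' 3 h3
    have ho : orderOf (x.1.1.1 : Equiv.Perm α) = 3 := by
      rw [Subgroup.orderOf_coe, Subgroup.orderOf_coe, Subgroup.orderOf_coe]
      exact hx
    have hxa : (x.1.1.1 : Equiv.Perm α) a = a := x.1.2
    have hxb : (x.1.1.1 : Equiv.Perm α) b = b := x.2
    have h3c := isThreeCycle_of_orderOf hα _ ho hab hxa hxb
    exact hA (Equiv.Perm.alternatingGroup_le_of_isPreprimitive_of_isThreeCycle_mem hprim h3c
      x.1.1.2)
  have ht40 : t ∣ 40 := by
    have ht120' : t ≤ 120 := Nat.le_of_dvd (by norm_num) ht120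
    have ht0 : 0 < t := Nat.pos_of_dvd_of_pos ht120 (by norm_num)
    interval_cases t <;> omega
  -- Sylow 7
  obtain ⟨P⟩ := (inferInstance : Nonempty (Sylow 7 G))
  have hP := PrimeDegree.sylow_card hα G P
  have hcyc : IsCyclic P := isCyclic_of_prime_card hP
  have hPc : ∀ x ∈ (P : Subgroup G), ∀ y ∈ (P : Subgroup G), x * y = y * x := by
    intro x hx y hy
    let _ := hcyc.commGroup
    have := mul_comm (⟨x, hx⟩ : (P : Subgroup G)) ⟨y, hy⟩
    exact congrArg Subtype.val this
  have hPt : IsPretransitive (P : Subgroup G) α := by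
    have h7 : 7 ∣ Nat.card (P : Subgroup G) := by rw [hP]
    obtain ⟨τ, hτ⟩ := exists_prime_orderOf_dvd_card' 7 h7
    exact transitive_of_orderOf hα (P : Subgroup G) τ.1 τ.2 (by
      rw [Subgroup.orderOf_coe]; exact hτ)
  have hC := centralizer_eq_self (P : Subgroup G) hPt hPc a
  obtain ⟨n, hn, hk, hcardG⟩ := sylow_arith P hP hC
  set k := (Subgroup.centralizer ((P : Subgroup G) : Set G)).relIndex
        (Subgroup.normalizer ((P : Subgroup G) : Set G)) with hkdef
  have har := arith ht40 hk hn (by rw [← hcardG, hcard])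
  rcases har with h | h | h | h | ⟨h, hk1⟩ | h
  · exfalso
    apply hG
    have hsq : Squarefree (Nat.card G) := by
      rw [hcard, h]
      exact squarefree_42
    have := IsZGroup.of_squarefree hsq
    infer_instance
  · exfalso
    apply hG
    have hsq : Squarefree (Nat.card G) := by
      rw [hcard, h]
      exact squarefree_210
    have := IsZGroup.of_squarefree hsq
    infer_instance
  · exfalso
    have h16 : 16 ∣ Nat.card G := by
      rw [hcard, h]; norm_num
    obtain ⟨g, hg, hsw⟩ := exists_swap_of_sixteen_dvd hα G h16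
    have := Equiv.Perm.subgroup_eq_top_of_isPreprimitive_of_isSwap_mem hprim g hsw hg
    apply hA
    rw [this]
    exact le_top
  · exfalso
    have h16 : 16 ∣ Nat.card G := by
      rw [hcard, h]; norm_num
    obtain ⟨g, hg, hsw⟩ := exists_swap_of_sixteen_dvd hα G h16
    have := Equiv.Perm.subgroup_eq_top_of_isPreprimitive_of_isSwap_mem hprim g hsw hg
    apply hA
    rw [this]
    exact le_top
  · exfalso
    have hNC : Subgroup.normalizer ((P : Subgroup G) : Set G) ≤
        Subgroup.centralizer ((P : Subgroup G) : Set G) := Subgroup.relIndex_eq_one.mp hk1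
    apply false_of_normalizer_le_centralizer hα G P hNC
    rw [hcard, h, hP]
    norm_num
  · rw [hcard, h]

/-- A non-solvable transitive group of degree 7 not containing `A_7` is simple. -/
theorem isSimpleGroup (hα : Fintype.card α = 7) (G : Subgroup (Equiv.Perm α))
    [IsPretransitive G α] (hG : ¬ Group.IsSolvable G) (hA : ¬ alternatingGroup α ≤ G) :
    IsSimpleGroup G := by
  have : Fact (Nat.Prime 7) := ⟨by norm_num⟩
  have hcard := card_eq hα G hG hA
  have hnt : Nontrivial G := by
    rw [← Finite.one_lt_card_iff_nontrivial, hcard]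
    norm_num
  refine ⟨fun N hN => ?_⟩
  by_cases hN0 : N = ⊥
  · exact Or.inl hN0
  right
  have hNt := transitive_of_normal hα G N hN0
  have hN't : IsPretransitive (permImage N) α := permImage_pretransitive N hNt
  have hle : permImage N ≤ G := Subgroup.map_subtype_le N
  have hA' : ¬ alternatingGroup α ≤ permImage N := fun h => hA (h.trans hle)
  by_cases hs : Group.IsSolvable (permImage N)
  · exfalso
    have hsN : Group.IsSolvable N :=
      Group.isSolvable_of_isSolvable_injective
        (f := (Subgroup.equivMapOfInjective N G.subtype G.subtype_injective).toMonoidHom)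
        (Subgroup.equivMapOfInjective N G.subtype G.subtype_injective).injective
    obtain ⟨B, hBn, hB0, hBc⟩ := exists_abelian_normal_of_solvable_normal N hN0 hsN
    exact hG (solvable_of_abelian_normal hα G B hB0 hBc)
  · have h1 := card_eq hα (permImage N) hs hA'
    have h2 : Nat.card (permImage N) = Nat.card N :=
      Subgroup.card_map_of_injective G.subtype_injective
    apply Subgroup.eq_top_of_card_eq
    rw [← h2, h1, hcard]

end seven

end Cfsg.Agent.Helper12.Deg7
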