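import Mathlib

set_option autoImplicit false
set_option linter.unusedSectionVars false
set_option linter.style.haveILetI false

/-! A determinant parity argument: over a field of odd characteristic, in odd dimension, a linear
automorphism acting without fixed points is not inverted (unless its square is trivial). -/

namespace Cfsg.Agent.Helper12.DetParity

open Module

variable {p : ℕ} [Fact p.Prime] {V : Type*} [AddCommGroup V] [Module (ZMod p) V] [Finite V]

/-- an injective endomorphism cannot be conjugate to its negative in odd dimension and odd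
characteristic -/
theorem even_of_conj_neg (hp2 : p ≠ 2) (h : V ≃ₗ[ZMod p] V) (y : V →ₗ[ZMod p] V)
    (hy : Function.Injective y)
    (hc : ∀ v, h (y v) = -(y (h v))) : Even (finrank (ZMod p) V) := by
  classical
  haveI : Module.Finite (ZMod p) V := Module.Finite.of_finite
  by_contra hodd
  rw [Nat.not_even_iff_odd] at hodd
  have hp : p.Prime := Fact.out
  -- `y` is an equivalence
  have hsurj : Function.Surjective y := Finite.injective_iff_surjective.mp hy
  let ye : V ≃ₗ[ZMod p] V := LinearEquiv.ofBijective y ⟨hy, hsurj⟩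
  have hdet : LinearMap.det y ≠ 0 := by
    have h1 := LinearEquiv.isUnit_det' ye
    have h2 : (ye : V →ₗ[ZMod p] V) = y := by
      ext v
      rfl
    rw [h2] at h1
    exact h1.ne_zero
  have hconj : (h : V →ₗ[ZMod p] V) ∘ₗ y ∘ₗ (h.symm : V →ₗ[ZMod p] V) = (-1 : ZMod p) • y := by
    ext v
    simp only [LinearMap.coe_comp, LinearEquiv.coe_coe, Function.comp_apply,
      LinearMap.smul_apply]
    rw [hc, LinearEquiv.apply_symm_apply]
    simp
  have h1 := LinearMap.det_conj y h
  rw [hconj, LinearMap.det_smul, hodd.neg_one_pow] at h1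
  have h2 : (2 : ZMod p) * LinearMap.det y = 0 := by
    have : LinearMap.det y = -LinearMap.det y := by
      calc LinearMap.det y = -1 * LinearMap.det y := h1.symm
        _ = -LinearMap.det y := by ring
    calc (2 : ZMod p) * LinearMap.det y = LinearMap.det y + LinearMap.det y := by ring
      _ = LinearMap.det y + -LinearMap.det y := by rw [← this]
      _ = 0 := by ring
  have h3 : (2 : ZMod p) ≠ 0 := by
    intro h0
    have h4 : ((2 : ℕ) : ZMod p) = 0 := by exact_mod_cast h0
    rw [ZMod.natCast_eq_zero_iff] at h4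
    have := (Nat.prime_dvd_prime_iff_eq hp Nat.prime_two).mp h4
    exact hp2 this
  rcases mul_eq_zero.mp h2 with h5 | h5
  · exact h3 h5
  · exact hdet h5

/-- in odd dimension and odd characteristic, an automorphism whose square has no non-zero fixed
vector is not inverted by another automorphism -/
theorem sq_eq_one_of_inverted (hp2 : p ≠ 2) (hodd : Odd (finrank (ZMod p) V))
    (x h : V ≃ₗ[ZMod p] V) (hinv : h * x * h⁻¹ = x⁻¹)
    (hfpf : ∀ v : V, v ≠ 0 → (x * x) v = v → x * x = 1) : x * x = 1 := by
  by_contra hx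
  have hfix : ∀ v : V, (x * x) v = v → v = 0 := by
    intro v hv
    by_contra hv0
    exact hx (hfpf v hv0 hv)
  let y : V →ₗ[ZMod p] V := (x : V →ₗ[ZMod p] V) - ((x⁻¹ : V ≃ₗ[ZMod p] V) : V →ₗ[ZMod p] V)
  have hyapp : ∀ v, y v = x v - x⁻¹ v := fun v => rfl
  have hinj : Function.Injective y := by
    rw [← LinearMap.ker_eq_bot, LinearMap.ker_eq_bot']
    intro v hv
    rw [hyapp, sub_eq_zero] at hv
    apply hfix
    change x (x v) = v
    rw [hv]
    change (x * x⁻¹) v = v
    rw [mul_inv_cancel]
    rfl
  have hhx : ∀ v, h (x v) = x⁻¹ (h v) := by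
    intro v
    have h1 : h * x = x⁻¹ * h := by
      calc h * x = (h * x * h⁻¹) * h := by group
        _ = x⁻¹ * h := by rw [hinv]
    exact congrArg (fun g : V ≃ₗ[ZMod p] V => g v) h1
  have hhx' : ∀ v, h (x⁻¹ v) = x (h v) := by
    intro v
    have h1 : h * x⁻¹ = x * h := by
      have h2 : h * x⁻¹ * h⁻¹ = x := by
        have h3 : h * x⁻¹ * h⁻¹ = (h * x * h⁻¹)⁻¹ := by group
        rw [h3, hinv, inv_inv]
      calc h * x⁻¹ = (h * x⁻¹ * h⁻¹) * h := by group
        _ = x * h := by rw [h2]
    exact congrArg (fun g : V ≃ₗ[ZMod p] V => g v) h1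
  have hc : ∀ v, h (y v) = -(y (h v)) := by
    intro v
    rw [hyapp, hyapp, map_sub, hhx, hhx']
    abel
  have := even_of_conj_neg hp2 h y hinj hc
  exact (Nat.not_even_iff_odd.mpr hodd) this

end Cfsg.Agent.Helper12.DetParity
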