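import Mathlib
import Cfsg.Agent.Lib.Helper52.FLDefs

/-!
# FL (BND): the bridge `V/D` -> module, generic part

`conjSub V g hg` : conjugation by a normalising element as an automorphism of `↥V`;
`card_preimage_of_surjective` : fibres of a surjective hom;
`bnd_core` : (BND) for an abstract quotient `π : ↥V →* U` with an equivariant action `φ`, with the
conclusion of (LIN) as a hypothesis.
-/

set_option autoImplicit false

namespace Cfsg.Agent.Helper12.FL

open Cfsg.Agent.Helper52.FL

variable {G : Type*} [Group G]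

/-- conjugation by a normalising element, as an automorphism of the subgroup -/
def conjSub (V : Subgroup G) (g : G) (hg : g ∈ Subgroup.normalizer (V : Set G)) : ↥V ≃* ↥V where
  toFun v := ⟨g * v * g⁻¹, (Subgroup.mem_normalizer_iff.mp hg v).mp v.2⟩
  invFun v := ⟨g⁻¹ * v * g, (Subgroup.mem_normalizer_iff''.mp hg v).mp v.2⟩
  left_inv v := by apply Subtype.ext; simp [mul_assoc]
  right_inv v := by apply Subtype.ext; simp [mul_assoc]
  map_mul' v w := by apply Subtype.ext; simp [mul_assoc]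

@[simp] theorem conjSub_coe (V : Subgroup G) (g : G) (hg : g ∈ Subgroup.normalizer (V : Set G))
    (v : ↥V) : ((conjSub V g hg v : ↥V) : G) = g * v * g⁻¹ := rfl

/-- the fibres of a surjective homomorphism all have the size of the kernel -/
theorem card_preimage_of_surjective {H U : Type*} [Group H] [Group U] [Finite H] (π : H →* U)
    (hπ : Function.Surjective π) (S : Set U) :
    Nat.card (π ⁻¹' S) = Nat.card S * Nat.card π.ker := by
  rw [← Nat.card_prod]
  refine Nat.card_congr ?_
  let σ : U → H := Function.surjInv hπ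
  have hσ : ∀ u, π (σ u) = u := Function.surjInv_eq hπ
  refine
    { toFun := fun v => (⟨π v.1, v.2⟩, ⟨v.1 * (σ (π v.1))⁻¹, ?_⟩)
      invFun := fun uk => ⟨uk.2.1 * σ uk.1.1, ?_⟩
      left_inv := ?_
      right_inv := ?_ }
  · rw [MonoidHom.mem_ker, map_mul, map_inv, hσ, mul_inv_cancel]
  · show π (uk.2.1 * σ uk.1.1) ∈ S
    rw [map_mul, MonoidHom.mem_ker.mp uk.2.2, one_mul, hσ]
    exact uk.1.2
  · intro v
    apply Subtype.ext
    simp
  · rintro ⟨⟨u, hu⟩, ⟨k, hk⟩⟩
    have hk' : π k = 1 := MonoidHom.mem_ker.mp hk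
    apply Prod.ext
    · apply Subtype.ext
      simp [hk', hσ]
    · apply Subtype.ext
      simp [hk', hσ]


/-- (BND) for an abstract quotient `π : ↥V →* U` with kernel `D` and an equivariant action `φ` of `A`,
with the conclusion of (LIN) as a hypothesis. -/
theorem bnd_core [Finite G] {p : ℕ} [Fact p.Prime] (P A V D : Subgroup G)
    (hP : Nat.card P = p) (a : G) (ha : a ∈ A) (hgen : A = P ⊔ cj a P)
    (hDV : D ≤ V) (hAV : A ≤ Subgroup.normalizer (V : Set G))
    (hirr : ∀ E : Subgroup G, D ≤ E → E ≤ V → A ≤ Subgroup.normalizer (E : Set G) → E = D ∨ E = V)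
    (hnt : ∃ y ∈ P, ∃ v ∈ V, y * v * y⁻¹ * v⁻¹ ∉ D)
    {U : Type*} [Group U] (π : ↥V →* U) (hπs : Function.Surjective π)
    (hπk : π.ker = D.subgroupOf V)
    (φ : ↥A →* MulAut U)
    (hφ : ∀ (g : ↥A) (v : ↥V), φ g (π v) = π (conjSub V g (hAV g.2) v))
    (hlin : ∀ x : ↥A, orderOf x = p → Subgroup.normalClosure ({x} : Set ↥A) = ⊤ → φ x ≠ 1 →
      (∀ W : Subgroup U, (∀ g : ↥A, ∀ u ∈ W, φ g u ∈ W) → W = ⊥ ∨ W = ⊤) →
      Nat.card {u : U // φ x u = u} ^ 2 < Nat.card U) :
    Nat.card (S1 P V D) ^ 2 < Nat.card V * Nat.card D := by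
  classical
  have hp : p.Prime := Fact.out
  have hPA : P ≤ A := by rw [hgen]; exact le_sup_left
  -- a generator of `P`
  have : Fact (Nat.card P).Prime := ⟨by rw [hP]; exact hp⟩
  have hcyc : IsCyclic P := isCyclic_of_prime_card (p := Nat.card P) rfl
  obtain ⟨x₀, hx₀⟩ := hcyc.exists_generator
  have hx₀ord : orderOf x₀ = p := by
    rw [orderOf_eq_card_of_forall_mem_zpowers hx₀, hP]
  have hPgen : ∀ y ∈ P, ∃ k : ℤ, (x₀ : G) ^ k = y := by
    intro y hy
    obtain ⟨k, hk⟩ := Subgroup.mem_zpowers_iff.mp (hx₀ ⟨y, hy⟩)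
    exact ⟨k, by have := congrArg Subtype.val hk; simpa using this⟩
  set x : ↥A := ⟨x₀.1, hPA x₀.2⟩ with hxdef
  have hxord : orderOf x = p := by
    rw [hxdef, Subgroup.orderOf_mk, ← hx₀ord, Subgroup.orderOf_coe]
  -- membership in the kernel
  have hker : ∀ v : ↥V, π v = 1 ↔ (v : G) ∈ D := by
    intro v
    rw [← MonoidHom.mem_ker, hπk, Subgroup.mem_subgroupOf]
  -- the action of powers of `x`
  have hpow : ∀ (k : ℤ) (hk : (x₀ : G) ^ k ∈ A), (⟨(x₀ : G) ^ k, hk⟩ : ↥A) = x ^ k := by
    intro k hk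
    apply Subtype.ext
    simp [hxdef]
  -- fixed by `φ x` iff commutators with `P` lie in `D`
  have hfix : ∀ v : ↥V, φ x (π v) = π v ↔ ∀ y ∈ P, y * v * y⁻¹ * (v : G)⁻¹ ∈ D := by
    intro v
    constructor
    · intro hv y hy
      obtain ⟨k, rfl⟩ := hPgen y hy
      have hkA : (x₀ : G) ^ k ∈ A := hPA hy
      have h1 : φ (x ^ k) (π v) = π v := by
        rw [map_zpow]
        have h2 : (φ x) (π v) = π v := hv
        have h3 : ∀ n : ℕ, ((φ x) ^ n) (π v) = π v := by
          intro n
          induction n with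
          | zero => simp
          | succ n ih => rw [pow_succ, MulAut.mul_apply, h2, ih]
        rcases Int.eq_nat_or_neg k with ⟨n, rfl | rfl⟩
        · rw [zpow_natCast]; exact h3 n
        · rw [zpow_neg, zpow_natCast]
          have := h3 n
          rw [MulAut.inv_apply, MulEquiv.symm_apply_eq]
          exact this.symm
      rw [← hpow k hkA, hφ] at h1
      have h4 : π (conjSub V _ (hAV hkA) v * v⁻¹) = 1 := by
        rw [map_mul, h1, map_inv, mul_inv_cancel]
      have := (hker _).mp h4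
      simpa using this
    · intro hv
      have h0 := hv x₀.1 x₀.2
      rw [hφ]
      have h4 : π (conjSub V _ (hAV x.2) v * v⁻¹) = 1 := by
        rw [hker]
        simpa [hxdef] using h0
      rw [map_mul, map_inv, mul_inv_eq_one] at h4
      exact h4
  -- the hypotheses of (LIN)
  have hncl : Subgroup.normalClosure ({x} : Set ↥A) = ⊤ := by
    rw [eq_top_iff]
    intro g _
    have hxN : x ∈ Subgroup.normalClosure ({x} : Set ↥A) :=
      Subgroup.subset_normalClosure (Set.mem_singleton x)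
    have h1 : P ≤ (Subgroup.normalClosure ({x} : Set ↥A)).map A.subtype := by
      intro y hy
      obtain ⟨k, rfl⟩ := hPgen y hy
      have hkA : (x₀ : G) ^ k ∈ A := hPA hy
      refine ⟨⟨(x₀ : G) ^ k, hkA⟩, ?_, rfl⟩
      rw [hpow k hkA]
      exact Subgroup.zpow_mem _ hxN k
    have h2 : cj a P ≤ (Subgroup.normalClosure ({x} : Set ↥A)).map A.subtype := by
      intro y hy
      rw [mem_cj] at hy
      obtain ⟨n, hn, hn'⟩ := h1 hy
      refine ⟨⟨a, ha⟩ * n * ⟨a, ha⟩⁻¹, ?_, ?_⟩
      · exact (Subgroup.normalClosure_normal).conj_mem n hn ⟨a, ha⟩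
      · simp only [Subgroup.subtype_apply] at hn' ⊢
        rw [Subgroup.coe_mul, Subgroup.coe_mul, Subgroup.coe_inv, hn']
        simp [mul_assoc]
    have hg' : (g : G) ∈ P ⊔ cj a P := by rw [← hgen]; exact g.2
    obtain ⟨n, hn, hn'⟩ := sup_le h1 h2 hg'
    have : n = g := Subtype.ext hn'
    rw [← this]; exact hn
  have hφx : φ x ≠ 1 := by
    intro h1
    obtain ⟨y, hy, v, hv, hnot⟩ := hnt
    apply hnot
    have := (hfix ⟨v, hv⟩).mp (by rw [h1]; rfl) y hy
    exact this
  have hirrU : ∀ W : Subgroup U, (∀ g : ↥A, ∀ u ∈ W, φ g u ∈ W) → W = ⊥ ∨ W = ⊤ := by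
    intro W hW
    set E : Subgroup G := (W.comap π).map V.subtype with hE
    have hDE : D ≤ E := by
      intro d hd
      refine ⟨⟨d, hDV hd⟩, ?_, rfl⟩
      show π ⟨d, hDV hd⟩ ∈ W
      rw [(hker _).mpr hd]
      exact W.one_mem
    have hEV : E ≤ V := by
      rintro _ ⟨v, _, rfl⟩
      exact v.2
    have hAE : A ≤ Subgroup.normalizer (E : Set G) := by
      rw [Subgroup.le_normalizer_iff]
      rintro g hg _ ⟨v, hv, rfl⟩
      refine ⟨conjSub V g (hAV hg) v, ?_, rfl⟩
      show π (conjSub V g (hAV hg) v) ∈ W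
      rw [← hφ ⟨g, hg⟩ v]
      exact hW _ _ hv
    rcases hirr E hDE hEV hAE with h1 | h1
    · left
      rw [eq_bot_iff]
      intro u hu
      obtain ⟨v, rfl⟩ := hπs u
      have : (v : G) ∈ E := ⟨v, hu, rfl⟩
      rw [h1] at this
      rw [Subgroup.mem_bot]
      exact (hker v).mpr this
    · right
      rw [eq_top_iff]
      intro u _
      obtain ⟨v, rfl⟩ := hπs u
      have : (v : G) ∈ E := by rw [h1]; exact v.2
      obtain ⟨v', hv', hvv'⟩ := this
      have : v' = v := Subtype.ext hvv'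
      rw [← this]
      exact hv'
  have hL := hlin x hxord hncl hφx hirrU
  -- counting
  have hS1 : S1 P V D = V.subtype '' (π ⁻¹' {u : U | φ x u = u}) := by
    ext w
    simp only [S1, Set.mem_ofPred_eq, Set.mem_image, Set.mem_preimage]
    constructor
    · rintro ⟨hwV, hw⟩
      exact ⟨⟨w, hwV⟩, (hfix ⟨w, hwV⟩).mpr hw, rfl⟩
    · rintro ⟨v, hv, rfl⟩
      exact ⟨v.2, (hfix v).mp hv⟩
  have hc1 : Nat.card (S1 P V D) = Nat.card {u : U // φ x u = u} * Nat.card D := by
    rw [hS1, Nat.card_image_of_injective V.subtype_injective,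
      card_preimage_of_surjective π hπs, hπk]
    congr 1
    exact Nat.card_congr (Subgroup.subgroupOfEquivOfLe hDV).toEquiv
  have hc2 : Nat.card V = Nat.card U * Nat.card D := by
    have h1 := card_preimage_of_surjective π hπs Set.univ
    rw [Set.preimage_univ, Nat.card_coe_set_eq, Set.ncard_univ, Nat.card_coe_set_eq,
      Set.ncard_univ, hπk] at h1
    rw [h1]
    congr 1
    exact Nat.card_congr (Subgroup.subgroupOfEquivOfLe hDV).toEquiv
  have hDpos : 0 < Nat.card D := Nat.card_pos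
  rw [hc1, hc2]
  calc (Nat.card {u : U // φ x u = u} * Nat.card D) ^ 2
      = Nat.card {u : U // φ x u = u} ^ 2 * (Nat.card D * Nat.card D) := by ring
    _ < Nat.card U * (Nat.card D * Nat.card D) :=
        Nat.mul_lt_mul_of_pos_right hL (Nat.mul_pos hDpos hDpos)
    _ = Nat.card U * Nat.card D * Nat.card D := by ring

end Cfsg.Agent.Helper12.FL
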