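import Mathlib
import Cfsg.Agent.Lib.Helper52.FLDefs
import Cfsg.Agent.Lib.Helper52.Coprime
import Cfsg.Agent.Lib.Helper9.WielandtBasic
import Cfsg.Agent.Lib.Helper97.FXDefs
import Cfsg.Agent.Lib.Helper12.FLBNDcore

set_option autoImplicit false
set_option linter.unusedVariables false

namespace Cfsg.Agent.Helper12.FL

open Cfsg.Agent.Helper52.FL Cfsg.Agent.Helper97.FX

universe u

variable {G : Type u} [Group G] [Finite G]

section GEN

/-- (BND) with (LIN), specialised to the group `↥A` and the universe of `G`, as a hypothesis. -/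
theorem card_S1_sq_lt_of {p r : ℕ} [Fact p.Prime] [Fact r.Prime] (hp : 5 ≤ p) (P A V D : Subgroup G)
    (hP : Nat.card P = p) (hsolv : Group.IsSolvable ↥A) (a : G) (ha : a ∈ A) (hgen : A = P ⊔ cj a P)
    (hDV : D ≤ V) (hDne : D ≠ V) (hAV : A ≤ Subgroup.normalizer (V : Set G))
    (hAD : A ≤ Subgroup.normalizer (D : Set G)) (hVD : V ≤ Subgroup.normalizer (D : Set G))
    (hder : ⁅V, V⁆ ≤ D) (hpow : ∀ v ∈ V, v ^ r ∈ D)
    (hirr : ∀ E : Subgroup G, D ≤ E → E ≤ V → A ≤ Subgroup.normalizer (E : Set G) → E = D ∨ E = V)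
    (hnt : ∃ y ∈ P, ∃ v ∈ V, y * v * y⁻¹ * v⁻¹ ∉ D)
    (hlin : ∀ {U : Type u} [CommGroup U] [Finite U] [Nontrivial U], (∀ u : U, u ^ r = 1) →
      ∀ (φ : ↥A →* MulAut U) (x : ↥A), orderOf x = p →
      Subgroup.normalClosure ({x} : Set ↥A) = ⊤ → φ x ≠ 1 →
      (∀ W : Subgroup U, (∀ g : ↥A, ∀ u ∈ W, φ g u ∈ W) → W = ⊥ ∨ W = ⊤) →
      Nat.card {u : U // φ x u = u} ^ 2 < Nat.card U) :
    Nat.card (S1 P V D) ^ 2 < Nat.card V * Nat.card D := by
  have hn : (D.subgroupOf V).Normal :=
    (Subgroup.normal_subgroupOf_iff_le_normalizer hDV).mpr hVD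
  have := hsolv
  -- the map condition for `QuotientGroup.congr`
  have hmap : ∀ (g : G) (hgV : g ∈ Subgroup.normalizer (V : Set G))
      (hgD : g ∈ Subgroup.normalizer (D : Set G)),
      (D.subgroupOf V).map ((conjSub V g hgV : ↥V ≃* ↥V) : ↥V →* ↥V) = D.subgroupOf V := by
    intro g hgV hgD
    ext v
    constructor
    · rintro ⟨d, hd, rfl⟩
      have hd' : (d : G) ∈ D := hd
      show ((conjSub V g hgV d : ↥V) : G) ∈ D
      exact (Subgroup.mem_normalizer_iff.mp hgD _).mp hd'
    · intro hv
      have hv' : (v : G) ∈ D := hv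
      refine ⟨(conjSub V g hgV).symm v, ?_, by simp⟩
      show (((conjSub V g hgV).symm v : ↥V) : G) ∈ D
      exact (Subgroup.mem_normalizer_iff''.mp hgD _).mp hv'
  let π : ↥V →* ↥V ⧸ D.subgroupOf V := QuotientGroup.mk' (D.subgroupOf V)
  have hπs : Function.Surjective π := QuotientGroup.mk'_surjective _
  have hπk : π.ker = D.subgroupOf V := QuotientGroup.ker_mk' _
  let φ : ↥A →* MulAut (↥V ⧸ D.subgroupOf V) :=
    { toFun := fun g => QuotientGroup.congr (D.subgroupOf V) (D.subgroupOf V)
        (conjSub V g (hAV g.2)) (hmap g (hAV g.2) (hAD g.2))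
      map_one' := by
        ext u
        induction u using QuotientGroup.induction_on with
        | H v =>
          rw [QuotientGroup.congr_mk]
          show (QuotientGroup.mk (conjSub V ((1 : ↥A) : G) _ v) : ↥V ⧸ D.subgroupOf V) = _
          congr 1
          apply Subtype.ext
          simp
      map_mul' := by
        intro g h
        ext u
        induction u using QuotientGroup.induction_on with
        | H v =>
          rw [MulAut.mul_apply, QuotientGroup.congr_mk, QuotientGroup.congr_mk,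
            QuotientGroup.congr_mk]
          congr 1
          apply Subtype.ext
          simp [mul_assoc] }
  have hφ : ∀ (g : ↥A) (v : ↥V), φ g (π v) = π (conjSub V g (hAV g.2) v) := fun g v => rfl
  refine bnd_core P A V D hP a ha hgen hDV hAV hirr hnt π hπs hπk φ hφ ?_
  intro x hxord hncl hφx hirrU
  -- the commutative group structure
  have hcomm : ∀ x y : ↥V ⧸ D.subgroupOf V, x * y = y * x := by
    intro x y
    induction x using QuotientGroup.induction_on with
    | H v =>
      induction y using QuotientGroup.induction_on with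
      | H w =>
        rw [← QuotientGroup.mk_mul, ← QuotientGroup.mk_mul, QuotientGroup.eq,
          Subgroup.mem_subgroupOf]
        apply hder
        have hmem := Subgroup.commutator_mem_commutator (V.inv_mem w.2) (V.inv_mem v.2)
        rw [commutatorElement_def] at hmem
        have : (((v * w)⁻¹ * (w * v) : ↥V) : G) = (w : G)⁻¹ * (v : G)⁻¹ * (w : G)⁻¹⁻¹ * (v : G)⁻¹⁻¹ := by
          simp [mul_assoc]
        rw [this]
        exact hmem
  let _ : CommGroup (↥V ⧸ D.subgroupOf V) :=
    { (inferInstance : Group (↥V ⧸ D.subgroupOf V)) with mul_comm := hcomm }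
  have hU : ∀ u : ↥V ⧸ D.subgroupOf V, u ^ r = 1 := by
    intro u
    induction u using QuotientGroup.induction_on with
    | H v =>
      rw [← QuotientGroup.mk_pow, QuotientGroup.eq_one_iff, Subgroup.mem_subgroupOf]
      exact hpow _ v.2
  have : Nontrivial (↥V ⧸ D.subgroupOf V) := by
    have : ∃ v ∈ V, v ∉ D := by
      by_contra hcon
      push Not at hcon
      exact hDne (le_antisymm hDV hcon)
    obtain ⟨v, hv, hvD⟩ := this
    refine nontrivial_of_ne (π ⟨v, hv⟩) 1 ?_
    intro h1
    apply hvD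
    have : (⟨v, hv⟩ : ↥V) ∈ π.ker := h1
    rw [hπk, Subgroup.mem_subgroupOf] at this
    exact this
  exact hlin hU φ x hxord hncl hφx hirrU

end GEN

end Cfsg.Agent.Helper12.FL
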