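import Mathlib
import Cfsg.Agent.Lib.Helper97.FXDefs
import Cfsg.Agent.Lib.Helper97.FXDefs2
import Cfsg.Agent.Lib.Helper48.SympRep

set_option autoImplicit false
set_option linter.unusedSectionVars false

namespace Cfsg.Agent.Helper12.FX

open Cfsg.Agent.Helper97.FX Cfsg.Agent.Helper48.SympRep
open scoped TensorProduct

universe u

section DS
variable {K : Type*} [Field K] {G : Type*} [Group G] [Finite G]
variable {V : Type u} [AddCommGroup V] [Module K V] [FiniteDimensional K V]

/-- **(CLBASE) [S-M]** (Nat.card N₀ : L) = algebraMap K L (Nat.card N₀) ≠ 0; Σ_n (ρ n).baseChange L t = 0 by TensorProduct.induction_on (pure tensors: l ⊗ Σ ρ n v). -/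
theorem clean_base (L : Type*) [Field L] [Algebra K L] (ρ : G →* Module.End K V) (hc : Clean ρ) :
    Clean (baseRep L ρ) := by
  intro N₀ hN hne hmin
  obtain ⟨h1, h2⟩ := hc N₀ hN hne hmin
  refine ⟨?_, fun t => ?_⟩
  · have : (Nat.card N₀ : L) = algebraMap K L (Nat.card N₀ : K) := by
      rw [map_natCast]
    rw [this]
    exact (map_ne_zero (algebraMap K L)).mpr h1
  · have := Fintype.ofFinite N₀
    rw [finsum_eq_sum_of_fintype]
    induction t using TensorProduct.induction_on with
    | zero => simp
    | tmul l v =>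
      have h3 := h2 v
      rw [finsum_eq_sum_of_fintype] at h3
      simp only [baseRep_apply, LinearMap.baseChange_tmul]
      rw [← TensorProduct.tmul_sum, h3, TensorProduct.tmul_zero]
    | add t₁ t₂ h₁ h₂ =>
      simp only [map_add]
      rw [Finset.sum_add_distrib, h₁, h₂, add_zero]

end DS

end Cfsg.Agent.Helper12.FX
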