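import Mathlib
import Cfsg.Agent.Lib.Helper97.FXDefs
import Cfsg.Agent.Lib.Helper97.FXDefs2
import Cfsg.Agent.Lib.Helper48.SympRep

set_option autoImplicit false
set_option linter.unusedSectionVars false

namespace Cfsg.Agent.Helper12.FX

open Cfsg.Agent.Helper97.FX Cfsg.Agent.Helper48.SympRep
open scoped TensorProduct

universe u

section DS
variable {K : Type*} [Field K] {G : Type*} [Group G] [Finite G]
variable {V : Type u} [AddCommGroup V] [Module K V] [FiniteDimensional K V]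

/-- own copy of (MINSUB): a minimal normal subgroup below a nontrivial normal subgroup. -/
theorem h12_exists_min_normal_le (N : Subgroup G) (hN : N.Normal) (hne : N ≠ ⊥) :
    ∃ N₀ : Subgroup G, N₀.Normal ∧ N₀ ≠ ⊥ ∧ N₀ ≤ N ∧
      ∀ M : Subgroup G, M.Normal → M ≤ N₀ → M = ⊥ ∨ M = N₀ := by
  let S : Set (Subgroup G) := {M | M.Normal ∧ M ≠ ⊥ ∧ M ≤ N}
  have hS : S.Nonempty := ⟨N, hN, hne, le_rfl⟩
  obtain ⟨N₀, hN₀, hmin⟩ := (wellFounded_lt (α := Subgroup G)).has_min S hS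
  refine ⟨N₀, hN₀.1, hN₀.2.1, hN₀.2.2, fun M hM hle => ?_⟩
  by_cases hM0 : M = ⊥
  · exact Or.inl hM0
  · right
    have hMS : M ∈ S := ⟨hM, hM0, hle.trans hN₀.2.2⟩
    exact eq_of_le_of_not_lt hle (hmin M hMS)

/-- **(CLFAITH) [S-M] uses (MINSUB).** If ker ρ ≠ ⊥ take N₀ ≤ ker ρ minimal normal: Σ_{n∈N₀} ρ n v = |N₀| • v = 0 and (|N₀| : K) ≠ 0 give v = 0 for all v. -/
theorem clean_faithful [Nontrivial V] (ρ : G →* Module.End K V) (hc : Clean ρ) :
    Function.Injective ρ := by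
  rw [← MonoidHom.ker_eq_bot_iff]
  by_contra hne
  obtain ⟨N₀, hN, hN0, hle, hmin⟩ :=
    h12_exists_min_normal_le ρ.ker (MonoidHom.normal_ker ρ) hne
  obtain ⟨h1, h2⟩ := hc N₀ hN hN0 hmin
  obtain ⟨v, hv⟩ := exists_ne (0 : V)
  have h3 := h2 v
  have := Fintype.ofFinite N₀
  rw [finsum_eq_sum_of_fintype] at h3
  have h4 : ∀ n : N₀, ρ (n : G) v = v := by
    intro n
    have : ρ (n : G) = 1 := MonoidHom.mem_ker.mp (hle n.2)
    rw [this]; rfl
  simp only [h4, Finset.sum_const, Finset.card_univ] at h3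
  rw [← Nat.card_eq_fintype_card, ← Nat.cast_smul_eq_nsmul K] at h3
  rcases smul_eq_zero.mp h3 with h5 | h5
  · exact h1 h5
  · exact hv h5

end DS

end Cfsg.Agent.Helper12.FX
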