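import Mathlib
import Cfsg.Agent.Lib.Helper97.FXDefs
import Cfsg.Agent.Lib.Helper97.FXDefs2
import Cfsg.Agent.Lib.Helper48.SympRep

set_option autoImplicit false
set_option linter.unusedSectionVars false

namespace Cfsg.Agent.Helper12.FX

open Cfsg.Agent.Helper97.FX Cfsg.Agent.Helper48.SympRep
open scoped TensorProduct

universe u

section DS
variable {K : Type*} [Field K] {G : Type*} [Group G] [Finite G]
variable {V : Type u} [AddCommGroup V] [Module K V] [FiniteDimensional K V]

/-- **(CLSUB) [S]** -/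
theorem clean_sub (ρ : G →* Module.End K V) (hc : Clean ρ) (W : Submodule K V) (hW : Inv ρ W) :
    Clean (subRep ρ W hW) := by
  intro N₀ hN hne hmin
  obtain ⟨h1, h2⟩ := hc N₀ hN hne hmin
  refine ⟨h1, fun v => ?_⟩
  apply Subtype.ext
  have := Fintype.ofFinite N₀
  rw [finsum_eq_sum_of_fintype]
  have h3 := h2 (v : V)
  rw [finsum_eq_sum_of_fintype] at h3
  rw [Submodule.coe_sum, Submodule.coe_zero, ← h3]
  rfl

end DS

end Cfsg.Agent.Helper12.FX
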