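import Mathlib
import Cfsg.Agent.Lib.Helper52.FLDefs
import Cfsg.Agent.Lib.Helper52.Coprime
import Cfsg.Agent.Lib.Helper9.WielandtBasic
import Cfsg.Agent.Lib.Helper97.FXDefs
import Cfsg.Agent.Lib.Helper12.FLBNDpre
import Cfsg.Agent.Lib.Helper82.FLLIN

set_option autoImplicit false

namespace Cfsg.Agent.Helper12.FL

open Cfsg.Agent.Helper52.FL Cfsg.Agent.Helper97.FX

variable {G : Type*} [Group G] [Finite G]

section GEN

/-- **(BND) [L] the bridge, uses (LIN).** `U := V/D` (e.g. as the image of `V` in `↥(A ⊔ V) ⧸ D`, a normal subgroup there, with `MulAut.conjNormal`),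
`φ : ↥A →* MulAut U`, `x` a generator of `P` (order `p`, `normalClosure {x} = ⊤` in `↥A` by `hgen`), `S1 P V D` ↔ fixed points of `φ x`. -/
theorem card_S1_sq_lt {p r : ℕ} [Fact p.Prime] [Fact r.Prime] (hp : 5 ≤ p) (P A V D : Subgroup G)
    (hP : Nat.card P = p) (hsolv : Group.IsSolvable ↥A) (a : G) (ha : a ∈ A) (hgen : A = P ⊔ cj a P)
    (hDV : D ≤ V) (hDne : D ≠ V) (hAV : A ≤ Subgroup.normalizer (V : Set G))
    (hAD : A ≤ Subgroup.normalizer (D : Set G)) (hVD : V ≤ Subgroup.normalizer (D : Set G))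
    (hder : ⁅V, V⁆ ≤ D) (hpow : ∀ v ∈ V, v ^ r ∈ D)
    (hirr : ∀ E : Subgroup G, D ≤ E → E ≤ V → A ≤ Subgroup.normalizer (E : Set G) → E = D ∨ E = V)
    (hnt : ∃ y ∈ P, ∃ v ∈ V, y * v * y⁻¹ * v⁻¹ ∉ D) :
    Nat.card (S1 P V D) ^ 2 < Nat.card V * Nat.card D := by
  have := hsolv
  exact card_S1_sq_lt_of hp P A V D hP hsolv a ha hgen hDV hDne hAV hAD hVD hder hpow hirr hnt
    (fun hU φ x hx hgen hx1 hirr =>
      Cfsg.Agent.Helper82.FL.lin_bound hp hU φ x hx hgen hx1 hirr)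

end GEN

end Cfsg.Agent.Helper12.FL
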