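import Mathlib
import Cfsg.Agent.Lib.Helper97.FXDefs
import Cfsg.Agent.Lib.Helper97.FXDefs2
import Cfsg.Agent.Lib.Helper48.SympRep
import Cfsg.Agent.Lib.Helper8.FXBLK
import Cfsg.Agent.Lib.Helper8.FXORB
import Cfsg.Agent.Lib.Helper8.FXSHIFT
import Cfsg.Agent.Lib.Helper24.FXPERM

set_option autoImplicit false
set_option linter.unusedSectionVars false

/-!
# FX (CASEA): the abelian case, with the conclusion of (WT) as a hypothesis
-/

namespace Cfsg.Agent.Helper12.FX

open Cfsg.Agent.Helper97.FX Cfsg.Agent.Helper48.SympRep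
open scoped TensorProduct

universe u

section RT
variable {K : Type*} [Field K] {G : Type*} [Group G] [Finite G]
variable {V : Type u} [AddCommGroup V] [Module K V] [FiniteDimensional K V] [Nontrivial V]

/-- the arithmetic of case (A) -/
theorem h12_caseA_arith (p w d O f m D : ℕ) (hp5 : 5 ≤ p) (hd : 0 < d) (hm : 2 ≤ m)
    (hw : w ≤ d * O) (hO : O * p = (p - 1) * f + m) (hf : p * f ≤ m) (hD : m * d ≤ D) :
    2 * w < D := by
  obtain ⟨q, rfl⟩ : ∃ q, p = q + 5 := ⟨p - 5, by omega⟩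
  have e1 : q + 5 - 1 = q + 4 := by omega
  rw [e1] at hO
  -- 2 (p-1) f < (p-2) m
  have h1 : 2 * (q + 4) * f < (q + 3) * m := by
    have h2 : 2 * (q + 4) * f * (q + 5) ≤ 2 * (q + 4) * m := by nlinarith
    have h3 : 2 * (q + 4) * m < (q + 3) * m * (q + 5) := by
      have h30 : 2 * (q + 4) < (q + 3) * (q + 5) := by nlinarith
      calc 2 * (q + 4) * m < (q + 3) * (q + 5) * m := Nat.mul_lt_mul_of_pos_right h30 (by omega)
        _ = (q + 3) * m * (q + 5) := by ring
    have h4 : 2 * (q + 4) * f * (q + 5) < (q + 3) * m * (q + 5) := lt_of_le_of_lt h2 h3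
    exact lt_of_mul_lt_mul_right h4 (Nat.zero_le _)
  -- 2 p w ≤ 2 d ((p-1) f + m) < p d m ≤ p D
  have h5 : 2 * w * (q + 5) ≤ 2 * d * ((q + 4) * f + m) := by
    calc 2 * w * (q + 5) ≤ 2 * (d * O) * (q + 5) := by gcongr
      _ = 2 * d * (O * (q + 5)) := by ring
      _ = 2 * d * ((q + 4) * f + m) := by rw [hO]
  have h6 : 2 * d * ((q + 4) * f + m) < D * (q + 5) := by
    have h7 : 2 * ((q + 4) * f + m) < (q + 5) * m := by nlinarith
    calc 2 * d * ((q + 4) * f + m) = d * (2 * ((q + 4) * f + m)) := by ring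
      _ < d * ((q + 5) * m) := Nat.mul_lt_mul_of_pos_left h7 hd
      _ = m * d * (q + 5) := by ring
      _ ≤ D * (q + 5) := by gcongr
  exact lt_of_mul_lt_mul_right (lt_of_le_of_lt h5 h6) (Nat.zero_le _)

/-- **(CASEA)** with the conclusion of (WT) as a hypothesis. -/
theorem case_A_of [Group.IsSolvable G] (ρ : G →* Module.End K V)
    (hf : Function.Injective ρ) {p : ℕ} (hp : p.Prime) (hp5 : 5 ≤ p) (x : G) (hx : orderOf x = p)
    (hgen : Subgroup.normalClosure ({x} : Set G) = ⊤) (N : Subgroup G)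
    (hxN : ∃ n ∈ N, x * n ≠ n * x)
    (hWT : ∃ W₀ : Submodule K V, W₀ ≠ ⊥ ∧ (∀ n ∈ N, ∃ c : K, ∀ w ∈ W₀, ρ n w = c • w) ∧
      iSupIndep (fun i : WtOrbit ρ W₀ => i.1) ∧ (⨆ i : WtOrbit ρ W₀, i.1) = ⊤) :
    2 * fixDim (ρ x) < Module.finrank K V := by
  classical
  obtain ⟨W₀, hW0, hsc, hind, htop⟩ := hWT
  have : Fintype (WtOrbit ρ W₀) := Fintype.ofFinite _
  have hxp : x ^ p = 1 := by rw [← hx]; exact pow_orderOf_eq_one x
  -- all members have the same dimension
  have hinj : ∀ g : G, Function.Injective (ρ g) := by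
    intro g
    have h1 : ρ g⁻¹ * ρ g = 1 := by rw [← map_mul, inv_mul_cancel, map_one]
    intro a b hab
    have := congrArg (ρ g⁻¹) hab
    have e : ∀ v, ρ g⁻¹ (ρ g v) = v := fun v => by
      have := LinearMap.congr_fun h1 v
      exact this
    rwa [e, e] at this
  have hd : ∀ i : WtOrbit ρ W₀, Module.finrank K i.1 = Module.finrank K W₀ := by
    rintro ⟨W, g, rfl⟩
    exact (Submodule.equivMapOfInjective (ρ g) (hinj g) W₀).finrank_eq.symm
  have hdpos : 0 < Module.finrank K W₀ := by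
    rcases Nat.eq_zero_or_pos (Module.finrank K W₀) with h0 | h0
    · exact absurd (Submodule.finrank_eq_zero.mp h0) hW0
    · exact h0
  -- `m d ≤ D`
  have hsum : Nat.card (WtOrbit ρ W₀) * Module.finrank K W₀ ≤ Module.finrank K V := by
    have h1 := Cfsg.Agent.Helper8.FX.h8_sum_finrank_le_of_iSupIndep _ hind
    simp only [hd, Finset.sum_const, Finset.card_univ, smul_eq_mul] at h1
    rwa [Nat.card_eq_fintype_card]
  -- `m ≥ 2`
  have hm2 : 2 ≤ Nat.card (WtOrbit ρ W₀) := by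
    by_contra hlt
    push Not at hlt
    have hsub : Subsingleton (WtOrbit ρ W₀) := by
      rw [← Finite.card_le_one_iff_subsingleton]; omega
    have hall : ∀ i : WtOrbit ρ W₀, i = WtOrbit.base ρ W₀ := fun i => Subsingleton.elim _ _
    have hW0top : W₀ = ⊤ := by
      rw [← htop]
      apply le_antisymm
      · exact le_iSup (fun i : WtOrbit ρ W₀ => i.1) (WtOrbit.base ρ W₀)
      · apply iSup_le
        intro i
        rw [hall i]
        exact le_rfl
    obtain ⟨n, hn, hne⟩ := hxN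
    apply hne
    apply hf
    obtain ⟨c, hc⟩ := hsc n hn
    rw [map_mul, map_mul]
    ext v
    simp only [Module.End.mul_apply]
    rw [hc v (by rw [hW0top]; trivial), hc (ρ x v) (by rw [hW0top]; trivial), map_smul]
  -- the permutation
  set σ : Equiv.Perm (WtOrbit ρ W₀) := MulAction.toPerm x with hσdef
  have hσp : σ ^ p = 1 := by
    rw [hσdef]
    ext i
    have : (MulAction.toPerm x : Equiv.Perm (WtOrbit ρ W₀)) ^ p = MulAction.toPerm (x ^ p) := by
      rw [← MulAction.toPermHom_apply, ← map_pow]; rfl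
    rw [this, hxp]
    simp
  have hT : ∀ i : WtOrbit ρ W₀, ∀ w ∈ i.1, ρ x w ∈ (σ i).1 := by
    intro i w hw
    show ρ x w ∈ (x • i).1
    rw [WtOrbit.smul_val]
    exact Submodule.mem_map_of_mem hw
  have hblk := Cfsg.Agent.Helper8.FX.block_bound (fun i : WtOrbit ρ W₀ => i.1) hind htop (ρ x) σ hT
    (Module.finrank K W₀) hd
  have horb := Cfsg.Agent.Helper8.FX.orbit_count σ hp hσp
  have hperm := Cfsg.Agent.Helper24.FX.perm_fixed_le x hp hxp hgen (Nat.card (WtOrbit ρ W₀))
    (WtOrbit ρ W₀) rfl hm2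
  have hfix : Nat.card (MulAction.fixedBy (WtOrbit ρ W₀) x) =
      Nat.card {t : WtOrbit ρ W₀ // σ t = t} := rfl
  rw [hfix] at hperm
  exact h12_caseA_arith p _ _ _ _ _ _ hp5 hdpos hm2 hblk horb hperm hsum

end RT

end Cfsg.Agent.Helper12.FX
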