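import Mathlib
import Cfsg.Agent.Lib.Helper97.FXDefs
import Cfsg.Agent.Lib.Helper97.FXDefs2
import Cfsg.Agent.Lib.Helper48.SympRep
import Cfsg.Agent.Lib.Helper12.FXCASEAcore
import Cfsg.Agent.Lib.Helper73.FXWT

set_option autoImplicit false
set_option linter.unusedSectionVars false

namespace Cfsg.Agent.Helper12.FX

open Cfsg.Agent.Helper97.FX Cfsg.Agent.Helper48.SympRep
open scoped TensorProduct

universe u

section RT
variable {K : Type*} [Field K] [IsAlgClosed K] {G : Type*} [Group G] [Finite G]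
variable {V : Type u} [AddCommGroup V] [Module K V] [FiniteDimensional K V] [Nontrivial V]

/-- **(CASEA) [M-L] uses (WT) + wave-1 pieces (PERM) perm_fixed_le, (BLK) block_bound, (ORB) orbit_count.** Λ := WtOrbit ρ W₀ (finite, transitive G-set, instances in FXDefs2),
m := |Λ|, d := finrank W₀ = finrank of every member (ρ g invertible), D = m d. m ≥ 2: else W₀ = ⊤, every n ∈ N is a scalar, x n = n x for all n ∈ N (hf): contradicts hxN.
σ := MulAction.toPerm x on Λ, σ^p = 1. (BLK): w ≤ d #orbits; (ORB): p #orbits = (p-1) f + m, f := #Fix; (PERM) with Ω := Λ: p f ≤ m.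
So p w ≤ d ((p-1) f + m), 2 p w ≤ d (2 (p-1) f + 2 m) < p d m since 2 (p-1) f p ≤ 2 (p-1) m < (p-2) p m (p ≥ 5, m > 0, d > 0). -/
theorem case_A [Group.IsSolvable G] (ρ : G →* Module.End K V) (hirr : Irr ρ)
    (hf : Function.Injective ρ) {p : ℕ} (hp : p.Prime) (hp5 : 5 ≤ p) (x : G) (hx : orderOf x = p)
    (hgen : Subgroup.normalClosure ({x} : Set G) = ⊤) (N : Subgroup G) [N.Normal]
    (hab : ∀ a ∈ N, ∀ b ∈ N, a * b = b * a) (hcard : (Nat.card N : K) ≠ 0)
    (hxN : ∃ n ∈ N, x * n ≠ n * x) : 2 * fixDim (ρ x) < Module.finrank K V :=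
  case_A_of ρ hf hp hp5 x hx hgen N hxN
    (Cfsg.Agent.Helper73.FX.weight_decomp ρ hirr N hab hcard)

end RT

end Cfsg.Agent.Helper12.FX
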