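import Mathlib

set_option autoImplicit false

/-! Jordan's theorem on normal subgroups of multiply transitive groups. -/

namespace Cfsg.Agent.Helper12.Jordan

open MulAction

universe u v

section basic
variable {G : Type u} [Group G] {α : Type v} [MulAction G α]

theorem exists_smul_tuple {n : ℕ} (h : IsMultiplyPretransitive G α n) (x y : Fin n → α)
    (hx : Function.Injective x) (hy : Function.Injective y) : ∃ g : G, ∀ i, g • x i = y i := by
  obtain ⟨g, hg⟩ := h.exists_smul_eq (⟨x, hx⟩ : Fin n ↪ α) ⟨y, hy⟩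
  exact ⟨g, fun i => DFunLike.congr_fun hg i⟩

theorem inj3 {a b c : α} (hab : a ≠ b) (hac : a ≠ c) (hbc : b ≠ c) :
    Function.Injective ![a, b, c] := by
  intro i j hij
  fin_cases i <;> fin_cases j <;> simp_all

theorem inj4 {a b c d : α} (hab : a ≠ b) (hac : a ≠ c) (had : a ≠ d) (hbc : b ≠ c) (hbd : b ≠ d)
    (hcd : c ≠ d) : Function.Injective ![a, b, c, d] := by
  intro i j hij
  fin_cases i <;> fin_cases j <;> simp_all

theorem three (h : IsMultiplyPretransitive G α 3) {a b c a' b' c' : α}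
    (hab : a ≠ b) (hac : a ≠ c) (hbc : b ≠ c) (hab' : a' ≠ b') (hac' : a' ≠ c') (hbc' : b' ≠ c') :
    ∃ g : G, g • a = a' ∧ g • b = b' ∧ g • c = c' := by
  obtain ⟨g, hg⟩ := exists_smul_tuple h ![a, b, c] ![a', b', c'] (inj3 hab hac hbc)
    (inj3 hab' hac' hbc')
  exact ⟨g, hg 0, hg 1, hg 2⟩

theorem four (h : IsMultiplyPretransitive G α 4) {a b c d a' b' c' d' : α}
    (hab : a ≠ b) (hac : a ≠ c) (had : a ≠ d) (hbc : b ≠ c) (hbd : b ≠ d) (hcd : c ≠ d)
    (hab' : a' ≠ b') (hac' : a' ≠ c') (had' : a' ≠ d') (hbc' : b' ≠ c') (hbd' : b' ≠ d')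
    (hcd' : c' ≠ d') :
    ∃ g : G, g • a = a' ∧ g • b = b' ∧ g • c = c' ∧ g • d = d' := by
  obtain ⟨g, hg⟩ := exists_smul_tuple h ![a, b, c, d] ![a', b', c', d']
    (inj4 hab hac had hbc hbd hcd) (inj4 hab' hac' had' hbc' hbd' hcd')
  exact ⟨g, hg 0, hg 1, hg 2, hg 3⟩

/-- a nontrivial normal subgroup of a faithful 2-transitive group is transitive -/
theorem normal_transitive [FaithfulSMul G α] (h2 : IsMultiplyPretransitive G α 2)
    (N : Subgroup G) [hN : N.Normal] (hne : N ≠ ⊥) : IsPretransitive N α := by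
  rw [is_two_pretransitive_iff] at h2
  obtain ⟨n, hnN, hn1⟩ : ∃ n ∈ N, n ≠ 1 := by
    by_contra hcon
    push Not at hcon
    exact hne ((Subgroup.eq_bot_iff_forall N).mpr hcon)
  obtain ⟨c, hc⟩ : ∃ c : α, n • c ≠ c := by
    by_contra hcon
    push Not at hcon
    apply hn1
    apply FaithfulSMul.eq_of_smul_eq_smul (α := α)
    intro x
    rw [hcon, one_smul]
  constructor
  intro x y
  by_cases hxy : x = y
  · exact ⟨1, by rw [hxy, one_smul]⟩
  · obtain ⟨g, hgc, hgd⟩ := h2 (Ne.symm hc) hxy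
    refine ⟨⟨g * n * g⁻¹, hN.conj_mem n hnN g⟩, ?_⟩
    change (g * n * g⁻¹) • x = y
    rw [mul_smul, mul_smul, ← hgc, inv_smul_smul, hgd]

end basic

section transfer
variable {G : Type u} [Group G] {α : Type v} [MulAction G α]

theorem transfer (N : Subgroup G) (a : α) (m : ℕ)
    (h : IsMultiplyPretransitive (N.subgroupOf (stabilizer G a))
      (SubMulAction.ofStabilizer G a) m) :
    IsMultiplyPretransitive (stabilizer N a) (SubMulAction.ofStabilizer N a) m := by
  let σ : (N.subgroupOf (stabilizer G a)) → stabilizer N a := fun x =>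
    ⟨⟨x.1.1, Subgroup.mem_subgroupOf.mp x.2⟩, by
      rw [mem_stabilizer_iff]; exact x.1.2⟩
  let f : SubMulAction.ofStabilizer G a →ₑ[σ] SubMulAction.ofStabilizer N a :=
    { toFun := fun y => ⟨y.1, y.2⟩
      map_smul' := fun x y => rfl }
  have hσ : Function.Surjective σ := by
    rintro ⟨⟨g, hgN⟩, hg⟩
    exact ⟨⟨⟨g, hg⟩, hgN⟩, rfl⟩
  have hf : Function.Bijective f :=
    ⟨fun y z h => Subtype.ext (congrArg Subtype.val h), fun y => ⟨⟨y.1, y.2⟩, rfl⟩⟩
  exact (IsPretransitive.of_embedding_congr hσ hf).mp h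

instance faithful_ofStabilizer [FaithfulSMul G α] (a : α) :
    FaithfulSMul (stabilizer G a) (SubMulAction.ofStabilizer G a) := by
  constructor
  intro g h hgh
  apply Subtype.ext
  apply FaithfulSMul.eq_of_smul_eq_smul (α := α)
  intro x
  by_cases hx : x = a
  · rw [hx, g.2, h.2]
  · have := hgh ⟨x, hx⟩
    exact congrArg Subtype.val this

end transfer

section cases
variable {G : Type u} [Group G] {α : Type v} [MulAction G α]

theorem exists_notMem [Finite α] (s : Finset α) (h : s.card < Nat.card α) : ∃ z, z ∉ s := by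
  classical
  have := Fintype.ofFinite α
  rw [Nat.card_eq_fintype_card, ← Finset.card_univ] at h
  obtain ⟨z, _, hz⟩ := Finset.exists_mem_notMem_of_card_lt_card h
  exact ⟨z, hz⟩

/-- in a regular normal subgroup, an element of the point stabilizer of `G` fixing `n • a`
centralizes `n`. -/
theorem conj_eq_of_fix (N : Subgroup G) [hN : N.Normal] {a : α}
    (hreg : ∀ n ∈ N, n • a = a → n = 1) {g n : G} (hg : g • a = a) (hn : n ∈ N)
    (hgn : g • n • a = n • a) : g * n * g⁻¹ = n := by
  have hm : g * n * g⁻¹ ∈ N := hN.conj_mem n hn g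
  have hg' : g⁻¹ • a = a := by rw [inv_smul_eq_iff, hg]
  have h1 : (n⁻¹ * (g * n * g⁻¹)) • a = a := by
    rw [mul_smul, mul_smul, mul_smul, hg', hgn, inv_smul_smul]
  have h2 := hreg _ (N.mul_mem (N.inv_mem hn) hm) h1
  calc g * n * g⁻¹ = n * (n⁻¹ * (g * n * g⁻¹)) := by group
    _ = n := by rw [h2, mul_one]

theorem regular_sq [Finite α] (h3 : IsMultiplyPretransitive G α 3) (hcard : 4 ≤ Nat.card α)
    (N : Subgroup G) [hN : N.Normal] {a : α}
    (hreg : ∀ n ∈ N, n • a = a → n = 1) : ∀ n ∈ N, n ^ 2 = 1 := by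
  classical
  intro n hn
  by_contra hsq
  have hxa : n • a ≠ a := by
    intro h
    apply hsq
    rw [hreg n hn h, one_pow]
  have hya : n⁻¹ • a ≠ a := by
    intro h
    apply hxa
    rw [inv_smul_eq_iff] at h
    exact h.symm
  have hxy : n • a ≠ n⁻¹ • a := by
    intro h
    apply hsq
    apply hreg _ (N.pow_mem hn 2)
    rw [pow_two, mul_smul, h, smul_inv_smul]
  obtain ⟨z, hz⟩ := exists_notMem ({a, n • a, n⁻¹ • a} : Finset α) (by
    refine lt_of_le_of_lt (Finset.card_le_three) ?_
    omega)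
  simp only [Finset.mem_insert, Finset.mem_singleton, not_or] at hz
  obtain ⟨hza, hzx, hzy⟩ := hz
  obtain ⟨g, hga, hgx, hgy⟩ := three h3 (Ne.symm hxa) (Ne.symm hya) hxy (Ne.symm hxa)
    (Ne.symm hza) (Ne.symm hzx)
  have hc := conj_eq_of_fix N hreg hga hn hgx
  have hc' : g * n⁻¹ * g⁻¹ = n⁻¹ := by
    have : g * n⁻¹ * g⁻¹ = (g * n * g⁻¹)⁻¹ := by group
    rw [this, hc]
  have hg' : g⁻¹ • a = a := by rw [inv_smul_eq_iff, hga]
  apply hzy
  rw [← hgy]
  calc g • n⁻¹ • a = (g * n⁻¹ * g⁻¹) • a := by rw [mul_smul, mul_smul, hg']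
    _ = n⁻¹ • a := by rw [hc']

theorem comm_of_sq (N : Subgroup G) (hsq : ∀ n ∈ N, n ^ 2 = 1) :
    ∀ x ∈ N, ∀ y ∈ N, x * y = y * x := by
  intro x hx y hy
  have h1 := hsq x hx
  have h2 := hsq y hy
  have h3 := hsq (x * y) (N.mul_mem hx hy)
  have hx' : x⁻¹ = x := by rw [inv_eq_iff_mul_eq_one, ← pow_two, h1]
  have hy' : y⁻¹ = y := by rw [inv_eq_iff_mul_eq_one, ← pow_two, h2]
  have : (x * y)⁻¹ = x * y := by rw [inv_eq_iff_mul_eq_one, ← pow_two, h3]
  rw [← this, mul_inv_rev, hx', hy']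

theorem regular_four_false [Finite α] (h4 : IsMultiplyPretransitive G α 4)
    (hcard : 5 ≤ Nat.card α) (N : Subgroup G) [hN : N.Normal] [hNt : IsPretransitive N α] {a : α}
    (hreg : ∀ n ∈ N, n • a = a → n = 1) : False := by
  classical
  have h3 : IsMultiplyPretransitive G α 3 :=
    isMultiplyPretransitive_of_le (n := 4) (by omega) (by omega)
  have hsq := regular_sq h3 (by omega) N hreg
  have hcomm := comm_of_sq N hsq
  obtain ⟨b, hb⟩ := exists_notMem ({a} : Finset α) (by rw [Finset.card_singleton]; omega)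
  rw [Finset.mem_singleton] at hb
  obtain ⟨c, hc⟩ := exists_notMem ({a, b} : Finset α)
    (lt_of_le_of_lt Finset.card_le_two (by omega))
  simp only [Finset.mem_insert, Finset.mem_singleton, not_or] at hc
  obtain ⟨hca, hcb⟩ := hc
  obtain ⟨⟨n, hn⟩, hna⟩ := hNt.exists_smul_eq a b
  obtain ⟨⟨m, hm⟩, hma⟩ := hNt.exists_smul_eq a c
  change n • a = b at hna
  change m • a = c at hma
  have hda : (n * m) • a ≠ a := by
    intro h
    have h1 := hreg _ (N.mul_mem hn hm) h
    have h2 : m = n := by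
      have hn' : n⁻¹ = n := by rw [inv_eq_iff_mul_eq_one, ← pow_two, hsq n hn]
      rw [← hn']
      exact eq_inv_of_mul_eq_one_right h1
    apply hcb
    rw [← hma, ← hna, h2]
  have hdb : (n * m) • a ≠ b := by
    intro h
    rw [mul_smul, ← hna] at h
    have := smul_left_cancel n h
    apply hca
    rw [← hma, this]
  have hdc : (n * m) • a ≠ c := by
    intro h
    rw [hcomm n hn m hm, mul_smul, ← hma] at h
    have := smul_left_cancel m h
    apply hb
    rw [← hna, this]
  obtain ⟨r, hr⟩ := exists_notMem ({a, b, c, (n * m) • a} : Finset α)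
    (lt_of_le_of_lt Finset.card_le_four (by omega))
  simp only [Finset.mem_insert, Finset.mem_singleton, not_or] at hr
  obtain ⟨hra, hrb, hrc, hrd⟩ := hr
  obtain ⟨g, hga, hgb, hgc, hgd⟩ := four h4 (Ne.symm hb) (Ne.symm hca) (Ne.symm hda)
    (Ne.symm hcb) (Ne.symm hdb) (Ne.symm hdc) (Ne.symm hb) (Ne.symm hca) (Ne.symm hra)
    (Ne.symm hcb) (Ne.symm hrb) (Ne.symm hrc)
  have h1 := conj_eq_of_fix N hreg hga hn (by rw [hna, hgb])
  have h2 := conj_eq_of_fix N hreg hga hm (by rw [hma, hgc])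
  have h12 : g * (n * m) * g⁻¹ = n * m := by
    calc g * (n * m) * g⁻¹ = (g * n * g⁻¹) * (g * m * g⁻¹) := by group
      _ = n * m := by rw [h1, h2]
  have hg' : g⁻¹ • a = a := by rw [inv_smul_eq_iff, hga]
  apply hrd
  rw [← hgd]
  calc g • (n * m) • a = (g * (n * m) * g⁻¹) • a := by
        rw [mul_smul (g * (n * m)) g⁻¹ a, hg', mul_smul g (n * m) a]
    _ = (n * m) • a := by rw [h12]

theorem exceptional_false [FaithfulSMul G α] [Finite α] (h3 : IsMultiplyPretransitive G α 3)
    (hcard : 4 ≤ Nat.card α) (N : Subgroup G) [hN : N.Normal] [hNt : IsPretransitive N α] {a : α}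
    (hne : ∃ t ∈ N, t • a = a ∧ t ≠ 1)
    (hcomm : ∀ x ∈ N, ∀ y ∈ N, x • a = a → y • a = a → x * y = y * x)
    (hsq : ∀ x ∈ N, x • a = a → x ^ 2 = 1) : False := by
  classical
  obtain ⟨t, htN, hta, ht1⟩ := hne
  obtain ⟨c, hc⟩ : ∃ c : α, t • c ≠ c := by
    by_contra hcon
    push Not at hcon
    apply ht1
    apply FaithfulSMul.eq_of_smul_eq_smul (α := α)
    intro x
    rw [hcon, one_smul]
  have hca : c ≠ a := by
    intro h
    rw [h] at hc
    exact hc hta
  have hda : t • c ≠ a := by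
    intro h
    apply hca
    rw [← hta] at h
    exact smul_left_cancel t h
  -- step 1: the stabilizer in N of a is transitive off a
  have step1 : ∀ x y : α, x ≠ a → y ≠ a → ∃ h ∈ N, h • a = a ∧ h • x = y := by
    intro x y hx hy
    by_cases hxy : x = y
    · exact ⟨1, N.one_mem, one_smul _ _, by rw [one_smul, hxy]⟩
    · obtain ⟨g, hga, hgc, hgd⟩ := three h3 (Ne.symm hca) (Ne.symm hda) (Ne.symm hc)
        (Ne.symm hx) (Ne.symm hy) hxy
      have hg' : g⁻¹ • a = a := by rw [inv_smul_eq_iff, hga]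
      refine ⟨g * t * g⁻¹, hN.conj_mem t htN g, ?_, ?_⟩
      · rw [mul_smul, mul_smul, hg', hta, hga]
      · rw [mul_smul, mul_smul, ← hgc, inv_smul_smul, hgd]
  -- step 2: semiregular off a
  have step2 : ∀ h ∈ N, h • a = a → ∀ c' : α, c' ≠ a → h • c' = c' → h = 1 := by
    intro h hhN hha c' hc' hhc
    apply FaithfulSMul.eq_of_smul_eq_smul (α := α)
    intro x
    rw [one_smul]
    by_cases hx : x = a
    · rw [hx, hha]
    · obtain ⟨m, hmN, hma, hmc⟩ := step1 c' x hc' hx
      rw [← hmc, ← mul_smul, hcomm h hhN m hmN hha hma, mul_smul, hhc]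
  -- step 3: two point stabilizers in N are trivial
  have step3 : ∀ h ∈ N, ∀ x y : α, x ≠ y → h • x = x → h • y = y → h = 1 := by
    intro h hhN x y hxy hhx hhy
    obtain ⟨⟨n, hn⟩, hnx⟩ := hNt.exists_smul_eq a x
    change n • a = x at hnx
    have h1 : n⁻¹ * h * n ∈ N := by
      have := hN.conj_mem h hhN n⁻¹
      rwa [inv_inv] at this
    have h2 : (n⁻¹ * h * n) • a = a := by
      rw [mul_smul, mul_smul, hnx, hhx, ← hnx, inv_smul_smul]
    have h3' : (n⁻¹ * h * n) • (n⁻¹ • y) = n⁻¹ • y := by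
      rw [mul_smul, mul_smul, smul_inv_smul, hhy]
    have h4 : n⁻¹ • y ≠ a := by
      intro h
      apply hxy
      rw [inv_smul_eq_iff] at h
      rw [h, hnx]
    have h5 := step2 _ h1 h2 _ h4 h3'
    have : h = n * (n⁻¹ * h * n) * n⁻¹ := by group
    rw [this, h5]
    group
  -- step 4
  have htd : t • t • c = c := by
    rw [← mul_smul, ← pow_two, hsq t htN hta, one_smul]
  obtain ⟨b, hb⟩ := exists_notMem ({a, c, t • c} : Finset α)
    (lt_of_le_of_lt Finset.card_le_three (by omega))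
  simp only [Finset.mem_insert, Finset.mem_singleton, not_or] at hb
  obtain ⟨hba, hbc, hbd⟩ := hb
  obtain ⟨g, hgc, hgd, hga⟩ := three h3 (Ne.symm hc) hca hda (Ne.symm hc) (Ne.symm hbc)
    (Ne.symm hbd)
  have hgc' : g⁻¹ • c = c := by rw [inv_smul_eq_iff, hgc]
  have hgd' : g⁻¹ • t • c = t • c := by rw [inv_smul_eq_iff, hgd]
  have hgb' : g⁻¹ • b = a := by rw [inv_smul_eq_iff, hga]
  have ht'N : g * t * g⁻¹ ∈ N := hN.conj_mem t htN g
  have e1 : (g * t * g⁻¹) • c = t • c := by rw [mul_smul, mul_smul, hgc', hgd]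
  have e2 : (g * t * g⁻¹) • t • c = c := by rw [mul_smul, mul_smul, hgd', htd, hgc]
  have e3 : (g * t * g⁻¹) • b = b := by rw [mul_smul, mul_smul, hgb', hta, hga]
  have e4 : (t⁻¹ * (g * t * g⁻¹)) • c = c := by
    rw [mul_smul, e1, inv_smul_smul]
  have e5 : (t⁻¹ * (g * t * g⁻¹)) • t • c = t • c := by
    rw [mul_smul, e2, inv_smul_eq_iff, htd]
  have e6 := step3 _ (N.mul_mem (N.inv_mem htN) ht'N) c (t • c) (Ne.symm hc) e4 e5
  have e7 : g * t * g⁻¹ = t := by
    calc g * t * g⁻¹ = t * (t⁻¹ * (g * t * g⁻¹)) := by group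
      _ = t := by rw [e6, mul_one]
  rw [e7] at e3
  exact ht1 (step2 t htN hta b hba e3)

end cases

/-- Jordan's theorem on normal subgroups of multiply transitive groups. -/
theorem jordan (k : ℕ) (hk : 2 ≤ k) : ∀ (G : Type u) [Group G] (α : Type v) [MulAction G α]
    [FaithfulSMul G α] [Finite α], k < Nat.card α → IsMultiplyPretransitive G α k →
    ∀ N : Subgroup G, N.Normal → N ≠ ⊥ → IsMultiplyPretransitive N α (k - 1) ∨
      (k = 3 ∧ (∀ x ∈ N, ∀ y ∈ N, x * y = y * x) ∧ ∀ n ∈ N, n ^ 2 = 1) := by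
  induction k, hk using Nat.le_induction with
  | base =>
    intro G _ α _ _ _ hcard h2 N hN hne
    left
    have := normal_transitive h2 N hne
    exact is_one_pretransitive_iff.mpr this
  | succ k hk ih =>
    intro G _ α _ _ _ hcard hk1 N hN hne
    have h2 : IsMultiplyPretransitive G α 2 :=
      isMultiplyPretransitive_of_le (n := k + 1) (by omega) (by omega)
    have h3 : IsMultiplyPretransitive G α 3 :=
      isMultiplyPretransitive_of_le (n := k + 1) (by omega) (by omega)
    have hNt := normal_transitive h2 N hne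
    have hGt : IsPretransitive G α := isPretransitive_of_is_two_pretransitive
    obtain ⟨a⟩ : Nonempty α := (Nat.card_pos_iff.mp (by omega)).1
    by_cases hreg : ∀ n ∈ N, n • a = a → n = 1
    · right
      have hsq := regular_sq h3 (by omega) N hreg
      refine ⟨?_, comm_of_sq N hsq, hsq⟩
      by_contra hk3
      have h4 : IsMultiplyPretransitive G α 4 :=
        isMultiplyPretransitive_of_le (n := k + 1) (by omega) (by omega)
      exact regular_four_false h4 (by omega) N hreg
    · push Not at hreg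
      obtain ⟨t, htN, hta, ht1⟩ := hreg
      left
      have hGa : IsMultiplyPretransitive (stabilizer G a) (SubMulAction.ofStabilizer G a) k :=
        SubMulAction.ofStabilizer.isMultiplyPretransitive.mp hk1
      have hcard' : k < Nat.card (SubMulAction.ofStabilizer G a) := by
        rw [SubMulAction.nat_card_ofStabilizer_eq]
        omega
      have hNa_ne : N.subgroupOf (stabilizer G a) ≠ ⊥ := by
        intro h
        apply ht1
        have : (⟨t, hta⟩ : stabilizer G a) ∈ N.subgroupOf (stabilizer G a) :=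
          Subgroup.mem_subgroupOf.mpr htN
        rw [h, Subgroup.mem_bot] at this
        exact congrArg Subtype.val this
      rcases ih (stabilizer G a) (SubMulAction.ofStabilizer G a) hcard' hGa
        (N.subgroupOf (stabilizer G a)) inferInstance hNa_ne with h | ⟨hk3, hc, hs⟩
      · have h1 := transfer N a (k - 1) h
        have h' := SubMulAction.ofStabilizer.isMultiplyPretransitive.mpr h1
        have hkk : (k - 1).succ = k + 1 - 1 := by omega
        rw [hkk] at h'
        exact h'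
      · exfalso
        apply exceptional_false h3 (by omega) N ⟨t, htN, hta, ht1⟩
        · intro x hx y hy hxa hya
          have := hc ⟨x, hxa⟩ (Subgroup.mem_subgroupOf.mpr hx) ⟨y, hya⟩
            (Subgroup.mem_subgroupOf.mpr hy)
          exact congrArg Subtype.val this
        · intro x hx hxa
          have := hs ⟨x, hxa⟩ (Subgroup.mem_subgroupOf.mpr hx)
          exact congrArg Subtype.val this

end Cfsg.Agent.Helper12.Jordan
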