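import Mathlib
import Cfsg.Agent.Lib.Helper12.Jordan

set_option autoImplicit false
set_option linter.unusedSectionVars false

/-! A Fisher-type inequality for the translates of a set under a triply transitive group. -/

namespace Cfsg.Agent.Helper12.Fisher

open MulAction
open scoped Pointwise

variable {G : Type*} [Group G] {α : Type*} [Fintype α] [DecidableEq α] [MulAction G α]

open Classical in
/-- the translates of `Δ` -/
noncomputable def blocks (G : Type*) [Group G] {α : Type*} [Fintype α] [DecidableEq α]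
    [MulAction G α] (Δ : Finset α) : Finset (Finset α) :=
  Finset.univ.filter (fun B => ∃ g : G, g • Δ = B)

theorem mem_blocks {Δ B : Finset α} : B ∈ blocks G Δ ↔ ∃ g : G, g • Δ = B := by
  classical
  unfold blocks
  simp

theorem smul_mem_blocks {Δ B : Finset α} (g : G) (hB : B ∈ blocks G Δ) : g • B ∈ blocks G Δ := by
  rw [mem_blocks] at hB ⊢
  obtain ⟨h, rfl⟩ := hB
  exact ⟨g * h, mul_smul _ _ _⟩

theorem card_of_mem_blocks {Δ B : Finset α} (hB : B ∈ blocks G Δ) : B.card = Δ.card := by
  rw [mem_blocks] at hB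
  obtain ⟨h, rfl⟩ := hB
  exact Finset.card_smul_finset h Δ

/-- number of blocks containing all points of `s` -/
noncomputable def cnt (G : Type*) [Group G] {α : Type*} [Fintype α] [DecidableEq α]
    [MulAction G α] (Δ : Finset α) (s : Finset α) : ℕ :=
  ((blocks G Δ).filter (fun B => s ⊆ B)).card

theorem cnt_smul (Δ s : Finset α) (g : G) : cnt G Δ (g • s) = cnt G Δ s := by
  unfold cnt
  symm
  apply Finset.card_bij (fun B _ => g • B)
  · intro B hB
    rw [Finset.mem_filter] at hB ⊢
    exact ⟨smul_mem_blocks g hB.1, Finset.smul_finset_subset_smul_finset hB.2⟩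
  · intro B₁ _ B₂ _ h
    exact smul_left_cancel g h
  · intro B hB
    rw [Finset.mem_filter] at hB
    refine ⟨g⁻¹ • B, ?_, smul_inv_smul g B⟩
    rw [Finset.mem_filter]
    refine ⟨smul_mem_blocks g⁻¹ hB.1, ?_⟩
    have := Finset.smul_finset_subset_smul_finset (a := g⁻¹) hB.2
    rwa [inv_smul_smul] at this

theorem cnt_eq_filter (Δ : Finset α) (a x y : α) :
    cnt G Δ {a, x, y} =
      ((((blocks G Δ).filter (fun B => a ∈ B)).filter (fun B => x ∈ B)).filter
        (fun B => y ∈ B)).card := by
  unfold cnt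
  congr 1
  ext B
  simp only [Finset.mem_filter, Finset.insert_subset_iff, Finset.singleton_subset_iff]
  tauto

/-- the evaluation-zero subspace -/
def V0 (a : α) : Submodule ℚ (α → ℚ) := LinearMap.ker (LinearMap.proj a : (α → ℚ) →ₗ[ℚ] ℚ)

theorem mem_V0 {a : α} {w : α → ℚ} : w ∈ V0 a ↔ w a = 0 := by
  unfold V0
  rw [LinearMap.mem_ker]
  rfl

theorem finrank_V0 (a : α) : Module.finrank ℚ (V0 a) = Fintype.card α - 1 := by
  have h1 := LinearMap.finrank_range_add_finrank_ker (LinearMap.proj a : (α → ℚ) →ₗ[ℚ] ℚ)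
  have h2 : LinearMap.range (LinearMap.proj a : (α → ℚ) →ₗ[ℚ] ℚ) = ⊤ := by
    rw [LinearMap.range_eq_top]
    intro c
    exact ⟨fun _ => c, rfl⟩
  rw [h2, finrank_top, Module.finrank_self, Module.finrank_fintype_fun_eq_card] at h1
  unfold V0
  omega

theorem r_ge (h3 : IsMultiplyPretransitive G α 3) (Δ : Finset α) (hk3 : 3 ≤ Δ.card)
    (hk : Δ.card + 2 ≤ Fintype.card α) (a : α) :
    Fintype.card α - 1 ≤ ((blocks G Δ).filter (fun B => a ∈ B)).card := by
  classical
  have h2 : IsMultiplyPretransitive G α 2 :=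
    isMultiplyPretransitive_of_le (n := 3) (by norm_num)
      (by rw [Nat.card_eq_fintype_card]; omega)
  rw [is_two_pretransitive_iff] at h2
  -- auxiliary points
  obtain ⟨u, hu, v, hv, huv⟩ : ∃ u ∈ Δ, ∃ v ∈ Δ, u ≠ v := by
    have : 1 < Δ.card := by omega
    exact Finset.one_lt_card.mp this
  obtain ⟨z, hz⟩ : ∃ z, z ∉ Δ := by
    by_contra hcon
    push Not at hcon
    have : Δ = Finset.univ := Finset.eq_univ_iff_forall.mpr hcon
    rw [this, Finset.card_univ] at hk
    omega
  have huz : u ≠ z := fun h => hz (h ▸ hu)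
  have hvz : v ≠ z := fun h => hz (h ▸ hv)
  obtain ⟨x₀, hx₀⟩ : ∃ x₀, x₀ ≠ a := by
    by_contra hcon
    push Not at hcon
    have : Fintype.card α ≤ 1 :=
      Fintype.card_le_one_iff.mpr (fun p q => (hcon p).trans (hcon q).symm)
    omega
  obtain ⟨y₀, hy₀a, hy₀x⟩ : ∃ y₀, y₀ ≠ a ∧ y₀ ≠ x₀ := by
    by_contra hcon
    push Not at hcon
    have : (Finset.univ : Finset α) ⊆ {a, x₀} := by
      intro q _
      by_cases hq : q = a
      · simp [hq]
      · simp [hcon q hq]
    have := Finset.card_le_card this
    rw [Finset.card_univ] at this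
    have h2 : ({a, x₀} : Finset α).card ≤ 2 := Finset.card_le_two
    omega
  set Y := (blocks G Δ).filter (fun B => a ∈ B) with hY
  set l2 := cnt G Δ {a, x₀} with hl2
  set l3 := cnt G Δ {a, x₀, y₀} with hl3
  have hc2 : ∀ x, x ≠ a → cnt G Δ {a, x} = l2 := by
    intro x hx
    obtain ⟨g, h1, h2'⟩ := h2 (Ne.symm hx₀) (Ne.symm hx)
    rw [hl2, ← cnt_smul Δ {a, x₀} g, Finset.smul_finset_insert, Finset.smul_finset_singleton,
      h1, h2']
  have hc3 : ∀ x y, x ≠ a → y ≠ a → x ≠ y → cnt G Δ {a, x, y} = l3 := by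
    intro x y hx hy hxy
    obtain ⟨g, h1, h2', h3'⟩ := Jordan.three h3 (Ne.symm hx₀) (Ne.symm hy₀a) (Ne.symm hy₀x)
      (Ne.symm hx) (Ne.symm hy) hxy
    rw [hl3, ← cnt_smul Δ {a, x₀, y₀} g, Finset.smul_finset_insert, Finset.smul_finset_insert,
      Finset.smul_finset_singleton, h1, h2', h3']
  have hlt : l3 < l2 := by
    obtain ⟨g, h1, h2', h3'⟩ := Jordan.three h3 huv huz hvz (Ne.symm hx₀) (Ne.symm hy₀a)
      (Ne.symm hy₀x)
    rw [hl2, hl3]
    unfold cnt
    apply Finset.card_lt_card
    rw [Finset.ssubset_iff_of_subset]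
    · refine ⟨g • Δ, ?_, ?_⟩
      · rw [Finset.mem_filter]
        refine ⟨mem_blocks.mpr ⟨g, rfl⟩, ?_⟩
        intro q hq
        rw [Finset.mem_insert, Finset.mem_singleton] at hq
        rcases hq with rfl | rfl
        · rw [← h1]; exact Finset.smul_mem_smul_finset hu
        · rw [← h2']; exact Finset.smul_mem_smul_finset hv
      · rw [Finset.mem_filter]
        rintro ⟨_, hsub⟩
        have : y₀ ∈ g • Δ := hsub (by simp)
        rw [← h3', Finset.smul_mem_smul_finset_iff] at this
        exact hz this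
    · intro B hB
      rw [Finset.mem_filter] at hB ⊢
      refine ⟨hB.1, ?_⟩
      intro q hq
      apply hB.2
      rw [Finset.mem_insert, Finset.mem_singleton] at hq
      rcases hq with rfl | rfl <;> simp
  -- the linear map
  let L : V0 a →ₗ[ℚ] (Y → ℚ) :=
    { toFun := fun w B => ∑ x ∈ B.1, w.1 x
      map_add' := by
        intro w₁ w₂
        funext B
        simp [Finset.sum_add_distrib]
      map_smul' := by
        intro c w
        funext B
        simp [Finset.mul_sum] }
  have hL : ∀ (w : V0 a) (B : Y), L w B = ∑ x ∈ B.1, w.1 x := fun w B => rfl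
  have hinj : Function.Injective L := by
    rw [← LinearMap.ker_eq_bot, LinearMap.ker_eq_bot']
    intro w hw
    have hwa : w.1 a = 0 := mem_V0.mp w.2
    have hB : ∀ B ∈ Y, ∑ x ∈ B, w.1 x = 0 := by
      intro B hB
      have := congrFun hw ⟨B, hB⟩
      rw [hL] at this
      exact this
    set S := ∑ y, w.1 y with hS
    have hx : ∀ x, x ≠ a → ((l2 : ℚ) - l3) * w.1 x + l3 * S = 0 := by
      intro x hxa
      have e1 : ∑ B ∈ Y.filter (fun B => x ∈ B), ∑ y ∈ B, w.1 y = 0 := by
        apply Finset.sum_eq_zero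
        intro B hB'
        exact hB B (Finset.mem_filter.mp hB').1
      have e2 : ∑ B ∈ Y.filter (fun B => x ∈ B), ∑ y ∈ B, w.1 y =
          ∑ y, w.1 y * (((Y.filter (fun B => x ∈ B)).filter (fun B => y ∈ B)).card : ℚ) := by
        have : ∀ B ∈ Y.filter (fun B => x ∈ B), ∑ y ∈ B, w.1 y =
            ∑ y, if y ∈ B then w.1 y else 0 := by
          intro B _
          rw [Finset.sum_ite_mem, Finset.univ_inter]
        rw [Finset.sum_congr rfl this, Finset.sum_comm]
        apply Finset.sum_congr rfl
        intro y _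
        rw [← Finset.sum_filter, Finset.sum_const, nsmul_eq_mul, mul_comm]
      rw [e2] at e1
      have e3 : ∀ y, w.1 y * (((Y.filter (fun B => x ∈ B)).filter (fun B => y ∈ B)).card : ℚ) =
          if y = x then (l2 : ℚ) * w.1 x else (l3 : ℚ) * w.1 y := by
        intro y
        by_cases hya : y = a
        · rw [hya, hwa, zero_mul, if_neg (Ne.symm hxa), mul_zero]
        by_cases hyx : y = x
        · rw [if_pos hyx, hyx]
          have : ((Y.filter (fun B => x ∈ B)).filter (fun B => x ∈ B)).card = l2 := by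
            rw [Finset.filter_filter, ← hc2 x hxa]
            unfold cnt
            congr 1
            ext B
            simp only [hY, Finset.mem_filter, Finset.insert_subset_iff,
              Finset.singleton_subset_iff]
            tauto
          rw [this]
          ring
        · rw [if_neg hyx]
          have : ((Y.filter (fun B => x ∈ B)).filter (fun B => y ∈ B)).card = l3 := by
            rw [← hc3 x y hxa hya (Ne.symm hyx), cnt_eq_filter]
          rw [this]
          ring
      rw [Finset.sum_congr rfl (fun y _ => e3 y)] at e1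
      have e4 : ∑ y, (if y = x then (l2 : ℚ) * w.1 x else (l3 : ℚ) * w.1 y) =
          (l2 : ℚ) * w.1 x + ((l3 : ℚ) * S - l3 * w.1 x) := by
        rw [← Finset.add_sum_erase Finset.univ _ (Finset.mem_univ x), if_pos rfl]
        congr 1
        have : ∀ y ∈ Finset.univ.erase x,
            (if y = x then (l2 : ℚ) * w.1 x else (l3 : ℚ) * w.1 y) = (l3 : ℚ) * w.1 y := by
          intro y hy
          rw [if_neg (Finset.ne_of_mem_erase hy)]
        rw [Finset.sum_congr rfl this, ← Finset.mul_sum, hS,
          ← Finset.add_sum_erase Finset.univ (fun y => w.1 y) (Finset.mem_univ x)]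
        ring
      rw [e4] at e1
      linear_combination e1
    have hS0 : S = 0 := by
      have e5 : ∑ x ∈ Finset.univ.erase a, (((l2 : ℚ) - l3) * w.1 x + l3 * S) = 0 := by
        apply Finset.sum_eq_zero
        intro x hx'
        exact hx x (Finset.ne_of_mem_erase hx')
      rw [Finset.sum_add_distrib, ← Finset.mul_sum, Finset.sum_const, nsmul_eq_mul] at e5
      have e6 : ∑ x ∈ Finset.univ.erase a, w.1 x = S := by
        rw [hS, ← Finset.add_sum_erase Finset.univ (fun y => w.1 y) (Finset.mem_univ a), hwa,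
          zero_add]
      rw [e6] at e5
      have e7 : (((l2 : ℚ) - l3) + ((Finset.univ.erase a).card : ℚ) * l3) * S = 0 := by
        linear_combination e5
      have hpos : (0 : ℚ) < ((l2 : ℚ) - l3) + ((Finset.univ.erase a).card : ℚ) * l3 := by
        have h1 : (l3 : ℚ) < l2 := by exact_mod_cast hlt
        have h2 : (0 : ℚ) ≤ ((Finset.univ.erase a).card : ℚ) * l3 := by positivity
        linarith
      rcases mul_eq_zero.mp e7 with h | h
      · exact absurd h hpos.ne'
      · exact h
    apply Subtype.ext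
    funext x
    by_cases hxa : x = a
    · rw [hxa, hwa]; rfl
    · have := hx x hxa
      rw [hS0, mul_zero, add_zero] at this
      have hne : (l2 : ℚ) - l3 ≠ 0 := by
        have h1 : (l3 : ℚ) < l2 := by exact_mod_cast hlt
        linarith
      rcases mul_eq_zero.mp this with h | h
      · exact absurd h hne
      · exact h
  have := LinearMap.finrank_le_finrank_of_injective hinj
  rw [finrank_V0, Module.finrank_fintype_fun_eq_card, Fintype.card_coe] at this
  exact this

theorem card_mul_le (h3 : IsMultiplyPretransitive G α 3) (Δ : Finset α) (hk3 : 3 ≤ Δ.card)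
    (hk : Δ.card + 2 ≤ Fintype.card α) :
    Fintype.card α * (Fintype.card α - 1) ≤ (blocks G Δ).card * Δ.card := by
  classical
  have h1 := Finset.sum_card_bipartiteAbove_eq_sum_card_bipartiteBelow
    (s := (Finset.univ : Finset α)) (t := blocks G Δ) (r := fun a B => a ∈ B)
  have h2 : ∑ B ∈ blocks G Δ, ((Finset.univ : Finset α).bipartiteBelow (fun a B => a ∈ B) B).card =
      (blocks G Δ).card * Δ.card := by
    rw [← smul_eq_mul, ← Finset.sum_const]
    apply Finset.sum_congr rfl
    intro B hB
    rw [← card_of_mem_blocks hB]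
    congr 1
    ext x
    simp [Finset.bipartiteBelow]
  have h3' : ∑ a : α, (Fintype.card α - 1) ≤
      ∑ a : α, ((blocks G Δ).bipartiteAbove (fun a B => a ∈ B) a).card := by
    apply Finset.sum_le_sum
    intro a _
    exact r_ge h3 Δ hk3 hk a
  rw [Finset.sum_const, Finset.card_univ, smul_eq_mul, h1, h2] at h3'
  exact h3'

theorem card_blocks (Δ : Finset α) : (blocks G Δ).card = (stabilizer G Δ).index := by
  classical
  rw [index_stabilizer, ← Set.ncard_coe_finset]
  congr 1
  ext B
  rw [Finset.mem_coe, mem_blocks, mem_orbit_iff]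

/-- main consequence: an invariant set of a subgroup of small index -/
theorem no_invariant (h3 : IsMultiplyPretransitive G α 3) (H : Subgroup G) (Δ : Finset α)
    (hH : ∀ h ∈ H, h • Δ = Δ) (hidx : H.index = Fintype.card α) (hk3 : 3 ≤ Δ.card)
    (hk : Δ.card + 2 ≤ Fintype.card α) : False := by
  have hle : H ≤ stabilizer G Δ := fun h hh => hH h hh
  have hn : H.index ≠ 0 := by
    rw [hidx]
    omega
  have h1 : (stabilizer G Δ).index ∣ H.index := Subgroup.index_dvd_of_le hle
  have h2 : (blocks G Δ).card ≤ Fintype.card α := by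
    rw [card_blocks, ← hidx]
    exact Nat.le_of_dvd (Nat.pos_of_ne_zero hn) h1
  have h4 := card_mul_le h3 Δ hk3 hk
  have h5 : Fintype.card α * (Fintype.card α - 1) ≤ Fintype.card α * Δ.card :=
    h4.trans (Nat.mul_le_mul_right _ h2)
  have h6 : Fintype.card α - 1 ≤ Δ.card :=
    Nat.le_of_mul_le_mul_left h5 (by omega)
  omega

end Cfsg.Agent.Helper12.Fisher
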