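import Mathlib
import Cfsg.Agent.Lib.Helper14.GLIDefs

set_option autoImplicit false

namespace Cfsg.Agent.Helper12.GLI

open Module Polynomial Cfsg.Agent.Helper14.GLI

theorem exists_cyclic_basis {F V : Type*} [Field F] [AddCommGroup V] [Module F V]
    [FiniteDimensional F V] (x : V →ₗ[F] V) (r : ℕ) [Fact r.Prime] (z : F)
    (hz : ∀ w : F, w ^ r ≠ z) (hxr : x ^ r = z • 1) :
    ∃ (n₁ : ℕ) (e : Fin n₁ → V) (b : Basis (Fin n₁ × Fin r) F V),
      ∀ (k : Fin n₁) (j : Fin r), b (k, j) = (x ^ (j : ℕ)) (e k) := by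
  classical
  have hr : r.Prime := Fact.out
  set p : F[X] := X ^ r - C z with hp
  have hirr : Irreducible p := X_pow_sub_C_irreducible_of_prime hr hz
  have : Fact (Irreducible p) := ⟨hirr⟩
  have hp0 : p ≠ 0 := hirr.ne_zero
  have hdeg : p.natDegree = r := natDegree_X_pow_sub_C
  have hpx : aeval x p = 0 := by
    rw [hp, map_sub, map_pow, aeval_X, aeval_C, hxr, Algebra.algebraMap_eq_smul_one, sub_self]
  have htors : Module.IsTorsionBySet F[X] (Module.AEval' x) (Ideal.span {p} : Ideal F[X]) := by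
    intro m a
    obtain ⟨q, hq⟩ := Ideal.mem_span_singleton'.mp a.2
    obtain ⟨v, rfl⟩ := (Module.AEval'.of x).surjective m
    rw [← hq, mul_smul, ← Module.AEval.of_aeval_smul, hpx]
    simp
  letI : Module (AdjoinRoot p) (Module.AEval' x) := htors.module
  haveI : IsScalarTower F (AdjoinRoot p) (Module.AEval' x) := htors.isScalarTower
  haveI : Module.Finite F (Module.AEval' x) := Module.Finite.equiv (Module.AEval'.of x)
  haveI : Module.Finite (AdjoinRoot p) (Module.AEval' x) :=
    Module.Finite.of_restrictScalars_finite F _ _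
  let c := Module.finBasis (AdjoinRoot p) (Module.AEval' x)
  let pb := AdjoinRoot.powerBasis hp0
  have hdim : pb.dim = r := by
    rw [AdjoinRoot.powerBasis_dim, hdeg]
  let B0 : Basis (Fin pb.dim × Fin (finrank (AdjoinRoot p) (Module.AEval' x))) F (Module.AEval' x) :=
    pb.basis.smulTower c
  let B1 : Basis (Fin pb.dim × Fin (finrank (AdjoinRoot p) (Module.AEval' x))) F V :=
    B0.map (Module.AEval'.of x).symm
  let B2 : Basis (Fin (finrank (AdjoinRoot p) (Module.AEval' x)) × Fin r) F V :=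
    B1.reindex ((Equiv.prodComm _ _).trans (Equiv.prodCongr (Equiv.refl _) (finCongr hdim)))
  refine ⟨finrank (AdjoinRoot p) (Module.AEval' x), fun k => (Module.AEval'.of x).symm (c k), B2, ?_⟩
  intro k j
  have h1 : B2 (k, j) =
      (Module.AEval'.of x).symm (pb.basis ((finCongr hdim).symm j) • c k) := by
    simp [B2, B1, B0, Basis.smulTower_apply]
  rw [h1, PowerBasis.coe_basis, AdjoinRoot.powerBasis_gen]
  have h2 : ∀ (q : F[X]) (m : Module.AEval' x),
      (AdjoinRoot.mk p q) • m = q • m := fun q m => rfl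
  have h3 : (AdjoinRoot.root p) ^ (((finCongr hdim).symm j : Fin pb.dim) : ℕ) =
      AdjoinRoot.mk p (X ^ (j : ℕ)) := by
    rw [map_pow, AdjoinRoot.mk_X]
    rfl
  beta_reduce
  rw [h3, h2]
  obtain ⟨m', hm'⟩ := (Module.AEval'.of x).surjective (c k)
  rw [← hm', ← Module.AEval.of_aeval_smul, aeval_X_pow]
  simp

end Cfsg.Agent.Helper12.GLI
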