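import Mathlib
import Cfsg.Agent.Lib.Helper41.Zsigmondy

set_option autoImplicit false
set_option linter.unusedSectionVars false
set_option linter.style.haveILetI false

/-! Arithmetic for Huppert's theorem. -/

namespace Cfsg.Agent.Helper12.HupArith

open Cfsg.Agent.Helper41

/-- a primitive prime divisor of `a ^ n - 1` is congruent to one modulo `n` -/
theorem ppd_mod (a n r : ℕ) (ha : 1 ≤ a) (hn : 0 < n) (hr : r.Prime) (hdvd : r ∣ a ^ n - 1)
    (hprim : ∀ k, 0 < k → k < n → ¬ r ∣ a ^ k - 1) : n ∣ r - 1 := by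
  haveI : Fact r.Prime := ⟨hr⟩
  have h1 : (a : ZMod r) ^ n = 1 := (dvd_pow_sub_one_iff a r n ha).mp hdvd
  have ha0 : (a : ZMod r) ≠ 0 := by
    intro h
    rw [h, zero_pow hn.ne'] at h1
    exact zero_ne_one h1
  have ho : orderOf (a : ZMod r) ∣ n := orderOf_dvd_of_pow_eq_one h1
  have hopos : 0 < orderOf (a : ZMod r) :=
    orderOf_pos_iff.mpr (isOfFinOrder_iff_pow_eq_one.mpr ⟨n, hn, h1⟩)
  have hon : orderOf (a : ZMod r) = n := by
    by_contra hne
    have hlt : orderOf (a : ZMod r) < n := lt_of_le_of_ne (Nat.le_of_dvd hn ho) hne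
    apply hprim _ hopos hlt
    rw [dvd_pow_sub_one_iff a r _ ha]
    exact pow_orderOf_eq_one _
  rw [← hon]
  exact orderOf_dvd_of_pow_eq_one (ZMod.pow_card_sub_one_eq_one ha0)

theorem eight_mul_le (j : ℕ) (hj : 6 ≤ j) : 8 * j + 6 ≤ 2 ^ j := by
  induction j, hj using Nat.le_induction with
  | base => norm_num
  | succ j hj ih =>
    rw [pow_succ]
    omega

theorem pow_bound (j : ℕ) (hj : 8 ≤ j) : 2 ^ (4 * j ^ 2 + 2 * j) < 3 ^ (2 ^ j - 1) := by
  induction j, hj using Nat.le_induction with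
  | base =>
    have h1 : (4 * 8 ^ 2 + 2 * 8 : ℕ) = 16 * 17 := by norm_num
    have h2 : (2 ^ 8 - 1 : ℕ) = 15 * 17 := by norm_num
    rw [h1, h2, pow_mul, pow_mul]
    exact Nat.pow_lt_pow_left (by norm_num) (by norm_num)
  | succ j hj ih =>
    have h1 : 4 * (j + 1) ^ 2 + 2 * (j + 1) = (4 * j ^ 2 + 2 * j) + (8 * j + 6) := by ring
    have h2 : 2 ^ (j + 1) - 1 = (2 ^ j - 1) + 2 ^ j := by
      have : 1 ≤ 2 ^ j := Nat.one_le_two_pow
      rw [pow_succ]
      omega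
    rw [h1, h2, pow_add 2 (4 * j ^ 2 + 2 * j), pow_add 3]
    have h3 : 2 ^ (8 * j + 6) ≤ 3 ^ (2 ^ j) :=
      calc 2 ^ (8 * j + 6) ≤ 2 ^ (2 ^ j) :=
            Nat.pow_le_pow_right (by norm_num) (eight_mul_le j (by omega))
        _ ≤ 3 ^ (2 ^ j) := Nat.pow_le_pow_left (by norm_num) _
    exact Nat.mul_lt_mul_of_lt_of_le ih h3 (by positivity)

theorem prod_le (c : ℕ) : ∏ i : Fin c, (2 ^ c - 2 ^ (i : ℕ)) ≤ 2 ^ (c ^ 2) := by
  calc ∏ i : Fin c, (2 ^ c - 2 ^ (i : ℕ)) ≤ ∏ _i : Fin c, 2 ^ c :=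
        Finset.prod_le_prod (fun _ _ => Nat.zero_le _) (fun _ _ => Nat.sub_le _ _)
    _ = 2 ^ (c ^ 2) := by
        rw [Finset.prod_const, Finset.card_univ, Fintype.card_fin, ← pow_mul, sq]

theorem geom_ge (p n : ℕ) (hp : 1 ≤ p) (hn : 1 ≤ n) : p ^ (n - 1) * (p - 1) ≤ p ^ n - 1 := by
  obtain ⟨k, rfl⟩ : ∃ k, n = k + 1 := ⟨n - 1, by omega⟩
  obtain ⟨x, rfl⟩ : ∃ x, p = x + 1 := ⟨p - 1, by omega⟩
  simp only [Nat.add_sub_cancel]
  have h1 : 1 ≤ (x + 1) ^ k := Nat.one_le_pow _ _ (by omega)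
  have h2 : (x + 1) ^ (k + 1) = (x + 1) ^ k * x + (x + 1) ^ k := by ring
  omega

/-- the case `n = 2` -/
theorem case_two (p : ℕ) (hp : p.Prime) (h2 : p ≠ 2) (hdvd : p + 1 ∣ 24) :
    p ^ 2 = 9 ∨ p ^ 2 = 25 ∨ p ^ 2 = 49 ∨ p ^ 2 = 121 ∨ p ^ 2 = 529 := by
  have hle : p + 1 ≤ 24 := Nat.le_of_dvd (by norm_num) hdvd
  have hp2 := hp.two_le
  have hp23 : p ≤ 23 := by omega
  interval_cases p <;> omega

theorem prod_pos' (c : ℕ) : 0 < ∏ i : Fin c, (2 ^ c - 2 ^ (i : ℕ)) := by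
  apply Finset.prod_pos
  intro i _
  have : 2 ^ (i : ℕ) < 2 ^ c := Nat.pow_lt_pow_right (by norm_num) i.2
  omega

theorem prod_four : ∏ i : Fin 4, (2 ^ 4 - 2 ^ (i : ℕ)) = 20160 := by
  simp [Fin.prod_univ_succ]

theorem prod_eight : ∏ i : Fin 8, (2 ^ 8 - 2 ^ (i : ℕ)) = 5348063769211699200 := by
  simp [Fin.prod_univ_succ]

/-- the final arithmetic: the extraspecial case over a power of two -/
theorem final_arith (p j : ℕ) (hp : p.Prime) (hodd : p ≠ 2) (hj : 2 ≤ j)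
    (hr : (2 ^ j + 1).Prime)
    (hdvd : p ^ (2 ^ j) - 1 ∣
      (∏ i : Fin (2 * j), (2 ^ (2 * j) - 2 ^ (i : ℕ))) * (2 ^ j) ^ 2 * (p - 1)) :
    p = 3 ∧ j = 2 := by
  have hp2 := hp.two_le
  have hp3 : 3 ≤ p := by omega
  have hn1 : 1 ≤ 2 ^ j := Nat.one_le_two_pow
  have hpos : 0 < (∏ i : Fin (2 * j), (2 ^ (2 * j) - 2 ^ (i : ℕ))) * (2 ^ j) ^ 2 * (p - 1) := by
    have := prod_pos' (2 * j)
    have h2 : 0 < p - 1 := by omega
    positivity
  have hle := Nat.le_of_dvd hpos hdvd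
  have hge := geom_ge p (2 ^ j) (by omega) hn1
  have hmain : p ^ (2 ^ j - 1) ≤
      (∏ i : Fin (2 * j), (2 ^ (2 * j) - 2 ^ (i : ℕ))) * (2 ^ j) ^ 2 := by
    have h2 : 0 < p - 1 := by omega
    exact Nat.le_of_mul_le_mul_right (hge.trans hle) h2
  rcases Nat.lt_or_ge j 8 with hj8 | hj8
  · interval_cases j
    · -- n = 4
      rw [show (2 * 2 : ℕ) = 4 by norm_num, prod_four] at hmain hdvd
      norm_num at hmain hdvd
      have hp68 : p ≤ 68 := by
        by_contra hcon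
        have : 69 ^ 3 ≤ p ^ 3 := Nat.pow_le_pow_left (by omega) 3
        omega
      interval_cases p <;>
        first
        | exact ⟨rfl, rfl⟩
        | (exfalso; revert hp; norm_num; done)
        | (exfalso; revert hdvd; norm_num; done)
    · exfalso; revert hr; norm_num
    · -- n = 16
      exfalso
      rw [show (2 * 4 : ℕ) = 8 by norm_num, prod_eight] at hmain hdvd
      norm_num at hmain hdvd
      have hp25 : p ≤ 25 := by
        by_contra hcon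
        have : 26 ^ 15 ≤ p ^ 15 := Nat.pow_le_pow_left (by omega) 15
        omega
      interval_cases p <;>
        first
        | (revert hp; norm_num; done)
        | (revert hdvd; norm_num; done)
    · exfalso; revert hr; norm_num
    · exfalso; revert hr; norm_num
    · exfalso; revert hr; norm_num
  · exfalso
    have h1 := prod_le (2 * j)
    have h2 : (∏ i : Fin (2 * j), (2 ^ (2 * j) - 2 ^ (i : ℕ))) * (2 ^ j) ^ 2 ≤
        2 ^ (4 * j ^ 2 + 2 * j) := by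
      have h3 : (2 ^ j) ^ 2 = 2 ^ (2 * j) := by rw [← pow_mul, mul_comm]
      have h4 : (2 * j) ^ 2 = 4 * j ^ 2 := by ring
      rw [h3, pow_add, ← h4]
      exact Nat.mul_le_mul_right _ h1
    have h3 : 3 ^ (2 ^ j - 1) ≤ p ^ (2 ^ j - 1) := Nat.pow_le_pow_left hp3 _
    have h4 := pow_bound j hj8
    omega

end Cfsg.Agent.Helper12.HupArith
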