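import Mathlib

set_option autoImplicit false
set_option linter.unusedSectionVars false
set_option linter.style.haveILetI false

/-! Abstract group theory for Huppert's theorem: above a maximal abelian normal subgroup `U` of a
finite solvable group there is a normal subgroup `E` of the centraliser of `U`, of class two modulo
`U`, with centre `U`, such that the centraliser of `U` acts faithfully on `E / U` modulo `E`. -/

namespace Cfsg.Agent.Helper12.HupStruct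

open Subgroup

open scoped commutatorElement

variable {Γ : Type*} [Group Γ]

/-- the class-two layers above `U` -/
structure Layer (U E : Subgroup Γ) : Prop where
  normal : E.Normal
  le : U ≤ E
  cen : E ≤ centralizer (U : Set Γ)
  comm : ∀ x ∈ E, ∀ y ∈ E, ⁅x, y⁆ ∈ U

theorem comm_mul_left (a b c : Γ) : ⁅a * b, c⁆ = a * ⁅b, c⁆ * a⁻¹ * ⁅a, c⁆ := by
  simp only [commutatorElement_def]; group

theorem comm_mul_right (a b c : Γ) : ⁅a, b * c⁆ = ⁅a, b⁆ * (b * ⁅a, c⁆ * b⁻¹) := by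
  simp only [commutatorElement_def]; group

theorem comm_inv_left (g e : Γ) : ⁅g⁻¹, e⁆ = g⁻¹ * ⁅g, e⁆⁻¹ * g := by
  simp only [commutatorElement_def]; group

theorem comm_conj (h g e : Γ) : ⁅h * g * h⁻¹, e⁆ = h * ⁅g, h⁻¹ * e * h⁆ * h⁻¹ := by
  simp only [commutatorElement_def]; group

/-- commutators ignore central factors -/
theorem comm_mul_central {a b u u' : Γ} (hub : u * b = b * u) (huu : u * u' = u' * u)
    (hua : u' * a = a * u') : ⁅a * u, b * u'⁆ = ⁅a, b⁆ := by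
  have h1 : u' * a⁻¹ = a⁻¹ * u' := by
    calc u' * a⁻¹ = a⁻¹ * (a * u') * a⁻¹ := by group
      _ = a⁻¹ * (u' * a) * a⁻¹ := by rw [hua]
      _ = a⁻¹ * u' := by group
  simp only [commutatorElement_def, mul_inv_rev]
  calc a * u * (b * u') * (u⁻¹ * a⁻¹) * (u'⁻¹ * b⁻¹)
      = a * (u * b) * (u' * u⁻¹) * a⁻¹ * u'⁻¹ * b⁻¹ := by group
    _ = a * (b * u) * (u' * u⁻¹) * a⁻¹ * u'⁻¹ * b⁻¹ := by rw [hub]
    _ = a * b * (u * u') * u⁻¹ * a⁻¹ * u'⁻¹ * b⁻¹ := by group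
    _ = a * b * (u' * u) * u⁻¹ * a⁻¹ * u'⁻¹ * b⁻¹ := by rw [huu]
    _ = a * b * (u' * a⁻¹) * u'⁻¹ * b⁻¹ := by group
    _ = a * b * (a⁻¹ * u') * u'⁻¹ * b⁻¹ := by rw [h1]
    _ = a * b * a⁻¹ * b⁻¹ := by group

/-- commutators of products of commuting pairs -/
theorem comm_mul_mul {e e' n n' : Γ} (h1 : n * e' = e' * n) (h2 : n * e = e * n)
    (h3 : n' * e = e * n') (h4 : n' * e' = e' * n') :
    ⁅e * n, e' * n'⁆ = ⁅e, e'⁆ * ⁅n, n'⁆ := by
  have c1 : n * e'⁻¹ = e'⁻¹ * n := by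
    calc n * e'⁻¹ = e'⁻¹ * (e' * n) * e'⁻¹ := by group
      _ = e'⁻¹ * (n * e') * e'⁻¹ := by rw [h1]
      _ = e'⁻¹ * n := by group
  have c2 : n * e⁻¹ = e⁻¹ * n := by
    calc n * e⁻¹ = e⁻¹ * (e * n) * e⁻¹ := by group
      _ = e⁻¹ * (n * e) * e⁻¹ := by rw [h2]
      _ = e⁻¹ * n := by group
  have c3 : n' * e⁻¹ = e⁻¹ * n' := by
    calc n' * e⁻¹ = e⁻¹ * (e * n') * e⁻¹ := by group
      _ = e⁻¹ * (n' * e) * e⁻¹ := by rw [h3]
      _ = e⁻¹ * n' := by group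
  have c4 : n' * e'⁻¹ = e'⁻¹ * n' := by
    calc n' * e'⁻¹ = e'⁻¹ * (e' * n') * e'⁻¹ := by group
      _ = e'⁻¹ * (n' * e') * e'⁻¹ := by rw [h4]
      _ = e'⁻¹ * n' := by group
  have c5 : n⁻¹ * e⁻¹ = e⁻¹ * n⁻¹ := by
    calc n⁻¹ * e⁻¹ = n⁻¹ * (e⁻¹ * n) * n⁻¹ := by group
      _ = n⁻¹ * (n * e⁻¹) * n⁻¹ := by rw [c2]
      _ = e⁻¹ * n⁻¹ := by group
  have c6 : n⁻¹ * e'⁻¹ = e'⁻¹ * n⁻¹ := by
    calc n⁻¹ * e'⁻¹ = n⁻¹ * (e'⁻¹ * n) * n⁻¹ := by group
      _ = n⁻¹ * (n * e'⁻¹) * n⁻¹ := by rw [c1]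
      _ = e'⁻¹ * n⁻¹ := by group
  have c7 : n'⁻¹ * e'⁻¹ = e'⁻¹ * n'⁻¹ := by
    calc n'⁻¹ * e'⁻¹ = n'⁻¹ * (e'⁻¹ * n') * n'⁻¹ := by group
      _ = n'⁻¹ * (n' * e'⁻¹) * n'⁻¹ := by rw [c4]
      _ = e'⁻¹ * n'⁻¹ := by group
  simp only [commutatorElement_def, mul_inv_rev]
  calc e * n * (e' * n') * (n⁻¹ * e⁻¹) * (n'⁻¹ * e'⁻¹)
      = e * (n * e') * n' * (n⁻¹ * e⁻¹) * (n'⁻¹ * e'⁻¹) := by group
    _ = e * (e' * n) * n' * (e⁻¹ * n⁻¹) * (e'⁻¹ * n'⁻¹) := by rw [h1, c5, c7]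
    _ = e * e' * n * (n' * e⁻¹) * n⁻¹ * e'⁻¹ * n'⁻¹ := by group
    _ = e * e' * n * (e⁻¹ * n') * n⁻¹ * e'⁻¹ * n'⁻¹ := by rw [c3]
    _ = e * e' * (n * e⁻¹) * n' * n⁻¹ * e'⁻¹ * n'⁻¹ := by group
    _ = e * e' * (e⁻¹ * n) * n' * n⁻¹ * e'⁻¹ * n'⁻¹ := by rw [c2]
    _ = e * e' * e⁻¹ * n * n' * (n⁻¹ * e'⁻¹) * n'⁻¹ := by group
    _ = e * e' * e⁻¹ * n * n' * (e'⁻¹ * n⁻¹) * n'⁻¹ := by rw [c6]
    _ = e * e' * e⁻¹ * n * (n' * e'⁻¹) * n⁻¹ * n'⁻¹ := by group
    _ = e * e' * e⁻¹ * n * (e'⁻¹ * n') * n⁻¹ * n'⁻¹ := by rw [c4]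
    _ = e * e' * e⁻¹ * (n * e'⁻¹) * n' * n⁻¹ * n'⁻¹ := by group
    _ = e * e' * e⁻¹ * (e'⁻¹ * n) * n' * n⁻¹ * n'⁻¹ := by rw [c1]
    _ = e * e' * e⁻¹ * e'⁻¹ * (n * n' * n⁻¹ * n'⁻¹) := by group

/-- the elements of the centraliser of `U` acting trivially on `E / U` -/
def stab (U E : Subgroup Γ) [hU : U.Normal] : Subgroup Γ where
  carrier := {g | g ∈ centralizer (U : Set Γ) ∧ ∀ e ∈ E, ⁅g, e⁆ ∈ U}
  one_mem' := ⟨one_mem _, fun e _ => by rw [commutatorElement_one_left]; exact one_mem _⟩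
  mul_mem' := by
    rintro a b ⟨ha, ha'⟩ ⟨hb, hb'⟩
    refine ⟨mul_mem ha hb, fun e he => ?_⟩
    rw [comm_mul_left]
    exact mul_mem (hU.conj_mem _ (hb' e he) a) (ha' e he)
  inv_mem' := by
    rintro a ⟨ha, ha'⟩
    refine ⟨inv_mem ha, fun e he => ?_⟩
    rw [comm_inv_left]
    have := hU.conj_mem _ (inv_mem (ha' e he)) a⁻¹
    simpa using this

theorem mem_stab {U E : Subgroup Γ} [U.Normal] {g : Γ} :
    g ∈ stab U E ↔ g ∈ centralizer (U : Set Γ) ∧ ∀ e ∈ E, ⁅g, e⁆ ∈ U := Iff.rfl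

/-- the centre of a layer is `U` -/
theorem center_eq {U E : Subgroup Γ} [hUn : U.Normal] (hL : Layer U E)
    (hUmax : ∀ B : Subgroup Γ, B.Normal → (∀ x ∈ B, ∀ y ∈ B, x * y = y * x) → U ≤ B → B = U) :
    ∀ x ∈ E, (∀ e ∈ E, x * e = e * x) → x ∈ U := by
  intro x hx hxe
  haveI := hL.normal
  have hZ : E ⊓ centralizer (E : Set Γ) = U := by
    apply hUmax
    · infer_instance
    · intro a ha b hb
      exact (mem_centralizer_iff.mp hb.2 a ha.1)
    · intro u hu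
      refine ⟨hL.le hu, ?_⟩
      refine mem_centralizer_iff.mpr ?_
      intro e he
      exact (mem_centralizer_iff.mp (hL.cen he) u hu).symm
  rw [← hZ]
  refine ⟨hx, ?_⟩
  refine mem_centralizer_iff.mpr ?_
  intro e he
  exact (hxe e he).symm

variable [Finite Γ]

/-- iterated commutator subgroups -/
def dseq (N : Subgroup Γ) : ℕ → Subgroup Γ
  | 0 => N
  | (i + 1) => ⁅dseq N i, dseq N i⁆

theorem dseq_le_derivedSeries (N : Subgroup Γ) (i : ℕ) : dseq N i ≤ derivedSeries Γ i := by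
  induction i with
  | zero => exact le_top
  | succ i ih => exact commutator_mono ih ih

theorem dseq_le (N : Subgroup Γ) (i : ℕ) : dseq N i ≤ N := by
  induction i with
  | zero => exact le_refl _
  | succ i ih =>
    change ⁅dseq N i, dseq N i⁆ ≤ N
    rw [commutator_le]
    intro a ha b hb
    exact N.mul_mem (N.mul_mem (N.mul_mem (ih ha) (ih hb)) (N.inv_mem (ih ha))) (N.inv_mem (ih hb))

/-- a normal subgroup of a solvable group, central modulo `U`, equal to its own commutator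
subgroup modulo `U`, lies in `U` -/
theorem le_of_perfect_mod (hsolv : Group.IsSolvable Γ) (U N : Subgroup Γ) [hUn : U.Normal]
    (hNc : N ≤ centralizer (U : Set Γ)) (hUab : ∀ x ∈ U, ∀ y ∈ U, x * y = y * x)
    (hperf : N ≤ ⁅N, N⁆ ⊔ U) : N ≤ U := by
  have key : ∀ i, N ≤ dseq N i ⊔ U := by
    intro i
    induction i with
    | zero => exact le_sup_left
    | succ i ih =>
      refine hperf.trans (sup_le ?_ le_sup_right)
      refine le_trans ?_ (le_sup_left : ⁅dseq N i, dseq N i⁆ ≤ ⁅dseq N i, dseq N i⁆ ⊔ U)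
      refine le_trans (commutator_mono ih ih) ?_
      rw [commutator_le]
      intro x hx y hy
      have hx' : x ∈ ((dseq N i ⊔ U : Subgroup Γ) : Set Γ) := hx
      have hy' : y ∈ ((dseq N i ⊔ U : Subgroup Γ) : Set Γ) := hy
      rw [mul_normal] at hx' hy'
      obtain ⟨a, ha, u, hu, rfl⟩ := hx'
      obtain ⟨b, hb, u', hu', rfl⟩ := hy'
      have hbC := hNc (dseq_le N i hb)
      have haC := hNc (dseq_le N i ha)
      rw [comm_mul_central (mem_centralizer_iff.mp hbC u hu) (hUab u hu u' hu')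
        (mem_centralizer_iff.mp haC u' hu')]
      exact commutator_mem_commutator ha hb
  obtain ⟨k, hk⟩ := hsolv.solvable
  have h1 : dseq N k = ⊥ := le_bot_iff.mp ((dseq_le_derivedSeries N k).trans (le_of_eq hk))
  have h2 := key k
  rw [h1, bot_sup_eq] at h2
  exact h2

/-- the centraliser of a maximal layer inside the centraliser of `U` is `U` -/
theorem cen_eq (hsolv : Group.IsSolvable Γ) {U E : Subgroup Γ} [hUn : U.Normal] (hL : Layer U E)
    (hmax : ∀ E' : Subgroup Γ, Layer U E' → E ≤ E' → E' = E)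
    (hUab : ∀ x ∈ U, ∀ y ∈ U, x * y = y * x)
    (hUmax : ∀ B : Subgroup Γ, B.Normal → (∀ x ∈ B, ∀ y ∈ B, x * y = y * x) → U ≤ B → B = U) :
    ∀ g ∈ centralizer (U : Set Γ), (∀ e ∈ E, g * e = e * g) → g ∈ U := by
  classical
  haveI := hL.normal
  set C₂ : Subgroup Γ := centralizer (U : Set Γ) ⊓ centralizer (E : Set Γ) with hC₂
  have hUC₂ : U ≤ C₂ := by
    intro u hu
    refine ⟨?_, ?_⟩
    · refine mem_centralizer_iff.mpr ?_
      intro x hx
      exact hUab x hx u hu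
    · refine mem_centralizer_iff.mpr ?_
      intro e he
      exact (mem_centralizer_iff.mp (hL.cen he) u hu).symm
  by_contra hcon
  push Not at hcon
  obtain ⟨g, hgC, hgE, hgU⟩ := hcon
  have hgC₂ : g ∈ C₂ := by
    refine ⟨hgC, ?_⟩
    refine mem_centralizer_iff.mpr ?_
    intro e he
    exact (hgE e he).symm
  -- the family of normal subgroups strictly between
  let 𝓝 := {N : Subgroup Γ // N.Normal ∧ U ≤ N ∧ N ≤ C₂ ∧ N ≠ U}
  haveI : Nonempty 𝓝 := ⟨⟨C₂, inferInstance, hUC₂, le_refl _, fun h => hgU (h ▸ hgC₂)⟩⟩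
  obtain ⟨⟨N, hNn, hUN, hNC₂, hNU⟩, hNmin⟩ := Finite.exists_min (fun N : 𝓝 => Nat.card N.1)
  haveI := hNn
  have hNC : N ≤ centralizer (U : Set Γ) := hNC₂.trans inf_le_left
  have hNE : N ≤ centralizer (E : Set Γ) := hNC₂.trans inf_le_right
  -- `N` is abelian modulo `U`
  have hNab : ⁅N, N⁆ ≤ U := by
    by_contra hnot
    have hN'U : ⁅N, N⁆ ⊔ U ≠ U := fun h => hnot (h ▸ le_sup_left)
    have hN'N : ⁅N, N⁆ ⊔ U ≤ N := sup_le (commutator_le_left N N) hUN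
    have hle := hNmin ⟨⁅N, N⁆ ⊔ U, inferInstance, le_sup_right, hN'N.trans hNC₂, hN'U⟩
    have heq : ⁅N, N⁆ ⊔ U = N := Subgroup.eq_of_le_of_card_ge hN'N hle
    exact hNU (le_antisymm (le_of_perfect_mod hsolv U N hNC hUab (le_of_eq heq.symm)) hUN)
  -- the enlarged layer
  have hL' : Layer U (E ⊔ N) := by
    refine ⟨inferInstance, hL.le.trans le_sup_left, sup_le hL.cen hNC, ?_⟩
    intro x hx y hy
    have hx' : x ∈ ((E ⊔ N : Subgroup Γ) : Set Γ) := hx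
    have hy' : y ∈ ((E ⊔ N : Subgroup Γ) : Set Γ) := hy
    rw [mul_normal] at hx' hy'
    obtain ⟨e, he, n, hn, rfl⟩ := hx'
    obtain ⟨e', he', n', hn', rfl⟩ := hy'
    have hn1 := mem_centralizer_iff.mp (hNE hn)
    have hn2 := mem_centralizer_iff.mp (hNE hn')
    rw [comm_mul_mul (hn1 e' he').symm (hn1 e he).symm (hn2 e he).symm (hn2 e' he').symm]
    exact U.mul_mem (hL.comm e he e' he') (hNab (commutator_mem_commutator hn hn'))
  have hEN := hmax (E ⊔ N) hL' le_sup_left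
  have hNleE : N ≤ E := by rw [← hEN]; exact le_sup_right
  apply hNU
  apply le_antisymm _ hUN
  intro n hn
  apply center_eq hL hUmax n (hNleE hn)
  intro e he
  exact (mem_centralizer_iff.mp (hNE hn) e he).symm

/-- faithfulness: an element of the centraliser of `U` acting trivially on `E / U` lies in `E` -/
theorem stab_eq (hsolv : Group.IsSolvable Γ) {U E : Subgroup Γ} [hUn : U.Normal] (hL : Layer U E)
    (hmax : ∀ E' : Subgroup Γ, Layer U E' → E ≤ E' → E' = E)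
    (hUab : ∀ x ∈ U, ∀ y ∈ U, x * y = y * x)
    (hUmax : ∀ B : Subgroup Γ, B.Normal → (∀ x ∈ B, ∀ y ∈ B, x * y = y * x) → U ≤ B → B = U) :
    stab U E = E := by
  haveI := hL.normal
  have hEle : E ≤ stab U E := fun e he => ⟨hL.cen he, fun e' he' => hL.comm e he e' he'⟩
  apply hmax _ _ hEle
  have hDC : stab U E ≤ centralizer (U : Set Γ) := fun g hg => hg.1
  refine ⟨?_, hL.le.trans hEle, hDC, ?_⟩
  · constructor
    intro g hg h
    refine ⟨(inferInstance : (centralizer (U : Set Γ)).Normal).conj_mem g hg.1 h, ?_⟩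
    intro e he
    rw [comm_conj]
    exact hUn.conj_mem _ (hg.2 _ (by
      have := hL.normal.conj_mem e he h⁻¹
      simpa using this)) h
  · -- three subgroups lemma
    have hDE : ⁅stab U E, E⁆ ≤ U := by
      rw [commutator_le]
      intro g hg e he
      exact hg.2 e he
    have hUD : ⁅U, stab U E⁆ = ⊥ := by
      rw [commutator_comm, commutator_eq_bot_iff_le_centralizer]
      exact hDC
    have h1 : ⁅⁅stab U E, E⁆, stab U E⁆ = ⊥ :=
      le_bot_iff.mp ((commutator_mono hDE (le_refl _)).trans (le_of_eq hUD))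
    have h2 : ⁅⁅E, stab U E⁆, stab U E⁆ = ⊥ := by
      rw [commutator_comm E]; exact h1
    have h3 := commutator_commutator_eq_bot_of_rotate h1 h2
    rw [commutator_eq_bot_iff_le_centralizer] at h3
    intro x hx y hy
    apply cen_eq hsolv hL hmax hUab hUmax
    · exact (centralizer (U : Set Γ)).mul_mem ((centralizer (U : Set Γ)).mul_mem
        ((centralizer (U : Set Γ)).mul_mem hx.1 hy.1) (inv_mem hx.1)) (inv_mem hy.1)
    · intro e he
      have := h3 (commutator_mem_commutator hx hy)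
      exact (mem_centralizer_iff.mp this e he).symm

/-- the structure theorem -/
theorem exists_layer (hsolv : Group.IsSolvable Γ) (U : Subgroup Γ) [hUn : U.Normal]
    (hUab : ∀ x ∈ U, ∀ y ∈ U, x * y = y * x)
    (hUmax : ∀ B : Subgroup Γ, B.Normal → (∀ x ∈ B, ∀ y ∈ B, x * y = y * x) → U ≤ B → B = U) :
    ∃ E : Subgroup Γ, Layer U E ∧
      (∀ x ∈ E, (∀ e ∈ E, x * e = e * x) → x ∈ U) ∧
      (∀ g ∈ centralizer (U : Set Γ), (∀ e ∈ E, ⁅g, e⁆ ∈ U) → g ∈ E) := by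
  classical
  have hLU : Layer U U := by
    refine ⟨hUn, le_refl _, ?_, ?_⟩
    · intro u hu
      refine mem_centralizer_iff.mpr ?_
      intro x hx
      exact hUab x hx u hu
    · intro x hx y hy
      rw [commutatorElement_def, hUab x hx y hy]
      simp
  haveI : Nonempty {E : Subgroup Γ // Layer U E} := ⟨⟨U, hLU⟩⟩
  obtain ⟨⟨E, hL⟩, hEmax⟩ := Finite.exists_max (fun E : {E : Subgroup Γ // Layer U E} => Nat.card E.1)
  have hmax : ∀ E' : Subgroup Γ, Layer U E' → E ≤ E' → E' = E := by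
    intro E' hL' hle
    exact (Subgroup.eq_of_le_of_card_ge hle (hEmax ⟨E', hL'⟩)).symm
  refine ⟨E, hL, center_eq hL hUmax, ?_⟩
  intro g hg hge
  rw [← stab_eq hsolv hL hmax hUab hUmax]
  exact ⟨hg, hge⟩

end Cfsg.Agent.Helper12.HupStruct
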