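import Mathlib
import Cfsg.Agent.Lib.Helper12.HupStruct

set_option autoImplicit false
set_option linter.unusedSectionVars false
set_option linter.style.haveILetI false

/-! The structure theorem of `HupStruct` for a finite solvable subgroup `H` of an ambient group,
stated through subgroups of the ambient group. -/

namespace Cfsg.Agent.Helper12.HupData

open Subgroup Cfsg.Agent.Helper12.HupStruct

open scoped commutatorElement

variable {G : Type*} [Group G]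

/-- a maximal abelian normal subgroup `U` of `H` and a maximal class-two layer `E` above it -/
structure Data (H U E : Subgroup G) : Prop where
  U_le : U ≤ E
  E_le : E ≤ H
  U_norm : ∀ h ∈ H, ∀ u ∈ U, h * u * h⁻¹ ∈ U
  E_norm : ∀ h ∈ H, ∀ e ∈ E, h * e * h⁻¹ ∈ E
  U_comm : ∀ a ∈ U, ∀ b ∈ U, a * b = b * a
  E_cen : ∀ e ∈ E, ∀ u ∈ U, u * e = e * u
  E_comm : ∀ x ∈ E, ∀ y ∈ E, ⁅x, y⁆ ∈ U
  E_center : ∀ x ∈ E, (∀ e ∈ E, x * e = e * x) → x ∈ U
  E_faith : ∀ g ∈ H, (∀ u ∈ U, u * g = g * u) → (∀ e ∈ E, ⁅g, e⁆ ∈ U) → g ∈ E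

theorem mem_map_subtype {H : Subgroup G} {K : Subgroup H} {x : G} :
    x ∈ K.map H.subtype ↔ ∃ hx : x ∈ H, (⟨x, hx⟩ : H) ∈ K := by
  constructor
  · rintro ⟨y, hy, rfl⟩
    exact ⟨y.2, hy⟩
  · rintro ⟨hx, hK⟩
    exact ⟨⟨x, hx⟩, hK, rfl⟩

theorem exists_data (H : Subgroup G) [Finite H] (hsolv : Group.IsSolvable H) :
    ∃ U E : Subgroup G, Data H U E := by
  classical
  -- a maximal abelian normal subgroup
  let 𝓐 := {B : Subgroup H // B.Normal ∧ ∀ x ∈ B, ∀ y ∈ B, x * y = y * x}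
  haveI : Nonempty 𝓐 := ⟨⟨⊥, inferInstance, fun x hx y hy => by
    rw [Subgroup.mem_bot] at hx hy
    rw [hx, hy]⟩⟩
  obtain ⟨⟨U₀, hU₀n, hU₀ab⟩, hU₀max⟩ := Finite.exists_max (fun B : 𝓐 => Nat.card B.1)
  haveI := hU₀n
  have hUmax : ∀ B : Subgroup H, B.Normal → (∀ x ∈ B, ∀ y ∈ B, x * y = y * x) → U₀ ≤ B →
      B = U₀ := by
    intro B hBn hBab hle
    exact (Subgroup.eq_of_le_of_card_ge hle (hU₀max ⟨B, hBn, hBab⟩)).symm
  obtain ⟨E₀, hL, hcen, hfaith⟩ := exists_layer hsolv U₀ hU₀ab hUmax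
  haveI := hL.normal
  refine ⟨U₀.map H.subtype, E₀.map H.subtype, ?_⟩
  refine ⟨Subgroup.map_mono hL.le, ?_, ?_, ?_, ?_, ?_, ?_, ?_, ?_⟩
  · rintro _ ⟨y, -, rfl⟩
    exact y.2
  · intro h hh u hu
    obtain ⟨hu', huU⟩ := mem_map_subtype.mp hu
    exact mem_map_subtype.mpr ⟨H.mul_mem (H.mul_mem hh hu') (H.inv_mem hh),
      hU₀n.conj_mem _ huU ⟨h, hh⟩⟩
  · intro h hh e he
    obtain ⟨he', heE⟩ := mem_map_subtype.mp he
    exact mem_map_subtype.mpr ⟨H.mul_mem (H.mul_mem hh he') (H.inv_mem hh),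
      hL.normal.conj_mem _ heE ⟨h, hh⟩⟩
  · intro a ha b hb
    obtain ⟨ha', haU⟩ := mem_map_subtype.mp ha
    obtain ⟨hb', hbU⟩ := mem_map_subtype.mp hb
    exact congrArg Subtype.val (hU₀ab _ haU _ hbU)
  · intro e he u hu
    obtain ⟨he', heE⟩ := mem_map_subtype.mp he
    obtain ⟨hu', huU⟩ := mem_map_subtype.mp hu
    exact congrArg Subtype.val (mem_centralizer_iff.mp (hL.cen heE) _ huU)
  · intro x hx y hy
    obtain ⟨hx', hxE⟩ := mem_map_subtype.mp hx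
    obtain ⟨hy', hyE⟩ := mem_map_subtype.mp hy
    refine mem_map_subtype.mpr ⟨?_, ?_⟩
    · rw [commutatorElement_def]
      exact H.mul_mem (H.mul_mem (H.mul_mem hx' hy') (H.inv_mem hx')) (H.inv_mem hy')
    · exact hL.comm _ hxE _ hyE
  · intro x hx hxe
    obtain ⟨hx', hxE⟩ := mem_map_subtype.mp hx
    refine mem_map_subtype.mpr ⟨hx', hcen _ hxE ?_⟩
    intro e he
    apply Subtype.ext
    exact hxe e (mem_map_subtype.mpr ⟨e.2, he⟩)
  · intro g hg hgU hgE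
    refine mem_map_subtype.mpr ⟨hg, hfaith ⟨g, hg⟩ ?_ ?_⟩
    · refine mem_centralizer_iff.mpr ?_
      intro u hu
      apply Subtype.ext
      exact hgU u (mem_map_subtype.mpr ⟨u.2, hu⟩)
    · intro e he
      have h1 := hgE e (mem_map_subtype.mpr ⟨e.2, he⟩)
      obtain ⟨h2, h3⟩ := mem_map_subtype.mp h1
      exact h3

end Cfsg.Agent.Helper12.HupData
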