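import Mathlib
import Cfsg.Agent.Lib.Helper12.NormalIrred
import Cfsg.Agent.Lib.Helper12.Semilinear

set_option autoImplicit false
set_option linter.unusedSectionVars false
set_option linter.style.haveILetI false

/-! For a linear group transitive on the non-zero vectors, the enveloping algebra of an abelian
normal subgroup is a field. -/

namespace Cfsg.Agent.Helper12.HupField

open Module Cfsg.Agent.Helper12.FpfLinear Cfsg.Agent.Helper12.NormalIrred
  Cfsg.Agent.Helper12.Semilinear

open scoped IsMulCommutative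

variable {p : ℕ} [Fact p.Prime] {V : Type*} [AddCommGroup V] [Module (ZMod p) V]

variable [Finite V]

/-- non-zero elements of the enveloping algebra of an abelian normal subgroup are injective -/
theorem injective_of_ne_zero (H A : Subgroup (V ≃ₗ[ZMod p] V))
    (htrans : ∀ v w : V, v ≠ 0 → w ≠ 0 → ∃ h ∈ H, h v = w)
    (hnorm : ∀ h ∈ H, ∀ b ∈ A, h * b * h⁻¹ ∈ A)
    (hcomm : ∀ a ∈ A, ∀ b ∈ A, a * b = b * a)
    {a : Module.End (ZMod p) V} (ha : a ∈ alg A) (ha0 : a ≠ 0) : Function.Injective a := by
  rw [injective_iff_map_eq_zero]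
  intro v hv
  by_contra hv0
  apply ha0
  apply LinearMap.ext
  intro w
  rw [LinearMap.zero_apply]
  by_cases hw : w = 0
  · rw [hw, map_zero]
  by_cases hdis : orb A v ⊓ orb A w = ⊥
  · exact ann_eq_of_disjoint htrans hnorm hv0 hdis ha hv
  · have hinv : Inv A (orb A v ⊓ orb A w) := inv_inf (orb_inv A _) (orb_inv A _)
    have h1 := orb_minimal htrans hnorm hv0 inf_le_left hinv hdis
    have h2 := orb_minimal htrans hnorm hw inf_le_right hinv hdis
    have hwv : w ∈ orb A v := by
      rw [← h1, h2]; exact self_mem_orb A w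
    obtain ⟨b, hb, rfl⟩ := mem_orb.mp hwv
    have h3 := alg_comm A hcomm a ha b hb
    have h4 : a (b v) = b (a v) := congrArg (fun f : Module.End (ZMod p) V => f v) h3
    rw [h4, hv, map_zero]

/-- abelian normal subgroups act without fixed points -/
theorem fpf_of_normal_abelian (H A : Subgroup (V ≃ₗ[ZMod p] V))
    (htrans : ∀ v w : V, v ≠ 0 → w ≠ 0 → ∃ h ∈ H, h v = w)
    (hnorm : ∀ h ∈ H, ∀ b ∈ A, h * b * h⁻¹ ∈ A)
    (hcomm : ∀ a ∈ A, ∀ b ∈ A, a * b = b * a) :
    ∀ b ∈ A, b ≠ 1 → ∀ v : V, v ≠ 0 → b v ≠ v := by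
  intro b hb hb1 v hv hbv
  have hmem : (b.toLinearMap - 1 : Module.End (ZMod p) V) ∈ alg A :=
    (alg A).sub_mem (mem_alg_of_mem hb) (alg A).one_mem
  have hne : (b.toLinearMap - 1 : Module.End (ZMod p) V) ≠ 0 := by
    intro h
    apply hb1
    apply LinearEquiv.ext
    intro w
    have := congrArg (fun f : Module.End (ZMod p) V => f w) h
    simp only [LinearMap.sub_apply, LinearEquiv.coe_coe, Module.End.one_apply,
      LinearMap.zero_apply] at this
    rw [sub_eq_zero] at this
    exact this
  have hinj := injective_of_ne_zero H A htrans hnorm hcomm hmem hne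
  apply hv
  apply hinj
  rw [map_zero]
  simp only [LinearMap.sub_apply, LinearEquiv.coe_coe, Module.End.one_apply]
  rw [hbv, sub_self]

/-- the enveloping algebra is a domain -/
theorem isDomain_alg [Nontrivial V] (H A : Subgroup (V ≃ₗ[ZMod p] V))
    (htrans : ∀ v w : V, v ≠ 0 → w ≠ 0 → ∃ h ∈ H, h v = w)
    (hnorm : ∀ h ∈ H, ∀ b ∈ A, h * b * h⁻¹ ∈ A)
    (hcomm : ∀ a ∈ A, ∀ b ∈ A, a * b = b * a) : IsDomain (alg A) := by
  obtain ⟨v₀, hv₀⟩ := exists_ne (0 : V)
  haveI : NoZeroDivisors (alg A) := by
    refine ⟨?_⟩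
    intro x y hxy
    by_contra hcon
    rw [not_or] at hcon
    have hx : (x : Module.End (ZMod p) V) ≠ 0 := fun h => hcon.1 (Subtype.ext h)
    apply hcon.2
    apply Subtype.ext
    apply LinearMap.ext
    intro v
    apply injective_of_ne_zero H A htrans hnorm hcomm x.2 hx
    have h1 : (x : Module.End (ZMod p) V) * (y : Module.End (ZMod p) V) = 0 :=
      congrArg Subtype.val hxy
    have h2 := congrArg (fun f : Module.End (ZMod p) V => f v) h1
    simpa using h2
  haveI : Nontrivial (alg A) := ⟨⟨0, 1, fun h => by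
    have h1 : (0 : Module.End (ZMod p) V) = 1 := congrArg Subtype.val h
    have h2 := congrArg (fun f : Module.End (ZMod p) V => f v₀) h1
    exact hv₀ (by simpa using h2.symm)⟩⟩
  exact NoZeroDivisors.to_isDomain _

theorem finite_end : Finite (Module.End (ZMod p) V) :=
  Finite.of_injective (fun f : Module.End (ZMod p) V => (f : V → V)) DFunLike.coe_injective

theorem finite_equiv : Finite (V ≃ₗ[ZMod p] V) :=
  Finite.of_injective (fun e : V ≃ₗ[ZMod p] V => (e : V → V)) DFunLike.coe_injective

/-- the order of an abelian normal subgroup divides the order of the multiplicative group of its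
enveloping algebra -/
theorem card_dvd [Nontrivial V] (H A : Subgroup (V ≃ₗ[ZMod p] V))
    (htrans : ∀ v w : V, v ≠ 0 → w ≠ 0 → ∃ h ∈ H, h v = w)
    (hnorm : ∀ h ∈ H, ∀ b ∈ A, h * b * h⁻¹ ∈ A)
    (hcomm : ∀ a ∈ A, ∀ b ∈ A, a * b = b * a) :
    Nat.card A ∣ Nat.card (alg A) - 1 := by
  classical
  haveI := finite_end (p := p) (V := V)
  haveI := finite_equiv (p := p) (V := V)
  haveI : IsMulCommutative (alg A) :=
    Algebra.isMulCommutative_adjoin (ZMod p) (gens_comm A hcomm)
  haveI := isDomain_alg H A htrans hnorm hcomm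
  haveI : Fintype (alg A) := Fintype.ofFinite _
  letI : Field (alg A) := Fintype.fieldOfDomain (alg A)
  -- the embedding into the units
  let f : A →* (alg A)ˣ :=
    { toFun := fun b =>
        ⟨⟨(b : V ≃ₗ[ZMod p] V).toLinearMap, mem_alg_of_mem b.2⟩,
         ⟨((b⁻¹ : A) : V ≃ₗ[ZMod p] V).toLinearMap, mem_alg_of_mem (b⁻¹).2⟩,
         by
           apply Subtype.ext
           apply LinearMap.ext
           intro v
           change (b : V ≃ₗ[ZMod p] V) (((b⁻¹ : A) : V ≃ₗ[ZMod p] V) v) = v
           have : (b : V ≃ₗ[ZMod p] V) * ((b⁻¹ : A) : V ≃ₗ[ZMod p] V) = 1 := by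
             rw [← Subgroup.coe_mul, mul_inv_cancel]; rfl
           exact congrArg (fun g : V ≃ₗ[ZMod p] V => g v) this,
         by
           apply Subtype.ext
           apply LinearMap.ext
           intro v
           change ((b⁻¹ : A) : V ≃ₗ[ZMod p] V) ((b : V ≃ₗ[ZMod p] V) v) = v
           have : ((b⁻¹ : A) : V ≃ₗ[ZMod p] V) * (b : V ≃ₗ[ZMod p] V) = 1 := by
             rw [← Subgroup.coe_mul, inv_mul_cancel]; rfl
           exact congrArg (fun g : V ≃ₗ[ZMod p] V => g v) this⟩
      map_one' := by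
        apply Units.ext
        apply Subtype.ext
        rfl
      map_mul' := by
        intro a b
        apply Units.ext
        apply Subtype.ext
        rfl }
  have hf : Function.Injective f := by
    intro a b hab
    apply Subtype.ext
    apply LinearEquiv.ext
    intro v
    have h1 := congrArg (fun u : (alg A)ˣ => ((u : alg A) : Module.End (ZMod p) V) v) hab
    exact h1
  have h1 := Subgroup.card_dvd_of_injective f hf
  rwa [Nat.card_units] at h1

end Cfsg.Agent.Helper12.HupField
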