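import Mathlib
import Cfsg.Agent.Lib.Helper12.HupField

set_option autoImplicit false
set_option linter.unusedSectionVars false
set_option linter.style.haveILetI false

/-! The conjugation action of a linear group on the enveloping algebra of an abelian normal
subgroup, and the bound on its image coming from the Galois group of a finite field. -/

namespace Cfsg.Agent.Helper12.HupGalois

open Module Cfsg.Agent.Helper12.FpfLinear Cfsg.Agent.Helper12.NormalIrred
  Cfsg.Agent.Helper12.Semilinear Cfsg.Agent.Helper12.HupField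

open scoped IsMulCommutative

/-- the automorphism group of a finite field of order `p ^ m` has order `m` -/
theorem aut_card (K : Type*) [Field K] [Finite K] (p : ℕ) [hp : Fact p.Prime] [CharP K p] (m : ℕ)
    (hK : Nat.card K = p ^ m) : Nat.card (K ≃+* K) = m := by
  letI : Algebra (ZMod p) K := ZMod.algebra K p
  have h1 : Nat.card (K ≃ₐ[ZMod p] K) = finrank (ZMod p) K :=
    IsGalois.card_aut_eq_finrank (ZMod p) K
  have h2 : Nat.card K = p ^ finrank (ZMod p) K := by
    rw [Module.natCard_eq_pow_finrank (K := ZMod p) (V := K)]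
    simp
  have h3 : finrank (ZMod p) K = m := by
    rw [hK] at h2
    exact (Nat.pow_right_injective hp.out.two_le h2).symm
  rw [← h3, ← h1]
  apply Nat.card_congr
  exact
    { toFun := fun σ => AlgEquiv.ofRingEquiv (f := σ) (fun x => by
        have : (σ : K →+* K).comp (algebraMap (ZMod p) K) = algebraMap (ZMod p) K :=
          Subsingleton.elim _ _
        exact congrArg (fun f : ZMod p →+* K => f x) this)
      invFun := fun τ => τ.toRingEquiv
      left_inv := fun σ => by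
        ext x
        rfl
      right_inv := fun τ => by
        ext x
        rfl }

variable {p : ℕ} [Fact p.Prime] {V : Type*} [AddCommGroup V] [Module (ZMod p) V]

theorem inv_apply_self (h : V ≃ₗ[ZMod p] V) (v : V) : (h⁻¹ : V ≃ₗ[ZMod p] V) (h v) = v := by
  have := congrArg (fun f : V ≃ₗ[ZMod p] V => f v) (inv_mul_cancel h)
  simpa using this

theorem self_apply_inv (h : V ≃ₗ[ZMod p] V) (v : V) : h ((h⁻¹ : V ≃ₗ[ZMod p] V) v) = v := by
  have := congrArg (fun f : V ≃ₗ[ZMod p] V => f v) (mul_inv_cancel h)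
  simpa using this

/-- conjugation by a normalising element, as a ring automorphism of the enveloping algebra -/
def conjAut (B : Subgroup (V ≃ₗ[ZMod p] V)) (h : V ≃ₗ[ZMod p] V)
    (hn : ∀ b ∈ B, h * b * h⁻¹ ∈ B) (hn' : ∀ b ∈ B, h⁻¹ * b * h⁻¹⁻¹ ∈ B) : alg B ≃+* alg B where
  toFun a := ⟨h.toLinearMap * (a : Module.End (ZMod p) V) * (h⁻¹ : V ≃ₗ[ZMod p] V).toLinearMap,
    conj_mem_alg h hn a.2⟩
  invFun a := ⟨(h⁻¹ : V ≃ₗ[ZMod p] V).toLinearMap * (a : Module.End (ZMod p) V) *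
    ((h⁻¹)⁻¹ : V ≃ₗ[ZMod p] V).toLinearMap, conj_mem_alg h⁻¹ hn' a.2⟩
  left_inv a := by
    apply Subtype.ext
    apply LinearMap.ext
    intro v
    change (h⁻¹ : V ≃ₗ[ZMod p] V) (h ((a : Module.End (ZMod p) V)
      ((h⁻¹ : V ≃ₗ[ZMod p] V) (((h⁻¹)⁻¹ : V ≃ₗ[ZMod p] V) v)))) = _
    rw [inv_inv, inv_apply_self, inv_apply_self]
  right_inv a := by
    apply Subtype.ext
    apply LinearMap.ext
    intro v
    change h ((h⁻¹ : V ≃ₗ[ZMod p] V) ((a : Module.End (ZMod p) V)
      (((h⁻¹)⁻¹ : V ≃ₗ[ZMod p] V) ((h⁻¹ : V ≃ₗ[ZMod p] V) v)))) = _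
    rw [inv_inv, self_apply_inv, self_apply_inv]
  map_mul' a b := by
    apply Subtype.ext
    apply LinearMap.ext
    intro v
    change h ((a : Module.End (ZMod p) V) ((b : Module.End (ZMod p) V)
      ((h⁻¹ : V ≃ₗ[ZMod p] V) v))) =
      h ((a : Module.End (ZMod p) V) ((h⁻¹ : V ≃ₗ[ZMod p] V)
        (h ((b : Module.End (ZMod p) V) ((h⁻¹ : V ≃ₗ[ZMod p] V) v)))))
    rw [inv_apply_self]
  map_add' a b := by
    apply Subtype.ext
    apply LinearMap.ext
    intro v
    change h (((a : Module.End (ZMod p) V) + (b : Module.End (ZMod p) V))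
      ((h⁻¹ : V ≃ₗ[ZMod p] V) v)) =
      h ((a : Module.End (ZMod p) V) ((h⁻¹ : V ≃ₗ[ZMod p] V) v)) +
      h ((b : Module.End (ZMod p) V) ((h⁻¹ : V ≃ₗ[ZMod p] V) v))
    rw [LinearMap.add_apply, map_add]

theorem conjAut_apply (B : Subgroup (V ≃ₗ[ZMod p] V)) (h : V ≃ₗ[ZMod p] V)
    (hn : ∀ b ∈ B, h * b * h⁻¹ ∈ B) (hn' : ∀ b ∈ B, h⁻¹ * b * h⁻¹⁻¹ ∈ B) (a : alg B) (v : V) :
    ((conjAut B h hn hn' a : alg B) : Module.End (ZMod p) V) v =
      h ((a : Module.End (ZMod p) V) ((h⁻¹ : V ≃ₗ[ZMod p] V) v)) := rfl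

/-- the conjugation action as a homomorphism -/
def conjHom (H B : Subgroup (V ≃ₗ[ZMod p] V)) (hnorm : ∀ h ∈ H, ∀ b ∈ B, h * b * h⁻¹ ∈ B) :
    H →* RingAut (alg B) where
  toFun h := conjAut B h.1 (hnorm h.1 h.2) (hnorm h.1⁻¹ (H.inv_mem h.2))
  map_one' := by
    apply RingEquiv.ext
    intro a
    apply Subtype.ext
    apply LinearMap.ext
    intro v
    rw [conjAut_apply]
    simp
  map_mul' g h := by
    apply RingEquiv.ext
    intro a
    apply Subtype.ext
    apply LinearMap.ext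
    intro v
    change ((g * h : H) : V ≃ₗ[ZMod p] V) ((a : Module.End (ZMod p) V)
        ((((g * h : H) : V ≃ₗ[ZMod p] V))⁻¹ v)) =
      (g : V ≃ₗ[ZMod p] V) ((h : V ≃ₗ[ZMod p] V) ((a : Module.End (ZMod p) V)
        (((h : V ≃ₗ[ZMod p] V))⁻¹ (((g : V ≃ₗ[ZMod p] V))⁻¹ v))))
    rw [Subgroup.coe_mul, mul_inv_rev]
    rfl

theorem conjHom_apply (H B : Subgroup (V ≃ₗ[ZMod p] V))
    (hnorm : ∀ h ∈ H, ∀ b ∈ B, h * b * h⁻¹ ∈ B) (h : H) (a : alg B) (v : V) :
    ((conjHom H B hnorm h a : alg B) : Module.End (ZMod p) V) v =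
      (h : V ≃ₗ[ZMod p] V) ((a : Module.End (ZMod p) V)
        (((h : V ≃ₗ[ZMod p] V)⁻¹ : V ≃ₗ[ZMod p] V) v)) := rfl

/-- elements of the kernel commute with the subgroup -/
theorem comm_of_mem_ker (H B : Subgroup (V ≃ₗ[ZMod p] V))
    (hnorm : ∀ h ∈ H, ∀ b ∈ B, h * b * h⁻¹ ∈ B) (h : H) (hh : h ∈ (conjHom H B hnorm).ker)
    (b : V ≃ₗ[ZMod p] V) (hb : b ∈ B) : (h : V ≃ₗ[ZMod p] V) * b = b * (h : V ≃ₗ[ZMod p] V) := by
  rw [MonoidHom.mem_ker] at hh
  apply LinearEquiv.ext
  intro v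
  have h1 := conjHom_apply H B hnorm h ⟨b.toLinearMap, mem_alg_of_mem hb⟩ ((h : V ≃ₗ[ZMod p] V) v)
  rw [hh, inv_apply_self] at h1
  exact h1.symm

variable [Finite V]

/-- the order of the group is bounded through the centraliser and the degree of the field -/
theorem card_dvd_mul [Nontrivial V] (H A : Subgroup (V ≃ₗ[ZMod p] V)) (hAH : A ≤ H)
    (htrans : ∀ v w : V, v ≠ 0 → w ≠ 0 → ∃ h ∈ H, h v = w)
    (hnorm : ∀ h ∈ H, ∀ b ∈ A, h * b * h⁻¹ ∈ A)
    (hcomm : ∀ a ∈ A, ∀ b ∈ A, a * b = b * a) (m : ℕ) (hm : Nat.card (alg A) = p ^ m) :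
    Nat.card H ∣ Nat.card (H ⊓ Subgroup.centralizer (A : Set (V ≃ₗ[ZMod p] V)) :
      Subgroup (V ≃ₗ[ZMod p] V)) * m ∧
    ∀ y ∈ H, ∀ r : ℕ, r.Prime → m < r → y ^ r = 1 →
      y ∈ Subgroup.centralizer (A : Set (V ≃ₗ[ZMod p] V)) := by
  classical
  haveI := finite_end (p := p) (V := V)
  haveI := finite_equiv (p := p) (V := V)
  haveI : IsMulCommutative (alg A) :=
    Algebra.isMulCommutative_adjoin (ZMod p) (gens_comm A hcomm)
  haveI := isDomain_alg H A htrans hnorm hcomm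
  haveI : Fintype (alg A) := Fintype.ofFinite _
  letI : Field (alg A) := Fintype.fieldOfDomain (alg A)
  haveI : CharP (alg A) p :=
    charP_of_injective_algebraMap (algebraMap (ZMod p) (alg A)).injective p
  have haut : Nat.card (RingAut (alg A)) = m := aut_card (alg A) p m hm
  set φ := conjHom H A hnorm with hφ
  -- the kernel is contained in the centraliser
  have hker : ∀ h : H, h ∈ φ.ker →
      (h : V ≃ₗ[ZMod p] V) ∈ Subgroup.centralizer (A : Set (V ≃ₗ[ZMod p] V)) := by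
    intro h hh
    rw [Subgroup.mem_centralizer_iff]
    intro b hb
    exact (comm_of_mem_ker H A hnorm h hh b hb).symm
  constructor
  · have h1 : Nat.card H = Nat.card (H ⧸ φ.ker) * Nat.card φ.ker :=
      Subgroup.card_eq_card_quotient_mul_card_subgroup φ.ker
    have h2 : Nat.card (H ⧸ φ.ker) = Nat.card φ.range :=
      Nat.card_congr (QuotientGroup.quotientKerEquivRange φ).toEquiv
    have h3 : Nat.card φ.range ∣ m := by
      rw [← haut]; exact Subgroup.card_subgroup_dvd_card φ.range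
    have h4 : Nat.card φ.ker ∣ Nat.card (H ⊓ Subgroup.centralizer
        (A : Set (V ≃ₗ[ZMod p] V)) : Subgroup (V ≃ₗ[ZMod p] V)) := by
      let f : φ.ker →* (H ⊓ Subgroup.centralizer (A : Set (V ≃ₗ[ZMod p] V)) :
          Subgroup (V ≃ₗ[ZMod p] V)) :=
        { toFun := fun h => ⟨(h.1 : V ≃ₗ[ZMod p] V), h.1.2, hker h.1 h.2⟩
          map_one' := rfl
          map_mul' := fun _ _ => rfl }
      have hf : Function.Injective f := by
        intro a b hab
        apply Subtype.ext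
        apply Subtype.ext
        exact congrArg (fun x : (H ⊓ Subgroup.centralizer (A : Set (V ≃ₗ[ZMod p] V)) :
          Subgroup (V ≃ₗ[ZMod p] V)) => (x : V ≃ₗ[ZMod p] V)) hab
      exact Subgroup.card_dvd_of_injective f hf
    rw [h1, h2, mul_comm]
    exact Nat.mul_dvd_mul h4 h3
  · intro y hy r hr hmr hyr
    have h1 : (φ ⟨y, hy⟩) ^ r = 1 := by
      rw [← map_pow]
      have : (⟨y, hy⟩ : H) ^ r = 1 := Subtype.ext (by simpa using hyr)
      rw [this, map_one]
    have h2 : orderOf (φ ⟨y, hy⟩) ∣ r := orderOf_dvd_of_pow_eq_one h1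
    have h3 : orderOf (φ ⟨y, hy⟩) ∣ m := by
      rw [← haut]; exact orderOf_dvd_natCard _
    have h4 : orderOf (φ ⟨y, hy⟩) = 1 := by
      rcases (Nat.dvd_prime hr).mp h2 with h | h
      · exact h
      · exfalso
        rw [h] at h3
        have hmpos : 0 < m := by
          rcases Nat.eq_zero_or_pos m with h0 | h0
          · exfalso
            rw [h0, pow_zero] at hm
            have hsub : Subsingleton (alg A) := (Nat.card_eq_one_iff_unique.mp hm).1
            exact zero_ne_one (Subsingleton.elim (0 : alg A) 1)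
          · exact h0
        exact absurd (Nat.le_of_dvd hmpos h3) (not_le.mpr hmr)
    have h5 : φ ⟨y, hy⟩ = 1 := orderOf_eq_one_iff.mp h4
    exact hker ⟨y, hy⟩ (MonoidHom.mem_ker.mpr h5)

end Cfsg.Agent.Helper12.HupGalois
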