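import Mathlib
import Cfsg.Agent.Lib.Helper12.HupGalois

set_option autoImplicit false
set_option linter.unusedSectionVars false
set_option linter.style.haveILetI false

/-! Coset representatives of a class-two layer `E / U` are linearly independent over the field
generated by `U`; hence `|E / U| ≤ d ^ 2`, where `d` is the dimension over that field. -/

namespace Cfsg.Agent.Helper12.HupIndep

open Module Cfsg.Agent.Helper12.FpfLinear Cfsg.Agent.Helper12.NormalIrred
  Cfsg.Agent.Helper12.Semilinear Cfsg.Agent.Helper12.HupField Cfsg.Agent.Helper12.HupGalois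

open scoped IsMulCommutative commutatorElement

variable {p : ℕ} [Fact p.Prime] {V : Type*} [AddCommGroup V] [Module (ZMod p) V]

/-- an element commuting with a subgroup commutes with its enveloping algebra -/
theorem comm_alg (U : Subgroup (V ≃ₗ[ZMod p] V)) (g : V ≃ₗ[ZMod p] V)
    (hg : ∀ u ∈ U, u * g = g * u) {a : Module.End (ZMod p) V} (ha : a ∈ alg U) (v : V) :
    g (a v) = a (g v) := by
  unfold alg at ha
  induction ha using Algebra.adjoin_induction generalizing v with
  | mem x hx =>
    obtain ⟨b, hb, rfl⟩ := hx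
    have := congrArg (fun f : V ≃ₗ[ZMod p] V => f v) (hg b hb)
    exact this.symm
  | algebraMap r =>
    rw [Module.algebraMap_end_apply, Module.algebraMap_end_apply, map_smul]
  | add x y _ _ hx hy =>
    rw [LinearMap.add_apply, LinearMap.add_apply, map_add, hx, hy]
  | mul x y _ _ hx hy =>
    rw [Module.End.mul_apply, Module.End.mul_apply, hx, hy]

/-- equal commutators with `g` means `g` commutes with the quotient -/
theorem comm_of_comm_eq {Γ : Type*} [Group Γ] {g x y : Γ} (h : ⁅g, x⁆ = ⁅g, y⁆) :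
    (y⁻¹ * x) * g = g * (y⁻¹ * x) := by
  simp only [commutatorElement_def] at h
  have h1 : x * g⁻¹ * x⁻¹ = y * g⁻¹ * y⁻¹ := by
    calc x * g⁻¹ * x⁻¹ = g⁻¹ * (g * x * g⁻¹ * x⁻¹) := by group
      _ = g⁻¹ * (g * y * g⁻¹ * y⁻¹) := by rw [h]
      _ = y * g⁻¹ * y⁻¹ := by group
  have h2 : (y⁻¹ * x) * g⁻¹ = g⁻¹ * (y⁻¹ * x) := by
    calc (y⁻¹ * x) * g⁻¹ = y⁻¹ * (x * g⁻¹ * x⁻¹) * x := by group
      _ = y⁻¹ * (y * g⁻¹ * y⁻¹) * x := by rw [h1]
      _ = g⁻¹ * (y⁻¹ * x) := by group
  calc (y⁻¹ * x) * g = g * (g⁻¹ * (y⁻¹ * x)) * g := by group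
    _ = g * ((y⁻¹ * x) * g⁻¹) * g := by rw [h2]
    _ = g * (y⁻¹ * x) := by group

variable [Finite V]

section indep

variable (H U E : Subgroup (V ≃ₗ[ZMod p] V))
  (htrans : ∀ v w : V, v ≠ 0 → w ≠ 0 → ∃ h ∈ H, h v = w)
  (hnorm : ∀ h ∈ H, ∀ b ∈ U, h * b * h⁻¹ ∈ U)
  (hcomm : ∀ a ∈ U, ∀ b ∈ U, a * b = b * a)
  (hEC : ∀ e ∈ E, ∀ u ∈ U, u * e = e * u)
  (hZ : ∀ x ∈ E, (∀ e ∈ E, x * e = e * x) → x ∈ U)
  (hEU : ∀ x ∈ E, ∀ y ∈ E, ⁅x, y⁆ ∈ U)

include htrans hnorm hcomm hEC hZ hEU in
/-- Dedekind-type independence of elements of `E` in distinct cosets of `U` -/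
theorem indep {ι : Type*} (rep : ι → V ≃ₗ[ZMod p] V) (hrep : ∀ i, rep i ∈ E)
    (hdist : ∀ i j, i ≠ j → (rep j)⁻¹ * rep i ∉ U) (s : Finset ι) :
    ∀ c : ι → alg U,
      (∑ i ∈ s, (c i : Module.End (ZMod p) V) * (rep i).toLinearMap = 0) →
      ∀ i ∈ s, c i = 0 := by
  classical
  induction s using Finset.induction_on with
  | empty =>
    intro c _ i hi
    exact absurd hi (Finset.notMem_empty i)
  | insert a t hat ih =>
    intro c hsum
    rw [Finset.sum_insert hat] at hsum
    -- the relation conjugated by `g`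
    have hconj : ∀ (g : V ≃ₗ[ZMod p] V) (hg : g ∈ E), ∀ i ∈ t,
        c i * (⟨(⁅g, rep i⁆ : V ≃ₗ[ZMod p] V).toLinearMap,
            mem_alg_of_mem (hEU g hg (rep i) (hrep i))⟩ -
          ⟨(⁅g, rep a⁆ : V ≃ₗ[ZMod p] V).toLinearMap,
            mem_alg_of_mem (hEU g hg (rep a) (hrep a))⟩ : alg U) = 0 := by
      intro g hg
      -- conjugation formula
      have hcj : ∀ (k : alg U) (j : ι),
          g.toLinearMap * ((k : Module.End (ZMod p) V) * (rep j).toLinearMap) *
            (g⁻¹ : V ≃ₗ[ZMod p] V).toLinearMap =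
          (k : Module.End (ZMod p) V) *
            ((⁅g, rep j⁆ : V ≃ₗ[ZMod p] V).toLinearMap * (rep j).toLinearMap) := by
        intro k j
        apply LinearMap.ext
        intro v
        change g ((k : Module.End (ZMod p) V) (rep j ((g⁻¹ : V ≃ₗ[ZMod p] V) v))) =
          (k : Module.End (ZMod p) V) ((⁅g, rep j⁆ : V ≃ₗ[ZMod p] V) (rep j v))
        rw [comm_alg U g (hEC g hg) k.2]
        congr 1
        have h1 : (⁅g, rep j⁆ : V ≃ₗ[ZMod p] V) * rep j = g * rep j * g⁻¹ := by
          rw [commutatorElement_def]; group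
        have h2 := congrArg (fun f : V ≃ₗ[ZMod p] V => f v) h1
        exact h2.symm
      have h1 : g.toLinearMap * ((c a : Module.End (ZMod p) V) * (rep a).toLinearMap +
          ∑ i ∈ t, (c i : Module.End (ZMod p) V) * (rep i).toLinearMap) *
            (g⁻¹ : V ≃ₗ[ZMod p] V).toLinearMap = 0 := by
        rw [hsum, mul_zero, zero_mul]
      rw [mul_add, add_mul, Finset.mul_sum, Finset.sum_mul, hcj] at h1
      have h2 : ∑ i ∈ t, g.toLinearMap * ((c i : Module.End (ZMod p) V) * (rep i).toLinearMap) *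
            (g⁻¹ : V ≃ₗ[ZMod p] V).toLinearMap =
          ∑ i ∈ t, (c i : Module.End (ZMod p) V) *
            ((⁅g, rep i⁆ : V ≃ₗ[ZMod p] V).toLinearMap * (rep i).toLinearMap) :=
        Finset.sum_congr rfl (fun i _ => hcj (c i) i)
      rw [h2] at h1
      -- multiply the original relation by the scalar of `a`
      have h3 : (⁅g, rep a⁆ : V ≃ₗ[ZMod p] V).toLinearMap *
          ((c a : Module.End (ZMod p) V) * (rep a).toLinearMap +
          ∑ i ∈ t, (c i : Module.End (ZMod p) V) * (rep i).toLinearMap) = 0 := by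
        rw [hsum, mul_zero]
      rw [mul_add, Finset.mul_sum] at h3
      set κ : ι → alg U := fun j =>
        ⟨(⁅g, rep j⁆ : V ≃ₗ[ZMod p] V).toLinearMap, mem_alg_of_mem (hEU g hg (rep j) (hrep j))⟩
        with hκ
      have hκc : ∀ (k : alg U) (j : ι),
          (⁅g, rep j⁆ : V ≃ₗ[ZMod p] V).toLinearMap * (k : Module.End (ZMod p) V) =
            (k : Module.End (ZMod p) V) * (⁅g, rep j⁆ : V ≃ₗ[ZMod p] V).toLinearMap :=
        fun k j => alg_comm U hcomm _ (κ j).2 _ k.2
      -- subtract
      have h4 : ∑ i ∈ t, ((c i * (κ i - κ a) : alg U) : Module.End (ZMod p) V) *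
          (rep i).toLinearMap = 0 := by
        have e1 : ∀ i, ((c i * (κ i - κ a) : alg U) : Module.End (ZMod p) V) *
            (rep i).toLinearMap =
            (c i : Module.End (ZMod p) V) *
              ((⁅g, rep i⁆ : V ≃ₗ[ZMod p] V).toLinearMap * (rep i).toLinearMap) -
            (⁅g, rep a⁆ : V ≃ₗ[ZMod p] V).toLinearMap *
              ((c i : Module.End (ZMod p) V) * (rep i).toLinearMap) := by
          intro i
          change ((c i : Module.End (ZMod p) V) *
            ((⁅g, rep i⁆ : V ≃ₗ[ZMod p] V).toLinearMap -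
              (⁅g, rep a⁆ : V ≃ₗ[ZMod p] V).toLinearMap)) * (rep i).toLinearMap = _
          rw [mul_sub, sub_mul, mul_assoc, mul_assoc, ← mul_assoc _ (c i : Module.End (ZMod p) V),
            hκc (c i) a, mul_assoc]
        rw [Finset.sum_congr rfl (fun i _ => e1 i), Finset.sum_sub_distrib]
        have e2 : (c a : Module.End (ZMod p) V) *
            ((⁅g, rep a⁆ : V ≃ₗ[ZMod p] V).toLinearMap * (rep a).toLinearMap) =
            (⁅g, rep a⁆ : V ≃ₗ[ZMod p] V).toLinearMap *
              ((c a : Module.End (ZMod p) V) * (rep a).toLinearMap) := by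
          rw [← mul_assoc, ← hκc (c a) a, mul_assoc]
        rw [e2] at h1
        have h5 := congrArg₂ (fun x y : Module.End (ZMod p) V => x - y) h1 h3
        simp only [sub_zero, add_sub_add_left_eq_sub] at h5
        exact h5
      exact fun i hi => ih (fun i => c i * (κ i - κ a)) h4 i hi
    haveI : IsMulCommutative (alg U) :=
      Algebra.isMulCommutative_adjoin (ZMod p) (gens_comm U hcomm)
    -- the coefficients in `t` vanish
    have ht : ∀ i ∈ t, c i = 0 := by
      intro i hi
      have hia : i ≠ a := fun h => hat (h ▸ hi)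
      have hz : (rep a)⁻¹ * rep i ∉ U := hdist i a hia
      have hzE : (rep a)⁻¹ * rep i ∈ E := E.mul_mem (E.inv_mem (hrep a)) (hrep i)
      have hex : ∃ g ∈ E, ((rep a)⁻¹ * rep i) * g ≠ g * ((rep a)⁻¹ * rep i) := by
        by_contra hcon
        push Not at hcon
        exact hz (hZ _ hzE hcon)
      obtain ⟨g, hg, hgz⟩ := hex
      have hne : (⁅g, rep i⁆ : V ≃ₗ[ZMod p] V) ≠ ⁅g, rep a⁆ := fun h => hgz (comm_of_comm_eq h)
      have h1 := hconj g hg i hi
      by_contra hci
      have hci' : (c i : Module.End (ZMod p) V) ≠ 0 := fun h => hci (Subtype.ext h)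
      have hinj := injective_of_ne_zero H U htrans hnorm hcomm (c i).2 hci'
      apply hne
      apply LinearEquiv.ext
      intro v
      have h2 := congrArg (fun k : alg U => (k : Module.End (ZMod p) V) v) h1
      change (c i : Module.End (ZMod p) V) (((⁅g, rep i⁆ : V ≃ₗ[ZMod p] V).toLinearMap -
        (⁅g, rep a⁆ : V ≃ₗ[ZMod p] V).toLinearMap) v) = 0 at h2
      have h3 := hinj (h2.trans (map_zero _).symm)
      rw [LinearMap.sub_apply, sub_eq_zero] at h3
      exact h3
    intro i hi
    rcases Finset.mem_insert.mp hi with rfl | hi'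
    · -- the last coefficient
      have h1 : ∑ j ∈ t, (c j : Module.End (ZMod p) V) * (rep j).toLinearMap = 0 := by
        apply Finset.sum_eq_zero
        intro j hj
        rw [ht j hj]
        simp
      rw [h1, add_zero] at hsum
      apply Subtype.ext
      apply LinearMap.ext
      intro v
      have h2 := congrArg (fun f : Module.End (ZMod p) V =>
        f (((rep i)⁻¹ : V ≃ₗ[ZMod p] V) v)) hsum
      change (c i : Module.End (ZMod p) V) (rep i (((rep i)⁻¹ : V ≃ₗ[ZMod p] V) v)) = 0 at h2
      rw [self_apply_inv] at h2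
      exact h2
    · exact ht i hi'

end indep

/-- the order of a class-two layer above `U` is bounded by the square of the dimension over the
field generated by `U` -/
theorem card_le [Nontrivial V] (H U E : Subgroup (V ≃ₗ[ZMod p] V))
    (htrans : ∀ v w : V, v ≠ 0 → w ≠ 0 → ∃ h ∈ H, h v = w)
    (hnorm : ∀ h ∈ H, ∀ b ∈ U, h * b * h⁻¹ ∈ U)
    (hcomm : ∀ a ∈ U, ∀ b ∈ U, a * b = b * a)
    (hUE : U ≤ E)
    (hEC : ∀ e ∈ E, ∀ u ∈ U, u * e = e * u)
    (hZ : ∀ x ∈ E, (∀ e ∈ E, x * e = e * x) → x ∈ U)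
    (hEU : ∀ x ∈ E, ∀ y ∈ E, ⁅x, y⁆ ∈ U) :
    ∃ m d : ℕ, Nat.card (alg U) = p ^ m ∧ finrank (ZMod p) V = m * d ∧
      Nat.card E ≤ Nat.card U * d ^ 2 := by
  classical
  haveI := finite_end (p := p) (V := V)
  haveI := finite_equiv (p := p) (V := V)
  haveI : IsMulCommutative (alg U) :=
    Algebra.isMulCommutative_adjoin (ZMod p) (gens_comm U hcomm)
  haveI := isDomain_alg H U htrans hnorm hcomm
  haveI : Fintype (alg U) := Fintype.ofFinite _
  letI : Field (alg U) := Fintype.fieldOfDomain (alg U)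
  refine ⟨finrank (ZMod p) (alg U), finrank (alg U) V, ?_, ?_, ?_⟩
  · rw [Module.natCard_eq_pow_finrank (K := ZMod p) (V := alg U)]
    simp
  · exact (Module.finrank_mul_finrank (ZMod p) (alg U) V).symm
  · -- the index type
    let U' : Subgroup E := U.subgroupOf E
    haveI : Fintype (E ⧸ U') := Fintype.ofFinite _
    let rep : E ⧸ U' → V ≃ₗ[ZMod p] V := fun i => ((Quotient.out i : E) : V ≃ₗ[ZMod p] V)
    have hrep : ∀ i, rep i ∈ E := fun i => (Quotient.out i : E).2
    have hdist : ∀ i j, i ≠ j → (rep j)⁻¹ * rep i ∉ U := by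
      intro i j hij hmem
      apply hij
      have h1 : (Quotient.out j : E)⁻¹ * (Quotient.out i : E) ∈ U' := by
        rw [Subgroup.mem_subgroupOf]
        exact hmem
      have h2 : (QuotientGroup.mk (Quotient.out j : E) : E ⧸ U') =
          QuotientGroup.mk (Quotient.out i : E) := QuotientGroup.eq.mpr h1
      have h3 : ∀ k : E ⧸ U', (QuotientGroup.mk (Quotient.out k : E) : E ⧸ U') = k :=
        fun k => Quotient.out_eq' k
      rw [h3, h3] at h2
      exact h2.symm
    -- the `K`-linear maps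
    let kEnd : E ⧸ U' → Module.End (alg U) V := fun i =>
      { toFun := fun v => rep i v
        map_add' := fun v w => map_add _ v w
        map_smul' := fun k v => by
          change rep i ((k : Module.End (ZMod p) V) v) = (k : Module.End (ZMod p) V) (rep i v)
          exact comm_alg U (rep i) (hEC (rep i) (hrep i)) k.2 v }
    have hli : LinearIndependent (alg U) kEnd := by
      rw [linearIndependent_iff']
      intro s c hsum i hi
      apply indep H U E htrans hnorm hcomm hEC hZ hEU rep hrep hdist s c _ i hi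
      apply LinearMap.ext
      intro v
      have h1 := congrArg (fun f : Module.End (alg U) V => f v) hsum
      simp only [LinearMap.sum_apply, LinearMap.smul_apply, LinearMap.zero_apply] at h1
      rw [LinearMap.sum_apply, LinearMap.zero_apply]
      exact h1
    have h1 := hli.fintype_card_le_finrank
    have h2 : finrank (alg U) (Module.End (alg U) V) = finrank (alg U) V * finrank (alg U) V :=
      Module.finrank_linearMap (alg U) (alg U) V V
    rw [h2] at h1
    have h3 : Nat.card E = Nat.card (E ⧸ U') * Nat.card U' :=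
      Subgroup.card_eq_card_quotient_mul_card_subgroup U'
    have h4 : Nat.card U' = Nat.card U :=
      Nat.card_congr (Subgroup.subgroupOfEquivOfLe hUE).toEquiv
    rw [h3, h4, Nat.card_eq_fintype_card, mul_comm, pow_two]
    exact Nat.mul_le_mul_left _ h1

end Cfsg.Agent.Helper12.HupIndep
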