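import Mathlib

set_option autoImplicit false
set_option linter.unusedSectionVars false
set_option linter.style.haveILetI false

/-! A coprime automorphism of prime order `r` of a finite abelian group carrying a non-degenerate
alternating pairing: there is an invariant subgroup `W` with `r ∣ |W| - 1` which is either
isotropic (`|W| ^ 2 ≤ |A|`) or of square order. -/

namespace Cfsg.Agent.Helper12.SympAbel

open Module

variable {A : Type*} [CommGroup A] [Finite A] {K : Type*} [CommRing K] [IsDomain K]

section pairing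

variable (ω : A → A → Kˣ)
  (hL : ∀ a b c, ω (a * b) c = ω a c * ω b c)
  (hR : ∀ a b c, ω a (b * c) = ω a b * ω a c)

include hL in
theorem one_left (c : A) : ω 1 c = 1 := by
  have := hL 1 1 c
  rw [mul_one] at this
  exact (mul_eq_left.mp this.symm)

include hR in
theorem one_right (a : A) : ω a 1 = 1 := by
  have := hR a 1 1
  rw [mul_one] at this
  exact (mul_eq_left.mp this.symm)

include hL in
theorem inv_left (a c : A) : ω a⁻¹ c = (ω a c)⁻¹ := by
  have := hL a a⁻¹ c
  rw [mul_inv_cancel, one_left ω hL] at this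
  exact (inv_eq_of_mul_eq_one_right this.symm).symm

include hR in
theorem inv_right (a c : A) : ω a c⁻¹ = (ω a c)⁻¹ := by
  have := hR a c c⁻¹
  rw [mul_inv_cancel, one_right ω hR] at this
  exact (inv_eq_of_mul_eq_one_right this.symm).symm

include hL in
theorem pow_left (a c : A) (n : ℕ) : ω (a ^ n) c = (ω a c) ^ n := by
  induction n with
  | zero => rw [pow_zero, pow_zero, one_left ω hL]
  | succ n ih => rw [pow_succ, pow_succ, hL, ih]

include hR in
theorem pow_right (a c : A) (n : ℕ) : ω a (c ^ n) = (ω a c) ^ n := by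
  induction n with
  | zero => rw [pow_zero, pow_zero, one_right ω hR]
  | succ n ih => rw [pow_succ, pow_succ, hR, ih]

include hL hR in
theorem antisymm (halt : ∀ a, ω a a = 1) (a b : A) : ω b a = (ω a b)⁻¹ := by
  have h := halt (a * b)
  rw [hL, hR, hR, halt, halt, one_mul, mul_one] at h
  exact (inv_eq_of_mul_eq_one_right h).symm

/-- the pairing with a fixed element, as a homomorphism -/
def pairHom (a : A) : A →* Kˣ where
  toFun := ω a
  map_one' := one_right ω hR a
  map_mul' := hR a

include hL hR in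
/-- isotropic subgroups of a non-degenerate pairing are small -/
theorem isotropic_bound (hnd : ∀ a, (∀ b, ω a b = 1) → a = 1) (W : Subgroup A)
    (hW : ∀ w ∈ W, ∀ w' ∈ W, ω w w' = 1) : Nat.card W ^ 2 ≤ Nat.card A := by
  classical
  haveI : Fintype A := Fintype.ofFinite _
  haveI : Fintype W := Fintype.ofFinite _
  haveI : Fintype (A ⧸ W) := Fintype.ofFinite _
  -- the characters
  let ev : W → (A →* K) := fun w => (Units.coeHom K).comp (pairHom ω hR (w : A))
  have hev : Function.Injective ev := by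
    intro w w' h
    apply Subtype.ext
    have h1 : ∀ b, ω ((w : A) * (w' : A)⁻¹) b = 1 := by
      intro b
      have h2 := congrArg (fun f : A →* K => f b) h
      have h3 : ((ω (w : A) b : Kˣ) : K) = ((ω (w' : A) b : Kˣ) : K) := h2
      rw [hL, inv_left ω hL, Units.ext h3, mul_inv_cancel]
    have h4 := hnd _ h1
    exact mul_inv_eq_one.mp h4
  have hli : LinearIndependent K (fun w : W => ((ev w : A →* K) : A → K)) :=
    (linearIndependent_monoidHom A K).comp ev hev
  -- descend to the quotient
  let f : W → (A ⧸ W → K) := fun w => Quotient.lift (fun a : A => ((ω (w : A) a : Kˣ) : K)) (by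
    intro a a' haa'
    have h1 : a⁻¹ * a' ∈ W := QuotientGroup.leftRel_apply.mp haa'
    have h2 : ω (w : A) a' = ω (w : A) a := by
      have h3 : a' = a * (a⁻¹ * a') := by group
      rw [h3, hR, hW w w.2 _ h1, mul_one]
    change ((ω (w : A) a : Kˣ) : K) = ((ω (w : A) a' : Kˣ) : K)
    rw [h2])
  have hlif : LinearIndependent K f := by
    apply LinearIndependent.of_comp (LinearMap.funLeft K K (QuotientGroup.mk : A → A ⧸ W))
    convert hli using 1
    funext w a
    rfl
  have h1 := hlif.fintype_card_le_finrank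
  rw [Module.finrank_fintype_fun_eq_card] at h1
  have h2 : Nat.card A = Nat.card (A ⧸ W) * Nat.card W :=
    Subgroup.card_eq_card_quotient_mul_card_subgroup W
  rw [h2, pow_two, Nat.card_eq_fintype_card, Nat.card_eq_fintype_card]
  exact Nat.mul_le_mul_right _ h1

end pairing

/-- the kernel of a character of prime exponent on a subgroup has index that prime -/
theorem card_ker_mul (χ : A →* Kˣ) (W : Subgroup A) {s : ℕ} (hs : s.Prime)
    (hexp : ∀ w ∈ W, χ w ^ s = 1) (hv : ∃ v ∈ W, χ v ≠ 1) :
    Nat.card W = s * Nat.card (W ⊓ χ.ker : Subgroup A) := by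
  classical
  set χ' : W →* Kˣ := χ.comp W.subtype with hχ'
  have h1 : Nat.card W = Nat.card (W ⧸ χ'.ker) * Nat.card χ'.ker :=
    Subgroup.card_eq_card_quotient_mul_card_subgroup χ'.ker
  have h2 : Nat.card (W ⧸ χ'.ker) = Nat.card χ'.range :=
    Nat.card_congr (QuotientGroup.quotientKerEquivRange χ').toEquiv
  have h3 : Nat.card χ'.range = s := by
    haveI : Finite χ'.range := Finite.of_surjective _ χ'.rangeRestrict_surjective
    have hcyc : IsCyclic χ'.range := inferInstance
    have he : Monoid.exponent χ'.range = Nat.card χ'.range := IsCyclic.exponent_eq_card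
    have hd : Monoid.exponent χ'.range ∣ s := by
      apply Monoid.exponent_dvd_of_forall_pow_eq_one
      rintro ⟨g, w, rfl⟩
      apply Subtype.ext
      exact hexp w.1 w.2
    rw [he] at hd
    rcases (Nat.dvd_prime hs).mp hd with h | h
    · exfalso
      obtain ⟨v, hvW, hv1⟩ := hv
      have hsub : Subsingleton χ'.range := (Nat.card_eq_one_iff_unique.mp h).1
      have h5 : (⟨χ' ⟨v, hvW⟩, ⟨⟨v, hvW⟩, rfl⟩⟩ : χ'.range) = 1 := Subsingleton.elim _ _
      exact hv1 (congrArg Subtype.val h5)
    · exact h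
  have h4 : Nat.card χ'.ker = Nat.card (W ⊓ χ.ker : Subgroup A) := by
    apply Nat.card_congr
    exact
      { toFun := fun x => ⟨(x.1 : A), x.1.2, MonoidHom.mem_ker.mpr (MonoidHom.mem_ker.mp x.2)⟩
        invFun := fun x => ⟨⟨(x : A), x.2.1⟩, MonoidHom.mem_ker.mpr (MonoidHom.mem_ker.mp x.2.2)⟩
        left_inv := fun x => rfl
        right_inv := fun x => rfl }
  rw [h1, h2, h3, h4]

/-- a subgroup strictly between `P` and `Q` of prime index is `Q` -/
theorem eq_of_sandwich {P X Q : Subgroup A} {s : ℕ} (hs : s.Prime) (hPX : P ≤ X) (hXQ : X ≤ Q)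
    (hcard : Nat.card Q = s * Nat.card P) (hne : X ≠ P) : X = Q := by
  have h1 : Nat.card P ∣ Nat.card X := Subgroup.card_dvd_of_le hPX
  have h2 : Nat.card X ∣ Nat.card Q := Subgroup.card_dvd_of_le hXQ
  obtain ⟨k, hk⟩ := h1
  have hPpos : 0 < Nat.card P := Nat.card_pos
  have h3 : k ∣ s := by
    rw [hk, hcard, mul_comm s] at h2
    exact Nat.dvd_of_mul_dvd_mul_left hPpos h2
  rcases (Nat.dvd_prime hs).mp h3 with h | h
  · exfalso
    apply hne
    apply (Subgroup.eq_of_le_of_card_ge hPX _).symm
    rw [hk, h, mul_one]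
  · apply Subgroup.eq_of_le_of_card_ge hXQ
    rw [hk, h, hcard, mul_comm]

section evenness

variable (ω : A → A → Kˣ)
  (hL : ∀ a b c, ω (a * b) c = ω a c * ω b c)
  (hR : ∀ a b c, ω a (b * c) = ω a b * ω a c)
  (halt : ∀ a, ω a a = 1)

include hL hR halt in
/-- a subgroup of prime exponent on which the pairing is non-degenerate has square order -/
theorem card_sq_of_nondeg {s : ℕ} (hs : s.Prime) :
    ∀ n : ℕ, ∀ W : Subgroup A, Nat.card W = n → (∀ w ∈ W, w ^ s = 1) →
      (∀ w ∈ W, (∀ w' ∈ W, ω w w' = 1) → w = 1) → ∃ Q, n = Q ^ 2 := by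
  intro n
  induction n using Nat.strong_induction_on with
  | _ n ih =>
    intro W hWn hexp hnd
    by_cases hW : W = ⊥
    · refine ⟨1, ?_⟩
      rw [← hWn, hW, Subgroup.card_bot, one_pow]
    obtain ⟨u, hu1⟩ := (Subgroup.ne_bot_iff_exists_ne_one).mp hW
    have huW' : (u : A) ∈ W := u.2
    have hu1' : (u : A) ≠ 1 := fun h => hu1 (Subtype.ext h)
    have hexv : ∃ v ∈ W, ω (u : A) v ≠ 1 := by
      by_contra hcon
      push Not at hcon
      exact hu1' (hnd _ huW' hcon)
    obtain ⟨v, hvW, huv⟩ := hexv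
    set χu := pairHom ω hR (u : A) with hχu
    set χv := pairHom ω hR v with hχv
    have hvu : ω v (u : A) ≠ 1 := by
      rw [antisymm ω hL hR halt (u : A) v]
      intro h
      exact huv (inv_eq_one.mp h)
    set W₀ : Subgroup A := W ⊓ χu.ker with hW₀
    set W' : Subgroup A := W₀ ⊓ χv.ker with hW'
    have hc1 : Nat.card W = s * Nat.card W₀ := by
      apply card_ker_mul χu W hs
      · intro w hw
        change ω (u : A) w ^ s = 1
        rw [← pow_right ω hR, hexp w hw, one_right ω hR]
      · exact ⟨v, hvW, huv⟩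
    have huW₀ : (u : A) ∈ W₀ := ⟨huW', MonoidHom.mem_ker.mpr (halt _)⟩
    have hc2 : Nat.card W₀ = s * Nat.card W' := by
      apply card_ker_mul χv W₀ hs
      · intro w hw
        change ω v w ^ s = 1
        rw [← pow_right ω hR, hexp w hw.1, one_right ω hR]
      · exact ⟨u, huW₀, hvu⟩
    -- non-degeneracy of `W'`
    have hnd' : ∀ w ∈ W', (∀ w' ∈ W', ω w w' = 1) → w = 1 := by
      intro w hw hww
      have hwW : w ∈ W := hw.1.1
      have huw : ω (u : A) w = 1 := MonoidHom.mem_ker.mp hw.1.2
      have hvw : ω v w = 1 := MonoidHom.mem_ker.mp hw.2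
      have hwu : ω w (u : A) = 1 := by rw [antisymm ω hL hR halt (u : A) w, huw, inv_one]
      have hwv : ω w v = 1 := by rw [antisymm ω hL hR halt v w, hvw, inv_one]
      set X : Subgroup A := W ⊓ (pairHom ω hR w).ker with hX
      have hW'X : W' ≤ X := fun x hx => ⟨hx.1.1, MonoidHom.mem_ker.mpr (hww x hx)⟩
      have huX : (u : A) ∈ X := ⟨huW', MonoidHom.mem_ker.mpr hwu⟩
      have hvX : v ∈ X := ⟨hvW, MonoidHom.mem_ker.mpr hwv⟩
      have h1 : X ⊓ W₀ = W₀ := by
        apply eq_of_sandwich hs (le_inf hW'X inf_le_left) inf_le_right hc2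
        intro h
        have : (u : A) ∈ W' := by rw [← h]; exact ⟨huX, huW₀⟩
        exact hvu (MonoidHom.mem_ker.mp this.2)
      have hW₀X : W₀ ≤ X := by rw [← h1]; exact inf_le_left
      have h2 : X = W := by
        apply eq_of_sandwich hs hW₀X inf_le_left hc1
        intro h
        have : v ∈ W₀ := by rw [← h]; exact hvX
        exact huv (MonoidHom.mem_ker.mp this.2)
      apply hnd w hwW
      intro x hx
      have : x ∈ X := by rw [h2]; exact hx
      exact MonoidHom.mem_ker.mp this.2
    have hpos : 0 < Nat.card W' := Nat.card_pos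
    have hlt : Nat.card W' < n := by
      rw [← hWn, hc1, hc2]
      have h2 : 2 ≤ s := hs.two_le
      nlinarith
    obtain ⟨Q', hQ'⟩ := ih _ hlt W' rfl (fun w hw => hexp w hw.1.1) hnd'
    refine ⟨s * Q', ?_⟩
    rw [← hWn, hc1, hc2, hQ']
    ring

end evenness

section main

variable (ω : A → A → Kˣ)
  (hL : ∀ a b c, ω (a * b) c = ω a c * ω b c)
  (hR : ∀ a b c, ω a (b * c) = ω a b * ω a c)
  (halt : ∀ a, ω a a = 1)
  (hnd : ∀ a, (∀ b, ω a b = 1) → a = 1)

/-- the norm map of an automorphism -/
def normHom (y : A ≃* A) (r : ℕ) : A →* A where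
  toFun a := ∏ i ∈ Finset.range r, y^[i] a
  map_one' := by
    apply Finset.prod_eq_one
    intro i _
    exact iterate_map_one y i
  map_mul' a b := by
    rw [← Finset.prod_mul_distrib]
    apply Finset.prod_congr rfl
    intro i _
    exact iterate_map_mul y i a b

theorem normHom_apply (y : A ≃* A) (r : ℕ) (a : A) :
    normHom y r a = ∏ i ∈ Finset.range r, y^[i] a := rfl

theorem normHom_map (y : A ≃* A) {r : ℕ} (hyr : ∀ a, y^[r] a = a) (a : A) :
    normHom y r (y a) = normHom y r a := by
  rw [normHom_apply, normHom_apply]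
  have h1 : ∏ i ∈ Finset.range (r + 1), y^[i] a =
      (∏ i ∈ Finset.range r, y^[i + 1] a) * y^[0] a := Finset.prod_range_succ' _ _
  have h2 : ∏ i ∈ Finset.range (r + 1), y^[i] a =
      (∏ i ∈ Finset.range r, y^[i] a) * y^[r] a := Finset.prod_range_succ _ _
  rw [h2, hyr] at h1
  have h3 : ∏ i ∈ Finset.range r, y^[i] a = ∏ i ∈ Finset.range r, y^[i + 1] a :=
    mul_right_cancel h1
  rw [h3]
  apply Finset.prod_congr rfl
  intro i _
  rfl

include hL hR halt hnd in
/-- the main bound -/
theorem symp_bound (y : A ≃* A) (hy : ∀ a b, ω (y a) (y b) = ω a b) {r : ℕ} (hr : r.Prime)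
    (hyr : ∀ a, y^[r] a = a) (hy1 : ∃ a, y a ≠ a) (hcop : (Nat.card A).Coprime r) :
    ∃ W : Subgroup A, 1 < Nat.card W ∧ r ∣ Nat.card W - 1 ∧
      (Nat.card W ^ 2 ≤ Nat.card A ∨
        ((∃ Q, Nat.card W = Q ^ 2) ∧ ∃ s : ℕ, s.Prime ∧ ∀ w ∈ W, w ^ s = 1)) := by
  classical
  haveI : Fact r.Prime := ⟨hr⟩
  set N := normHom y r with hN
  -- the kernel of the norm is non-trivial
  have hker_ne : N.ker ≠ ⊥ := by
    obtain ⟨a, ha⟩ := hy1
    intro h
    have h1 : a * (y a)⁻¹ ∈ N.ker := by
      rw [MonoidHom.mem_ker, map_mul, map_inv, normHom_map y hyr, mul_inv_cancel]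
    rw [h, Subgroup.mem_bot] at h1
    exact ha (mul_inv_eq_one.mp h1).symm
  -- fixed points in the kernel are trivial
  have hfix : ∀ a ∈ N.ker, y a = a → a = 1 := by
    intro a ha hya
    have h1 : ∀ i, y^[i] a = a := fun i => Function.iterate_fixed hya i
    have h2 : a ^ r = 1 := by
      have h3 : N a = 1 := MonoidHom.mem_ker.mp ha
      rw [hN, normHom_apply] at h3
      rw [Finset.prod_congr rfl (fun i _ => h1 i), Finset.prod_const, Finset.card_range] at h3
      exact h3
    have h4 : orderOf a ∣ r := orderOf_dvd_of_pow_eq_one h2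
    have h5 : orderOf a ∣ Nat.card A := orderOf_dvd_natCard a
    have h6 : orderOf a ∣ 1 := by
      have := Nat.dvd_gcd h5 h4
      rwa [hcop] at this
    exact orderOf_eq_one_iff.mp (Nat.dvd_one.mp h6)
  -- a minimal invariant subgroup
  let 𝓦 := {W : Subgroup A // W ≠ ⊥ ∧ W ≤ N.ker ∧ ∀ w ∈ W, y w ∈ W}
  haveI : Nonempty 𝓦 := ⟨⟨N.ker, hker_ne, le_refl _, fun w hw => by
    rw [MonoidHom.mem_ker, normHom_map y hyr]
    exact MonoidHom.mem_ker.mp hw⟩⟩
  obtain ⟨⟨W, hWne, hWker, hWinv⟩, hWmin⟩ := Finite.exists_min (fun W : 𝓦 => Nat.card W.1)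
  have hmin : ∀ W' : Subgroup A, W' ≠ ⊥ → W' ≤ W → (∀ w ∈ W', y w ∈ W') → W' = W := by
    intro W' h1 h2 h3
    exact Subgroup.eq_of_le_of_card_ge h2 (hWmin ⟨W', h1, h2.trans hWker, h3⟩)
  have hWinv' : ∀ i : ℕ, ∀ w ∈ W, y^[i] w ∈ W := by
    intro i
    induction i with
    | zero => intro w hw; exact hw
    | succ i ih =>
      intro w hw
      rw [Function.iterate_succ_apply']
      exact hWinv _ (ih w hw)
  have hcard1 : 1 < Nat.card W := by
    rcases Nat.lt_or_ge 1 (Nat.card W) with h | h
    · exact h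
    · exfalso
      have hpos : 0 < Nat.card W := Nat.card_pos
      have : Nat.card W = 1 := by omega
      exact hWne (Subgroup.card_eq_one.mp this)
  refine ⟨W, hcard1, ?_, ?_⟩
  · -- orbit counting
    haveI : Fintype W := Fintype.ofFinite _
    let f : Function.End W := fun w => ⟨y w, hWinv w w.2⟩
    have hfpow : ∀ i : ℕ, ∀ w : W, ((f ^ i) w : A) = y^[i] (w : A) := by
      intro i
      induction i with
      | zero => intro w; rfl
      | succ i ih =>
        intro w
        rw [pow_succ', Function.iterate_succ_apply']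
        change y (((f ^ i) w : W) : A) = _
        rw [ih]
    have hf : f ^ r ^ 1 = 1 := by
      rw [pow_one]
      funext w
      apply Subtype.ext
      rw [hfpow, hyr]
      rfl
    have h1 := Equiv.Perm.card_fixedPoints_modEq (p := r) (n := 1) hf
    have h2 : Fintype.card (Function.fixedPoints f) = 1 := by
      rw [Fintype.card_eq_one_iff]
      refine ⟨⟨1, ?_⟩, ?_⟩
      · change f 1 = 1
        apply Subtype.ext
        change y ((1 : W) : A) = _
        simp
      · rintro ⟨w, hw⟩
        apply Subtype.ext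
        have hw' : f w = w := hw
        have h3 : y (w : A) = w := congrArg Subtype.val hw'
        apply Subtype.ext
        exact hfix _ (hWker w.2) h3
    rw [h2, ← Nat.card_eq_fintype_card] at h1
    exact (Nat.modEq_iff_dvd' (by omega)).mp h1.symm
  · -- the radical
    set Rad : Subgroup A :=
      { carrier := {w | w ∈ W ∧ ∀ w' ∈ W, ω w w' = 1}
        one_mem' := ⟨W.one_mem, fun w' _ => one_left ω hL w'⟩
        mul_mem' := by
          rintro a b ⟨ha, ha'⟩ ⟨hb, hb'⟩
          refine ⟨W.mul_mem ha hb, fun w' hw' => ?_⟩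
          rw [hL, ha' w' hw', hb' w' hw', one_mul]
        inv_mem' := by
          rintro a ⟨ha, ha'⟩
          refine ⟨W.inv_mem ha, fun w' hw' => ?_⟩
          rw [inv_left ω hL, ha' w' hw', inv_one] } with hRad
    have hRadW : Rad ≤ W := fun w hw => hw.1
    have hRadinv : ∀ w ∈ Rad, y w ∈ Rad := by
      rintro w ⟨hw, hw'⟩
      refine ⟨hWinv w hw, fun w' hw'' => ?_⟩
      -- `w' = y (y^[r-1] w')`
      have h1 : y (y^[r - 1] w') = w' := by
        rw [← Function.iterate_succ_apply' y (r - 1) w']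
        have : (r - 1).succ = r := Nat.succ_pred_eq_of_pos hr.pos
        rw [this, hyr]
      rw [← h1, hy]
      exact hw' _ (hWinv' _ w' hw'')
    by_cases hRad0 : Rad = ⊥
    · right
      have hndW : ∀ w ∈ W, (∀ w' ∈ W, ω w w' = 1) → w = 1 := by
        intro w hw hw'
        have : w ∈ Rad := ⟨hw, hw'⟩
        rw [hRad0, Subgroup.mem_bot] at this
        exact this
      -- prime exponent
      obtain ⟨s, hsp, hsd⟩ := Nat.exists_prime_and_dvd (show Nat.card W ≠ 1 by omega)
      haveI : Fact s.Prime := ⟨hsp⟩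
      obtain ⟨g, hg⟩ := exists_prime_orderOf_dvd_card' (G := W) s hsd
      set Ws : Subgroup A :=
        { carrier := {w | w ∈ W ∧ w ^ s = 1}
          one_mem' := ⟨W.one_mem, one_pow s⟩
          mul_mem' := by
            rintro a b ⟨ha, ha'⟩ ⟨hb, hb'⟩
            exact ⟨W.mul_mem ha hb, by rw [mul_pow, ha', hb', one_mul]⟩
          inv_mem' := by
            rintro a ⟨ha, ha'⟩
            exact ⟨W.inv_mem ha, by rw [inv_pow, ha', inv_one]⟩ } with hWs
      have hWsW : Ws ≤ W := fun w hw => hw.1
      have hWsne : Ws ≠ ⊥ := by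
        intro h
        have h1 : (g : A) ∈ Ws := by
          refine ⟨g.2, ?_⟩
          have : g ^ s = 1 := by rw [← hg]; exact pow_orderOf_eq_one g
          exact congrArg Subtype.val this
        rw [h, Subgroup.mem_bot] at h1
        have h2 : g = 1 := Subtype.ext h1
        rw [h2, orderOf_one] at hg
        exact hsp.one_lt.ne hg
      have hWsinv : ∀ w ∈ Ws, y w ∈ Ws := by
        rintro w ⟨hw, hw'⟩
        exact ⟨hWinv w hw, by rw [← map_pow, hw', map_one]⟩
      have hWsEq := hmin Ws hWsne hWsW hWsinv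
      have hexp : ∀ w ∈ W, w ^ s = 1 := by
        intro w hw
        have : w ∈ Ws := by rw [hWsEq]; exact hw
        exact this.2
      exact ⟨card_sq_of_nondeg ω hL hR halt hsp _ W rfl hexp hndW, s, hsp, hexp⟩
    · left
      have hRadEq := hmin Rad hRad0 hRadW hRadinv
      apply isotropic_bound ω hL hR hnd W
      intro w hw w' hw'
      have : w ∈ Rad := by rw [hRadEq]; exact hw
      exact this.2 w' hw'

end main

end Cfsg.Agent.Helper12.SympAbel
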