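import Mathlib
import Cfsg.Agent.Lib.Helper12.HupData
import Cfsg.Agent.Lib.Helper12.SympAbel

set_option autoImplicit false
set_option linter.unusedSectionVars false
set_option linter.style.haveILetI false

/-! The abelian quotient `E / U` of the class-two layer, its commutator pairing, and the action of
the centraliser of `U` on it. -/

namespace Cfsg.Agent.Helper12.HupQuot

open Subgroup Cfsg.Agent.Helper12.HupData Cfsg.Agent.Helper12.HupStruct
  Cfsg.Agent.Helper12.SympAbel

open scoped commutatorElement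

variable {G : Type*} [Group G] {H U E : Subgroup G}

theorem conj_eq_of_cen (hD : Data H U E) {e u : G} (he : e ∈ E) (hu : u ∈ U) :
    e * u * e⁻¹ = u := by
  have := hD.E_cen e he u hu
  rw [← this]; group

theorem normal_sub (hD : Data H U E) : (U.subgroupOf E).Normal := by
  constructor
  intro u hu e
  rw [mem_subgroupOf] at hu ⊢
  have h1 : ((e * u * e⁻¹ : E) : G) = (e : G) * (u : G) * (e : G)⁻¹ := rfl
  rw [h1, conj_eq_of_cen hD e.2 hu]
  exact hu

/-- the quotient `E / U` -/
abbrev Aq (U E : Subgroup G) := ↥E ⧸ U.subgroupOf E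

/-- the quotient is commutative -/
@[reducible] def commGroupQ (hD : Data H U E) [(U.subgroupOf E).Normal] : CommGroup (Aq U E) :=
  { (inferInstance : Group (↥E ⧸ U.subgroupOf E)) with
    mul_comm := by
      intro a b
      induction a using QuotientGroup.induction_on with
      | H x =>
        induction b using QuotientGroup.induction_on with
        | H y =>
          rw [← QuotientGroup.mk_mul, ← QuotientGroup.mk_mul, QuotientGroup.eq, mem_subgroupOf]
          have h1 := hD.E_comm _ (E.inv_mem y.2) _ (E.inv_mem x.2)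
          have h2 : (((x * y)⁻¹ * (y * x) : E) : G) = ⁅((y : G))⁻¹, ((x : G))⁻¹⁆ := by
            rw [commutatorElement_def]
            simp only [coe_mul, coe_inv, mul_inv_rev, inv_inv]
            group
          rw [h2]
          exact h1 }

/-- equivalent representatives have the same commutators -/
theorem comm_congr (hD : Data H U E) {x x' y y' : G} (hx : x ∈ E) (hy : y ∈ E)
    (hxx : x⁻¹ * x' ∈ U) (hyy : y⁻¹ * y' ∈ U) : ⁅x', y'⁆ = ⁅x, y⁆ := by
  have h1 : x' = x * (x⁻¹ * x') := by group
  have h2 : y' = y * (y⁻¹ * y') := by group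
  rw [h1, h2]
  exact comm_mul_central (hD.E_cen y hy _ hxx) (hD.U_comm _ hxx _ hyy) (hD.E_cen x hx _ hyy)

variable {K : Type*} [CommRing K] [IsDomain K]

/-- the commutator pairing on the quotient -/
noncomputable def om (hD : Data H U E) (κ : U →* Kˣ) : Aq U E → Aq U E → Kˣ := fun a b =>
  κ ⟨⁅((Quotient.out a : E) : G), ((Quotient.out b : E) : G)⁆,
    hD.E_comm _ (Quotient.out a : E).2 _ (Quotient.out b : E).2⟩

theorem out_rel (a : E) :
    ((a : G))⁻¹ * ((Quotient.out (QuotientGroup.mk a : Aq U E) : E) : G) ∈ U := by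
  have h1 : (QuotientGroup.mk (Quotient.out (QuotientGroup.mk a : Aq U E)) : Aq U E) =
      QuotientGroup.mk a := Quotient.out_eq' _
  have h2 := QuotientGroup.eq.mp h1.symm
  rw [mem_subgroupOf] at h2
  exact h2

theorem om_mk (hD : Data H U E) (κ : U →* Kˣ) (x y : E) :
    om hD κ (QuotientGroup.mk x) (QuotientGroup.mk y) =
      κ ⟨⁅(x : G), (y : G)⁆, hD.E_comm _ x.2 _ y.2⟩ := by
  unfold om
  congr 1
  apply Subtype.ext
  exact comm_congr hD x.2 y.2 (out_rel x) (out_rel y)

theorem om_mul_left (hD : Data H U E) [(U.subgroupOf E).Normal] (κ : U →* Kˣ)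
    (a b c : Aq U E) : om hD κ (a * b) c = om hD κ a c * om hD κ b c := by
  induction a using QuotientGroup.induction_on with
  | H x =>
    induction b using QuotientGroup.induction_on with
    | H y =>
      induction c using QuotientGroup.induction_on with
      | H z =>
        rw [← QuotientGroup.mk_mul, om_mk, om_mk, om_mk, ← map_mul]
        congr 1
        apply Subtype.ext
        change ⁅((x * y : E) : G), (z : G)⁆ = ⁅(x : G), (z : G)⁆ * ⁅(y : G), (z : G)⁆
        rw [coe_mul, comm_mul_left, conj_eq_of_cen hD x.2 (hD.E_comm _ y.2 _ z.2)]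
        exact hD.U_comm _ (hD.E_comm _ y.2 _ z.2) _ (hD.E_comm _ x.2 _ z.2)

theorem om_mul_right (hD : Data H U E) [(U.subgroupOf E).Normal] (κ : U →* Kˣ)
    (a b c : Aq U E) : om hD κ a (b * c) = om hD κ a b * om hD κ a c := by
  induction a using QuotientGroup.induction_on with
  | H x =>
    induction b using QuotientGroup.induction_on with
    | H y =>
      induction c using QuotientGroup.induction_on with
      | H z =>
        rw [← QuotientGroup.mk_mul, om_mk, om_mk, om_mk, ← map_mul]
        congr 1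
        apply Subtype.ext
        change ⁅(x : G), ((y * z : E) : G)⁆ = ⁅(x : G), (y : G)⁆ * ⁅(x : G), (z : G)⁆
        rw [coe_mul, comm_mul_right, conj_eq_of_cen hD y.2 (hD.E_comm _ x.2 _ z.2)]

theorem om_self (hD : Data H U E) (κ : U →* Kˣ) (a : Aq U E) : om hD κ a a = 1 := by
  induction a using QuotientGroup.induction_on with
  | H x =>
    rw [om_mk]
    have : (⟨⁅(x : G), (x : G)⁆, hD.E_comm _ x.2 _ x.2⟩ : U) = 1 := by
      apply Subtype.ext
      change ⁅(x : G), (x : G)⁆ = 1
      rw [commutatorElement_self]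
    rw [this, map_one]

theorem om_nondeg (hD : Data H U E) [(U.subgroupOf E).Normal] (κ : U →* Kˣ)
    (hκ : Function.Injective κ) (a : Aq U E) (ha : ∀ b, om hD κ a b = 1) : a = 1 := by
  induction a using QuotientGroup.induction_on with
  | H x =>
    rw [QuotientGroup.eq_one_iff, mem_subgroupOf]
    apply hD.E_center _ x.2
    intro e he
    have h1 := ha (QuotientGroup.mk ⟨e, he⟩)
    rw [om_mk, ← map_one κ] at h1
    have h2 := congrArg Subtype.val (hκ h1)
    change ⁅(x : G), e⁆ = 1 at h2
    exact commutatorElement_eq_one_iff_commute.mp h2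

/-- the centraliser of `U` in `H` -/
def Cen (H U : Subgroup G) : Subgroup G := H ⊓ centralizer (U : Set G)

theorem mem_Cen {g : G} : g ∈ Cen H U ↔ g ∈ H ∧ ∀ u ∈ U, u * g = g * u := by
  unfold Cen
  rw [mem_inf, mem_centralizer_iff]
  rfl

/-- conjugation on `E` -/
def conjE (hD : Data H U E) (g : G) (hg : g ∈ H) : ↥E ≃* ↥E where
  toFun e := ⟨g * e * g⁻¹, hD.E_norm g hg e e.2⟩
  invFun e := ⟨g⁻¹ * e * g, by
    have := hD.E_norm g⁻¹ (H.inv_mem hg) e e.2
    simpa using this⟩
  left_inv e := by
    apply Subtype.ext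
    change g⁻¹ * (g * (e : G) * g⁻¹) * g = e
    group
  right_inv e := by
    apply Subtype.ext
    change g * (g⁻¹ * (e : G) * g) * g⁻¹ = e
    group
  map_mul' a b := by
    apply Subtype.ext
    change g * ((a : G) * (b : G)) * g⁻¹ = (g * (a : G) * g⁻¹) * (g * (b : G) * g⁻¹)
    group

theorem conjE_map (hD : Data H U E) (g : G) (hg : g ∈ Cen H U) :
    (U.subgroupOf E).map (conjE hD g (mem_Cen.mp hg).1).toMonoidHom = U.subgroupOf E := by
  have hgU := (mem_Cen.mp hg).2
  have hfix : ∀ u ∈ U, g * u * g⁻¹ = u := by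
    intro u hu
    rw [← hgU u hu]; group
  ext x
  constructor
  · rintro ⟨u, hu, rfl⟩
    have hu' : (u : G) ∈ U := hu
    rw [mem_subgroupOf]
    change g * (u : G) * g⁻¹ ∈ U
    rw [hfix _ hu']
    exact hu'
  · intro hx
    rw [mem_subgroupOf] at hx
    refine ⟨x, mem_subgroupOf.mpr hx, ?_⟩
    apply Subtype.ext
    change g * (x : G) * g⁻¹ = x
    exact hfix _ hx

/-- the action on the quotient -/
noncomputable def actQ (hD : Data H U E) [(U.subgroupOf E).Normal] (g : G) (hg : g ∈ Cen H U) :
    Aq U E ≃* Aq U E :=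
  QuotientGroup.congr (U.subgroupOf E) (U.subgroupOf E) (conjE hD g (mem_Cen.mp hg).1)
    (conjE_map hD g hg)

theorem actQ_mk (hD : Data H U E) [(U.subgroupOf E).Normal] (g : G) (hg : g ∈ Cen H U) (e : E) :
    actQ hD g hg (QuotientGroup.mk e) =
      QuotientGroup.mk (⟨g * e * g⁻¹, hD.E_norm g (mem_Cen.mp hg).1 e e.2⟩ : E) := rfl

/-- the action as a homomorphism -/
noncomputable def actHom (hD : Data H U E) [(U.subgroupOf E).Normal] :
    Cen H U →* MulAut (Aq U E) where
  toFun g := actQ hD g.1 g.2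
  map_one' := by
    apply MulEquiv.ext
    intro a
    induction a using QuotientGroup.induction_on with
    | H x =>
      rw [actQ_mk]
      congr 1
      apply Subtype.ext
      change (1 : G) * (x : G) * (1 : G)⁻¹ = x
      group
  map_mul' g h := by
    apply MulEquiv.ext
    intro a
    induction a using QuotientGroup.induction_on with
    | H x =>
      change actQ hD _ _ (QuotientGroup.mk x) =
        actQ hD _ g.2 (actQ hD _ h.2 (QuotientGroup.mk x))
      rw [actQ_mk, actQ_mk, actQ_mk]
      congr 1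
      apply Subtype.ext
      change ((g * h : Cen H U) : G) * (x : G) * ((g * h : Cen H U) : G)⁻¹ =
        (g : G) * ((h : G) * (x : G) * (h : G)⁻¹) * (g : G)⁻¹
      rw [coe_mul]
      group

theorem mem_ker_actHom (hD : Data H U E) [(U.subgroupOf E).Normal] (g : Cen H U) :
    g ∈ (actHom hD).ker ↔ (g : G) ∈ E := by
  rw [MonoidHom.mem_ker]
  constructor
  · intro h
    apply hD.E_faith _ (mem_Cen.mp g.2).1 (mem_Cen.mp g.2).2
    intro e he
    have h1 := congrArg (fun f : MulAut (Aq U E) => f (QuotientGroup.mk ⟨e, he⟩)) h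
    change actQ hD g.1 g.2 (QuotientGroup.mk ⟨e, he⟩) = QuotientGroup.mk ⟨e, he⟩ at h1
    rw [actQ_mk] at h1
    have h2 := QuotientGroup.eq.mp h1.symm
    rw [mem_subgroupOf] at h2
    change e⁻¹ * ((g : G) * e * (g : G)⁻¹) ∈ U at h2
    have h3 := conj_eq_of_cen hD he h2
    have h4 : ⁅(g : G), e⁆ = e * (e⁻¹ * ((g : G) * e * (g : G)⁻¹)) * e⁻¹ := by
      rw [commutatorElement_def]; group
    rw [h4, h3]
    exact h2
  · intro hgE
    apply MulEquiv.ext
    intro a
    induction a using QuotientGroup.induction_on with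
    | H x =>
      change actQ hD g.1 g.2 (QuotientGroup.mk x) = QuotientGroup.mk x
      rw [actQ_mk]
      apply (QuotientGroup.eq.mpr _).symm
      rw [mem_subgroupOf]
      change (x : G)⁻¹ * ((g : G) * (x : G) * (g : G)⁻¹) ∈ U
      have h1 := hD.E_comm _ (E.inv_mem x.2) _ hgE
      rw [commutatorElement_def] at h1
      simpa [mul_assoc] using h1

/-- the order of the centraliser of `U` -/
theorem layer_card (hD : Data H U E) [(U.subgroupOf E).Normal] :
    Nat.card (Cen H U) = Nat.card (actHom hD).range * Nat.card E := by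
  have h1 : Nat.card (Cen H U) =
      Nat.card (Cen H U ⧸ (actHom hD).ker) * Nat.card (actHom hD).ker :=
    Subgroup.card_eq_card_quotient_mul_card_subgroup _
  have h2 : Nat.card (Cen H U ⧸ (actHom hD).ker) = Nat.card (actHom hD).range :=
    Nat.card_congr (QuotientGroup.quotientKerEquivRange (actHom hD)).toEquiv
  have h3 : Nat.card (actHom hD).ker = Nat.card E := by
    apply Nat.card_congr
    exact
      { toFun := fun g => ⟨(g.1 : G), (mem_ker_actHom hD g.1).mp g.2⟩
        invFun := fun e => ⟨⟨(e : G), mem_Cen.mpr ⟨hD.E_le e.2, fun u hu => hD.E_cen e e.2 u hu⟩⟩,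
          (mem_ker_actHom hD _).mpr e.2⟩
        left_inv := fun g => rfl
        right_inv := fun e => rfl }
  rw [h1, h2, h3]

theorem card_Aq (hD : Data H U E) : Nat.card E = Nat.card (Aq U E) * Nat.card U := by
  have h3 : Nat.card E = Nat.card (E ⧸ U.subgroupOf E) * Nat.card (U.subgroupOf E) :=
    Subgroup.card_eq_card_quotient_mul_card_subgroup _
  have h4 : Nat.card (U.subgroupOf E) = Nat.card U :=
    Nat.card_congr (Subgroup.subgroupOfEquivOfLe hD.U_le).toEquiv
  rw [h3, h4]

theorem actQ_iterate (hD : Data H U E) [(U.subgroupOf E).Normal] (y : G) (hy : y ∈ Cen H U)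
    (i : ℕ) (x : E) :
    (actQ hD y hy)^[i] (QuotientGroup.mk x) =
      QuotientGroup.mk (⟨y ^ i * x * (y ^ i)⁻¹,
        hD.E_norm _ (H.pow_mem (mem_Cen.mp hy).1 i) x x.2⟩ : E) := by
  induction i with
  | zero =>
    rw [Function.iterate_zero, id]
    congr 1
    apply Subtype.ext
    change (x : G) = y ^ 0 * (x : G) * (y ^ 0)⁻¹
    rw [pow_zero]; group
  | succ i ih =>
    rw [Function.iterate_succ_apply', ih, actQ_mk]
    congr 1
    apply Subtype.ext
    change y * (y ^ i * (x : G) * (y ^ i)⁻¹) * y⁻¹ = y ^ (i + 1) * (x : G) * (y ^ (i + 1))⁻¹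
    rw [pow_succ']
    group

/-- the symplectic bound for an element of prime order acting on the layer -/
theorem layer_symp [Finite E] (hD : Data H U E) [(U.subgroupOf E).Normal] (κ : U →* Kˣ)
    (hκ : Function.Injective κ) (y : G) (hy : y ∈ Cen H U) (hyE : y ∉ E) {r : ℕ} (hr : r.Prime)
    (hyr : y ^ r = 1) (hcop : (Nat.card (Aq U E)).Coprime r) :
    letI := commGroupQ hD
    ∃ W : Subgroup (Aq U E), 1 < Nat.card W ∧ r ∣ Nat.card W - 1 ∧
      (Nat.card W ^ 2 ≤ Nat.card (Aq U E) ∨
        ((∃ Q, Nat.card W = Q ^ 2) ∧ ∃ s : ℕ, s.Prime ∧ ∀ w ∈ W, w ^ s = 1)) := by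
  letI := commGroupQ hD
  haveI : Finite (Aq U E) := Quotient.finite _
  have hgU := (mem_Cen.mp hy).2
  have hfix : ∀ u ∈ U, y * u * y⁻¹ = u := by
    intro u hu
    rw [← hgU u hu]; group
  apply symp_bound (om hD κ) (om_mul_left hD κ) (om_mul_right hD κ) (om_self hD κ)
    (om_nondeg hD κ hκ) (actQ hD y hy) _ hr _ _ hcop
  · intro a b
    induction a using QuotientGroup.induction_on with
    | H x =>
      induction b using QuotientGroup.induction_on with
      | H z =>
        rw [actQ_mk, actQ_mk, om_mk, om_mk]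
        congr 1
        apply Subtype.ext
        change ⁅y * (x : G) * y⁻¹, y * (z : G) * y⁻¹⁆ = ⁅(x : G), (z : G)⁆
        have h1 : ⁅y * (x : G) * y⁻¹, y * (z : G) * y⁻¹⁆ = y * ⁅(x : G), (z : G)⁆ * y⁻¹ := by
          simp only [commutatorElement_def]; group
        rw [h1, hfix _ (hD.E_comm _ x.2 _ z.2)]
  · intro a
    induction a using QuotientGroup.induction_on with
    | H x =>
      rw [actQ_iterate]
      congr 1
      apply Subtype.ext
      change y ^ r * (x : G) * (y ^ r)⁻¹ = x
      rw [hyr]; group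
  · by_contra hcon
    push Not at hcon
    apply hyE
    apply (mem_ker_actHom hD ⟨y, hy⟩).mp
    rw [MonoidHom.mem_ker]
    apply MulEquiv.ext
    intro a
    exact hcon a

/-- if the quotient is cyclic then the layer is `U` -/
theorem le_of_cyclic (hD : Data H U E) [(U.subgroupOf E).Normal] (hc : IsCyclic (Aq U E)) :
    E ≤ U := by
  obtain ⟨g, hg⟩ := hc.exists_generator
  induction g using QuotientGroup.induction_on with
  | H g₀ =>
    have hrep : ∀ x : E, ∃ (k : ℤ) (u : G), u ∈ U ∧ (x : G) = (g₀ : G) ^ k * u := by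
      intro x
      have h1 := hg (QuotientGroup.mk x)
      rw [Subgroup.mem_zpowers_iff] at h1
      obtain ⟨k, hk⟩ := h1
      rw [← QuotientGroup.mk_zpow] at hk
      have h2 := QuotientGroup.eq.mp hk
      rw [mem_subgroupOf] at h2
      refine ⟨k, _, h2, ?_⟩
      change (x : G) = (g₀ : G) ^ k * (((g₀ ^ k : E) : G)⁻¹ * (x : G))
      rw [Subgroup.coe_zpow]
      group
    intro x hx
    apply hD.E_center x hx
    intro e he
    obtain ⟨k, u, hu, hxk⟩ := hrep ⟨x, hx⟩
    obtain ⟨l, u', hu', hel⟩ := hrep ⟨e, he⟩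
    change x = (g₀ : G) ^ k * u at hxk
    change e = (g₀ : G) ^ l * u' at hel
    have hgk : ∀ j : ℤ, (g₀ : G) ^ j ∈ E := fun j => E.zpow_mem g₀.2 j
    rw [hxk, hel]
    have c1 : u * (g₀ : G) ^ l = (g₀ : G) ^ l * u := hD.E_cen _ (hgk l) u hu
    have c2 : u' * (g₀ : G) ^ k = (g₀ : G) ^ k * u' := hD.E_cen _ (hgk k) u' hu'
    have c3 : u * u' = u' * u := hD.U_comm u hu u' hu'
    calc (g₀ : G) ^ k * u * ((g₀ : G) ^ l * u')
        = (g₀ : G) ^ k * (u * (g₀ : G) ^ l) * u' := by group
      _ = (g₀ : G) ^ k * ((g₀ : G) ^ l * u) * u' := by rw [c1]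
      _ = ((g₀ : G) ^ k * (g₀ : G) ^ l) * (u * u') := by group
      _ = ((g₀ : G) ^ l * (g₀ : G) ^ k) * (u' * u) := by
          rw [c3, ← zpow_add, ← zpow_add, add_comm]
      _ = (g₀ : G) ^ l * ((g₀ : G) ^ k * u') * u := by group
      _ = (g₀ : G) ^ l * (u' * (g₀ : G) ^ k) * u := by rw [c2]
      _ = (g₀ : G) ^ l * u' * ((g₀ : G) ^ k * u) := by group

/-- primes dividing the order of the quotient divide the order of `U` -/
theorem prime_dvd_card_U [Finite E] [Finite U] (hD : Data H U E) [(U.subgroupOf E).Normal]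
    (κ : U →* Kˣ) (hκ : Function.Injective κ) {t : ℕ} (ht : t.Prime)
    (hdvd : t ∣ Nat.card (Aq U E)) : t ∣ Nat.card U := by
  letI := commGroupQ hD
  haveI : Finite (Aq U E) := Quotient.finite _
  haveI : Fact t.Prime := ⟨ht⟩
  obtain ⟨a, ha⟩ := exists_prime_orderOf_dvd_card' (G := Aq U E) t hdvd
  have ha1 : a ≠ 1 := by
    intro h
    rw [h, orderOf_one] at ha
    exact ht.one_lt.ne ha
  have hex : ∃ b, om hD κ a b ≠ 1 := by
    by_contra hcon
    push Not at hcon
    exact ha1 (om_nondeg hD κ hκ a hcon)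
  obtain ⟨b, hb⟩ := hex
  have hpow : om hD κ a b ^ t = 1 := by
    rw [← pow_left (om hD κ) (om_mul_left hD κ), ← ha, pow_orderOf_eq_one,
      one_left (om hD κ) (om_mul_left hD κ)]
  -- the value lies in the image of `κ`
  have hval : ∃ u : U, κ u = om hD κ a b := ⟨_, rfl⟩
  obtain ⟨u, hu⟩ := hval
  have hu1 : u ≠ 1 := by
    intro h
    rw [h, map_one] at hu
    exact hb hu.symm
  have hut : u ^ t = 1 := by
    apply hκ
    rw [map_pow, hu, hpow, map_one]
  have h1 : orderOf u = t := orderOf_eq_prime hut hu1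
  rw [← h1]
  exact orderOf_dvd_natCard u

end Cfsg.Agent.Helper12.HupQuot
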