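import Mathlib
import Cfsg.Agent.Lib.Helper12.HupIndep
import Cfsg.Agent.Lib.Helper12.HupQuot
import Cfsg.Agent.Lib.Helper12.AutCard
import Cfsg.Agent.Lib.Helper12.HupArith
import Cfsg.Agent.Lib.Helper41.Zsigmondy
import Cfsg.Agent.S0685

set_option autoImplicit false
set_option linter.unusedSectionVars false
set_option linter.style.haveILetI false

/-! Huppert's theorem on solvable linear groups transitive on the non-zero vectors. -/

namespace Cfsg.Agent.Helper12.HupMain

open Module Cfsg.Agent.Helper12.FpfLinear Cfsg.Agent.Helper12.NormalIrred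
  Cfsg.Agent.Helper12.Semilinear Cfsg.Agent.Helper12.HupField Cfsg.Agent.Helper12.HupGalois
  Cfsg.Agent.Helper12.HupIndep Cfsg.Agent.Helper12.HupData Cfsg.Agent.Helper12.HupQuot

open scoped IsMulCommutative commutatorElement

variable {p : ℕ} [Fact p.Prime] {V : Type*} [AddCommGroup V] [Module (ZMod p) V] [Finite V]

/-- the number of non-zero vectors divides the order of a transitive group -/
theorem card_dvd_card (H : Subgroup (V ≃ₗ[ZMod p] V))
    (htrans : ∀ v w : V, v ≠ 0 → w ≠ 0 → ∃ h ∈ H, h v = w) (v₀ : V) (hv₀ : v₀ ≠ 0) :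
    p ^ finrank (ZMod p) V - 1 ∣ Nat.card H := by
  classical
  haveI := finite_equiv (p := p) (V := V)
  have h1 : Nat.card H = Nat.card (H ⧸ MulAction.stabilizer H v₀) *
      Nat.card (MulAction.stabilizer H v₀) :=
    Subgroup.card_eq_card_quotient_mul_card_subgroup _
  have h2 : Nat.card (MulAction.orbit H v₀) = Nat.card (H ⧸ MulAction.stabilizer H v₀) :=
    Nat.card_congr (MulAction.orbitEquivQuotientStabilizer H v₀)
  have h3 : MulAction.orbit H v₀ = {v : V | v ≠ 0} := by
    ext v
    constructor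
    · rintro ⟨h, rfl⟩ hv
      apply hv₀
      have : (h : V ≃ₗ[ZMod p] V) v₀ = 0 := hv
      exact (h : V ≃ₗ[ZMod p] V).injective (this.trans (map_zero _).symm)
    · intro hv
      obtain ⟨h, hh, hhv⟩ := htrans v₀ v hv₀ hv
      exact ⟨⟨h, hh⟩, hhv⟩
  have h4 : Nat.card (MulAction.orbit H v₀) = p ^ finrank (ZMod p) V - 1 := by
    rw [h3]
    exact Cfsg.Agent.S0685.card_nonzero
  rw [h1, ← h2, h4]
  exact Dvd.intro _ rfl

/-- the embedding of a subgroup into the units of its enveloping algebra -/
def kap (U : Subgroup (V ≃ₗ[ZMod p] V)) : U →* (alg U)ˣ where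
  toFun b :=
    ⟨⟨(b : V ≃ₗ[ZMod p] V).toLinearMap, mem_alg_of_mem b.2⟩,
     ⟨((b⁻¹ : U) : V ≃ₗ[ZMod p] V).toLinearMap, mem_alg_of_mem (b⁻¹).2⟩,
     by
       apply Subtype.ext
       apply LinearMap.ext
       intro v
       change (b : V ≃ₗ[ZMod p] V) (((b⁻¹ : U) : V ≃ₗ[ZMod p] V) v) = v
       have : (b : V ≃ₗ[ZMod p] V) * ((b⁻¹ : U) : V ≃ₗ[ZMod p] V) = 1 := by
         rw [← Subgroup.coe_mul, mul_inv_cancel]; rfl
       exact congrArg (fun g : V ≃ₗ[ZMod p] V => g v) this,
     by
       apply Subtype.ext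
       apply LinearMap.ext
       intro v
       change ((b⁻¹ : U) : V ≃ₗ[ZMod p] V) ((b : V ≃ₗ[ZMod p] V) v) = v
       have : ((b⁻¹ : U) : V ≃ₗ[ZMod p] V) * (b : V ≃ₗ[ZMod p] V) = 1 := by
         rw [← Subgroup.coe_mul, inv_mul_cancel]; rfl
       exact congrArg (fun g : V ≃ₗ[ZMod p] V => g v) this⟩
  map_one' := by
    apply Units.ext
    apply Subtype.ext
    rfl
  map_mul' := by
    intro a b
    apply Units.ext
    apply Subtype.ext
    rfl

theorem kap_injective (U : Subgroup (V ≃ₗ[ZMod p] V)) : Function.Injective (kap U) := by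
  intro a b hab
  apply Subtype.ext
  apply LinearEquiv.ext
  intro v
  have h1 := congrArg (fun u : (alg U)ˣ => ((u : alg U) : Module.End (ZMod p) V) v) hab
  exact h1

/-- a subgroup whose enveloping algebra has as many elements as the space is irreducible -/
theorem irreducible_of_card (H U : Subgroup (V ≃ₗ[ZMod p] V))
    (htrans : ∀ v w : V, v ≠ 0 → w ≠ 0 → ∃ h ∈ H, h v = w)
    (hnorm : ∀ h ∈ H, ∀ b ∈ U, h * b * h⁻¹ ∈ U)
    (hcomm : ∀ a ∈ U, ∀ b ∈ U, a * b = b * a)
    (hcard : Nat.card (alg U) = Nat.card V) :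
    ∀ W : Submodule (ZMod p) V, Inv U W → W = ⊥ ∨ W = ⊤ := by
  classical
  haveI := finite_end (p := p) (V := V)
  intro W hW
  by_cases hW0 : W = ⊥
  · exact Or.inl hW0
  right
  obtain ⟨w, hw, hw0⟩ := Submodule.exists_mem_ne_zero_of_ne_bot hW0
  -- the evaluation map is injective
  let ev : alg U → W := fun a => ⟨(a : Module.End (ZMod p) V) w, alg_inv hW a.2 w hw⟩
  have hev : Function.Injective ev := by
    intro a b hab
    have h1 : (a : Module.End (ZMod p) V) w = (b : Module.End (ZMod p) V) w :=
      congrArg Subtype.val hab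
    by_contra hne
    have hne' : ((a - b : alg U) : Module.End (ZMod p) V) ≠ 0 := by
      intro h
      apply hne
      have : a - b = 0 := Subtype.ext h
      exact sub_eq_zero.mp this
    have hinj := injective_of_ne_zero H U htrans hnorm hcomm (a - b).2 hne'
    apply hw0
    apply hinj
    rw [map_zero]
    change ((a : Module.End (ZMod p) V) - (b : Module.End (ZMod p) V)) w = 0
    rw [LinearMap.sub_apply, h1, sub_self]
  have h1 : Nat.card (alg U) ≤ Nat.card W := Nat.card_le_card_of_injective ev hev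
  have h2 : Nat.card W ≤ Nat.card V := Nat.card_le_card_of_injective _ Subtype.val_injective
  have h3 : Nat.card W = Nat.card V := by omega
  -- a subspace with as many elements as the space is everything
  apply Submodule.eq_top_iff'.mpr
  intro v
  have hbij : Function.Bijective (Subtype.val : W → V) := by
    rw [Nat.bijective_iff_injective_and_card]
    exact ⟨Subtype.val_injective, h3⟩
  obtain ⟨x, hx⟩ := hbij.2 v
  rw [← hx]
  exact x.2

/-- a non-cyclic abelian group of order the square of a prime is elementary abelian -/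
theorem exp_of_card_sq {A : Type*} [CommGroup A] [Finite A] {t : ℕ} (ht : t.Prime)
    (hcard : Nat.card A = t ^ 2) (hnc : ¬ IsCyclic A) : ∀ a : A, a ^ t = 1 := by
  intro a
  have h1 : orderOf a ∣ t ^ 2 := hcard ▸ orderOf_dvd_natCard a
  obtain ⟨k, hk, hk'⟩ := (Nat.dvd_prime_pow ht).mp h1
  have hk2 : k ≠ 2 := by
    intro h
    apply hnc
    apply isCyclic_of_orderOf_eq_card a
    rw [hk', h, hcard]
  have hk1 : k ≤ 1 := by omega
  apply orderOf_dvd_iff_pow_eq_one.mp
  rw [hk']
  have := pow_dvd_pow t hk1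
  rwa [pow_one] at this

theorem card_mulAut_of_card_one {A : Type*} [Group A] (h : Nat.card A = 1) :
    Nat.card (MulAut A) = 1 := by
  haveI : Subsingleton A := (Nat.card_eq_one_iff_unique.mp h).1
  haveI : Subsingleton (MulAut A) := ⟨fun f g => MulEquiv.ext fun x => Subsingleton.elim _ _⟩
  exact Nat.card_unique

set_option maxHeartbeats 1600000 in
/-- **Huppert**: a solvable linear group transitive on the non-zero vectors normalizes an
irreducible abelian subgroup, up to six exceptional orders of the space -/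
theorem huppert [Nontrivial V] (H : Subgroup (V ≃ₗ[ZMod p] V)) (hsolv : Group.IsSolvable H)
    (htrans : ∀ v w : V, v ≠ 0 → w ≠ 0 → ∃ h ∈ H, h v = w) :
    (∃ B : Subgroup (V ≃ₗ[ZMod p] V), (∀ h ∈ H, ∀ b ∈ B, h * b * h⁻¹ ∈ B) ∧
      (∀ a ∈ B, ∀ b ∈ B, a * b = b * a) ∧
      ∀ W : Submodule (ZMod p) V, Inv B W → W = ⊥ ∨ W = ⊤) ∨
    Nat.card V = 9 ∨ Nat.card V = 25 ∨ Nat.card V = 49 ∨ Nat.card V = 121 ∨
      Nat.card V = 529 ∨ Nat.card V = 81 := by
  classical
  have hp : p.Prime := Fact.out
  have hp2 := hp.two_le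
  haveI := finite_end (p := p) (V := V)
  haveI := finite_equiv (p := p) (V := V)
  obtain ⟨v₀, hv₀⟩ := exists_ne (0 : V)
  obtain ⟨n, hn⟩ : ∃ n, n = finrank (ZMod p) V := ⟨_, rfl⟩
  have hcardV : Nat.card V = p ^ n := by
    have h1 : Nat.card V = Nat.card (ZMod p) ^ finrank (ZMod p) V :=
      Module.natCard_eq_pow_finrank (K := ZMod p) (V := V)
    rw [Nat.card_zmod, ← hn] at h1
    exact h1
  have hn1 : 1 ≤ n := by
    by_contra hcon
    have h0 : n = 0 := by omega
    rw [h0, pow_zero] at hcardV
    have := Finite.one_lt_card (α := V)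
    omega
  obtain ⟨U, E, hD⟩ := exists_data H hsolv
  haveI := normal_sub hD
  letI := commGroupQ hD
  haveI : Finite (Aq U E) := Quotient.finite _
  haveI : IsMulCommutative (alg U) :=
    Algebra.isMulCommutative_adjoin (ZMod p) (gens_comm U hD.U_comm)
  haveI := isDomain_alg H U htrans hD.U_norm hD.U_comm
  obtain ⟨m, d, hm, hmd, hEle⟩ := card_le H U E htrans hD.U_norm hD.U_comm hD.U_le hD.E_cen
    hD.E_center hD.E_comm
  rw [← hn] at hmd
  have hUdvd := HupField.card_dvd H U htrans hD.U_norm hD.U_comm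
  rw [hm] at hUdvd
  have hHdvd := card_dvd_card H htrans v₀ hv₀
  rw [← hn] at hHdvd
  obtain ⟨hHC, hcen⟩ := card_dvd_mul H U (hD.U_le.trans hD.E_le) htrans hD.U_norm hD.U_comm m hm
  have hlayer := layer_card hD
  have hAq := card_Aq hD
  obtain ⟨a, ha⟩ : ∃ a, a = Nat.card (Aq U E) := ⟨_, rfl⟩
  obtain ⟨u, hu⟩ : ∃ u, u = Nat.card U := ⟨_, rfl⟩
  obtain ⟨k, hk⟩ : ∃ k, k = Nat.card (actHom hD).range := ⟨_, rfl⟩
  rw [← ha, ← hu] at hAq
  rw [← hk, hAq] at hlayer
  rw [← hu] at hUdvd
  rw [hAq, ← hu] at hEle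
  have hupos : 0 < u := hu ▸ Nat.card_pos
  have hapos : 0 < a := ha ▸ Nat.card_pos
  have ha_le : a ≤ d ^ 2 := by
    rw [mul_comm] at hEle
    exact Nat.le_of_mul_le_mul_left hEle hupos
  have hk_dvd : k ∣ Nat.card (MulAut (Aq U E)) := hk ▸ Subgroup.card_subgroup_dvd_card _
  have htotal : p ^ n - 1 ∣ k * (a * u) * m := by
    refine hHdvd.trans (hHC.trans ?_)
    change Nat.card (Cen H U) * m ∣ _
    rw [hlayer]
  -- the case `d = 1`
  rcases Nat.lt_or_ge d 2 with hd | hd
  · left
    have hd1 : d = 1 := by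
      rcases Nat.eq_zero_or_pos d with h0 | h0
      · rw [h0, mul_zero] at hmd; omega
      · omega
    refine ⟨U, hD.U_norm, hD.U_comm, irreducible_of_card H U htrans hD.U_norm hD.U_comm ?_⟩
    rw [hm, hcardV, hmd, hd1, mul_one]
  right
  have hm1 : 1 ≤ m := by
    rcases Nat.eq_zero_or_pos m with h0 | h0
    · rw [h0, zero_mul] at hmd; omega
    · exact h0
  have h2m : 2 * m ≤ n := by
    rw [hmd, mul_comm]
    exact Nat.mul_le_mul_left m hd
  have hdn : d ≤ n := by
    rw [hmd]
    exact Nat.le_mul_of_pos_left d hm1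
  have hpm : 2 ≤ p ^ m := by
    calc 2 ≤ p := hp2
      _ = p ^ 1 := (pow_one p).symm
      _ ≤ p ^ m := Nat.pow_le_pow_right (by omega) hm1
  -- the cyclic case is impossible
  have hcyc : IsCyclic (Aq U E) → False := by
    intro hc
    have hEU : E = U := le_antisymm (le_of_cyclic hD hc) hD.U_le
    have ha1 : a = 1 := by
      have h1 : Nat.card E = Nat.card U := by rw [hEU]
      rw [hAq, ← hu] at h1
      have : a * u = 1 * u := by rw [h1, one_mul]
      exact Nat.eq_of_mul_eq_mul_right hupos this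
    have hk1 : k = 1 := by
      have := card_mulAut_of_card_one (A := Aq U E) (ha ▸ ha1)
      rw [this] at hk_dvd
      exact Nat.dvd_one.mp hk_dvd
    rw [hk1, ha1, one_mul, one_mul] at htotal
    have h1 : p ^ n - 1 ∣ (p ^ m - 1) * m := htotal.trans (Nat.mul_dvd_mul_right hUdvd m)
    have h2 : p ^ n - 1 ≤ (p ^ m - 1) * m := Nat.le_of_dvd (Nat.mul_pos (by omega) hm1) h1
    have h3 : (p ^ m - 1) * m ≤ (p ^ m - 1) * n := Nat.mul_le_mul_left _ (by omega)
    exact Cfsg.Agent.S0685.arith p n m hp2 hm1 h2m (h2.trans h3)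
  have ha_one : a ≠ 1 := by
    intro h
    apply hcyc
    haveI : Subsingleton (Aq U E) := (Nat.card_eq_one_iff_unique.mp (ha ▸ h)).1
    exact isCyclic_of_subsingleton
  have ha_prime : ¬ a.Prime := by
    intro h
    apply hcyc
    haveI : Fact a.Prime := ⟨h⟩
    exact isCyclic_of_prime_card ha.symm
  -- primes dividing `a` divide `u`
  have hprime_a : ∀ t : ℕ, t.Prime → t ∣ a → t ∣ u := by
    intro t ht hdvd
    rw [hu]
    exact prime_dvd_card_U hD (kap U) (kap_injective U) ht (ha ▸ hdvd)
  -- the automorphism bound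
  have hexp_k : ∀ s c : ℕ, s.Prime → (∀ x : Aq U E, x ^ s = 1) → a = s ^ c →
      k ∣ ∏ i : Fin c, (s ^ c - s ^ (i : ℕ)) := by
    intro s c hs hexp hac
    haveI : Fact s.Prime := ⟨hs⟩
    rw [← Cfsg.Agent.Helper12.AutCard.card_mulAut c hexp (ha ▸ hac)]
    exact hk_dvd
  -- elements of large prime order
  have hF7 : ∀ r : ℕ, r.Prime → m < r → r ∣ p ^ n - 1 → ¬ r ∣ u →
      ∃ W : Subgroup (Aq U E), 1 < Nat.card W ∧ r ∣ Nat.card W - 1 ∧
        (Nat.card W ^ 2 ≤ a ∨
          ((∃ Q, Nat.card W = Q ^ 2) ∧ ∃ s : ℕ, s.Prime ∧ ∀ w ∈ W, w ^ s = 1)) := by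
    intro r hr hmr hrdvd hru
    haveI : Fact r.Prime := ⟨hr⟩
    obtain ⟨y, hy⟩ := exists_prime_orderOf_dvd_card' (G := H) r (hrdvd.trans hHdvd)
    have hyr : (y : V ≃ₗ[ZMod p] V) ^ r = 1 := by
      have h1 : y ^ r = 1 := by rw [← hy]; exact pow_orderOf_eq_one y
      have h2 := congrArg Subtype.val h1
      exact h2
    have hyC : (y : V ≃ₗ[ZMod p] V) ∈ Cen H U :=
      Subgroup.mem_inf.mpr ⟨y.2, hcen y y.2 r hr hmr hyr⟩
    have hra : ¬ r ∣ a := fun h => hru (hprime_a r hr h)
    have hyE : (y : V ≃ₗ[ZMod p] V) ∉ E := by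
      intro hyE
      have h1 : orderOf (⟨(y : V ≃ₗ[ZMod p] V), hyE⟩ : E) = r := by
        rw [← hy]
        rw [← Subgroup.orderOf_coe, ← Subgroup.orderOf_coe]
      have h2 : r ∣ Nat.card E := h1 ▸ orderOf_dvd_natCard _
      rw [hAq] at h2
      rcases (Nat.Prime.dvd_mul hr).mp h2 with h3 | h3
      · exact hra h3
      · exact hru h3
    have hcop : (Nat.card (Aq U E)).Coprime r := by
      rw [← ha]
      exact ((Nat.Prime.coprime_iff_not_dvd hr).mpr hra).symm
    have := layer_symp hD (kap U) (kap_injective U) (y : V ≃ₗ[ZMod p] V) hyC hyE hr hyr hcop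
    rw [← ha] at this
    exact this
  rcases Nat.lt_or_ge n 3 with hn3 | hn3
  · -- the case `n = 2`
    have hn2 : n = 2 := by omega
    have hm_eq : m = 1 := by omega
    have hd_eq : d = 2 := by
      rw [hn2, hm_eq, one_mul] at hmd
      omega
    rw [hd_eq] at ha_le
    have ha4 : a = 4 := by
      norm_num at ha_le
      interval_cases a
      · exact absurd rfl ha_one
      · exact absurd Nat.prime_two ha_prime
      · exact absurd Nat.prime_three ha_prime
      · rfl
    have hexp2 : ∀ x : Aq U E, x ^ 2 = 1 :=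
      exp_of_card_sq Nat.prime_two (by rw [← ha, ha4]; norm_num) (fun h => hcyc h)
    have hk6 := hexp_k 2 2 Nat.prime_two hexp2 (by rw [ha4]; norm_num)
    have hk6' : k ∣ 6 := by simpa [Fin.prod_univ_succ] using hk6
    have h2u : 2 ∣ u := hprime_a 2 Nat.prime_two (by rw [ha4]; norm_num)
    rw [hm_eq, pow_one] at hUdvd
    have hp_ne : p ≠ 2 := by
      intro h
      rw [h] at hUdvd
      have := h2u.trans hUdvd
      norm_num at this
    rw [hn2, ha4, hm_eq, mul_one] at htotal
    have h24 : p ^ 2 - 1 ∣ 24 * (p - 1) := by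
      refine htotal.trans ?_
      have h1 := Nat.mul_dvd_mul hk6' (Nat.mul_dvd_mul_left 4 hUdvd)
      have h2 : 6 * (4 * (p - 1)) = 24 * (p - 1) := by ring
      rwa [h2] at h1
    have hfac : p ^ 2 - 1 = (p + 1) * (p - 1) := by
      have := Nat.sq_sub_sq p 1
      simpa using this
    rw [hfac] at h24
    have h24' : p + 1 ∣ 24 := Nat.dvd_of_mul_dvd_mul_right (by omega) h24
    have hres := Cfsg.Agent.Helper12.HupArith.case_two p hp hp_ne h24'
    rw [hcardV, hn2]
    rcases hres with h | h | h | h | h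
    · exact Or.inl h
    · exact Or.inr (Or.inl h)
    · exact Or.inr (Or.inr (Or.inl h))
    · exact Or.inr (Or.inr (Or.inr (Or.inl h)))
    · exact Or.inr (Or.inr (Or.inr (Or.inr (Or.inl h))))
  · by_cases h26 : p = 2 ∧ n = 6
    · -- the case `(p, n) = (2, 6)`
      exfalso
      obtain ⟨hp_eq, hn6⟩ := h26
      rw [hp_eq] at hUdvd htotal
      rw [hn6] at htotal hmd h2m
      have hm3 : m ≤ 3 := by omega
      interval_cases m
      · have hu1 : u = 1 := Nat.dvd_one.mp (by simpa using hUdvd)
        apply ha_one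
        by_contra hne
        obtain ⟨t, ht, htd⟩ := Nat.exists_prime_and_dvd hne
        have := hprime_a t ht htd
        rw [hu1] at this
        exact ht.one_lt.ne' (Nat.dvd_one.mp this)
      · have hd3 : d = 3 := by omega
        rw [hd3] at ha_le
        have hu3 : u ∣ 3 := by simpa using hUdvd
        have hpa : ∀ t : ℕ, t.Prime → t ∣ a → t = 3 := by
          intro t ht htd
          exact (Nat.prime_dvd_prime_iff_eq ht Nat.prime_three).mp
            ((hprime_a t ht htd).trans hu3)
        have ha9 : a = 9 := by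
          norm_num at ha_le
          interval_cases a
          · exact absurd rfl ha_one
          · exact absurd (hpa 2 Nat.prime_two (by norm_num)) (by norm_num)
          · exact absurd Nat.prime_three ha_prime
          · exact absurd (hpa 2 Nat.prime_two (by norm_num)) (by norm_num)
          · exact absurd (hpa 5 Nat.prime_five (by norm_num)) (by norm_num)
          · exact absurd (hpa 2 Nat.prime_two (by norm_num)) (by norm_num)
          · exact absurd (hpa 7 (by norm_num) (by norm_num)) (by norm_num)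
          · exact absurd (hpa 2 Nat.prime_two (by norm_num)) (by norm_num)
          · rfl
        have hexp3 : ∀ x : Aq U E, x ^ 3 = 1 :=
          exp_of_card_sq Nat.prime_three (by rw [← ha, ha9]; norm_num) (fun h => hcyc h)
        have hk48 := hexp_k 3 2 Nat.prime_three hexp3 (by rw [ha9]; norm_num)
        have hk48' : k ∣ 48 := by simpa [Fin.prod_univ_succ] using hk48
        rw [ha9] at htotal
        have h1 : 2 ^ 6 - 1 ∣ 48 * (9 * 3) * 2 :=
          htotal.trans (Nat.mul_dvd_mul (Nat.mul_dvd_mul hk48' (Nat.mul_dvd_mul_left 9 hu3))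
            (dvd_refl 2))
        norm_num at h1
      · have hd2 : d = 2 := by omega
        rw [hd2] at ha_le
        have hu7 : u ∣ 7 := by simpa using hUdvd
        apply ha_one
        by_contra hne
        obtain ⟨t, ht, htd⟩ := Nat.exists_prime_and_dvd hne
        have h7 : t = 7 := (Nat.prime_dvd_prime_iff_eq ht (by norm_num)).mp
            ((hprime_a t ht htd).trans hu7)
        rw [h7] at htd
        have := Nat.le_of_dvd hapos htd
        norm_num at ha_le
        omega
    · -- a primitive prime divisor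
      obtain ⟨r, hr, hrdvd, hrprim⟩ := Cfsg.Agent.Helper41.zsigmondy p n (by omega) (by omega) h26
        (by rintro ⟨h, -⟩; omega)
      have hnr : n ∣ r - 1 :=
        Cfsg.Agent.Helper12.HupArith.ppd_mod p n r (by omega) (by omega) hr hrdvd hrprim
      have hr2 := hr.two_le
      have hr_ge : n + 1 ≤ r := by
        have := Nat.le_of_dvd (by omega) hnr
        omega
      have hmn : m < n := by omega
      have hru : ¬ r ∣ u := fun h => hrprim m hm1 hmn (h.trans hUdvd)
      obtain ⟨W, hW1, hrW, hWcase⟩ := hF7 r hr (by omega) hrdvd hru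
      obtain ⟨q, hq⟩ : ∃ q, q = Nat.card W := ⟨_, rfl⟩
      rw [← hq] at hW1 hrW hWcase
      have hqa : q ∣ a := by
        rw [hq, ha]
        exact Subgroup.card_subgroup_dvd_card W
      have hq_le : q ≤ a := Nat.le_of_dvd hapos hqa
      have hq_ge : r + 1 ≤ q := by
        have := Nat.le_of_dvd (by omega) hrW
        omega
      have hdd : d ^ 2 ≤ n ^ 2 := Nat.pow_le_pow_left hdn 2
      rcases hWcase with hsq | ⟨⟨Q, hQ⟩, s, hs, hWs⟩
      · exfalso
        have h1 : q ^ 2 ≤ n ^ 2 := hsq.trans (ha_le.trans hdd)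
        have h2 : q ≤ n := by
          by_contra hcon
          have h3 : n + 1 ≤ q := by omega
          have h4 := Nat.pow_le_pow_left h3 2
          nlinarith
        omega
      · have hQd : Q ≤ d := by
          by_contra hcon
          have h1 : d + 1 ≤ Q := by omega
          have h2 := Nat.pow_le_pow_left h1 2
          nlinarith
        have hQ2 : 2 ≤ Q := by
          by_contra hcon
          have h1 : Q ≤ 1 := by omega
          have h2 := Nat.pow_le_pow_left h1 2
          omega
        have hfac : q - 1 = (Q + 1) * (Q - 1) := by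
          rw [hQ]
          have := Nat.sq_sub_sq Q 1
          simpa using this
        rw [hfac] at hrW
        rcases (Nat.Prime.dvd_mul hr).mp hrW with h1 | h1
        swap
        · exfalso
          have := Nat.le_of_dvd (by omega) h1
          omega
        have hrQ : r ≤ Q + 1 := Nat.le_of_dvd (by omega) h1
        have hQn : Q = n := by omega
        have hdn' : d = n := by omega
        have hr_eq : r = n + 1 := by omega
        have hm_eq : m = 1 := by
          rw [hdn'] at hmd
          have h2 : m * n = 1 * n := by omega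
          exact Nat.eq_of_mul_eq_mul_right (by omega) h2
        have ha_eq : a = n ^ 2 := by
          rw [hdn'] at ha_le
          rw [hQ, hQn] at hq_le
          omega
        have hWtop : W = ⊤ := by
          apply Subgroup.eq_top_of_card_eq
          rw [← hq, ← ha, ha_eq, hQ, hQn]
        have hexp : ∀ x : Aq U E, x ^ s = 1 := fun x => hWs x (hWtop ▸ Subgroup.mem_top x)
        haveI : Fact s.Prime := ⟨hs⟩
        have hpg : IsPGroup s (Aq U E) := fun x => ⟨1, by rw [pow_one]; exact hexp x⟩
        obtain ⟨c, hc⟩ := IsPGroup.iff_card.mp hpg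
        rw [← ha] at hc
        have hn_even : 2 ∣ n := by
          rcases hr.eq_two_or_odd with h | h
          · omega
          · omega
        have hnn : n ∣ n ^ 2 := ⟨n, sq n⟩
        have hs2 : s = 2 := by
          have h1 : 2 ∣ s ^ c := by
            rw [← hc, ha_eq]
            exact hn_even.trans hnn
          have h2 := Nat.Prime.dvd_of_dvd_pow Nat.prime_two h1
          exact ((Nat.prime_dvd_prime_iff_eq Nat.prime_two hs).mp h2).symm
        subst hs2
        obtain ⟨j, hjc, hnj⟩ := (Nat.dvd_prime_pow Nat.prime_two).mp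
          (show n ∣ 2 ^ c by rw [← hc, ha_eq]; exact hnn)
        have hc2 : c = 2 * j := by
          rw [ha_eq, hnj, ← pow_mul] at hc
          have := Nat.pow_right_injective (le_refl 2) hc
          omega
        have hj2 : 2 ≤ j := by
          by_contra hcon
          have h1 : j ≤ 1 := by omega
          have h2 := Nat.pow_le_pow_right (show 0 < 2 by norm_num) h1
          omega
        have hkprod := hexp_k 2 (2 * j) Nat.prime_two hexp (by rw [← hc2]; exact hc)
        have h2u : 2 ∣ u := hprime_a 2 Nat.prime_two (by rw [ha_eq]; exact hn_even.trans hnn)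
        rw [hm_eq, pow_one] at hUdvd
        have hp_ne : p ≠ 2 := by
          intro h
          rw [h] at hUdvd
          have := h2u.trans hUdvd
          norm_num at this
        rw [ha_eq, hm_eq, mul_one, hnj] at htotal
        have hfinal : p ^ (2 ^ j) - 1 ∣
            (∏ i : Fin (2 * j), (2 ^ (2 * j) - 2 ^ (i : ℕ))) * (2 ^ j) ^ 2 * (p - 1) := by
          refine htotal.trans ?_
          rw [← mul_assoc]
          exact Nat.mul_dvd_mul (Nat.mul_dvd_mul hkprod (dvd_refl _)) hUdvd
        have hrp : (2 ^ j + 1).Prime := by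
          rw [← hnj, ← hr_eq]
          exact hr
        obtain ⟨hp3, hj2'⟩ :=
          Cfsg.Agent.Helper12.HupArith.final_arith p j hp hp_ne hj2 hrp hfinal
        right; right; right; right; right
        rw [hcardV, hp3, hnj, hj2']
        norm_num

end Cfsg.Agent.Helper12.HupMain
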