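import Mathlib
import Cfsg.Agent.Lib.Helper53.IPDefs
import Cfsg.Agent.Lib.Helper79.Integrality

set_option autoImplicit false

namespace Cfsg.Agent.Helper12.IP

open Cfsg Cfsg.Agent.Helper53.IP
open scoped ComplexConjugate commutatorElement

universe u

/-- a `2 × 2` complex matrix with `A² = 1` and `det A = 1` is scalar -/
theorem h12_scalar_of_sq_det (A : Matrix (Fin 2) (Fin 2) ℂ) (hsq : A * A = 1)
    (hdet : A.det = 1) : ∃ c : ℂ, A = c • (1 : Matrix (Fin 2) (Fin 2) ℂ) := by
  have h00 : A 0 0 * A 0 0 + A 0 1 * A 1 0 = 1 := by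
    have := congrFun (congrFun hsq 0) 0
    simpa [Matrix.mul_apply, Fin.sum_univ_two] using this
  have h01 : A 0 0 * A 0 1 + A 0 1 * A 1 1 = 0 := by
    have := congrFun (congrFun hsq 0) 1
    simpa [Matrix.mul_apply, Fin.sum_univ_two] using this
  have h10 : A 1 0 * A 0 0 + A 1 1 * A 1 0 = 0 := by
    have := congrFun (congrFun hsq 1) 0
    simpa [Matrix.mul_apply, Fin.sum_univ_two] using this
  have h11 : A 1 0 * A 0 1 + A 1 1 * A 1 1 = 1 := by
    have := congrFun (congrFun hsq 1) 1
    simpa [Matrix.mul_apply, Fin.sum_univ_two] using this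
  rw [Matrix.det_fin_two] at hdet
  by_cases htr : A 0 0 + A 1 1 = 0
  · exfalso
    have hd : A 1 1 = - A 0 0 := by linear_combination htr
    rw [hd] at hdet
    have : (2 : ℂ) = 0 := by linear_combination (-1 : ℂ) * h00 + (-1 : ℂ) * hdet
    norm_num at this
  · have hb : A 0 1 = 0 := by
      have : A 0 1 * (A 0 0 + A 1 1) = 0 := by linear_combination h01
      rcases mul_eq_zero.mp this with h | h
      · exact h
      · exact absurd h htr
    have hc : A 1 0 = 0 := by
      have : A 1 0 * (A 0 0 + A 1 1) = 0 := by linear_combination h10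
      rcases mul_eq_zero.mp this with h | h
      · exact h
      · exact absurd h htr
    rw [hb, hc] at hdet h11
    have had : A 0 0 = A 1 1 := by
      have h1 : A 0 0 * (A 1 1 * A 1 1) = A 0 0 := by
        have : A 1 1 * A 1 1 = 1 := by linear_combination h11
        rw [this, mul_one]
      have h2 : A 0 0 * (A 1 1 * A 1 1) = A 1 1 := by
        have : A 0 0 * A 1 1 = 1 := by linear_combination hdet
        rw [← mul_assoc, this, one_mul]
      exact h1.symm.trans h2
    refine ⟨A 0 0, ?_⟩
    ext i j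
    fin_cases i <;> fin_cases j <;> simp [hb, hc, had]

/-- (N3b) a nonabelian simple group has no irreducible character of degree 2. -/
theorem no_deg_two {S : Type u} [Group S] [Finite S] [IsSimpleGroup S]
    (hna : ¬ ∀ a b : S, a * b = b * a) (χ : IrrCharacter S) :
    charDegree (χ : S → ℂ) ≠ 2 := by
  intro hdeg
  have hdvd := Cfsg.Agent.Helper79.irr_degree_dvd_card χ
  have h1χ := (Cfsg.Agent.Helper79.irr_one_eq χ).1
  obtain ⟨n, ρ, hρ, hχ⟩ := χ.2
  -- the dimension is 2
  have hn : n = 2 := by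
    have h1 : (χ : S → ℂ) 1 = (n : ℂ) := by
      rw [← hχ, Representation.char_one]; simp
    rw [h1χ, hdeg] at h1
    exact_mod_cast h1.symm
  subst hn
  -- an involution
  rw [hdeg] at hdvd
  have : Fact (Nat.Prime 2) := ⟨Nat.prime_two⟩
  obtain ⟨t, ht⟩ := exists_prime_orderOf_dvd_card' 2 hdvd
  have ht1 : t ≠ 1 := by
    intro h
    rw [h, orderOf_one] at ht
    omega
  have htt : t * t = 1 := by
    rw [← pow_two, ← ht]; exact pow_orderOf_eq_one t
  -- S is perfect
  have hperf : commutator S = ⊤ := by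
    rcases (inferInstance : (commutator S).Normal).eq_bot_or_eq_top with h | h
    · exfalso
      apply hna
      intro a b
      have hab : ⁅a, b⁆ ∈ commutator S := by
        rw [commutator_def]
        exact Subgroup.commutator_mem_commutator (Subgroup.mem_top a) (Subgroup.mem_top b)
      rw [h, Subgroup.mem_bot, commutatorElement_def] at hab
      calc a * b = (a * b * a⁻¹ * b⁻¹) * b * a := by group
        _ = b * a := by rw [hab, one_mul]
    · exact h
  -- determinant one
  let D : S →* ℂˣ := (Units.map (LinearMap.det : ((Fin 2 → ℂ) →ₗ[ℂ] (Fin 2 → ℂ)) →* ℂ)).comp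
    ρ.asGroupHom
  have hD : ∀ g : S, LinearMap.det (ρ g) = 1 := by
    intro g
    have hker : commutator S ≤ D.ker := Abelianization.commutator_subset_ker D
    have hg : g ∈ D.ker := hker (hperf ▸ Subgroup.mem_top g)
    rw [MonoidHom.mem_ker] at hg
    have := congrArg Units.val hg
    simpa [D, Representation.asGroupHom_apply] using this
  -- ρ t is scalar
  set A : Matrix (Fin 2) (Fin 2) ℂ := LinearMap.toMatrix' (ρ t) with hA
  have hAsq : A * A = 1 := by
    rw [hA, ← LinearMap.toMatrix'_mul, ← map_mul, htt, map_one]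
    exact LinearMap.toMatrix'_one
  have hAdet : A.det = 1 := by
    rw [hA, LinearMap.det_toMatrix']
    exact hD t
  obtain ⟨c, hc⟩ := h12_scalar_of_sq_det A hAsq hAdet
  have hρt : ρ t = c • (1 : (Fin 2 → ℂ) →ₗ[ℂ] (Fin 2 → ℂ)) := by
    apply LinearMap.toMatrix'.injective
    rw [← hA, hc, map_smul]
    congr 1
    exact LinearMap.toMatrix'_one.symm
  -- the subgroup of elements acting as scalars
  let Z : Subgroup S :=
    { carrier := {g | ∃ c : ℂ, ρ g = c • (1 : (Fin 2 → ℂ) →ₗ[ℂ] (Fin 2 → ℂ))}
      one_mem' := ⟨1, by rw [map_one, one_smul]⟩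
      mul_mem' := by
        rintro g g' ⟨c, hc⟩ ⟨c', hc'⟩
        refine ⟨c * c', ?_⟩
        rw [map_mul, hc, hc', smul_mul_smul_comm, mul_one]
      inv_mem' := by
        rintro g ⟨c, hc⟩
        refine ⟨c⁻¹, ?_⟩
        have h1 : ρ g * ρ g⁻¹ = 1 := by rw [← map_mul, mul_inv_cancel, map_one]
        rw [hc, smul_mul_assoc, one_mul] at h1
        have hc0 : c ≠ 0 := by
          rintro rfl
          rw [zero_smul] at h1
          have : (0 : (Fin 2 → ℂ) →ₗ[ℂ] (Fin 2 → ℂ)) (fun _ => 1) = (1 : (Fin 2 → ℂ) →ₗ[ℂ] (Fin 2 → ℂ)) (fun _ => 1) := by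
            rw [h1]
          have h2 := congrFun this 0
          simp at h2
        calc ρ g⁻¹ = c⁻¹ • (c • ρ g⁻¹) := by rw [smul_smul, inv_mul_cancel₀ hc0, one_smul]
          _ = c⁻¹ • 1 := by rw [h1] }
  have hZn : Z.Normal := by
    constructor
    rintro g ⟨c, hc⟩ x
    refine ⟨c, ?_⟩
    rw [map_mul, map_mul, hc, mul_smul_comm, mul_one, smul_mul_assoc, ← map_mul, mul_inv_cancel,
      map_one]
  have htZ : t ∈ Z := ⟨c, hρt⟩
  have hZtop : Z = ⊤ := by
    rcases hZn.eq_bot_or_eq_top with h | h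
    · exfalso
      rw [h, Subgroup.mem_bot] at htZ
      exact ht1 htZ
    · exact h
  -- the line spanned by the first basis vector is invariant
  let L : Subrepresentation ρ :=
    { toSubmodule := Submodule.span ℂ {(Pi.single 0 1 : Fin 2 → ℂ)}
      apply_mem_toSubmodule := by
        intro g v hv
        obtain ⟨c, hc⟩ : g ∈ Z := hZtop ▸ Subgroup.mem_top g
        rw [hc, LinearMap.smul_apply, Module.End.one_apply]
        exact Submodule.smul_mem _ _ hv }
  have : IsSimpleOrder (Subrepresentation ρ) := hρ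
  rcases eq_bot_or_eq_top L with h | h
  · have h1 : (Pi.single 0 1 : Fin 2 → ℂ) ∈ L.toSubmodule :=
      Submodule.subset_span (Set.mem_singleton _)
    rw [h] at h1
    have h2 : (Pi.single 0 1 : Fin 2 → ℂ) = 0 := h1
    have := congrFun h2 0
    simp at this
  · have h1 : (Pi.single 1 1 : Fin 2 → ℂ) ∈ L.toSubmodule := by
      rw [h]; exact Submodule.mem_top
    rw [Submodule.mem_span_singleton] at h1
    obtain ⟨a, ha⟩ := h1
    have h0 := congrFun ha 0
    have h1' := congrFun ha 1
    simp at h0 h1'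

end Cfsg.Agent.Helper12.IP
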