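import Mathlib

set_option autoImplicit false

/-! A semiregular normal subgroup of a 2-primitive group has exponent 2 or the degree is 3. -/

namespace Cfsg.Agent.Helper12.Jordan

open MulAction
open scoped Pointwise

universe u v

theorem eq_of_smul_eq_of_semiregular {Γ : Type u} [Group Γ] {Δ : Type v} [MulAction Γ Δ]
    (R : Subgroup Γ) (hreg : ∀ r ∈ R, ∀ c : Δ, r • c = c → r = 1) {s s' : Γ} (hs : s ∈ R)
    (hs' : s' ∈ R) {c : Δ} (h : s • c = s' • c) : s = s' := by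
  have h1 : (s'⁻¹ * s) • c = c := by rw [mul_smul, h, inv_smul_smul]
  have h2 := hreg _ (R.mul_mem (R.inv_mem hs') hs) c h1
  calc s = s' * (s'⁻¹ * s) := by group
    _ = s' := by rw [h2, mul_one]

theorem sq_or_card_three {Γ : Type u} [Group Γ] {Δ : Type v} [MulAction Γ Δ] [Finite Δ]
    (hp : IsMultiplyPreprimitive Γ Δ 2) (hΓ : IsPretransitive Γ Δ) (R : Subgroup Γ)
    [hR : R.Normal] (hreg : ∀ r ∈ R, ∀ c : Δ, r • c = c → r = 1) (c : Δ) :
    (∀ r ∈ R, r ^ 2 = 1) ∨ Nat.card Δ = 3 := by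
  by_contra hcon
  push Not at hcon
  obtain ⟨⟨r, hr, hr2⟩, hcard⟩ := hcon
  have hp' : IsMultiplyPreprimitive Γ Δ (Nat.succ 1) := hp
  have h1 : IsMultiplyPreprimitive (stabilizer Γ c) (SubMulAction.ofStabilizer Γ c) 1 :=
    isMultiplyPreprimitive_ofStabilizer Γ Δ
  have hprim : IsPreprimitive (stabilizer Γ c) (SubMulAction.ofStabilizer Γ c) :=
    (is_one_preprimitive_iff _ _).mp h1
  have hx : r • c ≠ c := fun h => hr2 (by rw [hreg r hr c h, one_pow])
  have hy : r⁻¹ • c ≠ c := fun h => hx (by rw [inv_smul_eq_iff] at h; exact h.symm)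
  have hxy : r • c ≠ r⁻¹ • c := fun h =>
    hr2 (hreg _ (R.pow_mem hr 2) c (by rw [pow_two, mul_smul, h, smul_inv_smul]))
  let B : Set (SubMulAction.ofStabilizer Γ c) := {z | (z : Δ) = r • c ∨ (z : Δ) = r⁻¹ • c}
  have hconj : ∀ (g : stabilizer Γ c) (s : Γ), (g : Γ) • s • c = ((g : Γ) * s * (g : Γ)⁻¹) • c := by
    intro g s
    have hg' : (g : Γ)⁻¹ • c = c := by rw [inv_smul_eq_iff, g.2]
    rw [mul_smul, mul_smul, hg']
  have hB : IsBlock (stabilizer Γ c) B := by
    rw [isBlock_iff_smul_eq_of_mem]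
    intro g z hz hgz
    have hr' : (g : Γ) * r * (g : Γ)⁻¹ ∈ R := hR.conj_mem r hr g
    have hinv : (g : Γ) * r⁻¹ * (g : Γ)⁻¹ = ((g : Γ) * r * (g : Γ)⁻¹)⁻¹ := by group
    have key : (g : Γ) * r * (g : Γ)⁻¹ = r ∨ (g : Γ) * r * (g : Γ)⁻¹ = r⁻¹ := by
      have hgz' : (g : Γ) • (z : Δ) = r • c ∨ (g : Γ) • (z : Δ) = r⁻¹ • c := hgz
      rcases hz with hz | hz <;> rcases hgz' with h | h <;> rw [hz, hconj] at h
      · left
        exact eq_of_smul_eq_of_semiregular R hreg hr' hr h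
      · right
        exact eq_of_smul_eq_of_semiregular R hreg hr' (R.inv_mem hr) h
      · right
        rw [hinv] at h
        have := eq_of_smul_eq_of_semiregular R hreg (R.inv_mem hr') hr h
        exact inv_eq_iff_eq_inv.mp this
      · left
        rw [hinv] at h
        have := eq_of_smul_eq_of_semiregular R hreg (R.inv_mem hr') (R.inv_mem hr) h
        exact inv_injective this
    ext w
    rw [Set.mem_smul_set_iff_inv_smul_mem]
    change ((g : Γ)⁻¹ • (w : Δ) = r • c ∨ (g : Γ)⁻¹ • (w : Δ) = r⁻¹ • c) ↔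
      ((w : Δ) = r • c ∨ (w : Δ) = r⁻¹ • c)
    rw [inv_smul_eq_iff, inv_smul_eq_iff, hconj, hconj, hinv]
    rcases key with k | k <;> rw [k]
    rw [inv_inv]
    exact or_comm
  rcases hprim.isTrivialBlock_of_isBlock hB with h | h
  · apply hxy
    have h1 : (⟨r • c, hx⟩ : SubMulAction.ofStabilizer Γ c) ∈ B := Or.inl rfl
    have h2 : (⟨r⁻¹ • c, hy⟩ : SubMulAction.ofStabilizer Γ c) ∈ B := Or.inr rfl
    exact congrArg Subtype.val (h h1 h2)
  · apply hcard
    have hBeq : B = {⟨r • c, hx⟩, ⟨r⁻¹ • c, hy⟩} := by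
      ext w
      simp only [B, Set.mem_ofPred_eq, Set.mem_insert_iff, Set.mem_singleton_iff, Subtype.ext_iff]
    have h2 : Nat.card (SubMulAction.ofStabilizer Γ c) = 2 := by
      rw [← Set.ncard_univ, ← h, hBeq, Set.ncard_pair]
      intro heq
      exact hxy (congrArg Subtype.val heq)
    rw [← SubMulAction.nat_card_ofStabilizer_add_one_eq Γ c, h2]

end Cfsg.Agent.Helper12.Jordan
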