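import Mathlib
import Cfsg.Agent.Lib.Helper12.Jordan
import Cfsg.Agent.Lib.Helper12.TwoPrimRegular

set_option autoImplicit false

/-! Normal subgroups of `k`-primitive groups. -/

namespace Cfsg.Agent.Helper12.Jordan

open MulAction
open scoped Pointwise

universe u v

theorem prim_normal_transitive {G : Type u} [Group G] {α : Type v} [MulAction G α]
    [FaithfulSMul G α] (hG : IsPreprimitive G α) (H : Subgroup G) [H.Normal]
    (hne : ∃ h ∈ H, h ≠ 1) : IsPretransitive H α := by
  obtain ⟨h, hhH, hh1⟩ := hne
  apply IsQuasiPreprimitive.isPretransitive_of_normal (G := G)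
  intro hfix
  apply hh1
  apply FaithfulSMul.eq_of_smul_eq_smul (α := α)
  intro x
  have hx : x ∈ fixedPoints H α := by rw [hfix]; trivial
  rw [one_smul]
  exact hx ⟨h, hhH⟩

theorem kprim (k : ℕ) (hk : 1 ≤ k) : ∀ (G : Type u) [Group G] (α : Type v) [MulAction G α]
    [FaithfulSMul G α] [Finite α], k ≤ Nat.card α → IsMultiplyPreprimitive G α k →
    ¬ IsMultiplyPretransitive G α (Nat.card α - 1) →
    ∀ H : Subgroup G, H.Normal → (∃ a : α, ∃ h ∈ H, h ≠ 1 ∧ h • a = a) →
      IsMultiplyPretransitive H α k := by
  induction k, hk using Nat.le_induction with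
  | base =>
    intro G _ α _ _ _ hcard hp hnot H hH hne
    obtain ⟨a, h, hhH, hh1, hha⟩ := hne
    have hprim : IsPreprimitive G α := (is_one_preprimitive_iff _ _).mp hp
    exact is_one_pretransitive_iff.mpr (prim_normal_transitive hprim H ⟨h, hhH, hh1⟩)
  | succ k hk ih =>
    intro G _ α _ _ _ hcard hp hnot H hH hne
    obtain ⟨a, h, hhH, hh1, hha⟩ := hne
    have hkt : IsMultiplyPretransitive G α (k + 1) := hp.isMultiplyPretransitive
    have h2 : IsMultiplyPretransitive G α 2 :=
      isMultiplyPretransitive_of_le (n := k + 1) (by omega) hcard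
    have hGt : IsPretransitive G α := isPretransitive_of_is_two_pretransitive
    have hHne : H ≠ ⊥ := by
      intro hbot
      apply hh1
      rw [hbot, Subgroup.mem_bot] at hhH
      exact hhH
    have hHt := normal_transitive h2 H hHne
    have hp' : IsMultiplyPreprimitive G α k.succ := hp
    have hpa : IsMultiplyPreprimitive (stabilizer G a) (SubMulAction.ofStabilizer G a) k :=
      isMultiplyPreprimitive_ofStabilizer G α
    have hcardeq := SubMulAction.nat_card_ofStabilizer_add_one_eq G a
    have hcard' : k ≤ Nat.card (SubMulAction.ofStabilizer G a) := by omega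
    have hnot' : ¬ IsMultiplyPretransitive (stabilizer G a) (SubMulAction.ofStabilizer G a)
        (Nat.card (SubMulAction.ofStabilizer G a) - 1) := by
      intro hc
      apply hnot
      have := SubMulAction.ofStabilizer.isMultiplyPretransitive.mpr hc
      have heq : (Nat.card (SubMulAction.ofStabilizer G a) - 1).succ = Nat.card α - 1 := by omega
      rw [heq] at this
      exact this
    have hHa : (⟨h, hha⟩ : stabilizer G a) ∈ H.subgroupOf (stabilizer G a) :=
      Subgroup.mem_subgroupOf.mpr hhH
    have hHa1 : (⟨h, hha⟩ : stabilizer G a) ≠ 1 := fun hc => hh1 (congrArg Subtype.val hc)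
    have finish : ∀ m, IsMultiplyPretransitive (H.subgroupOf (stabilizer G a))
        (SubMulAction.ofStabilizer G a) m → IsMultiplyPretransitive H α (m + 1) := by
      intro m hm
      have h1 := transfer H a m hm
      exact SubMulAction.ofStabilizer.isMultiplyPretransitive.mpr h1
    by_cases hB : ∃ b, b ≠ a ∧ ∃ h' ∈ H, h' ≠ 1 ∧ h' • a = a ∧ h' • b = b
    · obtain ⟨b, hba, h', hh'H, hh'1, hh'a, hh'b⟩ := hB
      apply finish
      apply ih (stabilizer G a) (SubMulAction.ofStabilizer G a) hcard' hpa hnot'
        (H.subgroupOf (stabilizer G a)) inferInstance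
      refine ⟨⟨b, hba⟩, ⟨h', hh'a⟩, Subgroup.mem_subgroupOf.mpr hh'H, ?_, ?_⟩
      · exact fun hc => hh'1 (congrArg Subtype.val hc)
      · exact Subtype.ext hh'b
    · push Not at hB
      rcases Nat.eq_or_lt_of_le hk with hk1 | hk2
      · -- k = 1
        subst hk1
        apply finish
        have hprim : IsPreprimitive (stabilizer G a) (SubMulAction.ofStabilizer G a) :=
          (is_one_preprimitive_iff _ _).mp hpa
        exact is_one_pretransitive_iff.mpr
          (prim_normal_transitive hprim (H.subgroupOf (stabilizer G a)) ⟨_, hHa, hHa1⟩)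
      · -- k ≥ 2
        exfalso
        have h3 : IsMultiplyPretransitive G α 3 :=
          isMultiplyPretransitive_of_le (n := k + 1) (by omega) hcard
        have hp2 : IsMultiplyPreprimitive (stabilizer G a) (SubMulAction.ofStabilizer G a) 2 := by
          apply isMultiplyPreprimitive_of_le _ _ hpa (by omega)
          rw [ENat.card_eq_coe_natCard]
          exact_mod_cast hcard'
        have hGat : IsPretransitive (stabilizer G a) (SubMulAction.ofStabilizer G a) := by
          have h2' : IsMultiplyPretransitive G α (Nat.succ 1) := h2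
          exact is_one_pretransitive_iff.mp
            (SubMulAction.ofStabilizer.isMultiplyPretransitive.mp h2')
        have hreg : ∀ r ∈ H.subgroupOf (stabilizer G a),
            ∀ c : SubMulAction.ofStabilizer G a, r • c = c → r = 1 := by
          intro r hr c hrc
          by_contra hr1
          apply hB c.1 c.2 r.1 (Subgroup.mem_subgroupOf.mp hr)
            (fun hc => hr1 (Subtype.ext hc)) r.2
          exact congrArg Subtype.val hrc
        obtain ⟨c⟩ : Nonempty (SubMulAction.ofStabilizer G a) :=
          (Nat.card_pos_iff.mp (by omega)).1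
        rcases sq_or_card_three hp2 hGat (H.subgroupOf (stabilizer G a)) hreg c with hsq | hc3
        · by_cases hn : 4 ≤ Nat.card α
          · have hsq' : ∀ x ∈ H ⊓ stabilizer G a, x ^ 2 = 1 := by
              intro x hx
              have := hsq ⟨x, hx.2⟩ (Subgroup.mem_subgroupOf.mpr hx.1)
              exact congrArg Subtype.val this
            have hcomm' := comm_of_sq (H ⊓ stabilizer G a) hsq'
            exact exceptional_false h3 hn H ⟨h, hhH, hha, hh1⟩
              (fun x hx y hy hxa hya => hcomm' x ⟨hx, hxa⟩ y ⟨hy, hya⟩)
              (fun x hx hxa => hsq' x ⟨hx, hxa⟩)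
          · apply hnot
            have heq : Nat.card α - 1 = 2 := by omega
            rw [heq]
            exact h2
        · apply hnot
          have heq : Nat.card α - 1 = 3 := by omega
          rw [heq]
          exact h3

end Cfsg.Agent.Helper12.Jordan
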