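import Mathlib

set_option autoImplicit false

/-! Certificates for finite subgroups of `GL(2, ZMod p)` generated by explicit matrices,
checked by kernel evaluation on natural-number encodings. -/

namespace Cfsg.Agent.Helper12.MatCert

/-- A 2×2 matrix with natural number entries. -/
structure M2 where
  a : ℕ
  b : ℕ
  c : ℕ
  d : ℕ
deriving DecidableEq

/-- The identity. -/
def M2.one : M2 := ⟨1, 0, 0, 1⟩

/-- Product mod `p`. -/
def mulT (p : ℕ) (x y : M2) : M2 :=
  ⟨(x.a * y.a + x.b * y.c) % p, (x.a * y.b + x.b * y.d) % p,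
   (x.c * y.a + x.d * y.c) % p, (x.c * y.b + x.d * y.d) % p⟩

/-- The matrix over `ZMod p`. -/
def toM (p : ℕ) (t : M2) : Matrix (Fin 2) (Fin 2) (ZMod p) :=
  !![(t.a : ZMod p), (t.b : ZMod p); (t.c : ZMod p), (t.d : ZMod p)]

theorem toM_mulT (p : ℕ) (x y : M2) : toM p (mulT p x y) = toM p x * toM p y := by
  ext i j
  fin_cases i <;> fin_cases j <;>
    simp [toM, mulT, Matrix.mul_apply, Fin.sum_univ_two, ZMod.natCast_mod]

theorem toM_one (p : ℕ) : toM p M2.one = 1 := by
  ext i j
  fin_cases i <;> fin_cases j <;> simp [toM, M2.one]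

/-- All entries are reduced mod `p`. -/
def Red (p : ℕ) (t : M2) : Prop := t.a < p ∧ t.b < p ∧ t.c < p ∧ t.d < p

theorem red_mulT {p : ℕ} (hp : 0 < p) (x y : M2) : Red p (mulT p x y) :=
  ⟨Nat.mod_lt _ hp, Nat.mod_lt _ hp, Nat.mod_lt _ hp, Nat.mod_lt _ hp⟩

theorem red_one {p : ℕ} (hp : 1 < p) : Red p M2.one := by
  refine ⟨hp, ?_, ?_, hp⟩ <;> simp only [M2.one] <;> omega

theorem natCast_inj_of_lt {p : ℕ} {x y : ℕ} (hx : x < p) (hy : y < p)
    (h : (x : ZMod p) = (y : ZMod p)) : x = y := by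
  rw [ZMod.natCast_eq_natCast_iff'] at h
  rwa [Nat.mod_eq_of_lt hx, Nat.mod_eq_of_lt hy] at h

theorem toM_inj {p : ℕ} {t t' : M2} (ht : Red p t) (ht' : Red p t')
    (h : toM p t = toM p t') : t = t' := by
  have h00 := congrFun (congrFun h 0) 0
  have h01 := congrFun (congrFun h 0) 1
  have h10 := congrFun (congrFun h 1) 0
  have h11 := congrFun (congrFun h 1) 1
  simp [toM] at h00 h01 h10 h11
  cases t; cases t'
  simp only [M2.mk.injEq]
  exact ⟨natCast_inj_of_lt ht.1 ht'.1 h00, natCast_inj_of_lt ht.2.1 ht'.2.1 h01,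
    natCast_inj_of_lt ht.2.2.1 ht'.2.2.1 h10, natCast_inj_of_lt ht.2.2.2 ht'.2.2.2 h11⟩

/-- Encoding of a reduced matrix as a number. -/
def code (p : ℕ) (t : M2) : ℕ := t.a + p * (t.b + p * (t.c + p * t.d))

theorem add_mul_inj {p a a' X X' : ℕ} (ha : a < p) (ha' : a' < p)
    (h : a + p * X = a' + p * X') : a = a' ∧ X = X' := by
  have hp : 0 < p := by omega
  have h1 : (a + p * X) % p = (a' + p * X') % p := by rw [h]
  rw [Nat.add_mul_mod_self_left, Nat.add_mul_mod_self_left, Nat.mod_eq_of_lt ha,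
    Nat.mod_eq_of_lt ha'] at h1
  have h2 : (a + p * X) / p = (a' + p * X') / p := by rw [h]
  rw [Nat.add_mul_div_left _ _ hp, Nat.add_mul_div_left _ _ hp, Nat.div_eq_of_lt ha,
    Nat.div_eq_of_lt ha', zero_add, zero_add] at h2
  exact ⟨h1, h2⟩

theorem code_inj {p : ℕ} {t t' : M2} (ht : Red p t) (ht' : Red p t')
    (h : code p t = code p t') : t = t' := by
  unfold code at h
  obtain ⟨h1, h⟩ := add_mul_inj ht.1 ht'.1 h
  obtain ⟨h2, h⟩ := add_mul_inj ht.2.1 ht'.2.1 h
  obtain ⟨h3, h⟩ := add_mul_inj ht.2.2.1 ht'.2.2.1 h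
  have h4 : t.d = t'.d := h
  cases t; cases t'
  simp only [M2.mk.injEq]
  exact ⟨h1, h2, h3, h4⟩

/-- Bit mask of the codes of a list. -/
def maskOf (p : ℕ) (L : List M2) : ℕ := L.foldr (fun t acc => (1 <<< code p t) ||| acc) 0

theorem testBit_maskOf (p : ℕ) (L : List M2) (c : ℕ) :
    (maskOf p L).testBit c = true ↔ ∃ t ∈ L, code p t = c := by
  induction L with
  | nil => simp [maskOf]
  | cons t L ih =>
    have : maskOf p (t :: L) = (1 <<< code p t) ||| maskOf p L := rfl
    rw [this, Nat.testBit_lor, Bool.or_eq_true, ih, Nat.one_shiftLeft, Nat.testBit_two_pow]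
    simp

/-- Evaluate a word in the generators. -/
def evalW (p : ℕ) (gs : List M2) (w : List ℕ) : M2 :=
  w.foldr (fun i acc => mulT p ((gs[i]?).getD M2.one) acc) M2.one

/-- Strictly increasing check. -/
def sortedB : List ℕ → Bool
  | [] => true
  | [_] => true
  | a :: b :: l => decide (a < b) && sortedB (b :: l)

theorem pairwise_of_sortedB : ∀ l : List ℕ, sortedB l = true → l.Pairwise (· < ·)
  | [], _ => List.Pairwise.nil
  | [_], _ => List.pairwise_singleton _ _
  | a :: b :: l, h => by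
    simp only [sortedB, Bool.and_eq_true, decide_eq_true_eq] at h
    have ih := pairwise_of_sortedB (b :: l) h.2
    rw [List.pairwise_cons]
    refine ⟨?_, ih⟩
    intro x hx
    rcases List.mem_cons.mp hx with rfl | hx
    · exact h.1
    · exact lt_trans h.1 ((List.pairwise_cons.mp ih).1 x hx)

/-- `det (t - 1)` mod `p`. -/
def detm1 (p : ℕ) (t : M2) : ℕ :=
  ((t.a + (p - 1)) * (t.d + (p - 1)) + (p - 1) * (t.b * t.c)) % p

theorem detm1_spec {p : ℕ} (hp : 0 < p) (t : M2) :
    ((detm1 p t : ℕ) : ZMod p) = (toM p t - 1).det := by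
  have hp1 : ((p - 1 : ℕ) : ZMod p) = -1 := by
    rw [Nat.cast_sub hp, ZMod.natCast_self, zero_sub, Nat.cast_one]
  rw [Matrix.det_fin_two]
  simp only [detm1, toM, ZMod.natCast_mod, Nat.cast_add, Nat.cast_mul, hp1, Matrix.sub_apply,
    Matrix.one_apply_eq, Matrix.of_apply, Matrix.cons_val', Matrix.cons_val_zero,
    Matrix.cons_val_one, Matrix.cons_val_fin_one]
  simp
  ring

/-- 2×2 matrices over `ZMod p`. -/
abbrev Mat2 (p : ℕ) := Matrix (Fin 2) (Fin 2) (ZMod p)

/-- `GL(2, p)`. -/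
abbrev GL2 (p : ℕ) := Matrix.GeneralLinearGroup (Fin 2) (ZMod p)

/-- The certificate data. -/
structure Data where
  p : ℕ
  tg : List M2
  tgi : List M2
  words : List (List ℕ)

/-- All generators and inverses. -/
def Data.gs (D : Data) : List M2 := D.tg ++ D.tgi

/-- The list of elements. -/
def Data.elems (D : Data) : List M2 := D.words.map (evalW D.p D.gs)

/-- Inverse check. -/
def Data.chkInv (D : Data) : Bool :=
  D.tg.all (fun t => D.tgi.any (fun ti => decide (mulT D.p t ti = M2.one))) &&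
  D.tgi.all (fun ti => D.tg.any (fun t => decide (mulT D.p t ti = M2.one)))

/-- Closure check, with the mask passed in. -/
def Data.chkClosedAux (D : Data) (m : ℕ) : Bool :=
  m.testBit (code D.p M2.one) &&
  D.elems.all (fun t => D.gs.all (fun g => m.testBit (code D.p (mulT D.p g t))))

/-- Closure check. -/
def Data.chkClosed (D : Data) : Bool := D.chkClosedAux (maskOf D.p D.elems)

/-- Sortedness check. -/
def Data.chkSorted (D : Data) : Bool := sortedB (D.elems.map (code D.p))

/-- Freeness check. -/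
def Data.chkFree (D : Data) : Bool :=
  D.elems.all (fun t => decide (t = M2.one) || decide (detm1 D.p t ≠ 0))

section Main

variable (D : Data) [hpf : Fact D.p.Prime]

variable (gens : Set (GL2 D.p))
  (hg1 : ∀ g ∈ gens, ∃ t ∈ D.tg, (g : Mat2 D.p) = toM D.p t)
  (hg2 : ∀ t ∈ D.tg, ∃ g ∈ gens, (g : Mat2 D.p) = toM D.p t)

include hg1 in
theorem inv_val (hinv : D.chkInv = true) : ∀ g ∈ gens, ∃ t ∈ D.tgi,
    ((g⁻¹ : GL2 D.p) : Mat2 D.p) = toM D.p t := by
  intro g hg
  obtain ⟨t, ht, hgt⟩ := hg1 g hg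
  simp only [Data.chkInv, Bool.and_eq_true, List.all_eq_true, List.any_eq_true,
    decide_eq_true_eq] at hinv
  obtain ⟨ti, hti, hm⟩ := hinv.1 t ht
  refine ⟨ti, hti, ?_⟩
  have h1 : (g : Mat2 D.p) * toM D.p ti = 1 := by
    rw [hgt, ← toM_mulT, hm, toM_one]
  exact Units.inv_eq_of_mul_eq_one_right h1

include hg2 in
theorem gs_mem (hinv : D.chkInv = true) : ∀ s ∈ D.gs, ∃ h ∈ Subgroup.closure gens,
    (h : Mat2 D.p) = toM D.p s := by
  intro s hs
  simp only [Data.gs, List.mem_append] at hs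
  rcases hs with hs | hs
  · obtain ⟨g, hg, hgt⟩ := hg2 s hs
    exact ⟨g, Subgroup.subset_closure hg, hgt⟩
  · simp only [Data.chkInv, Bool.and_eq_true, List.all_eq_true, List.any_eq_true,
      decide_eq_true_eq] at hinv
    obtain ⟨t, ht, hm⟩ := hinv.2 s hs
    obtain ⟨g, hg, hgt⟩ := hg2 t ht
    refine ⟨g⁻¹, Subgroup.inv_mem _ (Subgroup.subset_closure hg), ?_⟩
    have h1 : (g : Mat2 D.p) * toM D.p s = 1 := by
      rw [hgt, ← toM_mulT, hm, toM_one]
    exact Units.inv_eq_of_mul_eq_one_right h1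

include hg2 in
theorem word_mem (hinv : D.chkInv = true) (w : List ℕ) : ∃ h ∈ Subgroup.closure gens,
    (h : Mat2 D.p) = toM D.p (evalW D.p D.gs w) := by
  induction w with
  | nil => exact ⟨1, Subgroup.one_mem _, by simp [evalW, toM_one]⟩
  | cons i w ih =>
    obtain ⟨h, hh, hv⟩ := ih
    have he : evalW D.p D.gs (i :: w) =
        mulT D.p ((D.gs[i]?).getD M2.one) (evalW D.p D.gs w) := rfl
    rw [he, toM_mulT]
    rcases hopt : D.gs[i]? with _ | s
    · refine ⟨h, hh, ?_⟩
      simp [toM_one, hv]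
    · have hs : s ∈ D.gs := List.mem_of_getElem? hopt
      obtain ⟨k, hk, hkv⟩ := gs_mem D gens hg2 hinv s hs
      refine ⟨k * h, Subgroup.mul_mem _ hk hh, ?_⟩
      simp [hkv, hv]

theorem red_elems : ∀ t ∈ D.elems, Red D.p t := by
  intro t ht
  have hp : 1 < D.p := hpf.out.one_lt
  simp only [Data.elems, List.mem_map] at ht
  obtain ⟨w, _, rfl⟩ := ht
  cases w with
  | nil => exact red_one hp
  | cons i w => exact red_mulT (by omega) _ _

include hg1 in
theorem closure_sub (hinv : D.chkInv = true) (hcl : D.chkClosed = true) :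
    ∀ h ∈ Subgroup.closure gens, ∃ t ∈ D.elems,
      (h : Mat2 D.p) = toM D.p t := by
  have hp : 1 < D.p := hpf.out.one_lt
  simp only [Data.chkClosed, Data.chkClosedAux, Bool.and_eq_true, List.all_eq_true] at hcl
  obtain ⟨hone, hcl⟩ := hcl
  have hstep : ∀ s ∈ D.gs, ∀ t ∈ D.elems, mulT D.p s t ∈ D.elems := by
    intro s hs t ht
    have := hcl t ht s hs
    rw [testBit_maskOf] at this
    obtain ⟨t', ht', hc⟩ := this
    have : t' = mulT D.p s t := code_inj (red_elems D t' ht') (red_mulT (by omega) _ _) hc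
    rw [← this]; exact ht'
  intro h hh
  induction hh using Subgroup.closure_induction_left with
  | one =>
    rw [testBit_maskOf] at hone
    obtain ⟨t', ht', hc⟩ := hone
    have : t' = M2.one := code_inj (red_elems D t' ht') (red_one hp) hc
    exact ⟨M2.one, this ▸ ht', by simp [toM_one]⟩
  | mul_left x hx y hy ih =>
    obtain ⟨t, ht, hv⟩ := ih
    obtain ⟨s, hs, hsv⟩ := hg1 x hx
    refine ⟨mulT D.p s t, hstep s (List.mem_append_left _ hs) t ht, ?_⟩
    rw [toM_mulT, ← hsv, ← hv]; rfl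
  | inv_mul_cancel x hx y hy ih =>
    obtain ⟨t, ht, hv⟩ := ih
    obtain ⟨s, hs, hsv⟩ := inv_val D gens hg1 hinv x hx
    refine ⟨mulT D.p s t, hstep s (List.mem_append_right _ hs) t ht, ?_⟩
    rw [toM_mulT, ← hsv, ← hv]; rfl

theorem nodup_elems (hs : D.chkSorted = true) : D.elems.Nodup := by
  have h1 := pairwise_of_sortedB _ hs
  have h2 : (D.elems.map (code D.p)).Nodup := h1.imp (fun h => ne_of_lt h)
  exact List.Nodup.of_map _ h2

include hg1 hg2 in
theorem card_closure (hinv : D.chkInv = true) (hcl : D.chkClosed = true)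
    (hs : D.chkSorted = true) :
    Nat.card (Subgroup.closure gens) = D.words.length := by
  classical
  have hnd := nodup_elems D hs
  have hred := red_elems D
  -- the set of matrices
  let S : Set (Mat2 D.p) := {m | ∃ t ∈ D.elems, m = toM D.p t}
  have hS : S = (fun h : GL2 D.p => (h : Mat2 D.p)) ''
      (Subgroup.closure gens : Set (GL2 D.p)) := by
    ext m
    constructor
    · rintro ⟨t, ht, rfl⟩
      simp only [Data.elems, List.mem_map] at ht
      obtain ⟨w, _, rfl⟩ := ht
      obtain ⟨h, hh, hv⟩ := word_mem D gens hg2 hinv w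
      exact ⟨h, hh, hv⟩
    · rintro ⟨h, hh, rfl⟩
      exact closure_sub D gens hg1 hinv hcl h hh
  have hS2 : S = (toM D.p) '' {t | t ∈ D.elems} := by
    ext m
    constructor
    · rintro ⟨t, ht, rfl⟩; exact ⟨t, ht, rfl⟩
    · rintro ⟨t, ht, rfl⟩; exact ⟨t, ht, rfl⟩
  have hc1 : Nat.card (Subgroup.closure gens) = S.ncard := by
    rw [hS, Set.ncard_image_of_injective _ (fun a b h => Units.ext h)]
    exact (Nat.card_coe_set_eq _).symm
  have hc2 : S.ncard = D.elems.length := by
    have hinj : Set.InjOn (toM D.p) {t | t ∈ D.elems} := by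
      intro t ht t' ht' h
      exact toM_inj (hred t ht) (hred t' ht') h
    rw [hS2, hinj.ncard_image]
    have : {t | t ∈ D.elems} = (D.elems.toFinset : Set M2) := by
      ext t; simp
    rw [this, Set.ncard_coe_finset, List.toFinset_card_of_nodup hnd]
  rw [hc1, hc2]
  simp [Data.elems]

include hg1 in
theorem free_action (hinv : D.chkInv = true) (hcl : D.chkClosed = true)
    (hfree : D.chkFree = true) (h : GL2 D.p) (hh : h ∈ Subgroup.closure gens)
    (v : Fin 2 → ZMod D.p) (hv : v ≠ 0) (hfix : Matrix.mulVec (h : Mat2 D.p) v = v) : h = 1 := by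
  have hp : 0 < D.p := hpf.out.pos
  obtain ⟨t, ht, hval⟩ := closure_sub D gens hg1 hinv hcl h hh
  simp only [Data.chkFree, List.all_eq_true, Bool.or_eq_true, decide_eq_true_eq] at hfree
  rcases hfree t ht with h1 | h1
  · apply Units.ext
    rw [hval, h1, toM_one]; rfl
  · exfalso
    have hdet : (toM D.p t - 1).det ≠ 0 := by
      rw [← detm1_spec hp]
      intro h0
      rw [ZMod.natCast_eq_zero_iff] at h0
      have hlt : detm1 D.p t < D.p := Nat.mod_lt _ hp
      exact h1 (Nat.eq_zero_of_dvd_of_lt h0 hlt)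
    apply hdet
    rw [← Matrix.exists_mulVec_eq_zero_iff]
    refine ⟨v, hv, ?_⟩
    rw [Matrix.sub_mulVec, ← hval, hfix, Matrix.one_mulVec, sub_self]

theorem card_nonzero : Nat.card {w : Fin 2 → ZMod D.p // w ≠ 0} = D.p * D.p - 1 := by
  classical
  have : NeZero D.p := ⟨hpf.out.ne_zero⟩
  rw [Nat.card_eq_fintype_card, Fintype.card_subtype_compl, Fintype.card_subtype_eq,
    Fintype.card_fun, ZMod.card, Fintype.card_fin, pow_two]

include hg1 hg2 in
theorem regular (hinv : D.chkInv = true) (hcl : D.chkClosed = true)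
    (hs : D.chkSorted = true) (hfree : D.chkFree = true)
    (hlen : D.words.length = D.p * D.p - 1) :
    ∀ v w : Fin 2 → ZMod D.p, v ≠ 0 → w ≠ 0 →
      ∃! h : Subgroup.closure gens, Matrix.mulVec ((h : GL2 D.p) : Mat2 D.p) v = w := by
  intro v w hv hw
  have hcard := card_closure D gens hg1 hg2 hinv hcl hs
  have hp : 1 < D.p := hpf.out.one_lt
  have hpos : 0 < D.p * D.p - 1 := by
    have : 2 * 2 ≤ D.p * D.p := Nat.mul_le_mul hp hp
    omega
  have hfin : Finite (Subgroup.closure gens) :=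
    Nat.finite_of_card_ne_zero (by rw [hcard, hlen]; omega)
  have hnz : ∀ h : Subgroup.closure gens, Matrix.mulVec ((h : GL2 D.p) : Mat2 D.p) v ≠ 0 := by
    intro h h0
    apply hv
    have : Matrix.mulVec (((h : GL2 D.p)⁻¹ : GL2 D.p) : Mat2 D.p)
        (Matrix.mulVec ((h : GL2 D.p) : Mat2 D.p) v) = v := by
      rw [Matrix.mulVec_mulVec, ← Units.val_mul, inv_mul_cancel, Units.val_one, Matrix.one_mulVec]
    rw [← this, h0, Matrix.mulVec_zero]
  let ψ : Subgroup.closure gens → {w : Fin 2 → ZMod D.p // w ≠ 0} :=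
    fun h => ⟨Matrix.mulVec ((h : GL2 D.p) : Mat2 D.p) v, hnz h⟩
  have hinj : Function.Injective ψ := by
    intro h h' hhh
    have e : Matrix.mulVec ((h : GL2 D.p) : Mat2 D.p) v =
        Matrix.mulVec ((h' : GL2 D.p) : Mat2 D.p) v := congrArg Subtype.val hhh
    have hfix : Matrix.mulVec (((h'⁻¹ * h : Subgroup.closure gens) : GL2 D.p) : Mat2 D.p) v = v := by
      rw [Subgroup.coe_mul, Units.val_mul, ← Matrix.mulVec_mulVec, e, Matrix.mulVec_mulVec,
        ← Units.val_mul, Subgroup.coe_inv, inv_mul_cancel, Units.val_one, Matrix.one_mulVec]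
    have h1 := free_action D gens hg1 hinv hcl hfree _ (h'⁻¹ * h).2 v hv hfix
    have h2 : h'⁻¹ * h = 1 := Subtype.ext h1
    have h3 : h' * (h'⁻¹ * h) = h' * 1 := by rw [h2]
    simpa using h3
  have hfin2 : Finite {w : Fin 2 → ZMod D.p // w ≠ 0} := by
    have : NeZero D.p := ⟨hpf.out.ne_zero⟩
    infer_instance
  have hbij : Function.Bijective ψ := by
    apply hinj.bijective_of_nat_card_le
    rw [card_nonzero, hcard, hlen]
  obtain ⟨h, hh1, hh2⟩ := hbij.existsUnique ⟨w, hw⟩
  refine ⟨h, congrArg Subtype.val hh1, ?_⟩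
  intro h' hh'
  exact hh2 h' (Subtype.ext hh')

end Main

end Cfsg.Agent.Helper12.MatCert
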