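import Mathlib
import Cfsg.Prelude.Def_Characters
import Cfsg.Agent.Lib.Helper81.CharCore
import Cfsg.Agent.S0153

set_option autoImplicit false

/-! Multiplicity-free representations and commutativity of the centralizer algebra. -/

namespace Cfsg.Agent.Helper12.MultFree

open Representation Cfsg Cfsg.Agent.Helper81 Cfsg.Agent.S0153 Module
open scoped MonoidAlgebra

universe u v w

section retraction
variable {G : Type u} [Group G] [Finite G] {V : Type v} [AddCommGroup V] [Module ℂ V]
    {W : Type w} [AddCommGroup W] [Module ℂ W]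

theorem exists_retraction {τ : Representation ℂ G V} {ρ : Representation ℂ G W}
    (f : IntertwiningMap τ ρ) (hf : Function.Injective f.toLinearMap) :
    ∃ p : IntertwiningMap ρ τ, ∀ v, p.toLinearMap (f.toLinearMap v) = v := by
  have : NeZero (Nat.card G : ℂ) := ⟨by exact_mod_cast (Nat.card_pos (α := G)).ne'⟩
  let F := IntertwiningMap.equivLinearMapAsModule τ ρ f
  have hF : LinearMap.ker F = ⊥ := by
    rw [LinearMap.ker_eq_bot]
    exact hf
  obtain ⟨P, hP⟩ := MonoidAlgebra.exists_leftInverse_of_injective F hF
  refine ⟨(IntertwiningMap.equivLinearMapAsModule ρ τ).symm P, ?_⟩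
  intro v
  exact LinearMap.congr_fun hP v

end retraction

section inner
variable {G : Type u} [Group G] [Fintype G] {V : Type v} [AddCommGroup V] [Module ℂ V]
    [FiniteDimensional ℂ V] {W : Type w} [AddCommGroup W] [Module ℂ W] [FiniteDimensional ℂ W]

theorem classInner_eq_finrank (ρ : Representation ℂ G V) (σ : Representation ℂ G W) :
    classInner σ.character ρ.character = (finrank ℂ (IntertwiningMap ρ σ) : ℂ) := by
  have : Invertible (Nat.card G : ℂ) :=
    invertibleOfNonzero (by exact_mod_cast (Nat.card_pos (α := G)).ne')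
  have h := Representation.card_inv_mul_sum_char_mul_char_eq_finrank ρ σ
  unfold classInner
  rw [← h]
  congr 1
  apply Finset.sum_congr rfl
  intro g _
  rw [char_inv]

end inner

section main
variable {G : Type u} [Group G] [Fintype G] {V : Type v} [AddCommGroup V] [Module ℂ V]
    [FiniteDimensional ℂ V]

/-- commuting centralizer algebra implies multiplicity-free -/
theorem mf_of_comm (ρ : Representation ℂ G V)
    (hcomm : ∀ S T : IntertwiningMap ρ ρ,
      S.toLinearMap ∘ₗ T.toLinearMap = T.toLinearMap ∘ₗ S.toLinearMap)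
    (χ : G → ℂ) (hχ : IsIrrCharacter G χ) :
    classInner ρ.character χ = 0 ∨ classInner ρ.character χ = 1 := by
  obtain ⟨n, τ, hτ, rfl⟩ := hχ
  rw [classInner_eq_finrank τ ρ]
  have hle : finrank ℂ (IntertwiningMap τ ρ) ≤ 1 := by
    by_contra hlt
    push Not at hlt
    have hnt : Nontrivial (IntertwiningMap τ ρ) := Module.nontrivial_of_finrank_pos (R := ℂ) (by omega)
    obtain ⟨f₁, hf₁⟩ := exists_ne (0 : IntertwiningMap τ ρ)
    obtain ⟨f₂, hli⟩ := exists_linearIndependent_pair_of_one_lt_finrank hlt hf₁
    have hinj := injective_of_ne_zero f₁ hf₁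
    obtain ⟨p, hp⟩ := exists_retraction f₁ hinj
    have h := hcomm (f₁.comp p) (f₂.comp p)
    obtain ⟨c, hc⟩ := schur_scalar τ (p.toLinearMap ∘ₗ f₂.toLinearMap) (fun g => by
      ext v
      simp only [LinearMap.coe_comp, Function.comp_apply]
      rw [im_apply f₂, im_apply p])
    have key : ∀ v, f₂.toLinearMap v = c • f₁.toLinearMap v := by
      intro v
      have h1 := LinearMap.congr_fun h (f₁.toLinearMap v)
      change f₁.toLinearMap (p.toLinearMap (f₂.toLinearMap (p.toLinearMap (f₁.toLinearMap v)))) =
        f₂.toLinearMap (p.toLinearMap (f₁.toLinearMap (p.toLinearMap (f₁.toLinearMap v)))) at h1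
      rw [hp, hp] at h1
      have h2 : p.toLinearMap (f₂.toLinearMap v) = c • v := by
        have := LinearMap.congr_fun hc v
        simpa using this
      rw [h2, map_smul] at h1
      exact h1.symm
    rw [LinearIndependent.pair_iff] at hli
    have h0 : c • f₁ + (-1 : ℂ) • f₂ = 0 := by
      apply IntertwiningMap.ext
      apply LinearMap.ext
      intro v
      change c • f₁.toLinearMap v + (-1 : ℂ) • f₂.toLinearMap v = 0
      rw [key v]
      simp
    have := (hli c (-1) h0).2
    norm_num at this
  interval_cases h : finrank ℂ (IntertwiningMap τ ρ)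
  · left; simp
  · right; simp

theorem exists_atom_le {ρ : Representation ℂ G V} (K : Subrepresentation ρ) (hK : K ≠ ⊥) :
    ∃ U : Subrepresentation ρ, IsAtom U ∧ U ≤ K := by
  classical
  have hex : ∃ n : ℕ, ∃ W : Subrepresentation ρ, W ≠ ⊥ ∧ W ≤ K ∧
      finrank ℂ W.toSubmodule = n := ⟨_, K, hK, le_rfl, rfl⟩
  obtain ⟨W, hW, hWK, hn⟩ := Nat.find_spec hex
  refine ⟨W, ⟨hW, ?_⟩, hWK⟩
  intro U hU
  by_contra hU0
  have hlt : finrank ℂ U.toSubmodule < finrank ℂ W.toSubmodule :=
    Submodule.finrank_lt_finrank_of_lt (toSubmodule_lt hU)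
  rw [hn] at hlt
  exact Nat.find_min hex hlt ⟨U, hU0, hU.le.trans hWK, rfl⟩

/-- multiplicity-free implies commuting centralizer algebra -/
theorem comm_of_mf (ρ : Representation ℂ G V)
    (hmf : ∀ χ, IsIrrCharacter G χ →
      classInner ρ.character χ = 0 ∨ classInner ρ.character χ = 1)
    (S T : IntertwiningMap ρ ρ) :
    S.toLinearMap ∘ₗ T.toLinearMap = T.toLinearMap ∘ₗ S.toLinearMap := by
  let K : Subrepresentation ρ :=
    { toSubmodule := LinearMap.eqLocus (S.toLinearMap ∘ₗ T.toLinearMap)
        (T.toLinearMap ∘ₗ S.toLinearMap)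
      apply_mem_toSubmodule := by
        intro g v hv
        rw [LinearMap.mem_eqLocus] at hv ⊢
        simp only [LinearMap.coe_comp, Function.comp_apply] at hv ⊢
        rw [im_apply T, im_apply S, im_apply S, im_apply T, hv] }
  have hKtop : K = ⊤ := by
    by_contra hK
    have : NeZero (Nat.card G : ℂ) := ⟨by exact_mod_cast (Nat.card_pos (α := G)).ne'⟩
    obtain ⟨K', hK'⟩ := exists_isCompl K
    have hK'ne : K' ≠ ⊥ := by
      intro h
      rw [h] at hK'
      exact hK (eq_top_of_isCompl_bot hK')
    obtain ⟨U, hU, hUK'⟩ := exists_atom_le K' hK'ne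
    have hirr := isIrreducible_of_isAtom U hU
    have hUK : U ≤ K := by
      let ι : IntertwiningMap U.toRepresentation ρ := ⟨U.toSubmodule.subtype, fun g => rfl⟩
      have hι : ι ≠ 0 := by
        intro h0
        apply hU.1
        apply le_antisymm _ bot_le
        intro v hv
        have : ι.toLinearMap ⟨v, hv⟩ = 0 := by rw [h0]; rfl
        have hv0 : v = 0 := this
        rw [hv0]
        exact (⊥ : Subrepresentation ρ).toSubmodule.zero_mem
      have hfr : finrank ℂ (IntertwiningMap U.toRepresentation ρ) = 1 := by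
        have h1 := hmf _ (isIrrCharacter_of_rep U.toRepresentation)
        rw [classInner_eq_finrank U.toRepresentation ρ] at h1
        have h2 : finrank ℂ (IntertwiningMap U.toRepresentation ρ) ≠ 0 := by
          intro h0
          rw [Module.finrank_zero_iff] at h0
          exact hι (Subsingleton.elim _ _)
        rcases h1 with h1 | h1
        · exact absurd (by exact_mod_cast h1) h2
        · exact_mod_cast h1
      rw [finrank_eq_one_iff_of_nonzero' ι hι] at hfr
      obtain ⟨c, hc⟩ := hfr (S.comp ι)
      obtain ⟨d, hd⟩ := hfr (T.comp ι)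
      intro u hu
      change (S.toLinearMap ∘ₗ T.toLinearMap) u = (T.toLinearMap ∘ₗ S.toLinearMap) u
      have hSu : ∀ x : U.toSubmodule, S.toLinearMap (x : V) = c • (x : V) := by
        intro x
        have := congrArg (fun f : IntertwiningMap U.toRepresentation ρ => f.toLinearMap x) hc
        exact this.symm
      have hTu : ∀ x : U.toSubmodule, T.toLinearMap (x : V) = d • (x : V) := by
        intro x
        have := congrArg (fun f : IntertwiningMap U.toRepresentation ρ => f.toLinearMap x) hd
        exact this.symm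
      have h1 := hSu ⟨u, hu⟩
      have h2 := hTu ⟨u, hu⟩
      simp only [LinearMap.coe_comp, Function.comp_apply]
      change S.toLinearMap u = c • u at h1
      change T.toLinearMap u = d • u at h2
      rw [h2, h1, map_smul, map_smul, h1, h2, smul_comm]
    exact hU.1 (le_bot_iff.mp (hK'.inf_eq_bot ▸ le_inf hUK hUK'))
  apply LinearMap.ext
  intro v
  have : v ∈ K := by rw [hKtop]; trivial
  exact this

end main

end Cfsg.Agent.Helper12.MultFree
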