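import Mathlib
import Cfsg.Agent.Lib.Helper32.N5Defs

/-!
# N5 (Sa) `invol_mem_center_of_center_four` (helper12, for helper32's S1904 server)
-/

set_option autoImplicit false

namespace Cfsg.Agent.Helper12.N5

open Cfsg Cfsg.Agent.Helper32.N5
open scoped commutatorElement

universe u

variable {X : Type u} [Group X] [Finite X]

theorem invol_mem_center_of_center_four (h8 : NoNE8 X) (Z : Subgroup X) (hd : SpData Z)
    (hZ4 : Nat.card Z = 4) (x : X) (hx : x ^ 2 = 1) : x ∈ Z := by
  by_contra hxZ
  have hxx : x * x = 1 := by rwa [pow_two] at hx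
  have hxinv : x⁻¹ = x := inv_eq_of_mul_eq_one_right hxx
  have hcen : ∀ z ∈ Z, ∀ g : X, g * z = z * g := by
    intro z hz g
    rw [hd.eqc] at hz
    exact Subgroup.mem_center_iff.mp hz g
  -- an element `b` with `b x ∈ Z` commutes with `x`
  have hbx : ∀ b : X, b * x ∈ Z → x * b = b * x := by
    intro b hb
    have h1 := hcen (b * x) hb x
    -- x * (b * x) = b * x * x = b
    have h2 : x * b * x = b := by
      rw [mul_assoc, h1, mul_assoc, hxx, mul_one]
    calc x * b = x * b * (x * x) := by rw [hxx, mul_one]
      _ = (x * b * x) * x := by group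
      _ = b * x := by rw [h2]
  let E : Subgroup X :=
    { carrier := {g | g ∈ Z ∨ g * x ∈ Z}
      one_mem' := Or.inl Z.one_mem
      mul_mem' := by
        rintro a b (ha | ha) (hb | hb)
        · exact Or.inl (Z.mul_mem ha hb)
        · right
          show a * b * x ∈ Z
          rw [mul_assoc]
          exact Z.mul_mem ha hb
        · right
          show a * b * x ∈ Z
          have : a * b * x = b * (a * x) := by
            rw [hcen b hb a, mul_assoc]
          rw [this]
          exact Z.mul_mem hb ha
        · left
          show a * b ∈ Z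
          have : a * b = (a * x) * (b * x) := by
            rw [← hbx b hb]
            calc a * b = a * (x * x) * b := by rw [hxx, mul_one]
              _ = a * x * (x * b) := by group
          rw [this]
          exact Z.mul_mem ha hb
      inv_mem' := by
        rintro a (ha | ha)
        · exact Or.inl (Z.inv_mem ha)
        · right
          show a⁻¹ * x ∈ Z
          have h1 : (a * x)⁻¹ ∈ Z := Z.inv_mem ha
          rw [mul_inv_rev, hxinv] at h1
          -- x * a⁻¹ ∈ Z, central
          have h2 := hcen (x * a⁻¹) h1 x
          have h3 : a⁻¹ * x = x * a⁻¹ := by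
            calc a⁻¹ * x = (x * x) * a⁻¹ * x := by rw [hxx, one_mul]
              _ = x * (x * a⁻¹) * x := by group
              _ = (x * a⁻¹) * x * x := by rw [h2]
              _ = x * a⁻¹ * (x * x) := by group
              _ = x * a⁻¹ := by rw [hxx, mul_one]
          rw [h3]
          exact h1 }
  have hmemE : ∀ g : X, g ∈ E ↔ (g ∈ Z ∨ g * x ∈ Z) := fun g => Iff.rfl
  have hZE : Z ≤ E := fun g hg => Or.inl hg
  have hxE : x ∈ E := by
    rw [hmemE]
    right
    rw [hxx]
    exact Z.one_mem
  -- every element of `E` commutes with `x`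
  have hEx : ∀ a ∈ E, x * a = a * x := by
    intro a ha
    rcases (hmemE a).mp ha with h | h
    · exact hcen a h x
    · exact hbx a h
  have hEn : E.Normal := by
    constructor
    intro g hg c
    rcases (hmemE g).mp hg with h | h
    · left
      have : c * g * c⁻¹ = g := by
        rw [hcen g h c, mul_inv_cancel_right]
      rw [this]
      exact h
    · right
      show c * g * c⁻¹ * x ∈ Z
      have h1 : ⁅c, x⁆ ∈ Z := hd.comm c x
      have h2 : c * g * c⁻¹ * x = (g * x) * ⁅c, x⁆ := by
        -- c g c⁻¹ x = c (g x) x⁻¹ c⁻¹ x = (g x) c x c⁻¹ x⁻¹ ... using g x central and x⁻¹ = x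
        have h3 : c * (g * x) = (g * x) * c := hcen (g * x) h c
        rw [commutatorElement_def, hxinv]
        calc c * g * c⁻¹ * x = c * (g * (x * x)) * c⁻¹ * x := by rw [hxx, mul_one]
          _ = (c * (g * x)) * x * c⁻¹ * x := by group
          _ = ((g * x) * c) * x * c⁻¹ * x := by rw [h3]
          _ = g * x * (c * x * c⁻¹ * x) := by group
      rw [h2]
      exact Z.mul_mem h h1
  have hEcomm : IsMulCommutative E := by
    refine ⟨⟨fun a b => Subtype.ext ?_⟩⟩
    show (a : X) * b = b * a
    rcases (hmemE b).mp b.2 with h | h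
    · exact hcen b h a
    · -- b = (b x) x
      have hb : (b : X) = (b * x) * x := by rw [mul_assoc, hxx, mul_one]
      have hax : x * (a : X) = a * x := hEx a a.2
      calc (a : X) * b = a * ((b * x) * x) := by rw [← hb]
        _ = (a * (b * x)) * x := by group
        _ = ((b * x) * a) * x := by rw [hcen (b * x) h a]
        _ = (b * x) * (a * x) := by group
        _ = (b * x) * (x * a) := by rw [hax]
        _ = ((b * x) * x) * a := by group
        _ = b * a := by rw [← hb]
  have hEel : ∀ a ∈ E, a ^ 2 = 1 := by
    intro a ha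
    rcases (hmemE a).mp ha with h | h
    · exact hd.el a h
    · have h1 := hd.el (a * x) h
      rw [pow_two] at h1 ⊢
      have hax : x * a = a * x := hEx a ha
      calc a * a = a * a * (x * x) := by rw [hxx, mul_one]
        _ = a * (a * x) * x := by group
        _ = a * (x * a) * x := by rw [hax]
        _ = (a * x) * (a * x) := by group
        _ = 1 := h1
  have hrel : Z.relIndex E = 2 := by
    rw [Subgroup.relIndex_eq_two_iff]
    refine ⟨x, hxE, ?_⟩
    intro b hb
    rcases (hmemE b).mp hb with h | h
    · refine Or.inr ⟨h, ?_⟩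
      intro h'
      apply hxZ
      have : x = b⁻¹ * (b * x) := by group
      rw [this]
      exact Z.mul_mem (Z.inv_mem h) h'
    · refine Or.inl ⟨h, ?_⟩
      intro h'
      apply hxZ
      have : x = b⁻¹ * (b * x) := by group
      rw [this]
      exact Z.mul_mem (Z.inv_mem h') h
  have hcard : Nat.card E = 8 := by
    have h1 := Subgroup.relIndex_mul_relIndex (⊥ : Subgroup X) Z E bot_le hZE
    rw [Subgroup.relIndex_bot_left, Subgroup.relIndex_bot_left, hrel, hZ4] at h1
    omega
  exact h8 ⟨E, hEn, ⟨hEcomm, hEel⟩, hcard⟩

end Cfsg.Agent.Helper12.N5
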