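import Mathlib
import Cfsg.Agent.Lib.Helper32.N5Defs
import Cfsg.Agent.Lib.Helper51.RuSylFrat

/-!
# N5 (SF) `spData_of_special` (helper12, for helper32's S1904 server)
-/

set_option autoImplicit false

namespace Cfsg.Agent.Helper12.N5

open Cfsg Cfsg.Agent.Helper32.N5
open scoped commutatorElement

universe u

variable {X : Type u} [Group X] [Finite X]

theorem spData_of_special (hs : Cfsg.IsSpecial 2 X) : SpData (Subgroup.center X) := by
  obtain ⟨hp, hfr, hco⟩ := hs
  have hsq : ∀ x : X, x ^ 2 ∈ Subgroup.center X := by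
    intro x
    rw [← hfr, pow_two]
    exact Cfsg.Agent.Helper51.RuSyl.sq_mem_frattini hp x
  have hcomm : ∀ x y : X, ⁅x, y⁆ ∈ Subgroup.center X := by
    intro x y
    rw [← hco]
    exact Subgroup.commutator_mem_commutator (Subgroup.mem_top x) (Subgroup.mem_top y)
  refine ⟨rfl, hsq, hcomm, ?_⟩
  intro z hz
  rw [← hco, commutator_eq_closure] at hz
  induction hz using Subgroup.closure_induction with
  | mem c hc =>
    obtain ⟨a, b, rfl⟩ := hc
    have hc' : ∀ g : X, g * ⁅a, b⁆ = ⁅a, b⁆ * g := Subgroup.mem_center_iff.mp (hcomm a b)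
    have ha2 : ∀ g : X, g * (a * a) = (a * a) * g := by
      have := hsq a
      rw [pow_two] at this
      exact Subgroup.mem_center_iff.mp this
    rw [pow_two]
    calc ⁅a, b⁆ * ⁅a, b⁆ = ⁅a, b⁆ * (a * b * a⁻¹ * b⁻¹) := by rw [commutatorElement_def]
      _ = (⁅a, b⁆ * a) * (b * a⁻¹ * b⁻¹) := by group
      _ = (a * ⁅a, b⁆) * (b * a⁻¹ * b⁻¹) := by rw [hc' a]
      _ = (a * (a * b * a⁻¹ * b⁻¹)) * (b * a⁻¹ * b⁻¹) := by rw [commutatorElement_def]
      _ = ((a * a) * b) * (a * a)⁻¹ * b⁻¹ := by group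
      _ = (b * (a * a)) * (a * a)⁻¹ * b⁻¹ := by rw [ha2 b]
      _ = 1 := by group
  | one => exact one_pow 2
  | mul a b ha hb iha ihb =>
    have hb' : b ∈ Subgroup.center X := by
      rw [← hco, commutator_eq_closure]
      exact hb
    have hbc : ∀ g : X, g * b = b * g := Subgroup.mem_center_iff.mp hb'
    rw [pow_two] at iha ihb ⊢
    calc a * b * (a * b) = a * (b * a) * b := by group
      _ = a * (a * b) * b := by rw [← hbc a]
      _ = (a * a) * (b * b) := by group
      _ = 1 := by rw [iha, ihb, one_mul]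
  | inv a ha iha => rw [inv_pow, iha, inv_one]

end Cfsg.Agent.Helper12.N5
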