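import Mathlib
import Cfsg.Agent.Lib.Helper32.N9Defs

/-! # N9 (B1) commSub_normal_ainv (helper12, for helper32's server, S4409) -/

set_option autoImplicit false

namespace Cfsg.Agent.Helper12.N9

open Cfsg Cfsg.Agent.Helper32.N9

universe u

/-- **B1.** `[X, A]` is normal and `A`-invariant. -/
theorem commSub_normal_ainv {X : Type u} [Group X] (A : Subgroup (MulAut X)) :
    (commSub A).Normal ∧ AInv A (commSub A) := by
  constructor
  · refine ⟨fun n hn g => ?_⟩
    have hle : (commSub A).map (MulAut.conj g).toMonoidHom ≤ commSub A := by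
      unfold commSub
      rw [MonoidHom.map_closure, Subgroup.closure_le]
      rintro _ ⟨s, ⟨φ, hφ, x, rfl⟩, rfl⟩
      have h1 : (x * g⁻¹)⁻¹ * φ (x * g⁻¹) ∈ commSub A := mem_commSub A hφ _
      have h2 : (g⁻¹)⁻¹ * φ (g⁻¹) ∈ commSub A := mem_commSub A hφ _
      have h3 := (commSub A).mul_mem h1 ((commSub A).inv_mem h2)
      have e : (MulAut.conj g).toMonoidHom (x⁻¹ * φ x) =
          (x * g⁻¹)⁻¹ * φ (x * g⁻¹) * ((g⁻¹)⁻¹ * φ (g⁻¹))⁻¹ := by
        simp only [MulEquiv.coe_toMonoidHom, MulAut.conj_apply, map_mul, map_inv]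
        group
      rw [e]
      exact h3
    exact hle ⟨n, hn, rfl⟩
  · intro ψ hψ n hn
    have hle : (commSub A).map ψ.toMonoidHom ≤ commSub A := by
      unfold commSub
      rw [MonoidHom.map_closure, Subgroup.closure_le]
      rintro _ ⟨s, ⟨φ, hφ, x, rfl⟩, rfl⟩
      have hφ' : ψ * φ * ψ⁻¹ ∈ A := A.mul_mem (A.mul_mem hψ hφ) (A.inv_mem hψ)
      have h1 : (ψ x)⁻¹ * (ψ * φ * ψ⁻¹) (ψ x) ∈ commSub A := mem_commSub A hφ' _
      have e : ψ.toMonoidHom (x⁻¹ * φ x) = (ψ x)⁻¹ * (ψ * φ * ψ⁻¹) (ψ x) := by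
        simp only [MulEquiv.coe_toMonoidHom, map_mul, map_inv, MulAut.mul_apply,
          MulAut.inv_apply, MulEquiv.symm_apply_apply]
      rw [e]
      exact h1
    exact hle ⟨n, hn, rfl⟩

end Cfsg.Agent.Helper12.N9
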