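import Mathlib
import Cfsg.Agent.Lib.Helper32.N9Defs

/-! # N9 (B2) restrict_aut (helper12, for helper32's server, S4409) -/

set_option autoImplicit false

namespace Cfsg.Agent.Helper12.N9

open Cfsg Cfsg.Agent.Helper32.N9

universe u

/-- **B2.** Restriction of an automorphism to an invariant subgroup (finite, so `φ T ⊆ T` is enough). -/
theorem restrict_aut {X : Type u} [Group X] [Finite X] (T : Subgroup X) (φ : MulAut X)
    (h : ∀ t ∈ T, φ t ∈ T) :
    ∃ φ' : MulAut ↥T, (∀ t : ↥T, ((φ' t : ↥T) : X) = φ (t : X)) ∧ orderOf φ' ∣ orderOf φ := by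
  let f : ↥T →* ↥T := (φ.toMonoidHom.comp T.subtype).codRestrict T (fun t => h t t.2)
  have hf : ∀ t : ↥T, ((f t : ↥T) : X) = φ (t : X) := fun t => rfl
  have hinj : Function.Injective f := by
    intro a b hab
    have := congrArg Subtype.val hab
    rw [hf, hf] at this
    exact Subtype.ext (φ.injective this)
  have hbij : Function.Bijective f := ⟨hinj, Finite.injective_iff_surjective.1 hinj⟩
  let φ' : MulAut ↥T := MulEquiv.ofBijective f hbij
  have hφ' : ∀ t : ↥T, ((φ' t : ↥T) : X) = φ (t : X) := fun t => rfl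
  refine ⟨φ', hφ', ?_⟩
  have hpow : ∀ (k : ℕ) (t : ↥T), (((φ' ^ k) t : ↥T) : X) = (φ ^ k) (t : X) := by
    intro k
    induction k with
    | zero => intro t; simp
    | succ k ih =>
      intro t
      rw [pow_succ, pow_succ, MulAut.mul_apply, MulAut.mul_apply, ih, hφ']
  apply orderOf_dvd_of_pow_eq_one
  ext t
  rw [hpow, pow_orderOf_eq_one]
  simp

end Cfsg.Agent.Helper12.N9
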