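import Mathlib
import Cfsg.Agent.Lib.Helper32.N9Defs

/-! # N9 (B4) na8_top_iff (helper12, for helper32's server, S4409) -/

set_option autoImplicit false

namespace Cfsg.Agent.Helper12.N9

open Cfsg Cfsg.Agent.Helper32.N9

universe u

/-- transfer of the four properties along a group isomorphism -/
theorem b4_transfer {A B : Type*} [Group A] [Group B] (e : A ≃* B)
    (h1 : IsMulCommutative A) (h2 : ¬ IsCyclic A) (h3 : Nat.card A = 8) :
    IsMulCommutative B ∧ ¬ IsCyclic B ∧ Nat.card B = 8 := by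
  refine ⟨?_, ?_, ?_⟩
  · rw [isMulCommutative_iff] at h1 ⊢
    intro a b
    have := h1 (e.symm a) (e.symm b)
    have h' := congrArg e this
    simpa using h'
  · intro hc
    exact h2 (e.isCyclic.2 hc)
  · rw [← h3]; exact (Nat.card_congr e.toEquiv).symm

/-- **B4.** `NA8` of a subgroup, seen inside the subgroup (map / comap along `T.subtype`). -/
theorem na8_top_iff {G : Type u} [Group G] (T : Subgroup G) :
    NA8 (⊤ : Subgroup ↥T) ↔ NA8 T := by
  unfold NA8
  rw [not_iff_not]
  constructor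
  · rintro ⟨B, -, h1, h2, h3⟩
    obtain ⟨h1', h2', h3'⟩ := b4_transfer (B.equivMapOfInjective T.subtype T.subtype_injective)
      h1 h2 h3
    exact ⟨B.map T.subtype, Subgroup.map_subtype_le B, h1', h2', h3'⟩
  · rintro ⟨B, hBT, h1, h2, h3⟩
    obtain ⟨h1', h2', h3'⟩ := b4_transfer (Subgroup.subgroupOfEquivOfLe hBT).symm h1 h2 h3
    exact ⟨B.subgroupOf T, le_top, h1', h2', h3'⟩

end Cfsg.Agent.Helper12.N9
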