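import Mathlib
import Cfsg.Agent.Lib.Helper32.N9Defs

/-! # N9 (I3) exists_odd_elt (helper12, for helper32's server, S4409) -/

set_option autoImplicit false

namespace Cfsg.Agent.Helper12.N9

open Cfsg Cfsg.Agent.Helper32.N9

universe u

/-- **I3.** A finite group that is not a 2-group has a nontrivial element of odd order (Cauchy). -/
theorem exists_odd_elt {S : Type u} [Group S] [Finite S] (h : ¬ IsPGroup 2 S) :
    ∃ s : S, s ≠ 1 ∧ Odd (orderOf s) := by
  have hex : ∃ q : ℕ, q.Prime ∧ q ∣ Nat.card S ∧ q ≠ 2 := by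
    by_contra hcon
    push Not at hcon
    apply h
    have hc : Nat.card S = 2 ^ (Nat.card S).primeFactorsList.length :=
      Nat.eq_prime_pow_of_unique_prime_dvd Nat.card_pos.ne' (fun {d} hd hdvd => hcon d hd hdvd)
    exact IsPGroup.of_card hc
  obtain ⟨q, hq, hqd, hq2⟩ := hex
  have : Fact q.Prime := ⟨hq⟩
  obtain ⟨s, hs⟩ := exists_prime_orderOf_dvd_card' q hqd
  refine ⟨s, ?_, ?_⟩
  · intro h1
    rw [h1, orderOf_one] at hs
    exact hq.one_lt.ne hs
  · rw [hs]
    exact hq.odd_of_ne_two hq2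

end Cfsg.Agent.Helper12.N9
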