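import Mathlib
import Cfsg.Agent.Lib.Helper32.N9Defs

/-! # N9 (L3a) trivial_of_fix_involutions (helper12, for helper32's server, S4409) -/

set_option autoImplicit false

namespace Cfsg.Agent.Helper12.N9

open Cfsg Cfsg.Agent.Helper32.N9

universe u

/-- if `φ x = x * u` with `φ u = u`, `u² = 1` and `φ` has odd order then `u = 1` -/
theorem l3a_eq_one_of_shift {X : Type*} [Group X] (φ : MulAut X) (hodd : Odd (orderOf φ))
    (x u : X) (hx : φ x = x * u) (hu : φ u = u) (hu2 : u ^ 2 = 1) : u = 1 := by
  have hpow : ∀ k : ℕ, (φ ^ k) u = u ∧ (φ ^ k) x = x * u ^ k := by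
    intro k
    induction k with
    | zero => simp
    | succ k ih =>
      constructor
      · rw [pow_succ, MulAut.mul_apply, hu, ih.1]
      · rw [pow_succ, MulAut.mul_apply, hx, map_mul, ih.1, ih.2, mul_assoc, ← pow_succ]
  have h1 := (hpow (orderOf φ)).2
  rw [pow_orderOf_eq_one, MulAut.one_apply] at h1
  have h2 : u ^ orderOf φ = 1 := by
    have := mul_left_cancel (a := x) (b := 1) (c := u ^ orderOf φ) (by rw [mul_one]; exact h1)
    exact this.symm
  have h3 : orderOf u ∣ Nat.gcd (orderOf φ) 2 :=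
    Nat.dvd_gcd (orderOf_dvd_of_pow_eq_one h2) (orderOf_dvd_of_pow_eq_one hu2)
  have h4 : Nat.gcd (orderOf φ) 2 = 1 := hodd.coprime_two_right
  rw [h4, Nat.dvd_one, orderOf_eq_one_iff] at h3
  exact h3

/-- **L3a.** An automorphism of odd order of an abelian 2-group fixing all involutions is trivial. -/
theorem trivial_of_fix_involutions {X : Type u} [Group X] [Finite X] (hX : IsPGroup 2 X)
    (hab : ∀ a b : X, a * b = b * a) (φ : MulAut X) (hodd : Odd (orderOf φ))
    (hfix : ∀ x : X, x ^ 2 = 1 → φ x = x) : ∀ x : X, φ x = x := by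
  have key : ∀ n : ℕ, ∀ x : X, orderOf x = n → φ x = x := by
    intro n
    induction n using Nat.strong_induction_on with
    | _ n ih =>
      intro x hx
      by_cases hx1 : x = 1
      · rw [hx1, map_one]
      -- order of `x` is even
      have h2dvd : 2 ∣ orderOf x := by
        obtain ⟨k, hk⟩ := hX x
        have hd := orderOf_dvd_of_pow_eq_one hk
        obtain ⟨j, -, hj⟩ := (Nat.dvd_prime_pow Nat.prime_two).1 hd
        rcases j with _ | j
        · rw [pow_zero, orderOf_eq_one_iff] at hj; exact absurd hj hx1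
        · rw [hj, pow_succ]; exact dvd_mul_left 2 _
      have hlt : orderOf (x ^ 2) < n := by
        rw [orderOf_pow_of_dvd two_ne_zero h2dvd, ← hx]
        exact Nat.div_lt_self (orderOf_pos x) one_lt_two
      have hsq : φ (x ^ 2) = x ^ 2 := ih _ hlt _ rfl
      set u := x⁻¹ * φ x with hu
      have hxu : φ x = x * u := by rw [hu, mul_inv_cancel_left]
      have hu2 : u ^ 2 = 1 := by
        have h1 : φ x * x⁻¹ = x⁻¹ * φ x := hab _ _
        have h2 : φ x * φ x = x * x := by rw [← map_mul, ← pow_two, hsq, pow_two]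
        calc u ^ 2 = x⁻¹ * (φ x * x⁻¹) * φ x := by rw [pow_two, hu]; group
          _ = x⁻¹ * (x⁻¹ * φ x) * φ x := by rw [h1]
          _ = x⁻¹ * x⁻¹ * (φ x * φ x) := by group
          _ = 1 := by rw [h2]; group
      have hφu : φ u = u := hfix u hu2
      have := l3a_eq_one_of_shift φ hodd x u hxu hφu hu2
      rw [hxu, this, mul_one]
  exact fun x => key _ x rfl

end Cfsg.Agent.Helper12.N9
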