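import Mathlib
import Cfsg.Agent.Lib.Helper32.N9Defs
import Cfsg.Agent.Lib.Helper12.N9L3a
import Cfsg.Agent.Lib.Helper99.N9L2b

/-! # N9 (L3) v4_of_abelian (helper12, for helper32's server, S4409) -/

set_option autoImplicit false

namespace Cfsg.Agent.Helper12.N9

open Cfsg Cfsg.Agent.Helper32.N9

universe u

/-- the elements of exponent 2 of an abelian group -/
def l3Omega (X : Type u) [Group X] (hab : ∀ a b : X, a * b = b * a) : Subgroup X where
  carrier := {x | x ^ 2 = 1}
  one_mem' := one_pow 2
  mul_mem' := by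
    intro a b ha hb
    have hcomm : Commute a b := hab a b
    show (a * b) ^ 2 = 1
    rw [hcomm.mul_pow, ha, hb, one_mul]
  inv_mem' := by
    intro a ha
    show a⁻¹ ^ 2 = 1
    rw [inv_pow, ha, inv_one]

/-- **L3.** An abelian 2-group with `NA8` and a nontrivial automorphism of odd order is a four-group. -/
theorem v4_of_abelian {X : Type u} [Group X] [Finite X] (hX : IsPGroup 2 X)
    (hab : ∀ a b : X, a * b = b * a) (hN : NA8 (⊤ : Subgroup X)) (φ : MulAut X)
    (hodd : Odd (orderOf φ)) (hne : ∃ x : X, φ x ≠ x) :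
    Nat.card X = 4 ∧ ∀ x : X, x ^ 2 = 1 := by
  classical
  have : Fintype X := Fintype.ofFinite X
  set Ω : Subgroup X := l3Omega X hab with hΩ
  have hΩmem : ∀ x : X, x ∈ Ω ↔ x ^ 2 = 1 := fun x => Iff.rfl
  -- an involution moved by `φ`
  obtain ⟨u, hu2, hφu⟩ : ∃ u : X, u ^ 2 = 1 ∧ φ u ≠ u := by
    by_contra hcon
    push Not at hcon
    obtain ⟨x, hx⟩ := hne
    exact hx (trivial_of_fix_involutions hX hab φ hodd hcon x)
  have hu1 : u ≠ 1 := fun h => hφu (by rw [h, map_one])
  have hφu1 : φ u ≠ 1 := fun h => hu1 (by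
    have := φ.injective (h.trans (map_one φ).symm); exact this)
  have hφu2 : (φ u) ^ 2 = 1 := by rw [← map_pow, hu2, map_one]
  -- `3 ≤ |Ω|`
  have h3 : 3 ≤ Nat.card Ω := by
    rw [Nat.card_eq_fintype_card, Fintype.card_subtype]
    have hsub : ({1, u, φ u} : Finset X) ⊆ Finset.univ.filter (fun x : X => x ∈ Ω) := by
      intro x hx
      simp only [Finset.mem_insert, Finset.mem_singleton] at hx
      simp only [Finset.mem_filter, Finset.mem_univ, true_and]
      rcases hx with rfl | rfl | rfl
      · exact Ω.one_mem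
      · exact hu2
      · exact hφu2
    have hcard : ({1, u, φ u} : Finset X).card = 3 := by
      rw [Finset.card_insert_of_notMem, Finset.card_insert_of_notMem, Finset.card_singleton]
      · simpa using (Ne.symm hφu)
      · simp only [Finset.mem_insert, Finset.mem_singleton, not_or]
        exact ⟨Ne.symm hu1, Ne.symm hφu1⟩
    rw [← hcard]
    exact Finset.card_le_card hsub
  -- `|Ω| = 2 ^ a`
  obtain ⟨a, ha⟩ := (IsPGroup.iff_card (p := 2)).1 (hX.to_subgroup Ω)
  -- `a < 3`
  have ha3 : a < 3 := by
    by_contra hcon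
    push Not at hcon
    have hdvd : 2 ^ 3 ∣ Nat.card Ω := by rw [ha]; exact pow_dvd_pow 2 hcon
    obtain ⟨K, hK⟩ := Sylow.exists_subgroup_card_pow_prime 2 hdvd
    apply hN
    refine ⟨K.map Ω.subtype, le_top, ?_, ?_, ?_⟩
    · refine ⟨⟨fun a b => ?_⟩⟩
      exact Subtype.ext (hab _ _)
    · intro hcyc
      obtain ⟨g, hg⟩ := IsCyclic.exists_generator (α := ↥(K.map Ω.subtype))
      have h1 : orderOf g = Nat.card ↥(K.map Ω.subtype) := orderOf_eq_card_of_forall_mem_zpowers hg
      have h2 : Nat.card ↥(K.map Ω.subtype) = 8 := by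
        rw [Nat.card_congr (K.equivMapOfInjective Ω.subtype Ω.subtype_injective).symm.toEquiv, hK]
        norm_num
      have h3 : g ^ 2 = 1 := by
        obtain ⟨k, -, hk⟩ := g.2
        apply Subtype.ext
        rw [Subgroup.coe_pow, Subgroup.coe_one, ← hk]
        exact k.2
      have h4 := orderOf_dvd_of_pow_eq_one h3
      rw [h1, h2] at h4
      omega
    · rw [Nat.card_congr (K.equivMapOfInjective Ω.subtype Ω.subtype_injective).symm.toEquiv, hK]
      norm_num
  have ha2 : a = 2 := by
    interval_cases a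
    · rw [pow_zero] at ha; omega
    · rw [pow_one] at ha; omega
    · rfl
  have hΩ4 : Nat.card Ω = 4 := by rw [ha, ha2]; norm_num
  -- three involutions
  have hinv : Nat.card {x : X // orderOf x = 2} = 3 := by
    have h1 : (Finset.univ.filter (fun x : X => x ∈ Ω)) =
        insert (1 : X) (Finset.univ.filter (fun x : X => orderOf x = 2)) := by
      ext x
      simp only [Finset.mem_filter, Finset.mem_univ, true_and, Finset.mem_insert]
      rw [hΩmem, Cfsg.Agent.Helper99.N9.l2b_sq_eq_one_iff]
    have h2 : (1 : X) ∉ Finset.univ.filter (fun x : X => orderOf x = 2) := by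
      simp
    have h4 : (Finset.univ.filter (fun x : X => x ∈ Ω)).card = 4 := by
      rw [← hΩ4, Nat.card_eq_fintype_card, Fintype.card_subtype]
    rw [h1, Finset.card_insert_of_notMem h2] at h4
    rw [Nat.card_eq_fintype_card, Fintype.card_subtype]
    omega
  have hle : Nat.card X ≤ 4 := by
    by_contra hcon
    push Not at hcon
    exact Cfsg.Agent.Helper99.N9.not_na8_of_three_central_involutions hX hcon hinv
      (fun x _ => Subgroup.mem_center_iff.2 (fun g => hab g x)) hN
  have hge : Nat.card Ω ≤ Nat.card X := Subgroup.card_le_card_group Ω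
  have hcard : Nat.card X = 4 := by omega
  refine ⟨hcard, ?_⟩
  have htop : Ω = ⊤ := Subgroup.eq_top_of_card_eq Ω (by rw [hΩ4, hcard])
  intro x
  have : x ∈ Ω := by rw [htop]; exact Subgroup.mem_top x
  exact this

end Cfsg.Agent.Helper12.N9
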