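import Cfsg.Prelude.Def_Perm
import Mathlib

set_option autoImplicit false

namespace Cfsg.Agent.Helper12

open Cfsg

section
variable {F : Type*} [NearField F]

theorem nf_zero_mul (a : F) : (0 : F) * a = 0 := by
  have h := NearField.right_distrib (0 : F) 0 a
  rw [add_zero] at h
  have : (0 : F) * a + 0 = 0 * a + 0 * a := by rw [add_zero]; exact h
  exact (add_left_cancel this).symm

theorem nf_neg_mul (a c : F) : (-a) * c = -(a * c) := by
  have h := NearField.right_distrib (-a) a c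
  rw [neg_add_cancel, nf_zero_mul] at h
  exact eq_neg_of_add_eq_zero_left h.symm

theorem nf_sub_mul (a b c : F) : (a - b) * c = a * c - b * c := by
  rw [sub_eq_add_neg, NearField.right_distrib, nf_neg_mul, ← sub_eq_add_neg]

theorem nf_mul_ne_zero {a b : F} (ha : a ≠ 0) (hb : b ≠ 0) : a * b ≠ 0 := by
  intro h
  obtain ⟨b', hb1, _⟩ := NearField.exists_inv b hb
  apply ha
  calc a = a * 1 := (mul_one a).symm
    _ = a * (b * b') := by rw [hb1]
    _ = (a * b) * b' := (mul_assoc a b b').symm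
    _ = 0 := by rw [h, nf_zero_mul]

theorem nf_inv_ne_zero {a a' : F} (h : a * a' = 1) : a' ≠ 0 := by
  intro h0
  rw [h0, NearField.mul_zero] at h
  exact NearField.zero_ne_one h

/-- The affine permutation `x ↦ x * a + b`. -/
def affPerm (a a' b : F) (h1 : a * a' = 1) (h2 : a' * a = 1) : Equiv.Perm F where
  toFun x := x * a + b
  invFun y := (y + -b) * a'
  left_inv x := by
    change (x * a + b + -b) * a' = x
    rw [add_neg_cancel_right, mul_assoc, h1, mul_one]
  right_inv y := by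
    change (y + -b) * a' * a + b = y
    rw [mul_assoc, h2, mul_one, neg_add_cancel_right]

@[simp] theorem affPerm_apply (a a' b : F) (h1 : a * a' = 1) (h2 : a' * a = 1) (x : F) :
    affPerm a a' b h1 h2 x = x * a + b := rfl

/-- The group of affine maps of a near-field. -/
def affSubgroup (F : Type*) [NearField F] : Subgroup (Equiv.Perm F) where
  carrier := {σ | ∃ a b : F, a ≠ 0 ∧ ∀ x : F, σ x = x * a + b}
  one_mem' := ⟨1, 0, fun h => NearField.zero_ne_one h.symm, fun x => by simp⟩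
  mul_mem' := by
    rintro σ τ ⟨a, b, ha, hσ⟩ ⟨c, d, hc, hτ⟩
    refine ⟨c * a, d * a + b, nf_mul_ne_zero hc ha, fun x => ?_⟩
    rw [Equiv.Perm.coe_mul, Function.comp_apply, hτ, hσ, NearField.right_distrib, mul_assoc,
      add_assoc]
  inv_mem' := by
    rintro σ ⟨a, b, ha, hσ⟩
    obtain ⟨a', h1, h2⟩ := NearField.exists_inv a ha
    refine ⟨a', (-b) * a', nf_inv_ne_zero h1, fun x => ?_⟩
    apply σ.injective
    rw [Equiv.Perm.inv_def, Equiv.apply_symm_apply, hσ, NearField.right_distrib, mul_assoc, mul_assoc, h2, mul_one,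
      mul_one, add_assoc, neg_add_cancel, add_zero]

theorem mem_affSubgroup {σ : Equiv.Perm F} :
    σ ∈ affSubgroup F ↔ ∃ a b : F, a ≠ 0 ∧ ∀ x : F, σ x = x * a + b := Iff.rfl

theorem affSubgroup_two_transitive {x0 x1 y0 y1 : F} (hx : x0 ≠ x1) (_ : y0 ≠ y1) :
    ∃ σ ∈ affSubgroup F, σ x0 = y0 ∧ σ x1 = y1 := by
  have hd : x0 - x1 ≠ 0 := sub_ne_zero.mpr hx
  obtain ⟨d', hd1, hd2⟩ := NearField.exists_inv _ hd
  by_cases hy : y0 = y1
  · exact absurd hy ‹y0 ≠ y1›
  have he : y0 - y1 ≠ 0 := sub_ne_zero.mpr hy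
  obtain ⟨e', he1, he2⟩ := NearField.exists_inv _ he
  set a := d' * (y0 - y1) with ha
  set a' := e' * (x0 - x1) with ha'
  have h1 : a * a' = 1 := by
    rw [ha, ha', mul_assoc, ← mul_assoc (y0 - y1), he1, one_mul, hd2]
  have h2 : a' * a = 1 := by
    rw [ha, ha', mul_assoc, ← mul_assoc (x0 - x1), hd1, one_mul, he2]
  have hane : a ≠ 0 := by
    intro h0; rw [h0, nf_zero_mul] at h1; exact NearField.zero_ne_one h1
  refine ⟨affPerm a a' (-(x0 * a) + y0) h1 h2, ⟨a, _, hane, fun x => rfl⟩, ?_, ?_⟩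
  · rw [affPerm_apply, ← add_assoc, add_neg_cancel, zero_add]
  · rw [affPerm_apply, ← add_assoc, ← sub_eq_add_neg, ← nf_sub_mul, ha, ← mul_assoc]
    have : (x1 - x0) * d' = -1 := by
      rw [← neg_sub x0 x1, nf_neg_mul, hd1]
    rw [this, nf_neg_mul, one_mul, neg_sub, sub_add_cancel]

theorem affSubgroup_sharp {x0 x1 : F} (hx : x0 ≠ x1) {σ : Equiv.Perm F} (hσ : σ ∈ affSubgroup F)
    (h0 : σ x0 = x0) (h1 : σ x1 = x1) : σ = 1 := by
  obtain ⟨a, b, ha, hσ⟩ := hσ
  have hd : x0 - x1 ≠ 0 := sub_ne_zero.mpr hx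
  obtain ⟨d', hd1, hd2⟩ := NearField.exists_inv _ hd
  rw [hσ] at h0 h1
  have h3 : (x0 - x1) * a = x0 - x1 := by
    rw [nf_sub_mul]
    have e0 : x0 * a = x0 - b := eq_sub_of_add_eq h0
    have e1 : x1 * a = x1 - b := eq_sub_of_add_eq h1
    rw [e0, e1, sub_sub_sub_cancel_right]
  have h4 : a = 1 := by
    calc a = (d' * (x0 - x1)) * a := by rw [hd2, one_mul]
      _ = d' * ((x0 - x1) * a) := mul_assoc _ _ _
      _ = 1 := by rw [h3, hd2]
  have h5 : b = 0 := by
    rw [h4, mul_one] at h0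
    exact add_eq_left.mp h0
  ext x
  rw [hσ, h4, h5, mul_one, add_zero]; rfl

end

end Cfsg.Agent.Helper12
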