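import Mathlib

set_option autoImplicit false
set_option linter.unusedSectionVars false

/-! A class-two group with cyclic abelian subgroups and a unique involution that is not abelian
contains a quaternion pair. -/

namespace Cfsg.Agent.Helper12.QuatPair

open scoped commutatorElement

variable {G : Type*} [Group G]

/-- class two: all commutators are central -/
def Class2 (G : Type*) [Group G] : Prop := ∀ u v w : G, ⁅u, v⁆ * w = w * ⁅u, v⁆

theorem comm_mul_left (hcl : Class2 G) (u u' v : G) : ⁅u * u', v⁆ = ⁅u, v⁆ * ⁅u', v⁆ := by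
  have h1 : ⁅u * u', v⁆ = u * (⁅u', v⁆ * (v * u⁻¹ * v⁻¹)) := by
    simp only [commutatorElement_def]
    group
  have h2 : u * ((v * u⁻¹ * v⁻¹) * ⁅u', v⁆) = ⁅u, v⁆ * ⁅u', v⁆ := by
    simp only [commutatorElement_def]
    group
  rw [h1, hcl u' v, h2]

theorem comm_mul_right (hcl : Class2 G) (u v v' : G) : ⁅u, v * v'⁆ = ⁅u, v⁆ * ⁅u, v'⁆ := by
  rw [← commutatorElement_inv, comm_mul_left hcl, mul_inv_rev, commutatorElement_inv,
    commutatorElement_inv, hcl]

theorem comm_pow_left (hcl : Class2 G) (u v : G) (n : ℕ) : ⁅u ^ n, v⁆ = ⁅u, v⁆ ^ n := by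
  induction n with
  | zero => simp
  | succ n ih => rw [pow_succ, comm_mul_left hcl, ih, pow_succ]

theorem comm_pow_right (hcl : Class2 G) (u v : G) (n : ℕ) : ⁅u, v ^ n⁆ = ⁅u, v⁆ ^ n := by
  induction n with
  | zero => simp
  | succ n ih => rw [pow_succ, comm_mul_right hcl, ih, pow_succ]

theorem comm_zpow_left (hcl : Class2 G) (u v : G) (n : ℤ) : ⁅u ^ n, v⁆ = ⁅u, v⁆ ^ n := by
  have hinv : ∀ w : G, ⁅w⁻¹, v⁆ = ⁅w, v⁆⁻¹ := by
    intro w
    have h := comm_mul_left hcl w w⁻¹ v
    rw [mul_inv_cancel, commutatorElement_one_left] at h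
    exact (inv_eq_of_mul_eq_one_right h.symm).symm
  cases n with
  | ofNat n => simp only [Int.ofNat_eq_natCast, zpow_natCast]; exact comm_pow_left hcl u v n
  | negSucc n =>
    rw [zpow_negSucc, zpow_negSucc, hinv, comm_pow_left hcl]

/-- `y ^ m * g = k ^ m * g * y ^ m` where `k = ⁅y, g⁆` is central -/
theorem pow_mul_comm (hcl : Class2 G) (y g : G) (m : ℕ) :
    y ^ m * g = ⁅y, g⁆ ^ m * g * y ^ m := by
  have h := comm_pow_left hcl y g m
  have h2 : y ^ m * g = ⁅y ^ m, g⁆ * g * y ^ m := by
    simp only [commutatorElement_def]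
    group
  rw [h2, h]

theorem central_pow (hcl : Class2 G) (u v w : G) (n : ℕ) : ⁅u, v⁆ ^ n * w = w * ⁅u, v⁆ ^ n := by
  induction n with
  | zero => simp
  | succ n ih => rw [pow_succ, mul_assoc, hcl, ← mul_assoc, ih, mul_assoc]

/-- the class-two power formula -/
theorem mul_pow_class2 (hcl : Class2 G) (g y : G) (n : ℕ) :
    (g * y) ^ n = g ^ n * y ^ n * ⁅y, g⁆ ^ (∑ i ∈ Finset.range n, i) := by
  induction n with
  | zero => simp
  | succ n ih =>
    set k := ⁅y, g⁆ with hk
    have h1 : y ^ n * g = k ^ n * g * y ^ n := pow_mul_comm hcl y g n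
    have hcen : ∀ (m : ℕ) (w : G), k ^ m * w = w * k ^ m := fun m w => central_pow hcl y g w m
    have hsum : ∑ i ∈ Finset.range (n + 1), i = (∑ i ∈ Finset.range n, i) + n :=
      Finset.sum_range_succ _ _
    rw [hsum]
    set e := ∑ i ∈ Finset.range n, i with he
    calc (g * y) ^ (n + 1) = g ^ n * y ^ n * k ^ e * (g * y) := by rw [pow_succ, ih]
      _ = g ^ n * (y ^ n * g) * y * k ^ e := by
          have h3 := hcen e (g * y)
          calc g ^ n * y ^ n * k ^ e * (g * y) = g ^ n * y ^ n * (k ^ e * (g * y)) := by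
                simp only [mul_assoc]
            _ = g ^ n * y ^ n * ((g * y) * k ^ e) := by rw [h3]
            _ = _ := by simp only [mul_assoc]
      _ = g ^ n * (k ^ n * g * y ^ n) * y * k ^ e := by rw [h1]
      _ = g ^ (n + 1) * y ^ (n + 1) * k ^ (e + n) := by
          have h2 := hcen n (g ^ n)
          calc g ^ n * (k ^ n * g * y ^ n) * y * k ^ e
              = (g ^ n * k ^ n) * (g * y ^ n * y) * k ^ e := by simp only [mul_assoc]
            _ = (k ^ n * g ^ n) * (g * y ^ n * y) * k ^ e := by rw [h2]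
            _ = k ^ n * ((g ^ n * g * (y ^ n * y)) * k ^ e) := by simp only [mul_assoc]
            _ = ((g ^ n * g * (y ^ n * y)) * k ^ e) * k ^ n := by rw [hcen]
            _ = _ := by rw [pow_succ, pow_succ, pow_add]; simp only [mul_assoc]

/-- in a cyclic situation, an element whose order divides that of another lies in its powers -/
theorem pow_mem_zpowers_pow [Finite G] (g : G) (i j : ℕ)
    (h : orderOf (g ^ i) ∣ orderOf (g ^ j)) : g ^ i ∈ Subgroup.zpowers (g ^ j) := by
  set N := orderOf g with hN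
  have hN0 : 0 < N := orderOf_pos g
  rw [orderOf_pow, orderOf_pow] at h
  set a := Nat.gcd N i with ha
  set b := Nat.gcd N j with hb
  have ha0 : 0 < a := Nat.gcd_pos_of_pos_left _ hN0
  have hb0 : 0 < b := Nat.gcd_pos_of_pos_left _ hN0
  have haN : a ∣ N := Nat.gcd_dvd_left _ _
  have hbN : b ∣ N := Nat.gcd_dvd_left _ _
  have hba : b ∣ a := by
    obtain ⟨t, ht⟩ := h
    obtain ⟨a', ha'⟩ := haN
    obtain ⟨b', hb'⟩ := hbN
    have h1 : N / a = a' := by rw [ha']; exact Nat.mul_div_cancel_left _ ha0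
    have h2 : N / b = b' := by rw [hb']; exact Nat.mul_div_cancel_left _ hb0
    rw [h1, h2] at ht
    have ha'0 : 0 < a' := by
      rcases Nat.eq_zero_or_pos a' with h0 | h0
      · rw [h0, mul_zero] at ha'; omega
      · exact h0
    -- N = a * a' = b * b' = b * a' * t
    have h3 : a * a' = b * t * a' := by
      rw [← ha', hb', ht]; ring
    have h4 : a = b * t := Nat.eq_of_mul_eq_mul_right ha'0 h3
    exact ⟨t, h4⟩
  have hbi : b ∣ i := hba.trans (Nat.gcd_dvd_right _ _)
  obtain ⟨m, hm⟩ := hbi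
  have hbez := Nat.gcd_eq_gcd_ab N j
  rw [← hb] at hbez
  rw [Subgroup.mem_zpowers_iff]
  refine ⟨Nat.gcdB N j * m, ?_⟩
  rw [← zpow_natCast g j, ← zpow_mul]
  have h5 : (j : ℤ) * (Nat.gcdB N j * m) = (i : ℤ) - N * (Nat.gcdA N j * m) := by
    have : (i : ℤ) = b * m := by exact_mod_cast hm
    rw [this, hbez]
    ring
  rw [h5, zpow_sub, zpow_mul, zpow_natCast, zpow_natCast, hN, pow_orderOf_eq_one, one_zpow,
    inv_one, mul_one]

/-- commuting elements with divisible orders -/
theorem mem_zpowers_of_orderOf_dvd [Finite G]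
    (hcyc : ∀ u v : G, u * v = v * u → ∃ g : G, u ∈ Subgroup.zpowers g ∧ v ∈ Subgroup.zpowers g)
    {u v : G} (huv : u * v = v * u) (h : orderOf u ∣ orderOf v) : u ∈ Subgroup.zpowers v := by
  obtain ⟨g, hu, hv⟩ := hcyc u v huv
  rw [← mem_powers_iff_mem_zpowers, Submonoid.mem_powers_iff] at hu hv
  obtain ⟨i, rfl⟩ := hu
  obtain ⟨j, rfl⟩ := hv
  exact pow_mem_zpowers_pow g i j h

theorem comm_of_mem_zpowers {u v : G} (h : u ∈ Subgroup.zpowers v) : u * v = v * u := by
  rw [Subgroup.mem_zpowers_iff] at h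
  obtain ⟨k, rfl⟩ := h
  exact ((Commute.refl v).zpow_left k).eq

theorem comm_of_mem_zpowers_pow {u v : G} {n : ℕ} (h : u ∈ Subgroup.zpowers (v ^ n)) :
    u * v = v * u := by
  rw [Subgroup.mem_zpowers_iff] at h
  obtain ⟨k, rfl⟩ := h
  exact (((Commute.refl v).pow_left n).zpow_left k).eq

theorem prime_pow_order [Finite G] (hcl : Class2 G) {x y : G} {r : ℕ} (hr : r.Prime)
    (hoc : orderOf ⁅x, y⁆ = r) (hA : ∀ d : ℕ, d.Prime → d ∣ orderOf x → ⁅x, y⁆ ^ d = 1)
    (hx1 : orderOf x ≠ 1) : ∃ a, 1 ≤ a ∧ orderOf x = r ^ a := by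
  have h1 : ∀ {d : ℕ}, d.Prime → d ∣ orderOf x → d = r := by
    intro d hd hdvd
    have h2 := orderOf_dvd_of_pow_eq_one (hA d hd hdvd)
    rw [hoc] at h2
    exact ((Nat.prime_dvd_prime_iff_eq hr hd).mp h2).symm
  have h3 := Nat.eq_prime_pow_of_unique_prime_dvd (orderOf_pos x).ne' h1
  refine ⟨_, ?_, h3⟩
  by_contra hcon
  push Not at hcon
  have : (orderOf x).primeFactorsList.length = 0 := by omega
  rw [this, pow_zero] at h3
  exact hx1 h3

theorem exists_quat_pair [Finite G] (hcl : Class2 G)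
    (hcyc : ∀ u v : G, u * v = v * u → ∃ g : G, u ∈ Subgroup.zpowers g ∧ v ∈ Subgroup.zpowers g)
    (hinv : ∀ t t' : G, t * t = 1 → t ≠ 1 → t' * t' = 1 → t' ≠ 1 → t = t')
    (hna : ∃ u v : G, u * v ≠ v * u) :
    ∃ x y z : G, z ≠ 1 ∧ z * z = 1 ∧ x * x = z ∧ y * y = z ∧ x * y = z * (y * x) := by
  classical
  have hex : ∃ n : ℕ, ∃ u v : G, u * v ≠ v * u ∧ orderOf u + orderOf v = n := by
    obtain ⟨u, v, h⟩ := hna
    exact ⟨_, u, v, h, rfl⟩
  obtain ⟨x, y, hxy, hsum⟩ := Nat.find_spec hex
  have hmin : ∀ u v : G, u * v ≠ v * u → orderOf x + orderOf y ≤ orderOf u + orderOf v := by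
    intro u v huv
    rw [hsum]
    exact Nat.find_min' hex ⟨u, v, huv, rfl⟩
  set c := ⁅x, y⁆ with hc
  have hc1 : c ≠ 1 := fun h => hxy (commutatorElement_eq_one_iff_mul_comm.mp h)
  have hcc : ∀ w : G, c * w = w * c := fun w => hcl x y w
  -- Claim A
  have hAx : ∀ d : ℕ, d.Prime → d ∣ orderOf x → c ^ d = 1 := by
    intro d hd hdvd
    have ho : orderOf (x ^ d) = orderOf x / d := orderOf_pow_of_dvd hd.ne_zero hdvd
    have hlt : orderOf (x ^ d) < orderOf x := by
      rw [ho]; exact Nat.div_lt_self (orderOf_pos x) hd.one_lt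
    have hcomm : x ^ d * y = y * x ^ d := by
      by_contra hne
      have := hmin _ _ hne
      omega
    rw [hc, ← comm_pow_left hcl]
    exact commutatorElement_eq_one_iff_mul_comm.mpr hcomm
  have hAy : ∀ d : ℕ, d.Prime → d ∣ orderOf y → c ^ d = 1 := by
    intro d hd hdvd
    have ho : orderOf (y ^ d) = orderOf y / d := orderOf_pow_of_dvd hd.ne_zero hdvd
    have hlt : orderOf (y ^ d) < orderOf y := by
      rw [ho]; exact Nat.div_lt_self (orderOf_pos y) hd.one_lt
    have hcomm : x * y ^ d = y ^ d * x := by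
      by_contra hne
      have := hmin _ _ hne
      omega
    rw [hc, ← comm_pow_right hcl]
    exact commutatorElement_eq_one_iff_mul_comm.mpr hcomm
  have hx1 : orderOf x ≠ 1 := by
    intro h
    rw [orderOf_eq_one_iff] at h
    apply hxy
    rw [h, one_mul, mul_one]
  have hy1 : orderOf y ≠ 1 := by
    intro h
    rw [orderOf_eq_one_iff] at h
    apply hxy
    rw [h, one_mul, mul_one]
  set r := (orderOf x).minFac with hrdef
  have hr : r.Prime := Nat.minFac_prime hx1
  have hcr : c ^ r = 1 := hAx r hr (Nat.minFac_dvd _)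
  have hoc : orderOf c = r := by
    have : Fact r.Prime := ⟨hr⟩
    exact orderOf_eq_prime hcr hc1
  obtain ⟨a, ha1, hoa⟩ := prime_pow_order hcl hr hoc hAx hx1
  have hAy' : ∀ d : ℕ, d.Prime → d ∣ orderOf y → ⁅y, x⁆ ^ d = 1 := by
    intro d hd hdvd
    rw [← commutatorElement_inv, inv_pow, hAy d hd hdvd, inv_one]
  have hoc' : orderOf ⁅y, x⁆ = r := by
    rw [← commutatorElement_inv, orderOf_inv]
    exact hoc
  obtain ⟨b, hb1, hob⟩ := prime_pow_order hcl hr hoc' hAy' hy1
  have hxr : x ^ r * y = y * x ^ r := by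
    apply commutatorElement_eq_one_iff_mul_comm.mp
    rw [comm_pow_left hcl]
    exact hcr
  have hyr : x * y ^ r = y ^ r * x := by
    apply commutatorElement_eq_one_iff_mul_comm.mp
    rw [comm_pow_right hcl]
    exact hcr
  have hoxr : orderOf (x ^ r) = r ^ (a - 1) := by
    rw [orderOf_pow_of_dvd hr.ne_zero (by rw [hoa]; exact dvd_pow_self r (by omega)), hoa]
    obtain ⟨a', rfl⟩ : ∃ a', a = a' + 1 := ⟨a - 1, by omega⟩
    rw [pow_succ, Nat.mul_div_cancel _ hr.pos, Nat.add_sub_cancel]
  have hoyr : orderOf (y ^ r) = r ^ (b - 1) := by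
    rw [orderOf_pow_of_dvd hr.ne_zero (by rw [hob]; exact dvd_pow_self r (by omega)), hob]
    obtain ⟨b', rfl⟩ : ∃ b', b = b' + 1 := ⟨b - 1, by omega⟩
    rw [pow_succ, Nat.mul_div_cancel _ hr.pos, Nat.add_sub_cancel]
  -- a = b
  have hab : a = b := by
    rcases Nat.lt_trichotomy a b with h | h | h
    · exfalso
      have hd : orderOf x ∣ orderOf (y ^ r) := by
        rw [hoa, hoyr]; exact pow_dvd_pow r (by omega)
      have := mem_zpowers_of_orderOf_dvd hcyc hyr hd
      exact hxy (comm_of_mem_zpowers_pow this)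
    · exact h
    · exfalso
      have hd : orderOf y ∣ orderOf (x ^ r) := by
        rw [hob, hoxr]; exact pow_dvd_pow r (by omega)
      have := mem_zpowers_of_orderOf_dvd hcyc hxr.symm hd
      exact hxy (comm_of_mem_zpowers_pow this).symm
  subst hab
  -- y ^ r ∈ zpowers (x ^ r)
  have hyrxr : y ^ r * x ^ r = x ^ r * y ^ r := by
    have := (Commute.pow_right (show Commute (x ^ r) y from hxr) r).eq
    exact this.symm
  have hmem : y ^ r ∈ Subgroup.zpowers (x ^ r) :=
    mem_zpowers_of_orderOf_dvd hcyc hyrxr (by rw [hoxr, hoyr])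
  rw [Subgroup.mem_zpowers_iff] at hmem
  obtain ⟨k, hk⟩ := hmem
  set g := (x ^ k)⁻¹ with hg
  have hgx : g * x = x * g := by
    have : Commute (x ^ k) x := (Commute.refl x).zpow_left k
    exact this.inv_left.eq
  have hgr : g ^ r * y ^ r = 1 := by
    rw [hg, inv_pow, ← zpow_natCast (x ^ k) r, ← zpow_mul, mul_comm, zpow_mul, zpow_natCast, hk,
      inv_mul_cancel]
  set u := g * y with hu
  set k' := ⁅y, g⁆ with hk'
  have hur : u ^ r = k' ^ (∑ i ∈ Finset.range r, i) := by
    rw [hu, mul_pow_class2 hcl, hgr, one_mul]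
  have hk'r : k' ^ r = 1 := by
    rw [hk', ← comm_pow_left hcl]
    apply commutatorElement_eq_one_iff_mul_comm.mpr
    rw [← hk, hg]
    have h1 : Commute ((x ^ r) ^ k) (x ^ k) :=
      (((Commute.refl x).pow_left r).zpow_left k).zpow_right k
    exact h1.inv_right.eq
  have hux : u * x ≠ x * u := by
    intro h
    apply hxy
    have h1 : g * (y * x) = g * (x * y) := by
      calc g * (y * x) = u * x := by rw [hu, mul_assoc]
        _ = x * u := h
        _ = x * g * y := by rw [hu, mul_assoc]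
        _ = g * x * y := by rw [hgx]
        _ = g * (x * y) := by rw [mul_assoc]
    exact (mul_left_cancel h1).symm
  have hu1 : u ≠ 1 := by
    intro h
    apply hux
    rw [h, one_mul, mul_one]
  have hcentral_pow : ∀ (m : ℤ) (w : G), c ^ m * w = w * c ^ m := by
    intro m w
    have : Commute c w := hcc w
    exact (this.zpow_left m).eq
  by_cases hr2 : r = 2
  · -- the quaternion case
    have hsum2 : ∑ i ∈ Finset.range r, i = 1 := by rw [hr2]; decide
    rw [hsum2, pow_one] at hur
    rw [hr2] at hur hk'r hcr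
    have hcsq : c * c = 1 := by rw [← pow_two]; exact hcr
    have hk'sq : k' * k' = 1 := by rw [← pow_two]; exact hk'r
    have huu : u * u = k' := by rw [← pow_two]; exact hur
    have hk'1 : k' ≠ 1 := by
      intro h
      rw [h] at huu
      have := hinv u c huu hu1 hcsq hc1
      apply hux
      rw [this]
      exact hcc x
    have hk'c : k' = c := hinv k' c hk'sq hk'1 hcsq hc1
    rw [hk'c] at huu
    -- order of u is 4
    have hou : orderOf u = 4 := by
      have : Fact (Nat.Prime 2) := ⟨Nat.prime_two⟩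
      have h1 : ¬ u ^ 2 ^ 1 = 1 := by
        rw [pow_one, pow_two, huu]; exact hc1
      have h2 : u ^ 2 ^ (1 + 1) = 1 := by
        have : u ^ 2 ^ (1 + 1) = (u * u) * (u * u) := by
          norm_num [pow_succ, mul_assoc]
        rw [this, huu, hcsq]
      have := orderOf_eq_prime_pow h1 h2
      rw [this]; norm_num
    have hle := hmin x u (fun h => hux h.symm)
    rw [hou, hob, hr2] at hle
    rw [hr2] at hoa hob
    have ha2 : a ≤ 2 := by
      by_contra hcon
      push Not at hcon
      have : 2 ^ 3 ≤ 2 ^ a := Nat.pow_le_pow_right (by norm_num) hcon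
      omega
    have ha2' : a = 2 := by
      rcases Nat.lt_or_ge a 2 with h | h
      · exfalso
        have ha : a = 1 := by omega
        rw [ha, pow_one] at hoa
        have hxx : x * x = 1 := by
          rw [← pow_two, ← hoa]; exact pow_orderOf_eq_one x
        have hx1' : x ≠ 1 := by
          intro h; rw [h, orderOf_one] at hoa; omega
        have := hinv x c hxx hx1' hcsq hc1
        apply hxy
        rw [this]
        exact hcc y
      · omega
    rw [ha2'] at hoa hob
    have hsq : ∀ w : G, orderOf w = 2 ^ 2 → w * w = c := by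
      intro w hw
      have h4 : w ^ 4 = 1 := by
        have := pow_orderOf_eq_one w
        rw [hw] at this
        norm_num at this
        exact this
      have h1 : (w * w) * (w * w) = 1 := by
        rw [← h4]; simp only [pow_succ, pow_zero, one_mul, mul_assoc]
      have h2 : w * w ≠ 1 := by
        intro h
        have : orderOf w ∣ 2 := orderOf_dvd_of_pow_eq_one (by rw [pow_two]; exact h)
        rw [hw] at this
        norm_num at this
      exact hinv _ _ h1 h2 hcsq hc1
    refine ⟨x, y, c, hc1, hcsq, hsq x hoa, hsq y hob, ?_⟩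
    rw [hc, commutatorElement_def]
    group
  · -- odd case: contradiction
    exfalso
    have hodd : r ∣ ∑ i ∈ Finset.range r, i := by
      have h1 := Finset.sum_range_id_mul_two r
      have h2 : r ∣ (∑ i ∈ Finset.range r, i) * 2 := by
        rw [h1]; exact dvd_mul_right _ _
      exact (Nat.Coprime.dvd_of_dvd_mul_right
        ((Nat.coprime_primes hr Nat.prime_two).mpr hr2) h2)
    obtain ⟨m, hm⟩ := hodd
    rw [hm, pow_mul, hk'r, one_pow] at hur
    have hou : orderOf u = r := by
      have : Fact r.Prime := ⟨hr⟩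
      exact orderOf_eq_prime hur hu1
    have h3 := mem_zpowers_of_orderOf_dvd hcyc (hcc u).symm (by rw [hou, hoc])
    rw [Subgroup.mem_zpowers_iff] at h3
    obtain ⟨m', hm'⟩ := h3
    apply hux
    rw [← hm']
    exact hcentral_pow m' x

/-- membership in the quaternion group generated by a quaternion pair -/
def InQ (x y z m : G) : Prop :=
  m = 1 ∨ m = z ∨ m = x ∨ m = z * x ∨ m = y ∨ m = z * y ∨ m = x * y ∨ m = z * (x * y)

section pair

variable {x y z : G} (hz1 : z ≠ 1) (hzz : z * z = 1) (hxx : x * x = z) (hyy : y * y = z)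
  (hxy : x * y = z * (y * x)) (hzc : ∀ w : G, z * w = w * z)

include hzz hxy in
theorem yx_eq : y * x = z * (x * y) := by
  rw [hxy, ← mul_assoc, hzz, one_mul]

include hz1 hxy in
theorem xy_ne : x * y ≠ y * x := by
  intro h
  apply hz1
  have : z * (y * x) = 1 * (y * x) := by rw [one_mul, ← hxy, h]
  exact mul_right_cancel this

include hzz hxx hzc in
theorem x_inv : x⁻¹ = z * x := by
  rw [inv_eq_iff_mul_eq_one, hzc x, ← mul_assoc, hxx, hzz]

include hzz hxx hyy hxy hzc in
theorem xy_sq : (x * y) * (x * y) = z := by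
  have h1 := yx_eq hzz hxy
  calc x * y * (x * y) = x * (y * x) * y := by simp only [mul_assoc]
    _ = x * (z * (x * y)) * y := by rw [h1]
    _ = z * ((x * x) * (y * y)) := by
        rw [← mul_assoc x z, ← hzc x]; simp only [mul_assoc]
    _ = z := by rw [hxx, hyy, hzz, mul_one]

include hzz hxx hyy hxy hzc in
theorem xy_inv : (x * y)⁻¹ = z * (x * y) := by
  rw [inv_eq_iff_mul_eq_one, hzc (x * y), ← mul_assoc, xy_sq hzz hxx hyy hxy hzc, hzz]

include hz1 hzz hxx hxy hzc in
/-- an element of order dividing four commuting with `x` and `y` is `1` or `z` -/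
theorem central_four (hinv : ∀ t t' : G, t * t = 1 → t ≠ 1 → t' * t' = 1 → t' ≠ 1 → t = t')
    {r : G} (hrx : r * x = x * r) (hry : r * y = y * r) (hr4 : (r * r) * (r * r) = 1) :
    r = 1 ∨ r = z := by
  by_cases h1 : r * r = 1
  · by_cases h2 : r = 1
    · exact Or.inl h2
    · exact Or.inr (hinv r z h1 h2 hzz hz1)
  · exfalso
    have h2 : r * r = z := hinv _ _ hr4 h1 hzz hz1
    have h3 : (r * x) * (r * x) = 1 := by
      calc r * x * (r * x) = r * (x * r) * x := by simp only [mul_assoc]
        _ = r * (r * x) * x := by rw [hrx]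
        _ = (r * r) * (x * x) := by simp only [mul_assoc]
        _ = 1 := by rw [h2, hxx, hzz]
    have h4 : r * x = 1 ∨ r * x = z := by
      by_cases h5 : r * x = 1
      · exact Or.inl h5
      · exact Or.inr (hinv _ _ h3 h5 hzz hz1)
    apply xy_ne hz1 hxy
    -- x commutes with y since x = r⁻¹ or x = r⁻¹ z
    have hry' : r⁻¹ * y = y * r⁻¹ := by
      have : Commute r y := hry
      exact this.inv_left.eq
    rcases h4 with h4 | h4
    · have hx : x = r⁻¹ := by
        rw [eq_inv_iff_mul_eq_one, ← h4]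
        have : Commute r x := hrx
        exact this.eq.symm
      rw [hx]; exact hry'
    · have hx : x = r⁻¹ * z := by
        rw [← h4]; group
      rw [hx, mul_assoc, hzc, ← mul_assoc, hry', mul_assoc]

include hz1 hzz hxx hyy hxy hzc in
/-- every element of order dividing four lies in the quaternion group of the pair -/
theorem inQ_of_pow_four (hcl : Class2 G)
    (hinv : ∀ t t' : G, t * t = 1 → t ≠ 1 → t' * t' = 1 → t' ≠ 1 → t = t')
    {m : G} (hm4 : (m * m) * (m * m) = 1) : InQ x y z m := by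
  have hyx := yx_eq hzz hxy
  have hcx : ⁅x, y⁆ = z := by
    rw [commutatorElement_def, hxy]; group
  have hcy : ⁅y, x⁆ = z := by
    rw [commutatorElement_def, hyx]; group
  -- commutators with x and y square to one
  have hsq : ∀ w : G, w * w = z → ⁅m, w⁆ = 1 ∨ ⁅m, w⁆ = z := by
    intro w hw
    have h1 : ⁅m, w⁆ * ⁅m, w⁆ = 1 := by
      rw [← pow_two, ← comm_pow_right hcl, pow_two, hw]
      exact commutatorElement_eq_one_iff_mul_comm.mpr (hzc m).symm
    by_cases h2 : ⁅m, w⁆ = 1
    · exact Or.inl h2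
    · exact Or.inr (hinv _ _ h1 h2 hzz hz1)
  -- find q
  obtain ⟨q, hq, hqx, hqy⟩ : ∃ q : G, (q = 1 ∨ q = y ∨ q = x ∨ q = x * y) ∧
      ⁅m * q, x⁆ = 1 ∧ ⁅m * q, y⁆ = 1 := by
    have hxx1 : ⁅x, x⁆ = 1 := commutatorElement_self x
    have hyy1 : ⁅y, y⁆ = 1 := commutatorElement_self y
    rcases hsq x hxx with hε | hε <;> rcases hsq y hyy with hδ | hδ
    · exact ⟨1, Or.inl rfl, by rw [mul_one]; exact hε, by rw [mul_one]; exact hδ⟩
    · refine ⟨x, Or.inr (Or.inr (Or.inl rfl)), ?_, ?_⟩
      · rw [comm_mul_left hcl, hε, hxx1, one_mul]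
      · rw [comm_mul_left hcl, hδ, hcx, hzz]
    · refine ⟨y, Or.inr (Or.inl rfl), ?_, ?_⟩
      · rw [comm_mul_left hcl, hε, hcy, hzz]
      · rw [comm_mul_left hcl, hδ, hyy1, one_mul]
    · refine ⟨x * y, Or.inr (Or.inr (Or.inr rfl)), ?_, ?_⟩
      · rw [comm_mul_left hcl, comm_mul_left hcl, hε, hxx1, hcy, one_mul, hzz]
      · rw [comm_mul_left hcl, comm_mul_left hcl, hδ, hcx, hyy1, mul_one, hzz]
  set r := m * q with hr
  have hrx : r * x = x * r := commutatorElement_eq_one_iff_mul_comm.mp hqx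
  have hry : r * y = y * r := commutatorElement_eq_one_iff_mul_comm.mp hqy
  have hq4 : q ^ 4 = 1 := by
    have hx4 : x ^ 4 = 1 := by
      have : x ^ 4 = (x * x) * (x * x) := by simp only [pow_succ, pow_zero, one_mul, mul_assoc]
      rw [this, hxx, hzz]
    have hy4 : y ^ 4 = 1 := by
      have : y ^ 4 = (y * y) * (y * y) := by simp only [pow_succ, pow_zero, one_mul, mul_assoc]
      rw [this, hyy, hzz]
    have hxy4 : (x * y) ^ 4 = 1 := by
      have : (x * y) ^ 4 = ((x * y) * (x * y)) * ((x * y) * (x * y)) := by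
        simp only [pow_succ, pow_zero, one_mul, mul_assoc]
      rw [this, xy_sq hzz hxx hyy hxy hzc, hzz]
    rcases hq with rfl | rfl | rfl | rfl
    · exact one_pow 4
    · exact hy4
    · exact hx4
    · exact hxy4
  have hrq : Commute r q := by
    have hcx' : Commute r x := hrx
    have hcy' : Commute r y := hry
    rcases hq with h | h | h | h
    · rw [h]; exact Commute.one_right r
    · rw [h]; exact hcy'
    · rw [h]; exact hcx'
    · rw [h]; exact hcx'.mul_right hcy'
  have hm : m = r * q⁻¹ := by rw [hr]; group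
  have hm4' : m ^ 4 = 1 := by
    have : m ^ 4 = (m * m) * (m * m) := by simp only [pow_succ, pow_zero, one_mul, mul_assoc]
    rw [this, hm4]
  have hr4 : (r * r) * (r * r) = 1 := by
    have h1 : r ^ 4 = 1 := by
      have h2 : (r * q⁻¹) ^ 4 = r ^ 4 * q⁻¹ ^ 4 := (hrq.inv_right).mul_pow 4
      rw [← hm, hm4', inv_pow, hq4, inv_one, mul_one] at h2
      exact h2.symm
    have : r ^ 4 = (r * r) * (r * r) := by simp only [pow_succ, pow_zero, one_mul, mul_assoc]
    rw [← this, h1]
  have hr' := central_four hz1 hzz hxx hxy hzc hinv hrx hry hr4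
  have hxi := x_inv hzz hxx hzc
  have hyi : y⁻¹ = z * y := x_inv hzz hyy hzc
  have hxyi := xy_inv hzz hxx hyy hxy hzc
  unfold InQ
  rcases hr' with h | h <;> rcases hq with h' | h' | h' | h'
  · left; rw [hm, h, h', inv_one, mul_one]
  · right; right; right; right; right; left; rw [hm, h, h', one_mul, hyi]
  · right; right; right; left; rw [hm, h, h', one_mul, hxi]
  · right; right; right; right; right; right; right; rw [hm, h, h', one_mul, hxyi]
  · right; left; rw [hm, h, h', inv_one, mul_one]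
  · right; right; right; right; left; rw [hm, h, h', hyi, ← mul_assoc, hzz, one_mul]
  · right; right; left; rw [hm, h, h', hxi, ← mul_assoc, hzz, one_mul]
  · right; right; right; right; right; right; left
    rw [hm, h, h', hxyi, ← mul_assoc, hzz, one_mul]

end pair

end Cfsg.Agent.Helper12.QuatPair
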