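import Mathlib
import Cfsg.Agent.Lib.Helper12.QuatPair

set_option autoImplicit false
set_option linter.unusedSectionVars false

/-! The index of the centralizer of a normalised quaternion pair. -/

namespace Cfsg.Agent.Helper12.QuatIndex

open Cfsg.Agent.Helper12.QuatPair

variable {Γ : Type*} [Group Γ]

/-- an index bound from a map separating cosets -/
theorem relIndex_le_card [Finite Γ] (K L : Subgroup Γ) {α : Type*} [Finite α] (f : Γ → α)
    (h : ∀ g ∈ L, ∀ g' ∈ L, f g = f g' → g⁻¹ * g' ∈ K) : K.relIndex L ≤ Nat.card α := by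
  rw [Subgroup.relIndex, Subgroup.index]
  let F : (L ⧸ K.subgroupOf L) → α := fun q => f (q.out : L).1
  apply Nat.card_le_card_of_injective F
  intro q q' hqq'
  have h1 := h _ (q.out : L).2 _ (q'.out : L).2 hqq'
  have h2 : (q.out : L)⁻¹ * (q'.out : L) ∈ K.subgroupOf L := by
    rw [Subgroup.mem_subgroupOf]
    exact h1
  have h3 : (QuotientGroup.mk (q.out : L) : L ⧸ K.subgroupOf L) = QuotientGroup.mk (q'.out : L) :=
    QuotientGroup.eq.mpr h2
  rw [QuotientGroup.out_eq', QuotientGroup.out_eq'] at h3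
  exact h3

theorem relIndex_pos [Finite Γ] (K L : Subgroup Γ) : 1 ≤ K.relIndex L := by
  rw [Nat.one_le_iff_ne_zero, Subgroup.relIndex]
  exact Subgroup.index_ne_zero_of_finite

/-- conjugation -/
def cj (g w : Γ) : Γ := g * w * g⁻¹

theorem cj_mul (g g' w : Γ) : cj (g * g') w = cj g (cj g' w) := by
  unfold cj; group

theorem cj_one (w : Γ) : cj 1 w = w := by
  unfold cj; group

theorem cj_inv_cj (g w : Γ) : cj g⁻¹ (cj g w) = w := by
  unfold cj; group

theorem cj_prod (g w w' : Γ) : cj g (w * w') = cj g w * cj g w' := by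
  unfold cj; group

section pair

variable {x y z : Γ} (hz1 : z ≠ 1) (hzz : z * z = 1) (hxx : x * x = z) (hyy : y * y = z)
  (hxy : x * y = z * (y * x)) (hzc : ∀ w : Γ, z * w = w * z)

/-- a sign: `1` or `z` -/
def Sgn (z e : Γ) : Prop := e = 1 ∨ e = z

include hzc in
theorem sgn_central {e : Γ} (he : Sgn z e) (w : Γ) : e * w = w * e := by
  rcases he with h | h
  · rw [h, one_mul, mul_one]
  · rw [h]; exact hzc w

include hzz in
theorem sgn_sq {e : Γ} (he : Sgn z e) : e * e = 1 := by
  rcases he with h | h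
  · rw [h]; exact one_mul 1
  · rw [h]; exact hzz

include hzz in
theorem sgn_mul {e e' : Γ} (he : Sgn z e) (he' : Sgn z e') : Sgn z (e * e') := by
  rcases he with h | h <;> rcases he' with h' | h'
  · left; rw [h, h']; exact one_mul 1
  · right; rw [h, h']; exact one_mul z
  · right; rw [h, h']; exact mul_one z
  · left; rw [h, h']; exact hzz

include hzc in
theorem cj_sgn {e : Γ} (he : Sgn z e) (g w : Γ) : cj g (e * w) = e * cj g w := by
  unfold cj
  rw [← mul_assoc, ← sgn_central hzc he g, mul_assoc, mul_assoc, mul_assoc]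

/-- `u` lies on the axis of `w` -/
def Ax (z w u : Γ) : Prop := ∃ e, Sgn z e ∧ u = e * w

include hzz hzc in
/-- the key coset computation -/
theorem cj_inv_mul {t w e e' g g' : Γ} (he : Sgn z e) (he' : Sgn z e')
    (h : cj g t = e * w) (h' : cj g' t = e' * w) : cj (g⁻¹ * g') t = (e' * e) * t := by
  have h1 : cj g⁻¹ w = e * t := by
    have h2 : cj g⁻¹ (cj g t) = t := cj_inv_cj g t
    rw [h, cj_sgn hzc he] at h2
    calc cj g⁻¹ w = (e * e) * cj g⁻¹ w := by rw [sgn_sq hzz he, one_mul]
      _ = e * (e * cj g⁻¹ w) := by rw [mul_assoc]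
      _ = e * t := by rw [h2]
  rw [cj_mul, h', cj_sgn hzc he', h1, mul_assoc]

/-- the axis normaliser -/
def axisN (z w : Γ) (hzz : z * z = 1) (hzc : ∀ w : Γ, z * w = w * z) : Subgroup Γ where
  carrier := {g | Ax z w (cj g w)}
  one_mem' := ⟨1, Or.inl rfl, by rw [cj_one, one_mul]⟩
  mul_mem' := by
    rintro g g' ⟨e, he, h⟩ ⟨e', he', h'⟩
    refine ⟨e' * e, sgn_mul hzz he' he, ?_⟩
    rw [cj_mul, h', cj_sgn hzc he', h, mul_assoc]
  inv_mem' := by
    rintro g ⟨e, he, h⟩
    have h1 : cj 1 w = (1 : Γ) * w := by rw [cj_one, one_mul]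
    have h2 := cj_inv_mul hzz hzc he (Or.inl rfl) h h1
    rw [mul_one, one_mul] at h2
    exact ⟨e, he, h2⟩

theorem mem_axisN {w g : Γ} : g ∈ axisN z w hzz hzc ↔ Ax z w (cj g w) := Iff.rfl

/-- the centraliser of an element, via conjugation -/
def cen (w : Γ) : Subgroup Γ where
  carrier := {g | cj g w = w}
  one_mem' := cj_one w
  mul_mem' := by
    intro g g' h h'
    change cj (g * g') w = w
    rw [cj_mul, h', h]
  inv_mem' := by
    intro g h
    change cj g⁻¹ w = w
    have := cj_inv_cj g w
    rw [h] at this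
    exact this

theorem mem_cen {w g : Γ} : g ∈ cen w ↔ cj g w = w := Iff.rfl

theorem mem_cen_iff {w g : Γ} : g ∈ cen w ↔ g * w = w * g := by
  rw [mem_cen]
  unfold cj
  constructor
  · intro h
    have := congrArg (fun t => t * g) h
    simpa using this
  · intro h
    rw [h]; group

theorem cen_le_axisN (w : Γ) : cen w ≤ axisN z w hzz hzc := by
  intro g hg
  exact ⟨1, Or.inl rfl, by rw [mem_cen.mp hg, one_mul]⟩

include hzz hzc in
theorem same_axis {t w g g' : Γ} (h : Ax z w (cj g t)) (h' : Ax z w (cj g' t)) :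
    g⁻¹ * g' ∈ axisN z t hzz hzc := by
  obtain ⟨e, he, h⟩ := h
  obtain ⟨e', he', h'⟩ := h'
  exact ⟨e' * e, sgn_mul hzz he' he, cj_inv_mul hzz hzc he he' h h'⟩

include hzz hzc in
theorem same_sign {t g g' : Γ} (hg : g ∈ axisN z t hzz hzc) (hg' : g' ∈ axisN z t hzz hzc)
    (h : cj g t = t ↔ cj g' t = t) (hz1 : z ≠ 1) : g⁻¹ * g' ∈ cen t := by
  obtain ⟨e, he, hge⟩ := hg
  obtain ⟨e', he', hge'⟩ := hg'
  have key := cj_inv_mul hzz hzc he he' hge hge'
  rw [mem_cen, key]
  have h1 : ∀ {e₀ : Γ} {g₀ : Γ}, Sgn z e₀ → cj g₀ t = e₀ * t → (cj g₀ t = t ↔ e₀ = 1) := by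
    intro e₀ g₀ _ h0
    rw [h0]
    constructor
    · intro h2
      have : e₀ * t = 1 * t := by rw [one_mul]; exact h2
      exact mul_right_cancel this
    · intro h2
      rw [h2, one_mul]
  have h2 : e = 1 ↔ e' = 1 := by
    rw [← h1 he hge, ← h1 he' hge']
    exact h
  have h3 : e' * e = 1 := by
    rcases he with h4 | h4
    · rw [h4, h2.mp h4, one_mul]
    · rcases he' with h5 | h5
      · exfalso
        have := h2.mpr h5
        rw [h4] at this
        exact hz1 this
      · rw [h4, h5, hzz]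
  rw [h3, one_mul]

include hz1 hzz hxx hyy hxy hzc in
/-- conjugates of `x` and `y` lie on one of the three axes -/
theorem axis_cases (hconj : ∀ g w : Γ, (w = x ∨ w = y) → InQ x y z (cj g w)) (g w : Γ)
    (hw : w = x ∨ w = y) :
    Ax z x (cj g w) ∨ Ax z y (cj g w) ∨ Ax z (x * y) (cj g w) := by
  have hsq : cj g w * cj g w = z := by
    rw [← cj_prod]
    have : w * w = z := by
      rcases hw with h | h
      · rw [h]; exact hxx
      · rw [h]; exact hyy
    rw [this]
    unfold cj
    rw [← hzc g, mul_assoc, mul_inv_cancel, mul_one]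
  have h := hconj g w hw
  unfold InQ at h
  rcases h with h | h | h | h | h | h | h | h
  · exfalso
    rw [h, one_mul] at hsq
    exact hz1 hsq.symm
  · exfalso
    rw [h, hzz] at hsq
    exact hz1 hsq.symm
  · exact Or.inl ⟨1, Or.inl rfl, by rw [h, one_mul]⟩
  · exact Or.inl ⟨z, Or.inr rfl, h⟩
  · exact Or.inr (Or.inl ⟨1, Or.inl rfl, by rw [h, one_mul]⟩)
  · exact Or.inr (Or.inl ⟨z, Or.inr rfl, h⟩)
  · exact Or.inr (Or.inr ⟨1, Or.inl rfl, by rw [h, one_mul]⟩)
  · exact Or.inr (Or.inr ⟨z, Or.inr rfl, h⟩)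

include hz1 hzz hxx hxy hzc in
/-- an element centralising `x` cannot send `y` to the axis of `x` -/
theorem not_ax_x {g : Γ} (hg : g ∈ cen (x : Γ)) : ¬ Ax z x (cj g y) := by
  rintro ⟨e, he, h⟩
  have h1 : cj g (x * y) = cj g (z * (y * x)) := by rw [hxy]
  rw [cj_prod, cj_sgn hzc (Or.inr rfl), cj_prod, mem_cen.mp hg, h] at h1
  -- x * (e * x) = z * (e * x * x)
  have h2 : x * (e * x) = e * x * x := by
    rw [← mul_assoc, ← sgn_central hzc he x]
  rw [h2] at h1
  have h3 : (1 : Γ) * (e * x * x) = z * (e * x * x) := by rw [one_mul]; exact h1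
  exact hz1 (mul_right_cancel h3).symm

include hz1 hzz hxx hyy hxy hzc in
/-- the index of the centraliser of a normalised quaternion pair is a product of four small
numbers -/
theorem index_cen [Finite Γ] (hconj : ∀ g w : Γ, (w = x ∨ w = y) → InQ x y z (cj g w)) :
    ∃ i₁ i₂ i₃ i₄ : ℕ, 1 ≤ i₁ ∧ i₁ ≤ 3 ∧ 1 ≤ i₂ ∧ i₂ ≤ 2 ∧ 1 ≤ i₃ ∧ i₃ ≤ 2 ∧ 1 ≤ i₄ ∧ i₄ ≤ 2 ∧
      (cen x ⊓ cen y : Subgroup Γ).index = i₁ * i₂ * i₃ * i₄ := by
  classical
  set K₁ := axisN z x hzz hzc with hK₁
  set K₂ : Subgroup Γ := cen x with hK₂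
  set K₃ : Subgroup Γ := cen x ⊓ axisN z y hzz hzc with hK₃
  set K₄ : Subgroup Γ := cen x ⊓ cen y with hK₄
  have h21 : K₂ ≤ K₁ := cen_le_axisN hzz hzc x
  have h32 : K₃ ≤ K₂ := inf_le_left
  have h43 : K₄ ≤ K₃ := inf_le_inf_left _ (cen_le_axisN hzz hzc y)
  -- (a)
  have ha : K₁.relIndex ⊤ ≤ 3 := by
    let f : Γ → Fin 3 := fun g =>
      if Ax z x (cj g x) then 0 else if Ax z y (cj g x) then 1 else 2
    have := relIndex_le_card K₁ ⊤ f (by
      intro g _ g' _ hff
      by_cases h1 : Ax z x (cj g x)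
      · by_cases h1' : Ax z x (cj g' x)
        · exact same_axis hzz hzc h1 h1'
        · exfalso
          simp only [f, if_pos h1, if_neg h1'] at hff
          split_ifs at hff <;> exact absurd hff (by decide)
      · by_cases h2 : Ax z y (cj g x)
        · by_cases h1' : Ax z x (cj g' x)
          · exfalso
            simp only [f, if_neg h1, if_pos h2, if_pos h1'] at hff
            exact absurd hff (by decide)
          · by_cases h2' : Ax z y (cj g' x)
            · exact same_axis hzz hzc h2 h2'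
            · exfalso
              simp only [f, if_neg h1, if_pos h2, if_neg h1', if_neg h2'] at hff
              exact absurd hff (by decide)
        · by_cases h1' : Ax z x (cj g' x)
          · exfalso
            simp only [f, if_neg h1, if_neg h2, if_pos h1'] at hff
            exact absurd hff (by decide)
          · by_cases h2' : Ax z y (cj g' x)
            · exfalso
              simp only [f, if_neg h1, if_neg h2, if_neg h1', if_pos h2'] at hff
              exact absurd hff (by decide)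
            · have h3 := (axis_cases hz1 hzz hxx hyy hxy hzc hconj g x (Or.inl rfl)).resolve_left h1
                |>.resolve_left h2
              have h3' := (axis_cases hz1 hzz hxx hyy hxy hzc hconj g' x
                (Or.inl rfl)).resolve_left h1' |>.resolve_left h2'
              exact same_axis hzz hzc h3 h3')
    simpa using this
  -- (b)
  have hb : K₂.relIndex K₁ ≤ 2 := by
    let f : Γ → Fin 2 := fun g => if cj g x = x then 0 else 1
    have := relIndex_le_card K₂ K₁ f (by
      intro g hg g' hg' hff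
      apply same_sign hzz hzc hg hg' _ hz1
      by_cases h1 : cj g x = x <;> by_cases h1' : cj g' x = x
      · exact ⟨fun _ => h1', fun _ => h1⟩
      · exfalso
        simp only [f, if_pos h1, if_neg h1'] at hff
        exact absurd hff (by decide)
      · exfalso
        simp only [f, if_neg h1, if_pos h1'] at hff
        exact absurd hff (by decide)
      · exact ⟨fun h => absurd h h1, fun h => absurd h h1'⟩)
    simpa using this
  -- (c)
  have hc : K₃.relIndex K₂ ≤ 2 := by
    let f : Γ → Fin 2 := fun g => if Ax z y (cj g y) then 0 else 1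
    have := relIndex_le_card K₃ K₂ f (by
      intro g hg g' hg' hff
      refine ⟨K₂.mul_mem (K₂.inv_mem hg) hg', ?_⟩
      by_cases h1 : Ax z y (cj g y) <;> by_cases h1' : Ax z y (cj g' y)
      · exact same_axis hzz hzc h1 h1'
      · exfalso
        simp only [f, if_pos h1, if_neg h1'] at hff
        exact absurd hff (by decide)
      · exfalso
        simp only [f, if_neg h1, if_pos h1'] at hff
        exact absurd hff (by decide)
      · have h3 := (axis_cases hz1 hzz hxx hyy hxy hzc hconj g y (Or.inr rfl)).resolve_left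
          (not_ax_x hz1 hzz hxx hxy hzc hg) |>.resolve_left h1
        have h3' := (axis_cases hz1 hzz hxx hyy hxy hzc hconj g' y (Or.inr rfl)).resolve_left
          (not_ax_x hz1 hzz hxx hxy hzc hg') |>.resolve_left h1'
        exact same_axis hzz hzc h3 h3')
    simpa using this
  -- (d)
  have hd : K₄.relIndex K₃ ≤ 2 := by
    let f : Γ → Fin 2 := fun g => if cj g y = y then 0 else 1
    have := relIndex_le_card K₄ K₃ f (by
      intro g hg g' hg' hff
      refine ⟨(cen x).mul_mem ((cen x).inv_mem hg.1) hg'.1, ?_⟩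
      apply same_sign hzz hzc hg.2 hg'.2 _ hz1
      by_cases h1 : cj g y = y <;> by_cases h1' : cj g' y = y
      · exact ⟨fun _ => h1', fun _ => h1⟩
      · exfalso
        simp only [f, if_pos h1, if_neg h1'] at hff
        exact absurd hff (by decide)
      · exfalso
        simp only [f, if_neg h1, if_pos h1'] at hff
        exact absurd hff (by decide)
      · exact ⟨fun h => absurd h h1, fun h => absurd h h1'⟩)
    simpa using this
  refine ⟨K₁.relIndex ⊤, K₂.relIndex K₁, K₃.relIndex K₂, K₄.relIndex K₃,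
    relIndex_pos _ _, ha, relIndex_pos _ _, hb, relIndex_pos _ _, hc, relIndex_pos _ _, hd, ?_⟩
  rw [← Subgroup.relIndex_top_right K₄]
  have e1 := Subgroup.relIndex_mul_relIndex (H := K₄) (K := K₃) (L := K₂) h43 h32
  have e2 := Subgroup.relIndex_mul_relIndex (H := K₄) (K := K₂) (L := K₁) (h43.trans h32) h21
  have e3 := Subgroup.relIndex_mul_relIndex (H := K₄) (K := K₁) (L := ⊤)
    ((h43.trans h32).trans h21) le_top
  rw [← e3, ← e2, ← e1]
  ring

end pair

end Cfsg.Agent.Helper12.QuatIndex
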