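import Mathlib
import Cfsg.Agent.Lib.Helper12.FpfLinear
import Cfsg.Agent.Lib.Helper12.QuatPair
import Cfsg.Agent.Lib.Helper12.QuatIndex
import Cfsg.Agent.S0684
import Cfsg.Agent.S0685

set_option autoImplicit false
set_option linter.unusedSectionVars false

/-! Solvable regular linear groups without irreducible cyclic normal subgroups. -/

namespace Cfsg.Agent.Helper12.NearFieldSolv

open Module Cfsg.Agent.Helper12.FpfLinear Cfsg.Agent.S0684 Cfsg.Agent.Helper12.QuatPair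
  Cfsg.Agent.Helper12.QuatIndex

variable {p : ℕ} [Fact p.Prime] {V : Type*} [AddCommGroup V] [Module (ZMod p) V]

/-- a fixed-point-free involution is `-1` -/
theorem invol_apply (t : V ≃ₗ[ZMod p] V) (htt : t * t = 1) (ht1 : t ≠ 1)
    (hfpf : ∀ v : V, v ≠ 0 → t v = v → t = 1) (v : V) : t v = -v := by
  by_contra hne
  have hw : t v + v ≠ 0 := fun h => hne (eq_neg_of_add_eq_zero_left h)
  apply ht1
  apply hfpf (t v + v) hw
  have h1 : t (t v) = v := by
    have := congrArg (fun f : V ≃ₗ[ZMod p] V => f v) htt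
    simpa using this
  rw [map_add, h1, add_comm]

/-- the elements of `H` act without fixed points -/
theorem fpfH (H : Subgroup (V ≃ₗ[ZMod p] V))
    (hreg : ∀ v w : V, v ≠ 0 → w ≠ 0 → ∃! h : H, (h : V ≃ₗ[ZMod p] V) v = w)
    (h : H) (v : V) (hv : v ≠ 0) (hh : (h : V ≃ₗ[ZMod p] V) v = v) : h = 1 :=
  (hreg v v hv hv).unique (y₁ := h) (y₂ := 1) hh rfl

/-- the closure of two commuting elements is commutative -/
theorem closure_pair_comm {Γ : Type*} [Group Γ] (u v : Γ) (huv : u * v = v * u) :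
    ∀ a ∈ Subgroup.closure ({u, v} : Set Γ), ∀ b ∈ Subgroup.closure ({u, v} : Set Γ),
      a * b = b * a := by
  have h1 : Subgroup.closure ({u, v} : Set Γ) ≤ Subgroup.centralizer ({u, v} : Set Γ) := by
    rw [Subgroup.closure_le]
    intro w hw
    rw [SetLike.mem_coe, Subgroup.mem_centralizer_iff]
    intro t ht
    rcases hw with rfl | rfl <;> rcases ht with rfl | rfl
    · rfl
    · exact huv.symm
    · exact huv
    · rfl
  intro a ha b hb
  have ha' := h1 ha
  rw [Subgroup.mem_centralizer_iff] at ha'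
  have h2 : Subgroup.closure ({u, v} : Set Γ) ≤ Subgroup.centralizer ({a} : Set Γ) := by
    rw [Subgroup.closure_le]
    intro w hw
    rw [SetLike.mem_coe, Subgroup.mem_centralizer_iff]
    intro t ht
    rw [Set.mem_singleton_iff] at ht
    rw [ht]
    exact (ha' w hw).symm
  have hb' := h2 hb
  rw [Subgroup.mem_centralizer_iff] at hb'
  exact hb' a rfl

variable [Finite V]

/-- two commuting elements of `H` are powers of a common element of their closure -/
theorem exists_gen (H : Subgroup (V ≃ₗ[ZMod p] V))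
    (hreg : ∀ v w : V, v ≠ 0 → w ≠ 0 → ∃! h : H, (h : V ≃ₗ[ZMod p] V) v = w)
    (v₀ : V) (hv₀ : v₀ ≠ 0) (u v : H) (huv : u * v = v * u) :
    ∃ g : H, g ∈ Subgroup.closure ({u, v} : Set H) ∧ u ∈ Subgroup.zpowers g ∧
      v ∈ Subgroup.zpowers g := by
  set B : Subgroup H := Subgroup.closure ({u, v} : Set H) with hB
  have hcomm : ∀ a ∈ img H B, ∀ b ∈ img H B, a * b = b * a := by
    rintro _ ⟨a, ha, rfl⟩ _ ⟨b, hb, rfl⟩
    have := closure_pair_comm u v huv a ha b hb
    have h2 := congrArg H.subtype this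
    simpa using h2
  have hfpf := fpf_of_reg H hreg B
  have htop : (⊤ : Submodule (ZMod p) V) ≠ ⊥ := by
    intro h
    have : v₀ ∈ (⊥ : Submodule (ZMod p) V) := by rw [← h]; exact Submodule.mem_top
    exact hv₀ ((Submodule.mem_bot _).mp this)
  obtain ⟨W, -, hW⟩ := exists_minimal (img H B) ⊤ htop (fun _ _ _ _ => Submodule.mem_top)
  have hcyc : IsCyclic (img H B) := cyclic_of_fpf (img H B) W hcomm hfpf hW
  have hcycB : IsCyclic B := cyclic_of_img H B hcyc
  obtain ⟨g, hg⟩ := hcycB.exists_generator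
  refine ⟨g.1, g.2, ?_, ?_⟩
  · have hu : u ∈ B := Subgroup.subset_closure (Set.mem_insert _ _)
    have := hg ⟨u, hu⟩
    rw [Subgroup.mem_zpowers_iff] at this ⊢
    obtain ⟨k, hk⟩ := this
    exact ⟨k, by have := congrArg Subtype.val hk; simpa using this⟩
  · have hv : v ∈ B := Subgroup.subset_closure (Set.mem_insert_of_mem _ rfl)
    have := hg ⟨v, hv⟩
    rw [Subgroup.mem_zpowers_iff] at this ⊢
    obtain ⟨k, hk⟩ := this
    exact ⟨k, by have := congrArg Subtype.val hk; simpa using this⟩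

/-- the eigenspace trick: the centraliser of a quaternion pair acts on a half-dimensional
subspace -/
theorem card_cen_dvd (H : Subgroup (V ≃ₗ[ZMod p] V))
    (hreg : ∀ v w : V, v ≠ 0 → w ≠ 0 → ∃! h : H, (h : V ≃ₗ[ZMod p] V) v = w)
    (hp2 : (2 : ZMod p) ≠ 0) (x y : H)
    (hx : ∀ v, (x : V ≃ₗ[ZMod p] V) ((x : V ≃ₗ[ZMod p] V) v) = -v)
    (hy : ∀ v, (y : V ≃ₗ[ZMod p] V) ((y : V ≃ₗ[ZMod p] V) v) = -v)
    (hxy : ∀ v, (x : V ≃ₗ[ZMod p] V) ((y : V ≃ₗ[ZMod p] V) v) =
      -((y : V ≃ₗ[ZMod p] V) ((x : V ≃ₗ[ZMod p] V) v))) :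
    ∃ e : ℕ, finrank (ZMod p) V = 2 * e ∧
      Nat.card (cen x ⊓ cen y : Subgroup H) ∣ p ^ e - 1 := by
  have : Module.Finite (ZMod p) V := Module.Finite.of_finite
  obtain ⟨a, b, hab⟩ := ZMod.sq_add_sq p (-1)
  set X : V →ₗ[ZMod p] V := ((x : V ≃ₗ[ZMod p] V) : V →ₗ[ZMod p] V) with hX
  set Y : V →ₗ[ZMod p] V := ((y : V ≃ₗ[ZMod p] V) : V →ₗ[ZMod p] V) with hY
  set T : V →ₗ[ZMod p] V := a • X + b • Y with hT
  have hTv : ∀ v, T v = a • (x : V ≃ₗ[ZMod p] V) v + b • (y : V ≃ₗ[ZMod p] V) v := fun v => rfl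
  have hTT : ∀ v, T (T v) = v := by
    intro v
    rw [hTv (T v), hTv v]
    simp only [map_add, map_smul, hx, hy, hxy]
    have key : ∀ u v' : V, a • (a • -v' + b • -u) + b • (a • u + b • -v') =
        (-(a ^ 2 + b ^ 2)) • v' := by
      intro u v'
      module
    rw [key, hab, neg_neg, one_smul]
  set E : Submodule (ZMod p) V := LinearMap.eqLocus T LinearMap.id with hE
  set E' : Submodule (ZMod p) V := LinearMap.eqLocus T (-LinearMap.id) with hE'
  have hmemE : ∀ v, v ∈ E ↔ T v = v := fun v => by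
    rw [hE, LinearMap.mem_eqLocus]; rfl
  have hmemE' : ∀ v, v ∈ E' ↔ T v = -v := fun v => by
    rw [hE', LinearMap.mem_eqLocus]; rfl
  set w : V ≃ₗ[ZMod p] V := (x : V ≃ₗ[ZMod p] V) * (y : V ≃ₗ[ZMod p] V) with hw
  have hwv : ∀ v, w v = (x : V ≃ₗ[ZMod p] V) ((y : V ≃ₗ[ZMod p] V) v) := fun v => rfl
  have hTw : ∀ v, T (w v) = -(w (T v)) := by
    intro v
    rw [hTv (w v), hTv v, hwv, hwv]
    simp only [map_add, map_smul, hx, hy, hxy, map_neg]
    module
  have hmap1 : E.map (w : V →ₗ[ZMod p] V) ≤ E' := by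
    rintro _ ⟨v, hv, rfl⟩
    rw [SetLike.mem_coe, hmemE] at hv
    rw [hmemE']
    change T (w v) = -(w v)
    rw [hTw, hv]
  have hmap2 : E'.map (w : V →ₗ[ZMod p] V) ≤ E := by
    rintro _ ⟨v, hv, rfl⟩
    rw [SetLike.mem_coe, hmemE'] at hv
    rw [hmemE]
    change T (w v) = w v
    rw [hTw, hv, map_neg, neg_neg]
  have hfr1 : finrank (ZMod p) E ≤ finrank (ZMod p) E' := by
    rw [← LinearEquiv.finrank_map_eq w E]
    exact Submodule.finrank_mono hmap1
  have hfr2 : finrank (ZMod p) E' ≤ finrank (ZMod p) E := by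
    rw [← LinearEquiv.finrank_map_eq w E']
    exact Submodule.finrank_mono hmap2
  have hinf : E ⊓ E' = ⊥ := by
    rw [eq_bot_iff]
    intro v hv
    rw [Submodule.mem_bot]
    have h1 := (hmemE v).mp hv.1
    have h2 := (hmemE' v).mp hv.2
    have h3 : (2 : ZMod p) • v = 0 := by
      rw [two_smul]
      nth_rewrite 1 [← h1]
      rw [h2, neg_add_cancel]
    exact (smul_eq_zero.mp h3).resolve_left hp2
  have hsup : E ⊔ E' = ⊤ := by
    rw [eq_top_iff]
    intro v _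
    have h1 : v + T v ∈ E := by
      rw [hmemE, map_add, hTT, add_comm]
    have h2 : v - T v ∈ E' := by
      rw [hmemE', map_sub, hTT, neg_sub]
    have h3 : v = (2 : ZMod p)⁻¹ • (v + T v) + (2 : ZMod p)⁻¹ • (v - T v) := by
      have : (2 : ZMod p)⁻¹ • (v + T v) + (2 : ZMod p)⁻¹ • (v - T v) =
          ((2 : ZMod p)⁻¹ * 2) • v := by module
      rw [this, inv_mul_cancel₀ hp2, one_smul]
    rw [h3]
    exact Submodule.add_mem _ (Submodule.mem_sup_left (E.smul_mem _ h1))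
      (Submodule.mem_sup_right (E'.smul_mem _ h2))
  have hdim := Submodule.finrank_sup_add_finrank_inf_eq E E'
  rw [hinf, hsup, finrank_bot, add_zero, finrank_top] at hdim
  refine ⟨finrank (ZMod p) E, by omega, ?_⟩
  set K : Subgroup H := cen x ⊓ cen y with hK
  have hinvK : Inv (img H K) E := by
    rintro _ ⟨c, hc, rfl⟩ v hv
    rw [hmemE] at hv ⊢
    have hcx : c * x = x * c := mem_cen_iff.mp hc.1
    have hcy : c * y = y * c := mem_cen_iff.mp hc.2
    have hcx' : ∀ u, (c : V ≃ₗ[ZMod p] V) ((x : V ≃ₗ[ZMod p] V) u) =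
        (x : V ≃ₗ[ZMod p] V) ((c : V ≃ₗ[ZMod p] V) u) := fun u =>
      congrArg (fun f : H => (f : V ≃ₗ[ZMod p] V) u) hcx
    have hcy' : ∀ u, (c : V ≃ₗ[ZMod p] V) ((y : V ≃ₗ[ZMod p] V) u) =
        (y : V ≃ₗ[ZMod p] V) ((c : V ≃ₗ[ZMod p] V) u) := fun u =>
      congrArg (fun f : H => (f : V ≃ₗ[ZMod p] V) u) hcy
    change T ((c : V ≃ₗ[ZMod p] V) v) = (c : V ≃ₗ[ZMod p] V) v
    calc T ((c : V ≃ₗ[ZMod p] V) v)
        = a • (x : V ≃ₗ[ZMod p] V) ((c : V ≃ₗ[ZMod p] V) v) +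
          b • (y : V ≃ₗ[ZMod p] V) ((c : V ≃ₗ[ZMod p] V) v) := hTv _
      _ = a • (c : V ≃ₗ[ZMod p] V) ((x : V ≃ₗ[ZMod p] V) v) +
          b • (c : V ≃ₗ[ZMod p] V) ((y : V ≃ₗ[ZMod p] V) v) := by rw [hcx', hcy']
      _ = (c : V ≃ₗ[ZMod p] V) (T v) := by rw [hTv, map_add, map_smul, map_smul]
      _ = (c : V ≃ₗ[ZMod p] V) v := by rw [hv]
  have := card_dvd (img H K) E hinvK (fpf_of_reg H hreg K)
  rw [card_img] at this
  exact this

open scoped commutatorElement in
/-- the normal quaternion pair of a solvable regular linear group without irreducible cyclic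
normal subgroup -/
theorem exists_pair (H : Subgroup (V ≃ₗ[ZMod p] V))
    (hreg : ∀ v w : V, v ≠ 0 → w ≠ 0 → ∃! h : H, (h : V ≃ₗ[ZMod p] V) v = w)
    (hI : ∀ A : Subgroup H, A.Normal → IsCyclic A → ∃ W : Submodule (ZMod p) V, W ≠ ⊥ ∧ W ≠ ⊤ ∧
      ∀ a ∈ A, ∀ v ∈ W, ((a : H) : V ≃ₗ[ZMod p] V) v ∈ W)
    (hsolv : Group.IsSolvable H) (v₀ : V) (hv₀ : v₀ ≠ 0) :
    ∃ (D : Subgroup H) (x y z : H), D.Normal ∧ x ∈ D ∧ y ∈ D ∧ z ≠ 1 ∧ z * z = 1 ∧ x * x = z ∧
      y * y = z ∧ x * y = z * (y * x) ∧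
      (∀ m ∈ D, (m * m) * (m * m) = 1 → InQ x y z m) := by
  classical
  have hfinE : Finite (V ≃ₗ[ZMod p] V) :=
    Finite.of_injective (fun e : V ≃ₗ[ZMod p] V => (e : V → V)) DFunLike.coe_injective
  -- a maximal normal abelian subgroup
  have hbot : (⊥ : Subgroup H).Normal ∧ IsMulCommutative (⊥ : Subgroup H) :=
    ⟨inferInstance, inferInstance⟩
  obtain ⟨A, -, hAmaxl⟩ := Finite.exists_le_maximal (α := Subgroup H)
    (p := fun B : Subgroup H => B.Normal ∧ IsMulCommutative B) (a := ⊥) hbot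
  have hAn : A.Normal := hAmaxl.prop.1
  have hAc : IsMulCommutative A := hAmaxl.prop.2
  have hAmax : ∀ B : Subgroup H, B.Normal → IsMulCommutative B → A ≤ B → B = A :=
    fun B hBn hBc hle => le_antisymm (hAmaxl.le_of_ge ⟨hBn, hBc⟩ hle) hle
  obtain ⟨hlt, -⟩ := Cfsg.Agent.S0685.result H hreg hI A hAn hAc hAmax
  set C : Subgroup H := Subgroup.centralizer (A : Set H) with hC
  have hCn : C.Normal := Subgroup.normal_centralizer
  have hCs : Group.IsSolvable C := inferInstance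
  have hex : ∃ k, (derivedSeries C k).map C.subtype ≤ A := by
    obtain ⟨k, hk⟩ := hCs.solvable
    exact ⟨k, by rw [hk, Subgroup.map_bot]; exact bot_le⟩
  have hfind := Nat.find_spec hex
  have hfmin : ∀ m, m < Nat.find hex → ¬ (derivedSeries C m).map C.subtype ≤ A :=
    fun m hm => Nat.find_min hex hm
  have hn0 : Nat.find hex ≠ 0 := by
    intro h0
    rw [h0, derivedSeries_zero, ← MonoidHom.range_eq_map, Subgroup.range_subtype] at hfind
    exact (not_le_of_gt hlt) hfind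
  obtain ⟨j, hj⟩ : ∃ j, Nat.find hex = j + 1 := ⟨Nat.find hex - 1, by omega⟩
  rw [hj] at hfind
  have hDA := hfmin j (by omega)
  set D : Subgroup H := (derivedSeries C j).map C.subtype with hD
  have hDn : D.Normal := ConjAct.normal_of_characteristic_of_normal
  have hDC : D ≤ C := Subgroup.map_subtype_le _
  -- elements of A commute with elements of C
  have hAC : ∀ a ∈ A, ∀ c ∈ C, a * c = c * a := by
    intro a ha c hc
    rw [hC, Subgroup.mem_centralizer_iff] at hc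
    exact hc a ha
  -- commutators of D lie in A
  have hDD : ∀ u ∈ D, ∀ v ∈ D, ⁅u, v⁆ ∈ A := by
    rintro _ ⟨u, hu, rfl⟩ _ ⟨v, hv, rfl⟩
    apply hfind
    refine ⟨⁅u, v⁆, ?_, map_commutatorElement _ _ _⟩
    rw [derivedSeries_succ]
    exact Subgroup.commutator_mem_commutator hu hv
  -- class two
  have hcl : Class2 D := by
    intro u v w
    apply Subtype.ext
    have h1 := hDD u.1 u.2 v.1 v.2
    exact hAC _ h1 _ (hDC w.2)
  -- cyclicity of abelian subgroups
  have hcyc : ∀ u v : D, u * v = v * u →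
      ∃ g : D, u ∈ Subgroup.zpowers g ∧ v ∈ Subgroup.zpowers g := by
    intro u v huv
    have huv' : (u : H) * (v : H) = (v : H) * (u : H) := congrArg Subtype.val huv
    obtain ⟨g, hg, hgu, hgv⟩ := exists_gen H hreg v₀ hv₀ u.1 v.1 huv'
    have hgD : g ∈ D := by
      have : Subgroup.closure ({(u : H), (v : H)} : Set H) ≤ D := by
        rw [Subgroup.closure_le]
        intro w hw
        rcases hw with rfl | rfl
        · exact u.2
        · exact v.2
      exact this hg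
    refine ⟨⟨g, hgD⟩, ?_, ?_⟩
    · rw [Subgroup.mem_zpowers_iff] at hgu ⊢
      obtain ⟨k, hk⟩ := hgu
      exact ⟨k, Subtype.ext (by simpa using hk)⟩
    · rw [Subgroup.mem_zpowers_iff] at hgv ⊢
      obtain ⟨k, hk⟩ := hgv
      exact ⟨k, Subtype.ext (by simpa using hk)⟩
  -- uniqueness of the involution
  have hinvH : ∀ t t' : H, t * t = 1 → t ≠ 1 → t' * t' = 1 → t' ≠ 1 → t = t' := by
    intro t t' htt ht1 htt' ht1'
    have h1 := invol_apply (t : V ≃ₗ[ZMod p] V) (by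
      have := congrArg Subtype.val htt; simpa using this) (fun h => ht1 (Subtype.ext h))
      (fun v hv hh => by
        have := fpfH H hreg t v hv hh
        rw [this]; rfl)
    have h2 := invol_apply (t' : V ≃ₗ[ZMod p] V) (by
      have := congrArg Subtype.val htt'; simpa using this) (fun h => ht1' (Subtype.ext h))
      (fun v hv hh => by
        have := fpfH H hreg t' v hv hh
        rw [this]; rfl)
    apply Subtype.ext
    apply LinearEquiv.ext
    intro v
    rw [h1, h2]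
  have hinv : ∀ t t' : D, t * t = 1 → t ≠ 1 → t' * t' = 1 → t' ≠ 1 → t = t' := by
    intro t t' htt ht1 htt' ht1'
    apply Subtype.ext
    exact hinvH t.1 t'.1 (congrArg Subtype.val htt) (fun h => ht1 (Subtype.ext h))
      (congrArg Subtype.val htt') (fun h => ht1' (Subtype.ext h))
  -- D is not abelian
  have hna : ∃ u v : D, u * v ≠ v * u := by
    by_contra hcon
    push Not at hcon
    apply hDA
    have hDc : ∀ u ∈ D, ∀ v ∈ D, u * v = v * u := fun u hu v hv =>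
      congrArg Subtype.val (hcon ⟨u, hu⟩ ⟨v, hv⟩)
    have hAA : ∀ a ∈ A, ∀ b ∈ A, a * b = b * a := fun a ha b hb =>
      hAC a ha b (hlt.le hb)
    have hsupC : D ⊔ A ≤ C := sup_le hDC hlt.le
    have hle : D ⊔ A ≤ Subgroup.centralizer ((D ⊔ A : Subgroup H) : Set H) := by
      apply sup_le
      · intro d hd
        rw [Subgroup.mem_centralizer_iff]
        have : D ⊔ A ≤ Subgroup.centralizer ({d} : Set H) := by
          apply sup_le
          · intro d' hd'
            rw [Subgroup.mem_centralizer_iff]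
            intro t ht
            rw [Set.mem_singleton_iff] at ht
            rw [ht]
            exact hDc d hd d' hd'
          · intro a ha
            rw [Subgroup.mem_centralizer_iff]
            intro t ht
            rw [Set.mem_singleton_iff] at ht
            rw [ht]
            exact (hAC a ha d (hDC hd)).symm
        intro m hm
        have := this hm
        rw [Subgroup.mem_centralizer_iff] at this
        exact (this d rfl).symm
      · intro a ha
        rw [Subgroup.mem_centralizer_iff]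
        intro m hm
        exact (hAC a ha m (hsupC hm)).symm
    have hcomm : IsMulCommutative (D ⊔ A : Subgroup H) := by
      refine ⟨⟨fun a b => ?_⟩⟩
      apply Subtype.ext
      have := hle a.2
      rw [Subgroup.mem_centralizer_iff] at this
      exact (this b.1 b.2).symm
    have hnorm : (D ⊔ A : Subgroup H).Normal := Subgroup.sup_normal D A
    have := hAmax (D ⊔ A) hnorm hcomm le_sup_right
    rw [← this]
    exact le_sup_left
  obtain ⟨x, y, z, hz1, hzz, hxx, hyy, hxy⟩ := exists_quat_pair hcl hcyc hinv hna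
  -- z is central in H
  have hz1' : (z : H) ≠ 1 := fun h => hz1 (Subtype.ext h)
  have hzz' : (z : H) * (z : H) = 1 := congrArg Subtype.val hzz
  have hzneg : ∀ v : V, ((z : H) : V ≃ₗ[ZMod p] V) v = -v :=
    invol_apply ((z : H) : V ≃ₗ[ZMod p] V) (by
      have := congrArg Subtype.val hzz'; simpa using this) (fun h => hz1' (Subtype.ext h))
      (fun v hv hh => by
        have := fpfH H hreg z.1 v hv hh
        rw [this]; rfl)
  have hzcH : ∀ w : H, (z : H) * w = w * (z : H) := by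
    intro w
    apply Subtype.ext
    apply LinearEquiv.ext
    intro v
    change ((z : H) : V ≃ₗ[ZMod p] V) ((w : V ≃ₗ[ZMod p] V) v) =
      (w : V ≃ₗ[ZMod p] V) (((z : H) : V ≃ₗ[ZMod p] V) v)
    rw [hzneg, hzneg, map_neg]
  have hzcD : ∀ w : D, z * w = w * z := fun w => Subtype.ext (hzcH w.1)
  refine ⟨D, x.1, y.1, z.1, hDn, x.2, y.2, hz1', hzz', congrArg Subtype.val hxx,
    congrArg Subtype.val hyy, congrArg Subtype.val hxy, ?_⟩
  intro m hm hm4
  have hm4' : ((⟨m, hm⟩ : D) * ⟨m, hm⟩) * ((⟨m, hm⟩ : D) * ⟨m, hm⟩) = 1 := Subtype.ext hm4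
  have := inQ_of_pow_four hz1 hzz hxx hyy hxy hzcD hcl hinv hm4'
  unfold InQ at this ⊢
  rcases this with h | h | h | h | h | h | h | h
  · exact Or.inl (congrArg Subtype.val h)
  · exact Or.inr (Or.inl (congrArg Subtype.val h))
  · exact Or.inr (Or.inr (Or.inl (congrArg Subtype.val h)))
  · exact Or.inr (Or.inr (Or.inr (Or.inl (congrArg Subtype.val h))))
  · exact Or.inr (Or.inr (Or.inr (Or.inr (Or.inl (congrArg Subtype.val h)))))
  · exact Or.inr (Or.inr (Or.inr (Or.inr (Or.inr (Or.inl (congrArg Subtype.val h))))))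
  · exact Or.inr (Or.inr (Or.inr (Or.inr (Or.inr (Or.inr (Or.inl (congrArg Subtype.val h)))))))
  · exact Or.inr (Or.inr (Or.inr (Or.inr (Or.inr (Or.inr (Or.inr (congrArg Subtype.val h)))))))

theorem arith_q {q i₁ i₂ i₃ i₄ k : ℕ} (h1 : 1 ≤ i₁) (h1' : i₁ ≤ 3) (h2 : 1 ≤ i₂) (h2' : i₂ ≤ 2)
    (h3 : 1 ≤ i₃) (h3' : i₃ ≤ 2) (h4 : 1 ≤ i₄) (h4' : i₄ ≤ 2) (hq : 3 ≤ q) (hk : k ∣ q - 1)
    (h : q ^ 2 - 1 = i₁ * i₂ * i₃ * i₄ * k) :
    q = 3 ∨ q = 5 ∨ q = 7 ∨ q = 11 ∨ q = 15 ∨ q = 23 := by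
  obtain ⟨m, hm⟩ := hk
  have hk0 : 0 < k := by
    rcases Nat.eq_zero_or_pos k with h0 | h0
    · rw [h0, zero_mul] at hm; omega
    · exact h0
  have hfac : q ^ 2 - 1 = (q - 1) * (q + 1) := by
    obtain ⟨q', rfl⟩ : ∃ q', q = q' + 1 := ⟨q - 1, by omega⟩
    rw [Nat.add_sub_cancel]
    have : (q' + 1) ^ 2 = q' * (q' + 1 + 1) + 1 := by ring
    rw [this, Nat.add_sub_cancel]
  rw [hfac, hm] at h
  have h5 : m * (q + 1) = i₁ * i₂ * i₃ * i₄ := by
    have : k * (m * (q + 1)) = k * (i₁ * i₂ * i₃ * i₄) := by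
      rw [← mul_assoc, h]; ring
    exact Nat.eq_of_mul_eq_mul_left hk0 this
  have hm0 : 0 < m := by
    rcases Nat.eq_zero_or_pos m with h0 | h0
    · rw [h0, mul_zero] at hm; omega
    · exact h0
  have hdvd : q + 1 ∣ i₁ * i₂ * i₃ * i₄ := ⟨m, by rw [← h5, mul_comm]⟩
  have hle : q + 1 ≤ 24 := by
    have := Nat.le_of_dvd (by positivity) hdvd
    have hb : i₁ * i₂ * i₃ * i₄ ≤ 3 * 2 * 2 * 2 := by gcongr
    omega
  have hq23 : q ≤ 23 := by omega
  clear hle hdvd hfac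
  interval_cases q <;> interval_cases i₁ <;> interval_cases i₂ <;> interval_cases i₃ <;>
    interval_cases i₄ <;> omega

theorem not_pow_fifteen {p e : ℕ} (hp : p.Prime) (h : p ^ e = 15) : False := by
  have h3 : 3 ∣ p ^ e := by rw [h]; norm_num
  have h5 : 5 ∣ p ^ e := by rw [h]; norm_num
  have h3' := (Nat.prime_dvd_prime_iff_eq (by norm_num) hp).mp
    (Nat.Prime.dvd_of_dvd_pow (by norm_num) h3)
  have h5' := (Nat.prime_dvd_prime_iff_eq (by norm_num) hp).mp
    (Nat.Prime.dvd_of_dvd_pow (by norm_num) h5)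
  omega

theorem pow_eq_three {p e : ℕ} (hp : p.Prime) (h : p ^ e = 3) : p = 3 ∧ e = 1 := by
  have h3 : 3 ∣ p ^ e := by rw [h]
  have h3' := (Nat.prime_dvd_prime_iff_eq (by norm_num) hp).mp
    (Nat.Prime.dvd_of_dvd_pow (by norm_num) h3)
  refine ⟨h3'.symm, ?_⟩
  rw [← h3'] at h
  have : (3 : ℕ) ^ e = 3 ^ 1 := by rw [h]; norm_num
  exact Nat.pow_right_injective (show 2 ≤ 3 by norm_num) this


theorem no_sq_neg_one_three : ∀ c : ZMod 3, c * c + 1 ≠ 0 := by decide

/-- the case `q = 3` does not occur -/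
theorem false_of_three (H : Subgroup (V ≃ₗ[ZMod p] V))
    (hI : ∀ A : Subgroup H, A.Normal → IsCyclic A → ∃ W : Submodule (ZMod p) V, W ≠ ⊥ ∧ W ≠ ⊤ ∧
      ∀ a ∈ A, ∀ v ∈ W, ((a : H) : V ≃ₗ[ZMod p] V) v ∈ W)
    (x z : H) (hz1 : z ≠ 1) (hzz : z * z = 1) (hxx : x * x = z)
    (hx : ∀ v, (x : V ≃ₗ[ZMod p] V) ((x : V ≃ₗ[ZMod p] V) v) = -v)
    (hp3 : p = 3) (hfr : finrank (ZMod p) V = 2) (hcard : Nat.card H = 8) : False := by
  have : Module.Finite (ZMod p) V := Module.Finite.of_finite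
  have h2 : x ^ 2 = z := by rw [pow_two, hxx]
  have h4 : x ^ 4 = 1 := by rw [show 4 = 2 * 2 from rfl, pow_mul, h2, pow_two, hzz]
  have hord : orderOf x = 2 ^ (1 + 1) :=
    orderOf_eq_prime_pow (by rw [pow_one, h2]; exact hz1) (by norm_num; exact h4)
  have hidx := Subgroup.index_mul_card (Subgroup.zpowers x)
  rw [Nat.card_zpowers, hord, hcard] at hidx
  have hidx2 : (Subgroup.zpowers x).index = 2 := by omega
  have hn : (Subgroup.zpowers x).Normal := Subgroup.normal_of_index_eq_two hidx2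
  obtain ⟨W, hW0, hWtop, hWinv⟩ := hI (Subgroup.zpowers x) hn (Subgroup.isCyclic_zpowers x)
  have h1 : 1 ≤ finrank (ZMod p) W := Submodule.one_le_finrank_iff.mpr hW0
  have h2' : finrank (ZMod p) W < finrank (ZMod p) V := Submodule.finrank_lt hWtop
  have hW1 : finrank (ZMod p) W = 1 := by omega
  obtain ⟨v, hv0, hv⟩ := finrank_eq_one_iff'.mp hW1
  have hxv : (x : V ≃ₗ[ZMod p] V) v.1 ∈ W := hWinv x (Subgroup.mem_zpowers x) v.1 v.2
  obtain ⟨c, hc⟩ := hv ⟨_, hxv⟩
  have hc' : c • v.1 = (x : V ≃ₗ[ZMod p] V) v.1 := congrArg Subtype.val hc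
  have hcc : (c * c + 1) • v.1 = 0 := by
    have := hx v.1
    rw [← hc', map_smul, ← hc'] at this
    rw [add_smul, one_smul, mul_smul, this, neg_add_cancel]
  have hv0' : v.1 ≠ 0 := fun h => hv0 (Subtype.ext h)
  have hz := (smul_eq_zero.mp hcc).resolve_right hv0'
  subst hp3
  exact no_sq_neg_one_three c hz

/-- Degrees of the soluble exceptional sharply doubly transitive groups. -/
theorem main (H : Subgroup (V ≃ₗ[ZMod p] V))
    (hreg : ∀ v w : V, v ≠ 0 → w ≠ 0 → ∃! h : H, (h : V ≃ₗ[ZMod p] V) v = w)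
    (hI : ∀ A : Subgroup H, A.Normal → IsCyclic A → ∃ W : Submodule (ZMod p) V, W ≠ ⊥ ∧ W ≠ ⊤ ∧
      ∀ a ∈ A, ∀ v ∈ W, ((a : H) : V ≃ₗ[ZMod p] V) v ∈ W)
    (hsolv : Group.IsSolvable H) :
    Nat.card V = 25 ∨ Nat.card V = 49 ∨ Nat.card V = 121 ∨ Nat.card V = 529 := by
  classical
  have hfinE : Finite (V ≃ₗ[ZMod p] V) :=
    Finite.of_injective (fun e : V ≃ₗ[ZMod p] V => (e : V → V)) DFunLike.coe_injective
  have hp : p.Prime := Fact.out
  have hMF : Module.Finite (ZMod p) V := Module.Finite.of_finite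
  obtain ⟨W0, hW0, -, -⟩ := hI ⊥ inferInstance inferInstance
  obtain ⟨v₀, -, hv₀⟩ := Submodule.exists_mem_ne_zero_of_ne_bot hW0
  obtain ⟨D, x, y, z, hDn, hxD, hyD, hz1, hzz, hxx, hyy, hxy, hQ⟩ :=
    exists_pair H hreg hI hsolv v₀ hv₀
  have hzneg : ∀ v : V, (z : V ≃ₗ[ZMod p] V) v = -v :=
    invol_apply (z : V ≃ₗ[ZMod p] V) (by
      have := congrArg Subtype.val hzz; simpa using this) (fun h => hz1 (Subtype.ext h))
      (fun v hv hh => by
        have := fpfH H hreg z v hv hh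
        rw [this]; rfl)
  have hzc : ∀ w : H, z * w = w * z := by
    intro w
    apply Subtype.ext
    apply LinearEquiv.ext
    intro v
    change (z : V ≃ₗ[ZMod p] V) ((w : V ≃ₗ[ZMod p] V) v) =
      (w : V ≃ₗ[ZMod p] V) ((z : V ≃ₗ[ZMod p] V) v)
    rw [hzneg, hzneg, map_neg]
  have hp2 : (2 : ZMod p) ≠ 0 := by
    intro h2
    apply hz1
    apply fpfH H hreg z v₀ hv₀
    rw [hzneg]
    have : (2 : ZMod p) • v₀ = 0 := by rw [h2, zero_smul]
    rw [two_smul] at this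
    exact (eq_neg_of_add_eq_zero_left this).symm
  have hx : ∀ v, (x : V ≃ₗ[ZMod p] V) ((x : V ≃ₗ[ZMod p] V) v) = -v := fun v => by
    have h1 : (x : V ≃ₗ[ZMod p] V) ((x : V ≃ₗ[ZMod p] V) v) = (z : V ≃ₗ[ZMod p] V) v :=
      congrArg (fun f : H => (f : V ≃ₗ[ZMod p] V) v) hxx
    rw [h1, hzneg]
  have hy : ∀ v, (y : V ≃ₗ[ZMod p] V) ((y : V ≃ₗ[ZMod p] V) v) = -v := fun v => by
    have h1 : (y : V ≃ₗ[ZMod p] V) ((y : V ≃ₗ[ZMod p] V) v) = (z : V ≃ₗ[ZMod p] V) v :=
      congrArg (fun f : H => (f : V ≃ₗ[ZMod p] V) v) hyy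
    rw [h1, hzneg]
  have hxyv : ∀ v, (x : V ≃ₗ[ZMod p] V) ((y : V ≃ₗ[ZMod p] V) v) =
      -((y : V ≃ₗ[ZMod p] V) ((x : V ≃ₗ[ZMod p] V) v)) := fun v => by
    have h1 : (x : V ≃ₗ[ZMod p] V) ((y : V ≃ₗ[ZMod p] V) v) =
        (z : V ≃ₗ[ZMod p] V) ((y : V ≃ₗ[ZMod p] V) ((x : V ≃ₗ[ZMod p] V) v)) :=
      congrArg (fun f : H => (f : V ≃ₗ[ZMod p] V) v) hxy
    rw [h1, hzneg]
  have hconj : ∀ g w : H, (w = x ∨ w = y) → InQ x y z (cj g w) := by
    intro g w hw
    have hwD : w ∈ D := by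
      rcases hw with h | h
      · rw [h]; exact hxD
      · rw [h]; exact hyD
    have hww : w * w = z := by
      rcases hw with h | h
      · rw [h]; exact hxx
      · rw [h]; exact hyy
    have hcz : cj g z = z := by
      unfold cj
      rw [← hzc g, mul_assoc, mul_inv_cancel, mul_one]
    apply hQ (cj g w) (hDn.conj_mem w hwD g)
    rw [← cj_prod, hww, hcz, hzz]
  obtain ⟨i₁, i₂, i₃, i₄, h1, h1', h2, h2', h3, h3', h4, h4', hidx⟩ :=
    index_cen hz1 hzz hxx hyy hxy hzc hconj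
  obtain ⟨e, hfr, hdvd⟩ := card_cen_dvd H hreg hp2 x y hx hy hxyv
  have hcardH := Cfsg.Agent.S0685.card_H H hreg v₀ hv₀
  have hcardV : Nat.card V = p ^ finrank (ZMod p) V := by
    have : Fintype V := Fintype.ofFinite _
    rw [Module.natCard_eq_pow_finrank (K := ZMod p) (V := V)]
    simp
  have hmul := Subgroup.index_mul_card (cen x ⊓ cen y : Subgroup H)
  have hpne2 : p ≠ 2 := by
    intro h
    apply hp2
    have h2 : ((2 : ℕ) : ZMod p) = 0 := (ZMod.natCast_eq_zero_iff 2 p).mpr (by rw [h])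
    exact_mod_cast h2
  have hp3 : 3 ≤ p := by
    have := hp.two_le
    omega
  have he : 1 ≤ e := by
    have : 0 < finrank (ZMod p) V := Module.finrank_pos_iff_exists_ne_zero.mpr ⟨v₀, hv₀⟩
    omega
  have hq3 : 3 ≤ p ^ e := by
    calc 3 ≤ p := hp3
      _ = p ^ 1 := (pow_one p).symm
      _ ≤ p ^ e := Nat.pow_le_pow_right (by omega) he
  have hpow : p ^ finrank (ZMod p) V = (p ^ e) ^ 2 := by rw [hfr, pow_mul']
  rw [hpow] at hcardH hcardV
  have hkey : (p ^ e) ^ 2 - 1 = i₁ * i₂ * i₃ * i₄ * Nat.card (cen x ⊓ cen y : Subgroup H) := by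
    rw [← hidx, hmul, hcardH]
  rcases arith_q h1 h1' h2 h2' h3 h3' h4 h4' hq3 hdvd hkey with hq | hq | hq | hq | hq | hq
  · exfalso
    obtain ⟨hp3', he1⟩ := pow_eq_three hp hq
    apply false_of_three H hI x z hz1 hzz hxx hx hp3' (by rw [hfr, he1])
    rw [hcardH, hq]; norm_num
  · left; rw [hcardV, hq]; norm_num
  · right; left; rw [hcardV, hq]; norm_num
  · right; right; left; rw [hcardV, hq]; norm_num
  · exact (not_pow_fifteen hp hq).elim
  · right; right; right; rw [hcardV, hq]; norm_num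

end Cfsg.Agent.Helper12.NearFieldSolv
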