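import Mathlib
import Cfsg.Prelude.Def_Blocks
import Cfsg.Agent.Lib.Helper55.O2520Defs
import Cfsg.Agent.Lib.Helper17.Burnside
import Cfsg.Agent.Lib.Helper17.SylowCount
import Cfsg.Agent.S0111

/-!
# O2520 (S0984), wave 2, piece (S3B): `C(P) = P` for a Sylow 3-subgroup (or Done)  (helper12)
-/

set_option autoImplicit false

namespace Cfsg.Agent.Helper12.O2520

open Cfsg Cfsg.Agent.Helper55.O2520
open scoped Classical

universe u

theorem h12_card_mul_relIndex {G : Type*} [Group G] (H K : Subgroup G) (h : H ≤ K) :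
    Nat.card H * H.relIndex K = Nat.card K := by
  have h1 := (H.subgroupOf K).card_mul_index
  rw [Nat.card_congr (Subgroup.subgroupOfEquivOfLe h).toEquiv] at h1
  exact h1

/-- the only involution of a cyclic group of order 4 -/
theorem h12_inv_zpowers {G : Type*} [Group G] (r y : G) (hr : orderOf r = 4)
    (hy : y ∈ Subgroup.zpowers r) (hy2 : y ^ 2 = 1) (hy1 : y ≠ 1) : y = r ^ 2 := by
  obtain ⟨k, rfl⟩ := Subgroup.mem_zpowers_iff.1 hy
  have h4 : r ^ 4 = 1 := by rw [← hr]; exact pow_orderOf_eq_one r
  have h1 : r ^ (k * 2) = 1 := by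
    rw [zpow_mul]; exact_mod_cast hy2
  have h2 : ((orderOf r : ℕ) : ℤ) ∣ k * 2 := orderOf_dvd_iff_zpow_eq_one.2 h1
  rw [hr] at h2
  have h3 : (2 : ℤ) ∣ k := by
    obtain ⟨c, hc⟩ := h2
    exact ⟨c, by push_cast at hc; omega⟩
  obtain ⟨j, rfl⟩ := h3
  rcases Int.even_or_odd' j with ⟨i, rfl | rfl⟩
  · exfalso; apply hy1
    rw [show (2 : ℤ) * (2 * i) = 4 * i by ring, zpow_mul]
    have : r ^ (4 : ℤ) = 1 := by exact_mod_cast h4
    rw [this, one_zpow]
  · rw [show (2 : ℤ) * (2 * i + 1) = 4 * i + 2 by ring, zpow_add, zpow_mul]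
    have : r ^ (4 : ℤ) = 1 := by exact_mod_cast h4
    rw [this, one_zpow, one_mul]
    exact_mod_cast rfl

/-- a subgroup of order 8 with a non-central involution `t`: a cyclic subgroup `⟨r⟩` of index 2
not containing `t`, with `r ^ 2` central. -/
theorem h12_order8 {G : Type*} [Group G] (S : Subgroup G) (hS : Nat.card S = 8) (t : G)
    (htS : t ∈ S) (ht2 : t ^ 2 = 1) (ht1 : t ≠ 1)
    (hnc : ¬ S ≤ Subgroup.centralizer {t}) :
    ∃ r ∈ S, orderOf r = 4 ∧ S ≤ Subgroup.centralizer {r ^ 2} ∧ t ∉ Subgroup.zpowers r ∧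
      (Subgroup.zpowers r).relIndex S = 2 := by
  have hfin : Finite S := Nat.finite_of_card_ne_zero (by rw [hS]; norm_num)
  -- an element of order 4
  have hex : ∃ r ∈ S, orderOf r = 4 := by
    by_contra hno
    push Not at hno
    have hsq : ∀ x ∈ S, x ^ 2 = 1 := by
      intro x hx
      have hd : orderOf x ∣ 2 ^ 3 := by
        have := Subgroup.orderOf_dvd_natCard S hx
        rw [hS] at this; exact this
      obtain ⟨e, he, hoe⟩ := (Nat.dvd_prime_pow Nat.prime_two).1 hd
      interval_cases e
      · rw [pow_zero, orderOf_eq_one_iff] at hoe; rw [hoe, one_pow]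
      · rw [← orderOf_dvd_iff_pow_eq_one, hoe]; norm_num
      · exact absurd hoe (hno x hx)
      · exfalso
        have h2 : orderOf (x ^ 2) = 4 := by
          rw [orderOf_pow_of_dvd (by norm_num) (by rw [hoe]; norm_num), hoe]; norm_num
        exact hno _ (S.pow_mem hx 2) h2
    apply hnc
    intro x hx
    rw [Subgroup.mem_centralizer_singleton_iff]
    have h1 := hsq x hx
    have h2 := hsq (x * t) (S.mul_mem hx htS)
    have hxi : x⁻¹ = x := by rw [inv_eq_iff_mul_eq_one, ← pow_two]; exact h1
    have hti : t⁻¹ = t := by rw [inv_eq_iff_mul_eq_one, ← pow_two]; exact ht2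
    have h3 : (x * t)⁻¹ = x * t := by rw [inv_eq_iff_mul_eq_one, ← pow_two]; exact h2
    rw [mul_inv_rev, hxi, hti] at h3
    exact h3.symm
  obtain ⟨r, hrS, hr⟩ := hex
  have hQS : Subgroup.zpowers r ≤ S := Subgroup.zpowers_le.2 hrS
  have hQc : Nat.card (Subgroup.zpowers r) = 4 := by rw [Nat.card_zpowers, hr]
  have hrel : (Subgroup.zpowers r).relIndex S = 2 := by
    have := h12_card_mul_relIndex _ _ hQS
    rw [hQc, hS] at this; omega
  have hnorm : ((Subgroup.zpowers r).subgroupOf S).Normal :=
    Subgroup.normal_of_index_eq_two hrel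
  have h4 : r ^ 4 = 1 := by rw [← hr]; exact pow_orderOf_eq_one r
  have hr2 : r ^ 2 ≠ 1 := pow_ne_one_of_lt_orderOf (by norm_num) (by rw [hr]; norm_num)
  have hcent : S ≤ Subgroup.centralizer {r ^ 2} := by
    intro s hs
    rw [Subgroup.mem_centralizer_singleton_iff]
    have h1 : (⟨s, hs⟩ : S) * ⟨r, hrS⟩ * (⟨s, hs⟩ : S)⁻¹ ∈ (Subgroup.zpowers r).subgroupOf S :=
      hnorm.conj_mem _ (by rw [Subgroup.mem_subgroupOf]; exact Subgroup.mem_zpowers r) _
    rw [Subgroup.mem_subgroupOf] at h1
    have h1' : s * r * s⁻¹ ∈ Subgroup.zpowers r := h1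
    have h2 : s * r ^ 2 * s⁻¹ ∈ Subgroup.zpowers r := by
      have : s * r ^ 2 * s⁻¹ = (s * r * s⁻¹) ^ 2 := by rw [conj_pow]
      rw [this]; exact Subgroup.pow_mem _ h1' 2
    have h3 : (s * r ^ 2 * s⁻¹) ^ 2 = 1 := by
      rw [conj_pow, ← pow_mul, h4, mul_one, mul_inv_cancel]
    have h5 : s * r ^ 2 * s⁻¹ ≠ 1 := by
      intro h
      apply hr2
      have : r ^ 2 = s⁻¹ * (s * r ^ 2 * s⁻¹) * s := by group
      rw [this, h]; group
    have h6 := h12_inv_zpowers r _ hr h2 h3 h5
    calc s * r ^ 2 = (s * r ^ 2 * s⁻¹) * s := by group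
      _ = r ^ 2 * s := by rw [h6]
  refine ⟨r, hrS, hr, hcent, ?_, hrel⟩
  intro htQ
  have := h12_inv_zpowers r t hr htQ ht2 ht1
  rw [this] at hnc
  exact hnc hcent

section grp
variable {G : Type u} [Group G] [Finite G] [IsSimpleGroup G] (hG : Nat.card G = 2520)
include hG

/-- (S3B) -/
theorem centralizer_sylow3 (h7 : Nat.card (Sylow 7 G) = 120) (h3 : Nat.card (Sylow 3 G) = 70)
    (P : Sylow 3 G)
    (hovg : ∀ K : Subgroup G, Subgroup.normalizer ((P : Subgroup G) : Set G) < K → K ≠ ⊤ →
      Nat.card K = 360) :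
    Done G ∨ Subgroup.centralizer ((P : Subgroup G) : Set G) = (P : Subgroup G) := by
  have hP9 : Nat.card (P : Subgroup G) = 9 := by
    have := Cfsg.Agent.Helper17.sylow_card_eq P (k := 2) (m := 280) (by rw [hG]; norm_num) (by norm_num)
    simpa using this
  set N := Subgroup.normalizer ((P : Subgroup G) : Set G) with hN
  set C := Subgroup.centralizer ((P : Subgroup G) : Set G) with hC
  have hN36 : Nat.card N = 36 := by
    have h1 : Nat.card (Sylow 3 G) = N.index := P.card_eq_index_normalizer
    have h2 := N.card_mul_index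
    rw [← h1, h3, hG] at h2
    omega
  have hPC : (P : Subgroup G) ≤ C := by
    intro x hx
    rw [Subgroup.mem_centralizer_iff]
    intro y hy
    have := (IsPGroup.isMulCommutative_of_card_eq_prime_sq (p := 3) (G := (P : Subgroup G))
      (by rw [hP9]; norm_num)).is_comm.comm ⟨y, hy⟩ ⟨x, hx⟩
    exact congrArg Subtype.val this
  have hCN : C ≤ N := Subgroup.centralizer_le_normalizer _
  have hd1 : Nat.card C ∣ 36 := hN36 ▸ Subgroup.card_dvd_of_le hCN
  have hd2 : 9 ∣ Nat.card C := hP9 ▸ Subgroup.card_dvd_of_le hPC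
  have hcases : Nat.card C = 9 ∨ Nat.card C = 18 ∨ Nat.card C = 36 := by
    obtain ⟨e, he⟩ := hd2
    rw [he] at hd1 ⊢
    have h4 : e ∣ 4 := Nat.dvd_of_mul_dvd_mul_left (by norm_num : 0 < 9) hd1
    have he4 : e ≤ 4 := Nat.le_of_dvd (by norm_num) h4
    interval_cases e <;> simp_all
  rcases hcases with h9 | h18 | h36
  · right
    exact (Subgroup.eq_of_le_of_card_ge hPC (by rw [h9, hP9])).symm
  · -- an involution `t` of `C`
    have h2C : 2 ∣ Nat.card C := by rw [h18]; norm_num
    obtain ⟨t', ht'⟩ := exists_prime_orderOf_dvd_card' 2 h2C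
    obtain ⟨t, htC⟩ := t'
    have hto : orderOf t = 2 := by
      rw [← ht']; exact (Subgroup.orderOf_mk t htC).symm
    obtain ⟨ht2, ht1⟩ := orderOf_eq_prime_iff.1 hto
    have hidx : ((P : Subgroup G).subgroupOf C).index = 2 := by
      have := h12_card_mul_relIndex _ _ hPC
      rw [hP9, h18] at this
      change (P : Subgroup G).relIndex C = 2
      omega
    have hnotP : ∀ s : G, s ^ 2 = 1 → s ≠ 1 → s ∉ (P : Subgroup G) := by
      intro s hs2 hs1 hsP
      have ho : orderOf s = 2 := orderOf_eq_prime_iff.2 ⟨hs2, hs1⟩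
      have := Subgroup.orderOf_dvd_natCard _ hsP
      rw [ho, hP9] at this
      omega
    have huniq : ∀ s ∈ C, s ^ 2 = 1 → s ≠ 1 → s = t := by
      intro s hsC hs2 hs1
      have h1 : (⟨t, htC⟩ : C) * ⟨s, hsC⟩ ∈ (P : Subgroup G).subgroupOf C := by
        rw [Subgroup.mul_mem_iff_of_index_two hidx]
        constructor
        · intro h; exact absurd (Subgroup.mem_subgroupOf.1 h) (hnotP t ht2 ht1)
        · intro h; exact absurd (Subgroup.mem_subgroupOf.1 h) (hnotP s hs2 hs1)
      have hxP : t * s ∈ (P : Subgroup G) := Subgroup.mem_subgroupOf.1 h1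
      have hcomm : (t * s) * t = t * (t * s) := (Subgroup.mem_centralizer_iff.1 htC) _ hxP
      have htt : t * t = 1 := by rw [← pow_two]; exact ht2
      have hss : s * s = 1 := by rw [← pow_two]; exact hs2
      have hst : s * t = t * s := by
        have : t * (s * t) = t * (t * s) := by rw [← mul_assoc]; exact hcomm
        exact mul_left_cancel this
      have hx2 : (t * s) ^ 2 = 1 := by
        rw [pow_two]
        calc t * s * (t * s) = t * (s * t) * s := by group
          _ = t * (t * s) * s := by rw [hst]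
          _ = (t * t) * (s * s) := by group
          _ = 1 := by rw [htt, hss, one_mul]
      have hx9 : (t * s) ^ 9 = 1 := by
        have hd := Subgroup.orderOf_dvd_natCard _ hxP
        rw [hP9] at hd
        exact orderOf_dvd_iff_pow_eq_one.1 hd
      have hx1 : t * s = 1 := by
        have : (t * s) ^ 9 = ((t * s) ^ 2) ^ 4 * (t * s) := by rw [← pow_mul, ← pow_succ]
        rw [hx9, hx2, one_pow, one_mul] at this
        exact this.symm
      have : s = t⁻¹ := (inv_eq_of_mul_eq_one_right hx1).symm
      rw [this, inv_eq_iff_mul_eq_one]; exact htt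
    have hNCt : N ≤ Subgroup.centralizer {t} := by
      intro n hn
      rw [Subgroup.mem_centralizer_singleton_iff]
      have hconj : n * t * n⁻¹ ∈ C :=
        (Subgroup.normal_subgroupOf_iff hCN).1
          (Subgroup.normal_subgroupOf_centralizer_normalizer _) t n htC hn
      have h2 : (n * t * n⁻¹) ^ 2 = 1 := by rw [conj_pow, ht2, mul_one, mul_inv_cancel]
      have h1 : n * t * n⁻¹ ≠ 1 := by
        intro h; apply ht1
        have : t = n⁻¹ * (n * t * n⁻¹) * n := by group
        rw [this, h]; group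
      have := huniq _ hconj h2 h1
      calc n * t = (n * t * n⁻¹) * n := by group
        _ = t * n := by rw [this]
    have hCt_top : Subgroup.centralizer {t} ≠ ⊤ := by
      intro htop
      have htc : t ∈ Subgroup.center G := by
        rw [Subgroup.mem_center_iff]
        intro g
        have : g ∈ Subgroup.centralizer {t} := by rw [htop]; trivial
        exact Subgroup.mem_centralizer_singleton_iff.1 this
      apply Cfsg.Agent.Helper17.normal_card_absurd (Subgroup.center G) inferInstance
      · intro h1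
        rw [Subgroup.card_eq_one] at h1
        rw [h1, Subgroup.mem_bot] at htc; exact ht1 htc
      · intro h2
        have h3 : Subgroup.center G = ⊤ := (Subgroup.card_eq_iff_eq_top _).1 h2
        have hle : Subgroup.center G ≤ C := Subgroup.center_le_centralizer _
        rw [h3] at hle
        have h4 : C = ⊤ := top_le_iff.1 hle
        rw [h4, Subgroup.card_top, hG] at h18; omega
    rcases lt_or_eq_of_le hNCt with hlt | heq
    · left; exact ⟨_, hovg _ hlt hCt_top⟩
    · exfalso
      have hCt36 : Nat.card (Subgroup.centralizer {t}) = 36 := by rw [← heq]; exact hN36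
      have hpg : IsPGroup 2 (Subgroup.zpowers t) :=
        IsPGroup.of_card (n := 1) (by rw [Nat.card_zpowers, hto]; rfl)
      obtain ⟨S, hS⟩ := hpg.exists_le_sylow
      have htS : t ∈ (S : Subgroup G) := hS (Subgroup.mem_zpowers t)
      have hS8 : Nat.card (S : Subgroup G) = 8 := by
        have := Cfsg.Agent.Helper17.sylow_card_eq S (k := 3) (m := 315) (by rw [hG]; norm_num)
          (by norm_num)
        simpa using this
      have hnc : ¬ (S : Subgroup G) ≤ Subgroup.centralizer {t} := by
        intro hle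
        have := Subgroup.card_dvd_of_le hle
        rw [hS8, hCt36] at this; omega
      obtain ⟨r, hrS, hr, hcent, htQ, hrel⟩ :=
        h12_order8 (S : Subgroup G) hS8 t htS ht2 ht1 hnc
      rcases Cfsg.Agent.S0111.result S (Subgroup.zpowers r) (Subgroup.zpowers_le.2 hrS) hrel t
        hto htS htQ with ⟨M, hMn, hMi, -⟩ | ⟨g, hg⟩
      · rcases hMn.eq_bot_or_eq_top with h | h
        · rw [h, Subgroup.index_bot, hG] at hMi; omega
        · rw [h, Subgroup.index_top] at hMi; omega
      · have h2 : (g * t * g⁻¹) ^ 2 = 1 := by rw [conj_pow, ht2, mul_one, mul_inv_cancel]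
        have h1 : g * t * g⁻¹ ≠ 1 := by
          intro h; apply ht1
          have : t = g⁻¹ * (g * t * g⁻¹) * g := by group
          rw [this, h]; group
        have hz := h12_inv_zpowers r _ hr hg h2 h1
        have hconj : IsConj t (r ^ 2) := isConj_iff.2 ⟨g, hz⟩
        have hcard : Nat.card (Subgroup.centralizer {r ^ 2}) = 36 := by
          have e1 := Cfsg.Agent.Helper17.SylowCount.card_conj_mul_card_centralizer t
          have e2 := Cfsg.Agent.Helper17.SylowCount.card_conj_mul_card_centralizer (r ^ 2)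
          have e3 : Nat.card {h : G // IsConj (r ^ 2) h} = Nat.card {h : G // IsConj t h} :=
            Nat.card_congr (Equiv.subtypeEquivRight
              (fun h => ⟨fun hy => hconj.trans hy, fun ht => hconj.symm.trans ht⟩))
          rw [e3] at e2
          rw [hCt36, hG] at e1
          rw [hG] at e2
          have ha : Nat.card {h : G // IsConj t h} = 70 := by omega
          rw [ha] at e2; omega
        have := Subgroup.card_dvd_of_le hcent
        rw [hS8, hcard] at this; omega
  · exfalso
    have hCeqN : C = N := Subgroup.eq_of_le_of_card_ge hCN (by rw [h36, hN36])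
    apply Cfsg.Agent.Helper17.not_normalizer_le_centralizer P (by rw [hP9]; norm_num)
      (by rw [hP9, hG]; norm_num)
    rw [← hN, ← hC, hCeqN]

end grp

end Cfsg.Agent.Helper12.O2520
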