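import Mathlib
import Cfsg.Agent.Lib.Helper84.O7Defs

set_option autoImplicit false

namespace Cfsg.Agent.Helper12.O7F

open Cfsg.Agent.Helper84.O7
open Matrix

theorem zv_lt (z : ZMod 3) : zv z < 3 := (show Fin 3 from z).isLt

theorem toZ_eq_of_mod (z : ZMod 3) (n : ℕ) (h : n % 3 = zv z) :
    Cfsg.Agent.Helper84.O7.toZ n = z := by
  show (⟨n % 3, _⟩ : Fin 3) = (show Fin 3 from z)
  apply Fin.ext
  exact h

/-- (ENC1) [S] decoding the code of a vector. -/
theorem decV_encN (v : ι → ZMod 3) : decV (encN v) = v := by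
  funext i
  have h0 := zv_lt (v (.inl ()))
  have h1 := zv_lt (v (.inr (.inl 0)))
  have h2 := zv_lt (v (.inr (.inl 1)))
  have h3 := zv_lt (v (.inr (.inl 2)))
  have h4 := zv_lt (v (.inr (.inr 0)))
  have h5 := zv_lt (v (.inr (.inr 1)))
  have h6 := zv_lt (v (.inr (.inr 2)))
  rcases i with ⟨⟨⟩⟩ | i | i
  · show decV (encN v) (.inl ()) = v (.inl ())
    apply toZ_eq_of_mod
    simp only [encN, pos, pow_zero, Nat.div_one]
    omega
  · fin_cases i
    · show decV (encN v) (.inr (.inl 0)) = v (.inr (.inl 0))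
      apply toZ_eq_of_mod
      simp only [encN, pos]
      norm_num
      omega
    · show decV (encN v) (.inr (.inl 1)) = v (.inr (.inl 1))
      apply toZ_eq_of_mod
      simp only [encN, pos]
      norm_num
      omega
    · show decV (encN v) (.inr (.inl 2)) = v (.inr (.inl 2))
      apply toZ_eq_of_mod
      simp only [encN, pos]
      norm_num
      omega
  · fin_cases i
    · show decV (encN v) (.inr (.inr 0)) = v (.inr (.inr 0))
      apply toZ_eq_of_mod
      simp only [encN, pos]
      norm_num
      omega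
    · show decV (encN v) (.inr (.inr 1)) = v (.inr (.inr 1))
      apply toZ_eq_of_mod
      simp only [encN, pos]
      norm_num
      omega
    · show decV (encN v) (.inr (.inr 2)) = v (.inr (.inr 2))
      apply toZ_eq_of_mod
      simp only [encN, pos]
      norm_num
      omega

/-- (ENC2) [S] codes are below `3 ^ 7`. -/
theorem encN_lt (v : ι → ZMod 3) : encN v < 2187 := by
  have h0 := zv_lt (v (.inl ()))
  have h1 := zv_lt (v (.inr (.inl 0)))
  have h2 := zv_lt (v (.inr (.inl 1)))
  have h3 := zv_lt (v (.inr (.inl 2)))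
  have h4 := zv_lt (v (.inr (.inr 0)))
  have h5 := zv_lt (v (.inr (.inr 1)))
  have h6 := zv_lt (v (.inr (.inr 2)))
  simp only [encN]
  omega

end Cfsg.Agent.Helper12.O7F
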