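import Mathlib
import Cfsg.Agent.Lib.Helper84.O7Defs

set_option autoImplicit false
set_option linter.unusedVariables false

namespace Cfsg.Agent.Helper12.O7F

open Cfsg.Agent.Helper84.O7
open Matrix

/-- (RHO) [M] a permutation representation on codes that is linked to a matrix representation on generators has the smaller image. -/
theorem card_range_le_of_link {A : Type} [Group A] (ψ : A →* Matrix.GeneralLinearGroup ι (ZMod 3))
    (φ : A →* Equiv.Perm (Fin 2187)) (S : Set A) (hS : Subgroup.closure S = ⊤)
    (hlink : ∀ a ∈ S, ∀ p : Fin 2187, (φ a p).val =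
      encN (((ψ a : Matrix.GeneralLinearGroup ι (ZMod 3)) : Matrix ι ι (ZMod 3)) *ᵥ decV p.val))
    (hdec : ∀ p, p < 2187 → encN (decV p) = p)
    (hDE : ∀ v : ι → ZMod 3, decV (encN v) = v) (hlt : ∀ v : ι → ZMod 3, encN v < 2187) :
    Nat.card φ.range ≤ Nat.card ψ.range := by
  -- the link holds for all `a`
  have hall : ∀ a : A, ∀ p : Fin 2187, (φ a p).val =
      encN (((ψ a : Matrix.GeneralLinearGroup ι (ZMod 3)) : Matrix ι ι (ZMod 3)) *ᵥ decV p.val) := by
    intro a
    have ha : a ∈ Subgroup.closure S := by rw [hS]; trivial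
    induction ha using Subgroup.closure_induction with
    | mem x hx => exact hlink x hx
    | one =>
      intro p
      simp only [map_one, Equiv.Perm.coe_one, id_eq, Units.val_one, Matrix.one_mulVec]
      exact (hdec p.val p.isLt).symm
    | mul x y _ _ hx hy =>
      intro p
      rw [map_mul, Equiv.Perm.mul_apply, hx, hy, hDE, map_mul, Units.val_mul, Matrix.mulVec_mulVec]
    | inv x _ hx =>
      intro p
      -- q := φ x⁻¹ p, so φ x q = p
      set q := φ x⁻¹ p with hq
      have hxq : φ x q = p := by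
        rw [hq, ← Equiv.Perm.mul_apply, ← map_mul, mul_inv_cancel, map_one]; rfl
      have h1 := hx q
      rw [hxq] at h1
      -- decV p = ψ x *ᵥ decV q
      have h2 : decV p.val = ((ψ x : Matrix.GeneralLinearGroup ι (ZMod 3)) : Matrix ι ι (ZMod 3)) *ᵥ
          decV q.val := by
        rw [h1, hDE]
      rw [h2, Matrix.mulVec_mulVec, ← Units.val_mul, ← map_mul, inv_mul_cancel, map_one,
        Units.val_one, Matrix.one_mulVec]
      exact (hdec q.val q.isLt).symm
  -- kernels
  have hker : ψ.ker ≤ φ.ker := by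
    intro a ha
    rw [MonoidHom.mem_ker] at ha ⊢
    ext p
    rw [hall a p, ha]
    simp only [Units.val_one, Matrix.one_mulVec, Equiv.Perm.coe_one, id_eq]
    exact hdec p.val p.isLt
  -- a surjection `ψ.range → φ.range`
  have : Finite ψ.range := inferInstance
  let f : ψ.range → φ.range := fun y => ⟨φ (Classical.choose y.2), ⟨_, rfl⟩⟩
  have hf : Function.Surjective f := by
    rintro ⟨_, a, rfl⟩
    refine ⟨⟨ψ a, a, rfl⟩, ?_⟩
    apply Subtype.ext
    show φ (Classical.choose (⟨a, rfl⟩ : ∃ b, ψ b = ψ a)) = φ a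
    have hc := Classical.choose_spec (⟨a, rfl⟩ : ∃ b, ψ b = ψ a)
    have hmem : (Classical.choose (⟨a, rfl⟩ : ∃ b, ψ b = ψ a))⁻¹ * a ∈ ψ.ker := by
      rw [MonoidHom.mem_ker, map_mul, map_inv, hc, inv_mul_cancel]
    have := hker hmem
    rw [MonoidHom.mem_ker, map_mul, map_inv, inv_mul_eq_one] at this
    exact this
  exact Nat.card_le_card_of_surjective f hf

end Cfsg.Agent.Helper12.O7F
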