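import Mathlib
import Cfsg.Agent.Lib.Helper79.OSPDefs

/-!
# OSP (B2) `simple_nondeg_block` (helper12, for helper79's S2720 server)

The nonsplit torus: `W` simple and nondegenerate under an isometry `t` with `t² ≠ 1`; `lam` generates the unit group of
the commutant of `t`.  The adjoint with respect to `polar Q` acts on `Λ = ⟨lam⟩` as the `e`-th power map; the isometries
in `Λ` form the kernel `H` of `a ↦ a^(e+1)`, which (Hilbert 90 by hand) is the image of `a ↦ a^(1-e)`.
-/

set_option autoImplicit false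

namespace Cfsg.Agent.Helper12.OSP

open QuadraticMap Cfsg.Agent.Helper79.OSP

variable {F : Type*} [Field F] {V : Type*} [AddCommGroup V] [Module F V]

section General

/-- fibres of a homomorphism: counting a pulled-back predicate -/
theorem card_preimage_pred {G G' : Type*} [Group G] [Group G'] (ν : G →* G') (P : G' → Prop) :
    Nat.card {a : G // P (ν a)} = Nat.card ν.ker * Nat.card {b : ν.range // P (b : G')} := by
  classical
  have hsec : ∀ b : ν.range, ∃ a : G, ν a = b := fun b => b.2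
  choose σ hσ using hsec
  rw [← Nat.card_prod]
  apply Nat.card_congr
  refine
    { toFun := fun a => (⟨(σ ⟨ν a.1, a.1, rfl⟩)⁻¹ * a.1, ?_⟩, ⟨⟨ν a.1, a.1, rfl⟩, a.2⟩)
      invFun := fun p => ⟨σ p.2.1 * p.1.1, ?_⟩
      left_inv := ?_
      right_inv := ?_ }
  · rw [MonoidHom.mem_ker, map_mul, map_inv, hσ]
    simp
  · rw [map_mul, hσ, MonoidHom.mem_ker.mp p.1.2, mul_one]
    exact p.2.2
  · intro a
    apply Subtype.ext
    simp
  · rintro ⟨⟨h, hh⟩, ⟨b, hb⟩⟩
    have key : ν (σ b * h) = b := by rw [map_mul, hσ, MonoidHom.mem_ker.mp hh, mul_one]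
    have key' : (⟨ν (σ b * h), σ b * h, rfl⟩ : ν.range) = b := Subtype.ext key
    apply Prod.ext
    · apply Subtype.ext
      show (σ ⟨ν (σ b * h), σ b * h, rfl⟩)⁻¹ * (σ b * h) = h
      rw [key']
      group
    · apply Subtype.ext
      exact key'

theorem range_eq_ker_of_ker_eq_range {G : Type*} [Group G] [Finite G] (ν η : G →* G)
    (h1 : ν.ker = η.range) (h2 : ν.range ≤ η.ker) : ν.range = η.ker := by
  have e1 : Nat.card ν.ker * Nat.card ν.range = Nat.card G := by
    rw [← Subgroup.index_ker]; exact Subgroup.card_mul_index _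
  have e2 : Nat.card η.ker * Nat.card η.range = Nat.card G := by
    rw [← Subgroup.index_ker]; exact Subgroup.card_mul_index _
  have e3 : Nat.card ν.range = Nat.card η.ker := by
    rw [h1] at e1
    have hpos : 0 < Nat.card η.range := Nat.card_pos
    have : Nat.card η.range * Nat.card ν.range = Nat.card η.range * Nat.card η.ker := by
      rw [e1, mul_comm, e2]
    exact Nat.eq_of_mul_eq_mul_left hpos this
  exact Subgroup.eq_of_le_of_card_ge h2 (by rw [e3])

/-- a finite module over a field in which `2 ≠ 0` has odd cardinality (Cauchy) -/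
theorem odd_card_of_module {F M : Type*} [Field F] [AddCommGroup M] [Module F M] [Finite M]
    (h2 : (2 : F) ≠ 0) : Odd (Nat.card M) := by
  by_contra h
  rw [Nat.not_odd_iff_even] at h
  have h2' : 2 ∣ Nat.card M := h.two_dvd
  have : Fact (Nat.Prime 2) := ⟨Nat.prime_two⟩
  obtain ⟨x, hx⟩ := exists_prime_addOrderOf_dvd_card' 2 h2'
  have h3 : (2 : ℕ) • x = 0 := by rw [← hx]; exact addOrderOf_nsmul_eq_zero x
  have h4 : (2 : F) • x = 0 := by rw [two_smul]; rw [two_nsmul] at h3; exact h3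
  have hx0 : x = 0 := (smul_eq_zero.mp h4).resolve_left h2
  rw [hx0, addOrderOf_zero] at hx
  omega

/-- a fibre of a linear functional is a coset of the kernel -/
theorem card_fibre_eq_card_ker {F M : Type*} [Field F] [AddCommGroup M] [Module F M]
    (ℓ : M →ₗ[F] F) (c₁ : M) :
    Nat.card {c : M // ℓ c = ℓ c₁} = Nat.card (LinearMap.ker ℓ) := by
  apply Nat.card_congr
  refine
    { toFun := fun c => ⟨c.1 - c₁, ?_⟩
      invFun := fun d => ⟨d.1 + c₁, ?_⟩
      left_inv := ?_
      right_inv := ?_ }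
  · rw [LinearMap.mem_ker, map_sub, c.2, sub_self]
  · rw [map_add, LinearMap.mem_ker.mp d.2, zero_add]
  · intro c
    apply Subtype.ext
    simp
  · intro d
    apply Subtype.ext
    simp

end General

section Prelim

variable {W : Type*} [AddCommGroup W] [Module F W] (Q : QuadraticForm F W)

/-- `a'` is an adjoint of `a` with respect to `polar Q`. -/
def Adj (a a' : W → W) : Prop := ∀ u v, polar Q (a u) v = polar Q u (a' v)

variable {Q}

theorem Adj.symm {a a' : W → W} (h : Adj Q a a') : Adj Q a' a := by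
  intro u v
  rw [polar_comm, ← h v u, polar_comm]

theorem eq_of_polar_eq (hnd : ∀ w, (∀ u, polar Q w u = 0) → w = 0) {x y : W}
    (h : ∀ u, polar Q u x = polar Q u y) : x = y := by
  have : x - y = 0 := by
    apply hnd
    intro u
    rw [polar_comm, polar_sub_right, h u, sub_self]
  exact sub_eq_zero.mp this

theorem Adj.unique (hnd : ∀ w, (∀ u, polar Q w u = 0) → w = 0) {a a' a'' : W → W}
    (h : Adj Q a a') (h' : Adj Q a a'') : a' = a'' := by
  funext v
  apply eq_of_polar_eq hnd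
  intro u
  rw [← h u v, ← h' u v]

theorem Adj.comp {a a' b b' : W → W} (h : Adj Q a a') (h' : Adj Q b b') :
    Adj Q (a ∘ b) (b' ∘ a') := by
  intro u v
  simp only [Function.comp_apply]
  rw [h, h']

theorem adj_id : Adj Q (id : W → W) id := fun _ _ => rfl

/-- isometries preserve `polar` -/
theorem polar_map (t : W →ₗ[F] W) (ht : ∀ w, Q (t w) = Q w) (u v : W) :
    polar Q (t u) (t v) = polar Q u v := by
  simp only [polar, ← map_add, ht]

/-- the commuting self-adjoint maps -/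
def Ksub (Q : QuadraticForm F W) (t : W →ₗ[F] W) : Submodule F (W →ₗ[F] W) where
  carrier := {c | (∀ w, c (t w) = t (c w)) ∧ Adj Q ⇑c ⇑c}
  add_mem' := by
    rintro c d ⟨hc1, hc2⟩ ⟨hd1, hd2⟩
    refine ⟨fun w => ?_, fun u v => ?_⟩
    · rw [LinearMap.add_apply, LinearMap.add_apply, hc1, hd1, map_add]
    · rw [LinearMap.add_apply, LinearMap.add_apply, polar_add_left, polar_add_right, hc2 u v,
        hd2 u v]
  zero_mem' := ⟨fun w => by simp, fun u v => by simp⟩
  smul_mem' := by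
    rintro r c ⟨hc1, hc2⟩
    refine ⟨fun w => ?_, fun u v => ?_⟩
    · rw [LinearMap.smul_apply, LinearMap.smul_apply, hc1, map_smul]
    · rw [LinearMap.smul_apply, LinearMap.smul_apply, polar_smul_left, polar_smul_right,
        hc2 u v]

theorem mem_Ksub {t : W →ₗ[F] W} {c : W →ₗ[F] W} :
    c ∈ Ksub Q t ↔ (∀ w, c (t w) = t (c w)) ∧ Adj Q ⇑c ⇑c := Iff.rfl

/-- the functional `c ↦ polar Q w₀ (c w₀)` on `Ksub` -/
def ellK (Q : QuadraticForm F W) (t : W →ₗ[F] W) (w₀ : W) : Ksub Q t →ₗ[F] F where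
  toFun c := polar Q w₀ (c.1 w₀)
  map_add' c d := by
    show polar Q w₀ ((c.1 + d.1) w₀) = _
    rw [LinearMap.add_apply, polar_add_right]
  map_smul' r c := by
    show polar Q w₀ ((r • c.1) w₀) = _
    rw [LinearMap.smul_apply, polar_smul_right]
    rfl

theorem ellK_apply (t : W →ₗ[F] W) (w₀ : W) (c : Ksub Q t) :
    ellK Q t w₀ c = polar Q w₀ (c.1 w₀) := rfl

end Prelim

section Main

variable [Finite F] {W : Type*} [AddCommGroup W] [Module F W] [Finite W] {Q : QuadraticForm F W}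

theorem t_injective (hnd : ∀ w, (∀ u, polar Q w u = 0) → w = 0) (t : W →ₗ[F] W)
    (ht : ∀ w, Q (t w) = Q w) : Function.Injective t := by
  rw [injective_iff_map_eq_zero]
  intro w hw
  apply hnd
  intro u
  rw [← polar_map t ht, hw]
  simp [polar]

theorem t_bijective (hnd : ∀ w, (∀ u, polar Q w u = 0) → w = 0) (t : W →ₗ[F] W)
    (ht : ∀ w, Q (t w) = Q w) : Function.Bijective t :=
  ⟨t_injective hnd t ht, Finite.surjective_of_injective (t_injective hnd t ht)⟩

/-- the adjoint of `lam` is a power of `lam` -/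
theorem exists_adj_exp [Nontrivial W] (hnd : ∀ w, (∀ u, polar Q w u = 0) → w = 0) (t : W →ₗ[F] W)
    (ht : ∀ w, Q (t w) = Q w) (lam : W ≃ₗ[F] W) (hl1 : ∀ w, lam (t w) = t (lam w))
    (hl3 : ∀ a : W →ₗ[F] W, (∀ w, a (t w) = t (a w)) → a ≠ 0 → ∃ j : ℕ, ∀ w, a w = (lam ^ j) w) :
    ∃ e : ℕ, Adj Q lam (lam ^ e : W ≃ₗ[F] W) := by
  have hB : (polarBilin Q).Nondegenerate := by
    constructor
    · intro x hx
      exact hnd x hx
    · intro y hy
      apply hnd y
      intro u
      rw [polar_comm]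
      exact hy u
  set adj : W →ₗ[F] W :=
    LinearMap.BilinForm.leftAdjointOfNondegenerate (polarBilin Q) hB lam.toLinearMap with hadj
  have hP : ∀ x y, polar Q (adj x) y = polar Q x (lam y) := by
    intro x y
    have := LinearMap.BilinForm.isAdjointPairLeftAdjointOfNondegenerate (polarBilin Q) hB
      lam.toLinearMap x y
    simpa using this
  have hAdj : Adj Q lam adj := by
    intro u v
    rw [polar_comm, ← hP, polar_comm]
  -- `adj` commutes with `t`
  have hsurj := (t_bijective hnd t ht).2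
  have hcomm : ∀ w, adj (t w) = t (adj w) := by
    intro w
    apply eq_of_polar_eq hnd
    intro u
    obtain ⟨u', rfl⟩ := hsurj u
    rw [← hAdj (t u') (t w), hl1, polar_map t ht, hAdj, ← polar_map t ht u' (adj w)]
  have hne : adj ≠ 0 := by
    intro h0
    obtain ⟨w, hw⟩ := exists_ne (0 : W)
    apply hw
    have : lam w = 0 := by
      apply hnd
      intro u
      rw [hAdj, h0]
      simp [polar]
    exact lam.map_eq_zero_iff.mp this
  obtain ⟨e, he⟩ := hl3 adj hcomm hne
  refine ⟨e, ?_⟩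
  intro u v
  rw [hAdj, he]

theorem adjE_one : Adj Q ⇑(1 : W ≃ₗ[F] W) ⇑(1 : W ≃ₗ[F] W) := fun _ _ => rfl

theorem adjE_mul {a a' b b' : W ≃ₗ[F] W} (h : Adj Q ⇑a ⇑a') (h' : Adj Q ⇑b ⇑b') :
    Adj Q ⇑(a * b) ⇑(b' * a') := by
  intro u v
  rw [LinearEquiv.mul_apply, LinearEquiv.mul_apply, h, h']

theorem adjE_pow {a a' : W ≃ₗ[F] W} (h : Adj Q ⇑a ⇑a') (k : ℕ) : Adj Q ⇑(a ^ k) ⇑(a' ^ k) := by
  induction k with
  | zero => simpa using adjE_one
  | succ k ih =>
    rw [pow_succ, pow_succ']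
    exact adjE_mul ih h

/-- an isometry in adjoint form -/
theorem isometry_of_adj (h2 : (2 : F) ≠ 0) {a a' : W ≃ₗ[F] W} (h : Adj Q ⇑a ⇑a')
    (h1 : a' * a = 1) (w : W) : Q (a w) = Q w := by
  have e0 : (a' * a) w = w := by rw [h1]; rfl
  have e1 : polar Q (a w) (a w) = polar Q w w := by
    rw [h, ← LinearEquiv.mul_apply, e0]
  rw [polar_self, polar_self, two_nsmul, two_nsmul, ← two_mul, ← two_mul] at e1
  exact mul_left_cancel₀ h2 e1

end Main

open scoped IsMulCommutative in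
theorem simple_nondeg_block [Finite F] {W : Type*} [AddCommGroup W] [Module F W] [Finite W]
    (h2 : (2 : F) ≠ 0) (Q : QuadraticForm F W)
    (hnd : ∀ w, (∀ u, polar Q w u = 0) → w = 0) (t : W →ₗ[F] W) (ht : ∀ w, Q (t w) = Q w)
    (hne : ∃ w, t (t w) ≠ w)
    (lam : W ≃ₗ[F] W) (hl1 : ∀ w, lam (t w) = t (lam w)) (hl2 : orderOf lam = Nat.card W - 1)
    (hl3 : ∀ a : W →ₗ[F] W, (∀ w, a (t w) = t (a w)) → a ≠ 0 → ∃ j : ℕ, ∀ w, a w = (lam ^ j) w)
    (hl4 : ∀ w : W, w ≠ 0 → ∀ j : ℕ, (lam ^ j) w = w → (Nat.card W - 1) ∣ j) :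
    ∃ (s : W ≃ₗ[F] W) (N k : ℕ), (∀ w, Q (s w) = Q w) ∧ (∀ w, s (t w) = t (s w)) ∧
      0 < N ∧ Even N ∧ Odd k ∧ s ^ N = 1 ∧ (∀ w, w ≠ 0 → ∀ j : ℕ, (s ^ j) w = w → N ∣ j) ∧
      Nat.card {w : W // Q w = 1} = N * k := by
  classical
  obtain ⟨w1, hw1⟩ := hne
  have hnt : Nontrivial W := ⟨⟨t (t w1), w1, hw1⟩⟩
  obtain ⟨w₀, hw₀⟩ := exists_ne (0 : W)
  have hfinL : Finite (W ≃ₗ[F] W) :=
    Finite.of_injective (fun f => (f : W → W)) DFunLike.coe_injective
  obtain ⟨e, he⟩ := exists_adj_exp hnd t ht lam hl1 hl3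
  -- the cyclic group `Λ`
  have hΛ : ∀ a : Subgroup.zpowers lam, ∃ k : ℕ, lam ^ k = (a : W ≃ₗ[F] W) := by
    intro a
    have := (mem_powers_iff_mem_zpowers (x := lam)).mpr a.2
    exact Submonoid.mem_powers_iff _ _ |>.mp this
  have hpowt : ∀ (k : ℕ) (w : W), (lam ^ k) (t w) = t ((lam ^ k) w) := by
    intro k
    induction k with
    | zero => intro w; rfl
    | succ k ih =>
      intro w
      rw [pow_succ, LinearEquiv.mul_apply, LinearEquiv.mul_apply, hl1, ih]
  have hcommΛ : ∀ (a : Subgroup.zpowers lam) (w : W),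
      (a : W ≃ₗ[F] W) (t w) = t ((a : W ≃ₗ[F] W) w) := by
    intro a w
    obtain ⟨k, hk⟩ := hΛ a
    rw [← hk]
    exact hpowt k w
  have hadjΛ : ∀ a : Subgroup.zpowers lam,
      Adj Q ⇑(a : W ≃ₗ[F] W) ⇑((a ^ e : Subgroup.zpowers lam) : W ≃ₗ[F] W) := by
    intro a
    obtain ⟨k, hk⟩ := hΛ a
    rw [Subgroup.coe_pow, ← hk, ← pow_mul, mul_comm, pow_mul]
    exact adjE_pow he k
  have hmemΛ : ∀ c : W →ₗ[F] W, (∀ w, c (t w) = t (c w)) → c ≠ 0 →
      ∃ a : Subgroup.zpowers lam, ∀ w, c w = (a : W ≃ₗ[F] W) w := by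
    intro c hc hc0
    obtain ⟨j, hj⟩ := hl3 c hc hc0
    exact ⟨⟨lam ^ j, Subgroup.pow_mem _ (Subgroup.mem_zpowers lam) j⟩, hj⟩
  -- equality in `Λ` from pointwise equality
  have hextΛ : ∀ a b : Subgroup.zpowers lam,
      (∀ w, (a : W ≃ₗ[F] W) w = (b : W ≃ₗ[F] W) w) → a = b := by
    intro a b h
    exact Subtype.ext (LinearEquiv.ext h)
  have hP3 : ∀ a : Subgroup.zpowers lam, (a ^ e) ^ e = a := by
    intro a
    apply hextΛ
    intro w
    have h1 := (hadjΛ a).symm
    have h2' := hadjΛ (a ^ e)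
    exact congr_fun (Adj.unique hnd h2' h1) w
  -- the two power maps
  let ν : Subgroup.zpowers lam →* Subgroup.zpowers lam := powMonoidHom (e + 1)
  let η : Subgroup.zpowers lam →* Subgroup.zpowers lam :=
    { toFun := fun b => b * (b ^ e)⁻¹
      map_one' := by simp
      map_mul' := fun a b => by rw [mul_pow, mul_inv, mul_mul_mul_comm] }
  have hν : ∀ a, ν a = a ^ (e + 1) := fun a => rfl
  have hη : ∀ a, η a = a * (a ^ e)⁻¹ := fun a => rfl
  have h_i : η.range ≤ ν.ker := by
    rintro _ ⟨b, rfl⟩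
    rw [MonoidHom.mem_ker, hν, hη, pow_succ, mul_pow, inv_pow, hP3 b]
    group
  -- `t` as an equivalence, and its adjoint
  let tE : W ≃ₗ[F] W := LinearEquiv.ofBijective t (t_bijective hnd t ht)
  have htE : ∀ w, t (tE.symm w) = w := fun w => tE.apply_symm_apply w
  have htE' : ∀ w, tE.symm (t w) = w := fun w => tE.symm_apply_apply w
  have hadjt : Adj Q ⇑t ⇑tE.symm := by
    intro u v
    rw [← polar_map t ht u (tE.symm v), htE]
  -- Hilbert 90
  have h_ii : ν.ker ≤ η.range := by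
    intro a ha
    rw [MonoidHom.mem_ker, hν] at ha
    have hae : a ^ e = a⁻¹ := by
      rw [pow_succ] at ha
      exact eq_inv_of_mul_eq_one_left ha
    have hfin : ∀ b : Subgroup.zpowers lam, b = a * b ^ e → a ∈ η.range := by
      intro b key
      refine ⟨b, ?_⟩
      rw [hη]
      nth_rewrite 1 [key]
      group
    by_cases hcase : ∀ w, (a : W ≃ₗ[F] W) w = -w
    · -- `a = -1`: use `x = t - t⁻¹`
      set x : W →ₗ[F] W := t - tE.symm.toLinearMap with hx
      have hxw : ∀ w, x w = t w - tE.symm w := fun w => rfl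
      have hx0 : x ≠ 0 := by
        intro h
        apply hw1
        have h1 : x (t w1) = 0 := by rw [h]; rfl
        rw [hxw, htE', sub_eq_zero] at h1
        exact h1
      have hxt : ∀ w, x (t w) = t (x w) := by
        intro w
        rw [hxw, hxw, map_sub, htE, htE']
      obtain ⟨b, hb⟩ := hmemΛ x hxt hx0
      have hadjx : Adj Q ⇑(b : W ≃ₗ[F] W) (fun v => -((b : W ≃ₗ[F] W) v)) := by
        intro u v
        show polar Q ((b : W ≃ₗ[F] W) u) v = polar Q u (-((b : W ≃ₗ[F] W) v))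
        rw [← hb u, ← hb v, hxw, hxw, polar_sub_left, hadjt u v, hadjt.symm u v, polar_neg_right,
          polar_sub_right]
        ring
      have hbe : ∀ w, ((b ^ e : Subgroup.zpowers lam) : W ≃ₗ[F] W) w = -((b : W ≃ₗ[F] W) w) :=
        fun w => congr_fun (Adj.unique hnd (hadjΛ b) hadjx) w
      apply hfin b
      apply hextΛ
      intro w
      rw [Subgroup.coe_mul, LinearEquiv.mul_apply, hbe, hcase, neg_neg]
    · -- `c = 1 + a ≠ 0`
      set c : W →ₗ[F] W := LinearMap.id + (a : W ≃ₗ[F] W).toLinearMap with hc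
      have hcw : ∀ w, c w = w + (a : W ≃ₗ[F] W) w := fun w => rfl
      have hc0 : c ≠ 0 := by
        intro h
        apply hcase
        intro w
        have h1 : c w = 0 := by rw [h]; rfl
        rw [hcw] at h1
        exact eq_neg_of_add_eq_zero_right h1
      have hct : ∀ w, c (t w) = t (c w) := by
        intro w
        rw [hcw, hcw, map_add, hcommΛ a w]
      obtain ⟨b, hb⟩ := hmemΛ c hct hc0
      have hadjc : Adj Q ⇑(b : W ≃ₗ[F] W)
          (fun v => v + ((a⁻¹ : Subgroup.zpowers lam) : W ≃ₗ[F] W) v) := by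
        intro u v
        show polar Q ((b : W ≃ₗ[F] W) u) v =
          polar Q u (v + ((a⁻¹ : Subgroup.zpowers lam) : W ≃ₗ[F] W) v)
        rw [← hb u, hcw, polar_add_left, polar_add_right, hadjΛ a u v, hae]
      have hbe : ∀ w, ((b ^ e : Subgroup.zpowers lam) : W ≃ₗ[F] W) w =
          w + ((a⁻¹ : Subgroup.zpowers lam) : W ≃ₗ[F] W) w :=
        fun w => congr_fun (Adj.unique hnd (hadjΛ b) hadjc) w
      apply hfin b
      apply hextΛ
      intro w
      rw [Subgroup.coe_mul, LinearEquiv.mul_apply, hbe, map_add, ← LinearEquiv.mul_apply,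
        ← Subgroup.coe_mul, mul_inv_cancel, ← hb, hcw, add_comm]
      rfl
  have hker_range : ν.ker = η.range := le_antisymm h_ii h_i
  have hrange_ker : ν.range = η.ker := by
    apply range_eq_ker_of_ker_eq_range ν η hker_range
    rintro _ ⟨a, rfl⟩
    rw [MonoidHom.mem_ker, hη, hν, mul_inv_eq_one]
    calc a ^ (e + 1) = a * a ^ e := pow_succ' a e
      _ = (a ^ e) ^ e * a ^ e := by rw [hP3]
      _ = (a ^ e) ^ (e + 1) := (pow_succ _ _).symm
      _ = (a ^ (e + 1)) ^ e := by rw [← pow_mul, ← pow_mul, mul_comm]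
  -- self-adjoint elements
  have hself : ∀ b : Subgroup.zpowers lam, b ∈ η.ker ↔ Adj Q ⇑(b : W ≃ₗ[F] W) ⇑(b : W ≃ₗ[F] W) := by
    intro b
    constructor
    · intro hb
      rw [MonoidHom.mem_ker, hη, mul_inv_eq_one] at hb
      have h := hadjΛ b
      rw [← hb] at h
      exact h
    · intro hb
      have hbe : b ^ e = b := by
        apply hextΛ
        intro w
        exact congr_fun (Adj.unique hnd (hadjΛ b) hb) w
      rw [MonoidHom.mem_ker, hη, hbe, mul_inv_cancel]
  -- the orbit map `a ↦ a w₀`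
  have hn : Nat.card (Subgroup.zpowers lam) = Nat.card W - 1 := by rw [Nat.card_zpowers, hl2]
  have horb_inj : ∀ a b : Subgroup.zpowers lam,
      (a : W ≃ₗ[F] W) w₀ = (b : W ≃ₗ[F] W) w₀ → a = b := by
    intro a b hab
    obtain ⟨k, hk⟩ := hΛ (b⁻¹ * a)
    have h1 : (lam ^ k) w₀ = w₀ := by
      rw [hk, Subgroup.coe_mul, LinearEquiv.mul_apply, hab, ← LinearEquiv.mul_apply,
        ← Subgroup.coe_mul, inv_mul_cancel]
      rfl
    have h2' := hl4 w₀ hw₀ k h1
    rw [← hl2] at h2'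
    have h3 : lam ^ k = 1 := orderOf_dvd_iff_pow_eq_one.mp h2'
    rw [h3] at hk
    have h4 : b⁻¹ * a = 1 := Subtype.ext hk.symm
    exact (inv_mul_eq_one.mp h4).symm
  have horb_surj : ∀ w : W, w ≠ 0 → ∃ a : Subgroup.zpowers lam, (a : W ≃ₗ[F] W) w₀ = w := by
    let orb : Subgroup.zpowers lam → {w : W // w ≠ 0} := fun a => ⟨(a : W ≃ₗ[F] W) w₀, by
      intro h; exact hw₀ ((a : W ≃ₗ[F] W).map_eq_zero_iff.mp h)⟩
    have hinj : Function.Injective orb :=
      fun a b hab => horb_inj a b (congrArg Subtype.val hab)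
    have hcard : Nat.card {w : W // w ≠ 0} ≤ Nat.card (Subgroup.zpowers lam) := by
      rw [hn]
      have h1 : Nat.card {w : W // w ≠ 0} = Set.ncard ({0}ᶜ : Set W) := by
        rw [← Nat.card_coe_set_eq]
        rfl
      rw [h1, Set.ncard_compl, Set.ncard_singleton]
    have hbij := hinj.bijective_of_nat_card_le hcard
    intro w hw
    obtain ⟨a, ha⟩ := hbij.2 ⟨w, hw⟩
    exact ⟨a, congrArg Subtype.val ha⟩
  -- `Q (a w₀)` through `ν`
  have hQν : ∀ a : Subgroup.zpowers lam,
      2 * Q ((a : W ≃ₗ[F] W) w₀) = polar Q w₀ ((ν a : W ≃ₗ[F] W) w₀) := by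
    intro a
    have h := polar_self Q ((a : W ≃ₗ[F] W) w₀)
    rw [two_nsmul, ← two_mul] at h
    rw [← h, hadjΛ a, hν, pow_succ, Subgroup.coe_mul, LinearEquiv.mul_apply]
  -- a generator of `ker ν`
  obtain ⟨s₀, hs₀⟩ := IsCyclic.exists_generator (α := ν.ker)
  have hordS : orderOf s₀ = Nat.card ν.ker := orderOf_eq_card_of_forall_mem_zpowers hs₀
  have hs₀ker : (s₀ : Subgroup.zpowers lam) ^ (e + 1) = 1 := by
    have h := s₀.2
    rw [MonoidHom.mem_ker] at h
    exact h
  have hiso : ∀ w, Q (((s₀ : Subgroup.zpowers lam) : W ≃ₗ[F] W) w) = Q w := by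
    intro w
    apply isometry_of_adj h2 (hadjΛ (s₀ : Subgroup.zpowers lam))
    rw [← Subgroup.coe_mul, ← pow_succ, hs₀ker]
    rfl
  have hsN : ((s₀ : Subgroup.zpowers lam) : W ≃ₗ[F] W) ^ Nat.card ν.ker = 1 := by
    have h1 : s₀ ^ Nat.card ν.ker = 1 := pow_card_eq_one'
    have h2' := congrArg (fun x : ν.ker => ((x : Subgroup.zpowers lam) : W ≃ₗ[F] W)) h1
    simpa using h2'
  have hfree : ∀ w, w ≠ 0 → ∀ j : ℕ,
      (((s₀ : Subgroup.zpowers lam) : W ≃ₗ[F] W) ^ j) w = w → Nat.card ν.ker ∣ j := by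
    intro w hw j hj
    obtain ⟨m, hm⟩ := hΛ (s₀ : Subgroup.zpowers lam)
    rw [← hm, ← pow_mul] at hj
    have h1 := hl4 w hw (m * j) hj
    rw [← hl2] at h1
    have h3 : lam ^ (m * j) = 1 := orderOf_dvd_iff_pow_eq_one.mp h1
    rw [pow_mul, hm] at h3
    have h4 : s₀ ^ j = 1 := by
      apply Subtype.ext
      apply Subtype.ext
      simpa using h3
    rw [← hordS]
    exact orderOf_dvd_of_pow_eq_one h4
  have hNpos : 0 < Nat.card ν.ker := Nat.card_pos
  have hNeven : Even (Nat.card ν.ker) := by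
    have hnegt : ∀ w, (-LinearMap.id : W →ₗ[F] W) (t w) = t ((-LinearMap.id : W →ₗ[F] W) w) := by
      intro w; simp
    have hneg0 : (-LinearMap.id : W →ₗ[F] W) ≠ 0 := by
      intro h
      have h1 : (-LinearMap.id : W →ₗ[F] W) w₀ = 0 := by rw [h]; rfl
      apply hw₀
      simpa using h1
    obtain ⟨m, hm⟩ := hmemΛ _ hnegt hneg0
    have hm' : ∀ w, (m : W ≃ₗ[F] W) w = -w := fun w => by rw [← hm]; simp
    have hadjm : Adj Q ⇑(m : W ≃ₗ[F] W) ⇑(m : W ≃ₗ[F] W) := by
      intro u v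
      rw [hm', hm', polar_neg_left, polar_neg_right]
    have hme : m ^ e = m := by
      apply hextΛ
      intro w
      exact congr_fun (Adj.unique hnd (hadjΛ m) hadjm) w
    have hmm : m * m = 1 := by
      apply hextΛ
      intro w
      rw [Subgroup.coe_mul, LinearEquiv.mul_apply, hm', hm', neg_neg]
      rfl
    have hmker : m ∈ ν.ker := by
      rw [MonoidHom.mem_ker, hν, pow_succ, hme, hmm]
    have hm1 : (⟨m, hmker⟩ : ν.ker) ≠ 1 := by
      intro h
      have h1 : m = 1 := congrArg Subtype.val h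
      have h3 : w₀ = -w₀ := by
        have h2' := hm' w₀
        rw [h1] at h2'
        exact h2'
      have h4 : (2 : F) • w₀ = 0 := by
        rw [two_smul]
        nth_rewrite 1 [h3]
        exact neg_add_cancel w₀
      exact hw₀ ((smul_eq_zero.mp h4).resolve_left h2)
    have hm2 : (⟨m, hmker⟩ : ν.ker) ^ 2 = 1 := by
      apply Subtype.ext
      rw [pow_two]
      exact hmm
    have : Fact (Nat.Prime 2) := ⟨Nat.prime_two⟩
    have hord : orderOf (⟨m, hmker⟩ : ν.ker) = 2 := orderOf_eq_prime hm2 hm1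
    have hdvd := orderOf_dvd_natCard (⟨m, hmker⟩ : ν.ker)
    rw [hord] at hdvd
    exact even_iff_two_dvd.mpr hdvd
  -- the count
  set P : Subgroup.zpowers lam → Prop :=
    fun b => polar Q w₀ ((b : W ≃ₗ[F] W) w₀) = 2 with hP
  have hcount : Nat.card {w : W // Q w = 1} =
      Nat.card ν.ker * Nat.card {b : ν.range // P b} := by
    rw [← card_preimage_pred ν P]
    symm
    apply Nat.card_congr
    refine Equiv.ofBijective (fun a => ⟨(a.1 : W ≃ₗ[F] W) w₀, ?_⟩) ⟨?_, ?_⟩
    · have h := hQν a.1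
      have hp : polar Q w₀ ((ν a.1 : W ≃ₗ[F] W) w₀) = 2 := a.2
      rw [hp] at h
      exact mul_left_cancel₀ h2 (by rw [h, mul_one])
    · intro a b hab
      exact Subtype.ext (horb_inj a.1 b.1 (congrArg Subtype.val hab))
    · intro w
      have hw0 : w.1 ≠ 0 := by
        intro h
        have h1 := w.2
        rw [h, map_zero] at h1
        exact zero_ne_one h1
      obtain ⟨a, ha⟩ := horb_surj w.1 hw0
      refine ⟨⟨a, ?_⟩, Subtype.ext ha⟩
      show polar Q w₀ ((ν a : W ≃ₗ[F] W) w₀) = 2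
      rw [← hQν, ha, w.2, mul_one]
  have hfinE : Finite (W →ₗ[F] W) :=
    Finite.of_injective (fun f => (f : W → W)) DFunLike.coe_injective
  have hkodd : Odd (Nat.card {b : ν.range // P b}) := by
    have hex : ∃ c : Ksub Q t, ellK Q t w₀ c ≠ 0 := by
      by_contra hall
      push Not at hall
      have hQ0 : ∀ w, Q w = 0 := by
        intro w
        by_cases hw : w = 0
        · rw [hw, map_zero]
        · obtain ⟨a, rfl⟩ := horb_surj w hw
          have h := hQν a
          have hmem : ((ν a : W ≃ₗ[F] W) : W →ₗ[F] W) ∈ Ksub Q t := by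
            refine ⟨hcommΛ (ν a), ?_⟩
            have h1 : ν a ∈ η.ker := by rw [← hrange_ker]; exact ⟨a, rfl⟩
            exact (hself (ν a)).mp h1
          have h0 : polar Q w₀ ((ν a : W ≃ₗ[F] W) w₀) = 0 := hall ⟨_, hmem⟩
          rw [h0] at h
          exact (mul_eq_zero.mp h).resolve_left h2
      apply hw₀
      apply hnd
      intro u
      simp [polar, hQ0]
    obtain ⟨c, hc⟩ := hex
    set c₁ : Ksub Q t := (2 / ellK Q t w₀ c) • c with hc₁
    have hc₁2 : ellK Q t w₀ c₁ = 2 := by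
      rw [hc₁, map_smul, smul_eq_mul, div_mul_cancel₀ _ hc]
    have hcard : Nat.card {b : ν.range // P b} = Nat.card (LinearMap.ker (ellK Q t w₀)) := by
      rw [← card_fibre_eq_card_ker (ellK Q t w₀) c₁, hc₁2]
      apply Nat.card_congr
      refine Equiv.ofBijective
        (fun b => ⟨⟨((b.1.1 : W ≃ₗ[F] W) : W →ₗ[F] W), ?_⟩, ?_⟩) ⟨?_, ?_⟩
      · refine ⟨hcommΛ b.1.1, ?_⟩
        have h1 : b.1.1 ∈ η.ker := by rw [← hrange_ker]; exact b.1.2
        exact (hself b.1.1).mp h1
      · exact b.2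
      · intro b b' hbb
        have h1 : ((b.1.1 : W ≃ₗ[F] W) : W →ₗ[F] W) = ((b'.1.1 : W ≃ₗ[F] W) : W →ₗ[F] W) :=
          congrArg (fun x => (x.1.1 : W →ₗ[F] W)) hbb
        have h2' : (b.1.1 : W ≃ₗ[F] W) = (b'.1.1 : W ≃ₗ[F] W) :=
          LinearEquiv.toLinearMap_injective h1
        exact Subtype.ext (Subtype.ext (Subtype.ext h2'))
      · intro c'
        have hc'2 : polar Q w₀ (c'.1.1 w₀) = 2 := c'.2
        have hc'0 : c'.1.1 ≠ 0 := by
          intro h
          rw [h] at hc'2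
          simp at hc'2
          exact h2 hc'2.symm
        obtain ⟨b, hb⟩ := hmemΛ c'.1.1 c'.1.2.1 hc'0
        have hAdjb : Adj Q ⇑(b : W ≃ₗ[F] W) ⇑(b : W ≃ₗ[F] W) := by
          intro u v
          rw [← hb u, ← hb v]
          exact c'.1.2.2 u v
        have hbr : b ∈ ν.range := by
          rw [hrange_ker]
          exact (hself b).mpr hAdjb
        have hPb : P b := by
          show polar Q w₀ ((b : W ≃ₗ[F] W) w₀) = 2
          rw [← hb w₀]
          exact hc'2
        refine ⟨⟨⟨b, hbr⟩, hPb⟩, ?_⟩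
        apply Subtype.ext
        apply Subtype.ext
        apply LinearMap.ext
        intro w
        exact (hb w).symm
    rw [hcard]
    exact odd_card_of_module h2
  exact ⟨((s₀ : Subgroup.zpowers lam) : W ≃ₗ[F] W), Nat.card ν.ker, Nat.card {b : ν.range // P b},
    hiso, hcommΛ (s₀ : Subgroup.zpowers lam), hNpos, hNeven, hkodd, hsN, hfree, hcount⟩

end Cfsg.Agent.Helper12.OSP
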