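import Mathlib
import Cfsg.Prelude.Def_Characters
import Cfsg.Prelude.Def_Perm
import Cfsg.Agent.Lib.Helper81.CharCore
import Cfsg.Agent.Lib.Helper12.MultFree
import Cfsg.Agent.S0718

set_option autoImplicit false
set_option linter.unusedSectionVars false

/-! Orbital matrices of a transitive group and divisibility of subdegrees. -/

namespace Cfsg.Agent.Helper12.Orbital

open Representation Cfsg Cfsg.Agent.Helper81 Cfsg.Agent.S0153 Cfsg.Agent.Helper12.MultFree Module

universe u v

section dims
variable {G : Type u} [Group G] [Fintype G] {V : Type v} [AddCommGroup V] [Module ℂ V]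
    [FiniteDimensional ℂ V]

/-- a representation with trivial character has a non-zero fixed vector -/
theorem exists_fixed_of_char_one {W : Type v} [AddCommGroup W] [Module ℂ W]
    [FiniteDimensional ℂ W] (σ : Representation ℂ G W)
    (h : σ.character = fun _ => 1) : ∃ w : W, w ≠ 0 ∧ ∀ g, σ g w = w := by
  have : Invertible (Nat.card G : ℂ) :=
    invertibleOfNonzero (by exact_mod_cast (Nat.card_pos (α := G)).ne')
  have h1 := Representation.card_inv_mul_sum_char_eq_finrank σ
  rw [h] at h1
  simp only [Finset.sum_const, Finset.card_univ, nsmul_eq_mul, mul_one] at h1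
  rw [← Nat.card_eq_fintype_card, inv_mul_cancel₀ (by exact_mod_cast (Nat.card_pos (α := G)).ne')]
    at h1
  have h2 : finrank ℂ (invariants σ) = 1 := by exact_mod_cast h1.symm
  have h3 : 0 < finrank ℂ (invariants σ) := by omega
  rw [Module.finrank_pos_iff_exists_ne_zero] at h3
  obtain ⟨w, hw⟩ := h3
  refine ⟨w.1, fun h0 => hw (Subtype.ext h0), fun g => ?_⟩
  exact (mem_invariants σ w.1).mp w.2 g

/-- the inclusion of a subrepresentation as an intertwining map -/
def inclusion {ρ : Representation ℂ G V} (S : Subrepresentation ρ) :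
    IntertwiningMap S.toRepresentation ρ :=
  S.toSubmodule.subtype.intertwiningMap_of_isIntertwiningMap _ _ (fun _ _ => rfl)

theorem dvd_finrank (ρ : Representation ℂ G V) (f : ℕ)
    (hf : ∀ χ : G → ℂ, IsIrrCharacter G χ → χ ≠ (fun _ => 1) →
      classInner ρ.character χ ≠ 0 → ∃ m : ℕ, χ 1 = (f : ℂ) * m) :
    ∀ (n : ℕ) (U : Subrepresentation ρ), finrank ℂ U.toSubmodule = n →
      (∀ v ∈ U.toSubmodule, (∀ g, ρ g v = v) → v = 0) → f ∣ n := by
  have : NeZero (Nat.card G : ℂ) := ⟨by exact_mod_cast (Nat.card_pos (α := G)).ne'⟩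
  intro n
  induction n using Nat.strong_induction_on with
  | _ n ih =>
    intro U hn hfix
    by_cases hU : U = ⊥
    · rw [hU] at hn
      have : finrank ℂ (⊥ : Subrepresentation ρ).toSubmodule = 0 := finrank_bot ℂ V
      rw [this] at hn
      rw [← hn]
      exact dvd_zero f
    obtain ⟨S, hS, hSU⟩ := exists_atom_le U hU
    have hirr := isIrreducible_of_isAtom S hS
    have hχ : IsIrrCharacter G S.toRepresentation.character := isIrrCharacter_of_rep _
    have hne1 : S.toRepresentation.character ≠ fun _ => 1 := by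
      intro h1
      obtain ⟨w, hw0, hw⟩ := exists_fixed_of_char_one S.toRepresentation h1
      apply hw0
      apply Subtype.ext
      apply hfix w.1 (hSU w.2)
      intro g
      exact congrArg Subtype.val (hw g)
    have hinner : classInner ρ.character S.toRepresentation.character ≠ 0 := by
      rw [classInner_eq_finrank S.toRepresentation ρ]
      have hpos : 0 < finrank ℂ (IntertwiningMap S.toRepresentation ρ) := by
        rw [Module.finrank_pos_iff_exists_ne_zero]
        refine ⟨inclusion S, ?_⟩
        intro h0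
        apply hS.1
        apply le_antisymm _ bot_le
        intro v hv
        have : (inclusion S).toLinearMap ⟨v, hv⟩ = (0 : IntertwiningMap S.toRepresentation ρ).toLinearMap ⟨v, hv⟩ := by
          rw [h0]
        have hv0 : v = 0 := this
        rw [hv0]
        exact (⊥ : Subrepresentation ρ).toSubmodule.zero_mem
      exact_mod_cast hpos.ne'
    obtain ⟨m, hm⟩ := hf _ hχ hne1 hinner
    rw [Representation.char_one] at hm
    have hm' : finrank ℂ S.toSubmodule = f * m := by exact_mod_cast hm
    obtain ⟨K', hK'⟩ := exists_isCompl S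
    have hsum : finrank ℂ U.toSubmodule =
        finrank ℂ S.toSubmodule + finrank ℂ (U ⊓ K').toSubmodule := by
      have h1 := Submodule.finrank_sup_add_finrank_inf_eq S.toSubmodule (U ⊓ K').toSubmodule
      have h2 : S.toSubmodule ⊓ (U ⊓ K').toSubmodule = ⊥ := by
        rw [eq_bot_iff]
        intro v hv
        have hv' : v ∈ S ⊓ K' := ⟨hv.1, hv.2.2⟩
        rw [hK'.inf_eq_bot] at hv'
        exact hv'
      have h3 : S.toSubmodule ⊔ (U ⊓ K').toSubmodule = U.toSubmodule := by
        have hSU' : S.toSubmodule ≤ U.toSubmodule := hSU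
        rw [Subrepresentation.toSubmodule_inf, inf_comm, ← sup_inf_assoc_of_le K'.toSubmodule hSU',
          ← Subrepresentation.toSubmodule_sup, hK'.sup_eq_top]
        exact top_inf_eq _
      rw [h2, h3, finrank_bot, add_zero] at h1
      exact h1
    have hSpos : 0 < finrank ℂ S.toSubmodule := by
      rw [Module.finrank_pos_iff_exists_ne_zero]
      by_contra hcon
      push Not at hcon
      apply hS.1
      apply le_antisymm _ bot_le
      intro v hv
      have := hcon ⟨v, hv⟩
      have hv0 : v = 0 := congrArg Subtype.val this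
      rw [hv0]
      exact (⊥ : Subrepresentation ρ).toSubmodule.zero_mem
    have hlt : finrank ℂ (U ⊓ K').toSubmodule < n := by omega
    have hd := ih _ hlt (U ⊓ K') rfl (fun v hv => hfix v hv.1)
    rw [← hn, hsum, hm']
    exact dvd_add (dvd_mul_right f m) hd

end dims

section trace
variable {Ω : Type v} [Fintype Ω] [DecidableEq Ω]

theorem trace_eq_sum_finrank (A : Matrix Ω Ω ℂ) :
    A.trace = ∑ μ ∈ A.charpoly.roots.toFinset,
      (finrank ℂ (Module.End.maxGenEigenspace (Matrix.toLin' A) μ) : ℂ) * μ := by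
  rw [Matrix.trace_eq_sum_roots_charpoly, Finset.sum_multiset_count]
  apply Finset.sum_congr rfl
  intro μ _
  rw [Polynomial.count_roots, LinearMap.finrank_maxGenEigenspace_eq, Matrix.charpoly_toLin',
    nsmul_eq_mul]

theorem isIntegral_of_root (A : Matrix Ω Ω ℤ) (μ : ℂ)
    (hμ : μ ∈ (A.map (Int.castRingHom ℂ)).charpoly.roots) : IsIntegral ℤ μ := by
  refine ⟨A.charpoly, Matrix.charpoly_monic A, ?_⟩
  rw [Matrix.charpoly_map] at hμ
  have := (Polynomial.mem_roots'.mp hμ).2
  rw [Polynomial.IsRoot.def, Polynomial.eval_map] at this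
  exact this

end trace

section orbital
variable {G : Type u} [Group G] [Fintype G] {Ω : Type v} [Fintype Ω] [DecidableEq Ω]
    [MulAction G Ω]

/-- the orbital containing `(a, b)` -/
def Orb (G : Type u) [Group G] {Ω : Type v} [MulAction G Ω] (a b x y : Ω) : Prop :=
  ∃ g : G, g • a = x ∧ g • b = y

theorem orb_smul_iff (a b x y : Ω) (g : G) : Orb G a b (g • x) (g • y) ↔ Orb G a b x y := by
  constructor
  · rintro ⟨h, h1, h2⟩
    refine ⟨g⁻¹ * h, ?_, ?_⟩
    · rw [mul_smul, h1, inv_smul_smul]
    · rw [mul_smul, h2, inv_smul_smul]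
  · rintro ⟨h, rfl, rfl⟩
    exact ⟨g * h, mul_smul _ _ _, mul_smul _ _ _⟩

open Classical in
/-- the orbital matrix over the integers -/
noncomputable def matZ (G : Type u) [Group G] {Ω : Type v} [MulAction G Ω] (a b : Ω) :
    Matrix Ω Ω ℤ :=
  fun x y => if Orb G a b x y then 1 else 0

/-- the orbital matrix over the complex numbers -/
noncomputable def matC (G : Type u) [Group G] {Ω : Type v} [MulAction G Ω] (a b : Ω) :
    Matrix Ω Ω ℂ :=
  (matZ G a b).map (Int.castRingHom ℂ)

open Classical in
theorem matC_apply (a b x y : Ω) : matC G a b x y = if Orb G a b x y then 1 else 0 := by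
  change (Int.castRingHom ℂ) (matZ G a b x y) = _
  unfold matZ
  split_ifs <;> simp

theorem matC_smul (a b x y : Ω) (g : G) : matC G a b (g • x) (g • y) = matC G a b x y := by
  classical
  rw [matC_apply, matC_apply]
  simp only [orb_smul_iff]

theorem toLin_apply (a b : Ω) (φ : Ω → ℂ) (x : Ω) :
    Matrix.toLin' (matC G a b) φ x = ∑ y, matC G a b x y * φ y := rfl

theorem toLin_comm (a b : Ω) (g : G) (φ : Ω → ℂ) :
    Matrix.toLin' (matC G a b) (permRep ℂ G Ω g φ) =
      permRep ℂ G Ω g (Matrix.toLin' (matC G a b) φ) := by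
  funext x
  change ∑ y, matC G a b x y * φ (g⁻¹ • y) = ∑ y, matC G a b (g⁻¹ • x) y * φ y
  apply Fintype.sum_equiv (MulAction.toPerm g⁻¹)
  intro y
  rw [MulAction.toPerm_apply, matC_smul]

theorem commute_toLin (a b : Ω) (g : G) :
    Commute (Matrix.toLin' (matC G a b)) (permRep ℂ G Ω g) :=
  LinearMap.ext fun φ => toLin_comm a b g φ

/-- generalized eigenspaces of the orbital matrix as subrepresentations -/
noncomputable def eigSub (a b : Ω) (μ : ℂ) : Subrepresentation (permRep ℂ G Ω) where
  toSubmodule := Module.End.maxGenEigenspace (Matrix.toLin' (matC G a b)) μ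
  apply_mem_toSubmodule g _ hv :=
    Module.End.mapsTo_maxGenEigenspace_of_comm (commute_toLin a b g) μ hv

theorem rowsum_base (a b : Ω) :
    ∑ y, matC G a b a y = (Nat.card (MulAction.orbit (MulAction.stabilizer G a) b) : ℂ) := by
  classical
  simp_rw [matC_apply]
  rw [Finset.sum_boole]
  congr 1
  rw [Nat.card_eq_fintype_card, Fintype.card_subtype]
  congr 1
  ext y
  simp only [Finset.mem_filter, Finset.mem_univ, true_and, MulAction.mem_orbit_iff]
  constructor
  · rintro ⟨g, hg, rfl⟩
    exact ⟨⟨g, hg⟩, rfl⟩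
  · rintro ⟨g, rfl⟩
    exact ⟨g.1, g.2, rfl⟩

theorem rowsum [MulAction.IsPretransitive G Ω] (a b x : Ω) :
    ∑ y, matC G a b x y = (Nat.card (MulAction.orbit (MulAction.stabilizer G a) b) : ℂ) := by
  obtain ⟨g, rfl⟩ := MulAction.exists_smul_eq G a x
  rw [← rowsum_base a b]
  symm
  apply Fintype.sum_equiv (MulAction.toPerm g)
  intro y
  rw [MulAction.toPerm_apply, matC_smul]

theorem trace_matC (a b : Ω) (hab : b ≠ a) : (matC G a b).trace = 0 := by
  classical
  unfold Matrix.trace
  apply Finset.sum_eq_zero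
  intro x _
  rw [Matrix.diag_apply, matC_apply, if_neg]
  rintro ⟨g, h1, h2⟩
  apply hab
  rw [← h1] at h2
  exact smul_left_cancel g h2

theorem fixed_const [MulAction.IsPretransitive G Ω] (φ : Ω → ℂ)
    (hφ : ∀ g : G, permRep ℂ G Ω g φ = φ) (x y : Ω) : φ x = φ y := by
  obtain ⟨g, rfl⟩ := MulAction.exists_smul_eq G y x
  have := congrFun (hφ g) (g • y)
  change φ (g⁻¹ • g • y) = _ at this
  rw [inv_smul_smul] at this
  exact this.symm

end orbital

section main
variable {G : Type u} [Group G] [Fintype G] {Ω : Type v} [Fintype Ω] [DecidableEq Ω]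
    [MulAction G Ω]

theorem finrank_eq_add {V : Type v} [AddCommGroup V] [Module ℂ V] [FiniteDimensional ℂ V]
    {ρ : Representation ℂ G V} (S U K' : Subrepresentation ρ) (hSU : S ≤ U)
    (hK' : IsCompl S K') :
    finrank ℂ U.toSubmodule = finrank ℂ S.toSubmodule + finrank ℂ (U ⊓ K').toSubmodule := by
  have h1 := Submodule.finrank_sup_add_finrank_inf_eq S.toSubmodule (U ⊓ K').toSubmodule
  have h2 : S.toSubmodule ⊓ (U ⊓ K').toSubmodule = ⊥ := by
    rw [eq_bot_iff]
    intro v hv
    have hv' : v ∈ S ⊓ K' := ⟨hv.1, hv.2.2⟩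
    rw [hK'.inf_eq_bot] at hv'
    exact hv'
  have h3 : S.toSubmodule ⊔ (U ⊓ K').toSubmodule = U.toSubmodule := by
    have hSU' : S.toSubmodule ≤ U.toSubmodule := hSU
    rw [Subrepresentation.toSubmodule_inf, inf_comm, ← sup_inf_assoc_of_le K'.toSubmodule hSU',
      ← Subrepresentation.toSubmodule_sup, hK'.sup_eq_top]
    exact top_inf_eq _
  rw [h2, h3, finrank_bot, add_zero] at h1
  exact h1

theorem int_of_integral {N f : ℕ} {z : ℂ} (hz : IsIntegral ℤ z) (h : (N : ℂ) + f * z = 0) :
    f ∣ N := by
  by_cases hf0 : f = 0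
  · subst hf0
    simp only [Nat.cast_zero, zero_mul, add_zero] at h
    have : N = 0 := by exact_mod_cast h
    rw [this]
  have hfc : (f : ℂ) ≠ 0 := by exact_mod_cast hf0
  have hq : ((-(N : ℚ) / f : ℚ) : ℂ) = z := by
    push_cast
    rw [div_eq_iff hfc]
    linear_combination -h
  have hqi : IsIntegral ℤ (algebraMap ℚ ℂ (-(N : ℚ) / f)) := by
    rw [eq_ratCast, hq]
    exact hz
  rw [isIntegral_algebraMap_iff (algebraMap ℚ ℂ).injective, IsIntegrallyClosed.isIntegral_iff] at hqi
  obtain ⟨n, hn⟩ := hqi
  have hfq : (f : ℚ) ≠ 0 := by exact_mod_cast hf0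
  have h2 : (N : ℚ) = f * (-n) := by
    have : (n : ℚ) = -(N : ℚ) / f := by simpa using hn
    rw [this]
    field_simp
  have h3 : (N : ℤ) = f * (-n) := by exact_mod_cast h2
  have h4 : (f : ℤ) ∣ (N : ℤ) := ⟨-n, h3⟩
  exact Int.natCast_dvd_natCast.mp h4

theorem subdegree_dvd [MulAction.IsPretransitive G Ω] (f : ℕ)
    (hf : ∀ χ : G → ℂ, IsIrrCharacter G χ → χ ≠ (fun _ => 1) →
      classInner (permRep ℂ G Ω).character χ ≠ 0 → ∃ m : ℕ, χ 1 = (f : ℂ) * m)
    (a b : Ω) (hab : b ≠ a) :
    f ∣ Nat.card (MulAction.orbit (MulAction.stabilizer G a) b) := by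
  classical
  have hne : NeZero (Nat.card G : ℂ) := ⟨by exact_mod_cast (Nat.card_pos (α := G)).ne'⟩
  set N := Nat.card (MulAction.orbit (MulAction.stabilizer G a) b) with hN
  have hone : Matrix.toLin' (matC G a b) (fun _ => (1 : ℂ)) = (N : ℂ) • (fun _ => (1 : ℂ)) := by
    funext x
    rw [toLin_apply]
    simp only [mul_one, Pi.smul_apply, smul_eq_mul]
    exact rowsum a b x
  have honeN : (fun _ : Ω => (1 : ℂ)) ∈
      Module.End.maxGenEigenspace (Matrix.toLin' (matC G a b)) (N : ℂ) := by
    rw [Module.End.mem_maxGenEigenspace]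
    refine ⟨1, ?_⟩
    rw [pow_one, LinearMap.sub_apply, hone]
    simp
  have hone0 : (fun _ : Ω => (1 : ℂ)) ≠ 0 := by
    intro h
    have := congrFun h a
    simp at this
  have hdim : ∀ μ : ℂ, ∃ k : ℕ, finrank ℂ (eigSub (G := G) a b μ).toSubmodule =
      (if μ = (N : ℂ) then 1 else 0) + f * k := by
    intro μ
    by_cases hμ : μ = (N : ℂ)
    · rw [if_pos hμ]
      obtain ⟨K', hK'⟩ := exists_isCompl (permConstants ℂ G Ω)
      have hCU : permConstants ℂ G Ω ≤ eigSub (G := G) a b μ := by
        intro v hv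
        have hv' : v ∈ Submodule.span ℂ {fun _ : Ω => (1 : ℂ)} := hv
        rw [Submodule.mem_span_singleton] at hv'
        obtain ⟨c, rfl⟩ := hv'
        apply Submodule.smul_mem
        rw [hμ]
        exact honeN
      have h1 := finrank_eq_add (permConstants ℂ G Ω) (eigSub (G := G) a b μ) K' hCU hK'
      have hC1 : finrank ℂ (permConstants ℂ G Ω).toSubmodule = 1 := by
        change finrank ℂ (Submodule.span ℂ {fun _ : Ω => (1 : ℂ)}) = 1
        exact finrank_span_singleton hone0
      have h2 := dvd_finrank (permRep ℂ G Ω) f hf _ (eigSub (G := G) a b μ ⊓ K') rfl (by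
        intro v hv hfix
        have hc : v = (v a) • (fun _ : Ω => (1 : ℂ)) := by
          funext x
          simp only [Pi.smul_apply, smul_eq_mul, mul_one]
          exact fixed_const v hfix x a
        have hvC : v ∈ permConstants ℂ G Ω := by
          change v ∈ Submodule.span ℂ {fun _ : Ω => (1 : ℂ)}
          rw [Submodule.mem_span_singleton]
          exact ⟨v a, hc.symm⟩
        have hvb : v ∈ permConstants ℂ G Ω ⊓ K' := ⟨hvC, hv.2⟩
        rw [hK'.inf_eq_bot] at hvb
        exact hvb)
      obtain ⟨k, hk⟩ := h2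
      exact ⟨k, by rw [h1, hC1, hk]⟩
    · simp only [if_neg hμ, zero_add]
      have h2 := dvd_finrank (permRep ℂ G Ω) f hf _ (eigSub (G := G) a b μ) rfl (by
        intro v hv hfix
        have hc : v = (v a) • (fun _ : Ω => (1 : ℂ)) := by
          funext x
          simp only [Pi.smul_apply, smul_eq_mul, mul_one]
          exact fixed_const v hfix x a
        have hvN : v ∈ Module.End.maxGenEigenspace (Matrix.toLin' (matC G a b)) (N : ℂ) := by
          rw [hc]
          exact Submodule.smul_mem _ _ honeN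
        have hdis := Module.End.disjoint_genEigenspace (Matrix.toLin' (matC G a b)) hμ ⊤ ⊤
        exact (Submodule.disjoint_def.mp hdis) v hv hvN)
      obtain ⟨k, hk⟩ := h2
      exact ⟨k, hk⟩
  choose k hk using hdim
  have htr := trace_eq_sum_finrank (matC G a b)
  rw [trace_matC a b hab] at htr
  have hNroot : (N : ℂ) ∈ (matC G a b).charpoly.roots.toFinset := by
    rw [Multiset.mem_toFinset, Polynomial.mem_roots (Matrix.charpoly_monic _).ne_zero,
      ← Polynomial.rootMultiplicity_pos (Matrix.charpoly_monic _).ne_zero,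
      ← Matrix.charpoly_toLin', ← LinearMap.finrank_maxGenEigenspace_eq,
      Module.finrank_pos_iff_exists_ne_zero]
    exact ⟨⟨_, honeN⟩, fun h => hone0 (congrArg Subtype.val h)⟩
  have hsum : (0 : ℂ) = (N : ℂ) + f * ∑ μ ∈ (matC G a b).charpoly.roots.toFinset, (k μ : ℂ) * μ := by
    rw [htr, Finset.mul_sum]
    have : ∀ μ ∈ (matC G a b).charpoly.roots.toFinset,
        (finrank ℂ (Module.End.maxGenEigenspace (Matrix.toLin' (matC G a b)) μ) : ℂ) * μ =
          (if μ = (N : ℂ) then (N : ℂ) else 0) + (f : ℂ) * ((k μ : ℂ) * μ) := by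
      intro μ _
      have := hk μ
      change finrank ℂ (Module.End.maxGenEigenspace (Matrix.toLin' (matC G a b)) μ) = _ at this
      rw [this]
      push_cast
      split_ifs with h
      · rw [h]; ring
      · ring
    rw [Finset.sum_congr rfl this, Finset.sum_add_distrib, Finset.sum_ite_eq' _ (N : ℂ),
      if_pos hNroot]
  have hz : IsIntegral ℤ (∑ μ ∈ (matC G a b).charpoly.roots.toFinset, (k μ : ℂ) * μ) := by
    apply IsIntegral.sum
    intro μ hμ
    apply IsIntegral.mul
    · have : IsIntegral ℤ (algebraMap ℤ ℂ (k μ : ℤ)) := isIntegral_algebraMap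
      simpa using this
    · exact isIntegral_of_root (matZ G a b) μ (Multiset.mem_toFinset.mp hμ)
  exact int_of_integral hz hsum.symm

end main

end Cfsg.Agent.Helper12.Orbital
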