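import Mathlib
import Cfsg.Prelude.Def_Characters
import Cfsg.Prelude.Def_Perm
import Cfsg.Agent.Lib.Helper81.CharCore
import Cfsg.Agent.Lib.Helper12.MultFree
import Cfsg.Agent.Lib.Helper12.Orbital
import Cfsg.Agent.S0718

set_option autoImplicit false
set_option linter.unusedSectionVars false

/-! Rank of a transitive group as the norm of the permutation character. -/

namespace Cfsg.Agent.Helper12.RankFormula

open Representation Cfsg Cfsg.Agent.Helper81 Cfsg.Agent.S0153 Cfsg.Agent.Helper12.MultFree Module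
open scoped ComplexConjugate

universe u v

section chars
variable {G : Type u} [Group G] [Fintype G] {V : Type v} [AddCommGroup V] [Module ℂ V]
    [FiniteDimensional ℂ V]

theorem exists_mult (ρ : Representation ℂ G V) (χ : G → ℂ) (hχ : IsIrrCharacter G χ) :
    ∃ m : ℕ, classInner ρ.character χ = m := by
  obtain ⟨n, τ, hτ, rfl⟩ := hχ
  exact ⟨_, classInner_eq_finrank τ ρ⟩

theorem exists_degree (χ : G → ℂ) (hχ : IsIrrCharacter G χ) : ∃ d : ℕ, 0 < d ∧ χ 1 = d := by
  obtain ⟨n, τ, hτ, rfl⟩ := hχ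
  refine ⟨finrank ℂ (Fin n → ℂ), ?_, Representation.char_one τ⟩
  have := nontrivial_of_isIrreducible τ
  exact Module.finrank_pos

theorem char_expansion (ρ : Representation ℂ G V) [Fintype (IrrCharacter G)]
    (m : IrrCharacter G → ℕ) (hm : ∀ χ : IrrCharacter G, classInner ρ.character χ.1 = m χ) :
    ρ.character = ∑ χ : IrrCharacter G, (m χ : ℂ) • (χ : G → ℂ) := by
  have h := class_function_expansion (isClassFunction_of_isCharacter (isCharacter_of_rep ρ))
  conv_lhs => rw [h]
  apply Finset.sum_congr rfl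
  intro χ _
  rw [hm]

theorem finrank_expansion (ρ : Representation ℂ G V) [Fintype (IrrCharacter G)]
    (m : IrrCharacter G → ℕ) (hm : ∀ χ : IrrCharacter G, classInner ρ.character χ.1 = m χ)
    (d : IrrCharacter G → ℕ) (hd : ∀ χ : IrrCharacter G, χ.1 1 = d χ) :
    finrank ℂ V = ∑ χ : IrrCharacter G, m χ * d χ := by
  have h := congrFun (char_expansion ρ m hm) 1
  rw [Representation.char_one] at h
  simp only [Finset.sum_apply, Pi.smul_apply, smul_eq_mul, hd] at h
  exact_mod_cast h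

theorem inner_self_expansion (ρ : Representation ℂ G V) [Fintype (IrrCharacter G)]
    (m : IrrCharacter G → ℕ) (hm : ∀ χ : IrrCharacter G, classInner ρ.character χ.1 = m χ) :
    classInner ρ.character ρ.character = ∑ χ : IrrCharacter G, ((m χ : ℂ)) ^ 2 := by
  have h : classInner ρ.character ρ.character =
      classInner (∑ χ : IrrCharacter G, (m χ : ℂ) • (χ : G → ℂ)) ρ.character := by
    rw [← char_expansion ρ m hm]
  rw [h, classInner_sum_left]
  apply Finset.sum_congr rfl
  intro χ _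
  rw [classInner_smul_left, classInner_conj_symm ρ.character χ.1, hm, Complex.conj_natCast, sq]

end chars

section trivchar
variable {G : Type u} [Group G]

theorem isIrreducible_of_finrank_eq_one {V : Type v} [AddCommGroup V] [Module ℂ V]
    [FiniteDimensional ℂ V] (ρ : Representation ℂ G V) (h : Module.finrank ℂ V = 1) :
    ρ.IsIrreducible := by
  have : Nontrivial V := (Module.finrank_pos_iff (R := ℂ)).mp (by rw [h]; exact Nat.one_pos)
  refine { exists_pair_ne := ⟨⊥, ⊤, ?_⟩, eq_bot_or_eq_top := ?_ }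
  · intro hbt
    obtain ⟨v, hv⟩ := exists_ne (0 : V)
    have : v ∈ (⊤ : Subrepresentation ρ) := trivial
    rw [← hbt] at this
    exact hv this
  · intro U
    have hle : Module.finrank ℂ U.toSubmodule ≤ 1 := h ▸ Submodule.finrank_le _
    rcases Nat.le_one_iff_eq_zero_or_eq_one.mp hle with h0 | h1
    · left
      apply Subrepresentation.toSubmodule_injective
      exact Submodule.finrank_eq_zero.mp h0
    · right
      apply Subrepresentation.toSubmodule_injective
      exact Submodule.eq_top_of_finrank_eq (h1.trans h.symm)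

/-- The principal character is irreducible. -/
theorem isIrrCharacter_one : IsIrrCharacter G (fun _ : G => (1 : ℂ)) := by
  have hirr : (1 : Representation ℂ G (Fin 1 → ℂ)).IsIrreducible :=
    isIrreducible_of_finrank_eq_one _ (by simp)
  refine ⟨1, 1, hirr, ?_⟩
  ext g
  simp [Representation.character]

end trivchar

section perm
variable {G : Type u} [Group G] [Fintype G] {Ω : Type v} [Fintype Ω] [DecidableEq Ω]
    [MulAction G Ω]

theorem inner_one [MulAction.IsPretransitive G Ω] [Nonempty Ω] :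
    classInner (permRep ℂ G Ω).character (fun _ => 1) = 1 := by
  have : Invertible (Nat.card G : ℂ) :=
    invertibleOfNonzero (by exact_mod_cast (Nat.card_pos (α := G)).ne')
  unfold classInner
  simp only [map_one, mul_one]
  rw [Representation.card_inv_mul_sum_char_eq_finrank]
  have hinv : invariants (permRep ℂ G Ω) = Submodule.span ℂ {fun _ : Ω => (1 : ℂ)} := by
    obtain ⟨a⟩ := ‹Nonempty Ω›
    ext v
    rw [mem_invariants, Submodule.mem_span_singleton]
    constructor
    · intro hv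
      refine ⟨v a, ?_⟩
      funext x
      simp only [Pi.smul_apply, smul_eq_mul, mul_one]
      exact (Orbital.fixed_const v hv x a).symm
    · rintro ⟨c, rfl⟩ g
      rfl
  rw [hinv, finrank_span_singleton]
  · simp
  · intro h
    obtain ⟨a⟩ := ‹Nonempty Ω›
    have := congrFun h a
    simp at this

/-- orbits of the stabilizer correspond to orbitals -/
def orbMap (G : Type u) [Group G] {Ω : Type v} [MulAction G Ω] (a : Ω) :
    MulAction.orbitRel.Quotient (MulAction.stabilizer G a) Ω →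
      MulAction.orbitRel.Quotient G (Ω × Ω) :=
  Quotient.map' (fun y => (a, y)) (by
    intro y y' h
    change y ∈ MulAction.orbit (MulAction.stabilizer G a) y' at h
    obtain ⟨g, rfl⟩ := h
    change (a, g • y') ∈ MulAction.orbit G (a, y')
    refine ⟨g.1, ?_⟩
    change (g.1 • a, g.1 • y') = (a, g • y')
    rw [g.2]
    rfl)

theorem orbMap_bijective [MulAction.IsPretransitive G Ω] (a : Ω) :
    Function.Bijective (orbMap G a) := by
  constructor
  · intro q q'
    induction q using Quotient.inductionOn' with | _ y => ?_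
    induction q' using Quotient.inductionOn' with | _ y' => ?_
    intro h
    have h' : (a, y) ∈ MulAction.orbit G (a, y') := Quotient.exact' h
    obtain ⟨g, hg⟩ := h'
    have h1 : g • a = a := congrArg Prod.fst hg
    have h2 : g • y' = y := congrArg Prod.snd hg
    apply Quotient.sound'
    change y ∈ MulAction.orbit (MulAction.stabilizer G a) y'
    exact ⟨⟨g, h1⟩, h2⟩
  · intro q
    induction q using Quotient.inductionOn' with | _ p => ?_
    obtain ⟨x, y⟩ := p
    obtain ⟨g, rfl⟩ := MulAction.exists_smul_eq G a x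
    refine ⟨Quotient.mk'' (g⁻¹ • y), ?_⟩
    apply Quotient.sound'
    change (a, g⁻¹ • y) ∈ MulAction.orbit G (g • a, y)
    refine ⟨g⁻¹, ?_⟩
    change (g⁻¹ • g • a, g⁻¹ • y) = _
    rw [inv_smul_smul]

theorem card_fixedBy_prod (g : G) :
    Nat.card (MulAction.fixedBy (Ω × Ω) g) = Nat.card (MulAction.fixedBy Ω g) ^ 2 := by
  have : MulAction.fixedBy (Ω × Ω) g = (MulAction.fixedBy Ω g) ×ˢ (MulAction.fixedBy Ω g) := by
    ext p
    simp only [MulAction.mem_fixedBy, Set.mem_prod]
    constructor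
    · intro h
      exact ⟨congrArg Prod.fst h, congrArg Prod.snd h⟩
    · rintro ⟨h1, h2⟩
      exact Prod.ext h1 h2
  rw [this, Nat.card_congr (Equiv.Set.prod _ _), Nat.card_prod, sq]

theorem inner_self_eq_rank [MulAction.IsPretransitive G Ω] (a : Ω) :
    classInner (permRep ℂ G Ω).character (permRep ℂ G Ω).character =
      (Nat.card (MulAction.orbitRel.Quotient (MulAction.stabilizer G a) Ω) : ℂ) := by
  classical
  have hcard : (Nat.card G : ℂ) ≠ 0 := by exact_mod_cast (Nat.card_pos (α := G)).ne'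
  rw [Nat.card_congr (Equiv.ofBijective _ (orbMap_bijective (G := G) a))]
  have hB := MulAction.sum_card_fixedBy_eq_card_orbits_mul_card_group G (Ω × Ω)
  unfold classInner
  rw [inv_mul_eq_iff_eq_mul₀ hcard]
  have h1 : ∀ g : G, (permRep ℂ G Ω).character g * conj ((permRep ℂ G Ω).character g) =
      (Fintype.card (MulAction.fixedBy (Ω × Ω) g) : ℂ) := by
    intro g
    rw [Cfsg.Agent.S0718.permRep_character, Complex.conj_natCast, ← Nat.card_eq_fintype_card,
      card_fixedBy_prod, sq]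
    push_cast
    rfl
  rw [Finset.sum_congr rfl (fun g _ => h1 g), ← Nat.cast_sum, hB, Nat.card_eq_fintype_card,
    Nat.card_eq_fintype_card]
  push_cast
  ring

end perm

section arith

variable {I Q : Type*} [Fintype I] [Fintype Q] [DecidableEq I] [DecidableEq Q]

theorem arith_core (χ₀ : I) (ω₀ : Q) (m d : I → ℕ) (s : Q → ℕ) (f : ℕ) (hf : 0 < f)
    (hm0 : m χ₀ = 1) (hd0 : d χ₀ = 1)
    (hdf : ∀ χ, χ ≠ χ₀ → m χ ≠ 0 → d χ = f)
    (hs0 : s ω₀ = 1) (hsf : ∀ ω, ω ≠ ω₀ → f ∣ s ω ∧ 0 < s ω)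
    (hn : ∑ χ, m χ * d χ = ∑ ω, s ω) (hr : ∑ χ, (m χ) ^ 2 = Fintype.card Q) :
    (∀ χ, m χ ≤ 1) ∧ ∀ ω, ω ≠ ω₀ → s ω = f := by
  have e1 := Finset.add_sum_erase Finset.univ (fun χ => m χ * d χ) (Finset.mem_univ χ₀)
  have e2 := Finset.add_sum_erase Finset.univ (fun χ => (m χ) ^ 2) (Finset.mem_univ χ₀)
  have e3 := Finset.add_sum_erase Finset.univ s (Finset.mem_univ ω₀)
  have e4 : (Finset.univ.erase ω₀).card + 1 = Fintype.card Q := by
    rw [Finset.card_erase_of_mem (Finset.mem_univ ω₀), Finset.card_univ]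
    have : 0 < Fintype.card Q := Fintype.card_pos_iff.mpr ⟨ω₀⟩
    omega
  have e5 : ∑ χ ∈ Finset.univ.erase χ₀, m χ * d χ = f * ∑ χ ∈ Finset.univ.erase χ₀, m χ := by
    rw [Finset.mul_sum]
    apply Finset.sum_congr rfl
    intro χ hχ
    by_cases h0 : m χ = 0
    · rw [h0]; simp
    · rw [hdf χ (Finset.ne_of_mem_erase hχ) h0, mul_comm]
  have e6 : (Finset.univ.erase ω₀).card • f ≤ ∑ ω ∈ Finset.univ.erase ω₀, s ω := by
    apply Finset.card_nsmul_le_sum
    intro ω hω
    exact Nat.le_of_dvd (hsf ω (Finset.ne_of_mem_erase hω)).2 (hsf ω (Finset.ne_of_mem_erase hω)).1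
  have e7 : ∑ χ ∈ Finset.univ.erase χ₀, m χ ≤ ∑ χ ∈ Finset.univ.erase χ₀, (m χ) ^ 2 := by
    apply Finset.sum_le_sum
    intro χ _
    nlinarith [Nat.zero_le (m χ)]
  simp only [hm0, hd0, hs0, one_pow, mul_one] at e1 e2 e3
  rw [smul_eq_mul] at e6
  set A := ∑ χ ∈ Finset.univ.erase χ₀, m χ
  set B := ∑ χ ∈ Finset.univ.erase χ₀, (m χ) ^ 2
  set S := ∑ ω ∈ Finset.univ.erase ω₀, s ω
  set c := (Finset.univ.erase ω₀).card
  have hBc : B = c := by omega
  have hfA : f * A = S := by rw [← e5]; omega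
  have h1 : f * B ≤ f * A := by rw [hBc, hfA, mul_comm]; exact e6
  have hBA : B = A := le_antisymm (Nat.le_of_mul_le_mul_left h1 hf) e7
  have hSc : S = c * f := by rw [← hfA, ← hBA, hBc, mul_comm]
  constructor
  · intro χ
    by_cases hχ : χ = χ₀
    · rw [hχ, hm0]
    · have := (Finset.sum_eq_sum_iff_of_le (s := Finset.univ.erase χ₀) (f := fun χ => m χ)
        (g := fun χ => (m χ) ^ 2) (fun χ _ => by nlinarith [Nat.zero_le (m χ)])).mp hBA.symm χ
        (Finset.mem_erase.mpr ⟨hχ, Finset.mem_univ χ⟩)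
      have h3 : m χ = (m χ) ^ 2 := this
      nlinarith
  · intro ω hω
    have h2 : ∑ ω ∈ Finset.univ.erase ω₀, f = S := by
      rw [Finset.sum_const, smul_eq_mul, hSc]
    have := (Finset.sum_eq_sum_iff_of_le (s := Finset.univ.erase ω₀) (f := fun _ => f)
      (g := s) (fun ω hω => Nat.le_of_dvd (hsf ω (Finset.ne_of_mem_erase hω)).2
        (hsf ω (Finset.ne_of_mem_erase hω)).1)).mp h2 ω
      (Finset.mem_erase.mpr ⟨hω, Finset.mem_univ ω⟩)
    exact this.symm

theorem arith_rank5 (χ₀ χ₁ : I) (ω₀ : Q) (m d : I → ℕ) (s : Q → ℕ)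
    (hm0 : m χ₀ = 1) (hd0 : d χ₀ = 1) (h01 : χ₁ ≠ χ₀) (hm1 : 2 ≤ m χ₁) (hd1 : 0 < d χ₁)
    (hs0 : s ω₀ = 1)
    (hsf : (∀ χ, χ ≠ χ₀ → m χ ≠ 0 → χ = χ₁) → ∀ ω, ω ≠ ω₀ → d χ₁ ∣ s ω)
    (hspos : ∀ ω, 0 < s ω)
    (hn : ∑ χ, m χ * d χ = ∑ ω, s ω) (hr : ∑ χ, (m χ) ^ 2 = Fintype.card Q)
    (h5 : Fintype.card Q ≤ 5) : False := by
  have e2 := Finset.add_sum_erase Finset.univ (fun χ => (m χ) ^ 2) (Finset.mem_univ χ₀)
  have hmem1 : χ₁ ∈ Finset.univ.erase χ₀ := Finset.mem_erase.mpr ⟨h01, Finset.mem_univ _⟩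
  have e2' := Finset.add_sum_erase (Finset.univ.erase χ₀) (fun χ => (m χ) ^ 2) hmem1
  simp only [hm0, one_pow] at e2 e2'
  have hm1sq : 4 ≤ (m χ₁) ^ 2 := by nlinarith
  have hrest : ∑ χ ∈ (Finset.univ.erase χ₀).erase χ₁, (m χ) ^ 2 = 0 := by omega
  have hm1eq : m χ₁ = 2 := by
    have : (m χ₁) ^ 2 ≤ 4 := by omega
    nlinarith
  have hzero : ∀ χ, χ ≠ χ₀ → χ ≠ χ₁ → m χ = 0 := by
    intro χ h0 h1
    have := (Finset.sum_eq_zero_iff.mp hrest) χ
      (Finset.mem_erase.mpr ⟨h1, Finset.mem_erase.mpr ⟨h0, Finset.mem_univ _⟩⟩)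
    exact pow_eq_zero_iff (two_ne_zero) |>.mp this
  have hcard : Fintype.card Q = 5 := by
    rw [hm1eq] at e2'
    omega
  have hdiv := hsf (fun χ h0 hne => by
    by_contra h1
    exact hne (hzero χ h0 h1))
  have e1 := Finset.add_sum_erase Finset.univ (fun χ => m χ * d χ) (Finset.mem_univ χ₀)
  have e1' := Finset.add_sum_erase (Finset.univ.erase χ₀) (fun χ => m χ * d χ) hmem1
  have hrest2 : ∑ χ ∈ (Finset.univ.erase χ₀).erase χ₁, m χ * d χ = 0 := by
    apply Finset.sum_eq_zero
    intro χ hχ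
    have h1 := Finset.ne_of_mem_erase hχ
    have h0 := Finset.ne_of_mem_erase (Finset.mem_of_mem_erase hχ)
    rw [hzero χ h0 h1, zero_mul]
  simp only [hm0, hd0, mul_one, hm1eq] at e1 e1'
  have e3 := Finset.add_sum_erase Finset.univ s (Finset.mem_univ ω₀)
  have e4 : (Finset.univ.erase ω₀).card = 4 := by
    rw [Finset.card_erase_of_mem (Finset.mem_univ ω₀), Finset.card_univ, hcard]
  have e6 : (Finset.univ.erase ω₀).card • d χ₁ ≤ ∑ ω ∈ Finset.univ.erase ω₀, s ω := by
    apply Finset.card_nsmul_le_sum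
    intro ω hω
    exact Nat.le_of_dvd (hspos ω) (hdiv ω (Finset.ne_of_mem_erase hω))
  rw [e4, smul_eq_mul] at e6
  rw [hs0] at e3
  omega

end arith

end Cfsg.Agent.Helper12.RankFormula
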