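import Mathlib

set_option autoImplicit false
set_option linter.unusedSectionVars false

/-! Traces via generalized eigenspaces. -/

namespace Cfsg.Agent.Helper12.SpecTrace

open Module

universe v

variable {V : Type v} [AddCommGroup V] [Module ℂ V] [FiniteDimensional ℂ V]

theorem finite_spec (f : Module.End ℂ V) : {μ : ℂ | f.maxGenEigenspace μ ≠ ⊥}.Finite :=
  WellFoundedGT.finite_ne_bot_of_iSupIndep f.independent_maxGenEigenspace

/-- the (finite) set of eigenvalues -/
noncomputable def spec (f : Module.End ℂ V) : Finset ℂ := (finite_spec f).toFinset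

theorem mem_spec (f : Module.End ℂ V) (μ : ℂ) : μ ∈ spec f ↔ f.maxGenEigenspace μ ≠ ⊥ := by
  unfold spec
  rw [Set.Finite.mem_toFinset]
  rfl

theorem trace_eq_sum (f g : Module.End ℂ V) (h : Commute f g) :
    LinearMap.trace ℂ V g = ∑ μ ∈ spec f,
      LinearMap.trace ℂ _ (g.restrict (f.mapsTo_maxGenEigenspace_of_comm h μ)) := by
  have hds := DirectSum.isInternal_submodule_of_iSupIndep_of_iSup_eq_top
    f.independent_maxGenEigenspace (Module.End.iSup_maxGenEigenspace_eq_top f)
  exact LinearMap.trace_eq_sum_trace_restrict' hds (finite_spec f)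
    (fun μ => f.mapsTo_maxGenEigenspace_of_comm h μ)

theorem trace_restrict_mul_pow (f g : Module.End ℂ V) (h : Commute f g) (μ : ℂ) (j : ℕ) :
    LinearMap.trace ℂ _ ((g * f ^ j).restrict
      (f.mapsTo_maxGenEigenspace_of_comm (h.mul_right (Commute.pow_right rfl j)) μ)) =
    μ ^ j * LinearMap.trace ℂ _ (g.restrict (f.mapsTo_maxGenEigenspace_of_comm h μ)) := by
  induction j with
  | zero =>
    simp only [pow_zero, mul_one, one_mul]
  | succ j ih =>
    have hf' := f.mapsTo_maxGenEigenspace_of_comm (Commute.refl f) μ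
    have hgj := f.mapsTo_maxGenEigenspace_of_comm (h.mul_right (Commute.pow_right rfl j)) μ
    have e1 : (g * f ^ (j + 1)).restrict
        (f.mapsTo_maxGenEigenspace_of_comm (h.mul_right (Commute.pow_right rfl (j + 1))) μ) =
        ((g * f ^ j).restrict hgj) ∘ₗ (f.restrict hf') := by
      apply LinearMap.ext
      intro x
      apply Subtype.ext
      change (g * f ^ (j + 1)) x.1 = (g * f ^ j) (f x.1)
      rw [pow_succ, ← mul_assoc]
      rfl
    rw [e1]
    have hcomm : Commute ((g * f ^ j).restrict hgj) (f.restrict hf') :=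
      LinearMap.restrict_commute (h.mul_right (Commute.pow_right rfl j)).symm hgj hf'
    have hnil := f.isNilpotent_restrict_maxGenEigenspace_sub_algebraMap μ
    have e2 : (f - algebraMap ℂ (Module.End ℂ V) μ).restrict
        (Module.End.mapsTo_maxGenEigenspace_of_comm (Algebra.mul_sub_algebraMap_commutes f μ) μ) =
        f.restrict hf' - algebraMap ℂ _ μ := by
      apply LinearMap.ext
      intro x
      apply Subtype.ext
      rfl
    rw [e2] at hnil
    rw [LinearMap.trace_comp_eq_mul_of_commute_of_isNilpotent μ hcomm hnil, ih, pow_succ]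
    ring

theorem trace_mul_pow (f g : Module.End ℂ V) (h : Commute f g) (j : ℕ) :
    LinearMap.trace ℂ V (g * f ^ j) = ∑ μ ∈ spec f,
      μ ^ j * LinearMap.trace ℂ _ (g.restrict (f.mapsTo_maxGenEigenspace_of_comm h μ)) := by
  rw [trace_eq_sum f (g * f ^ j) (h.mul_right (Commute.pow_right rfl j))]
  apply Finset.sum_congr rfl
  intro μ _
  exact trace_restrict_mul_pow f g h μ j

theorem trace_pow (f : Module.End ℂ V) (j : ℕ) :
    LinearMap.trace ℂ V (f ^ j) = ∑ μ ∈ spec f,
      μ ^ j * (finrank ℂ (f.maxGenEigenspace μ) : ℂ) := by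
  have := trace_mul_pow f 1 (Commute.one_right f) j
  rw [one_mul] at this
  rw [this]
  apply Finset.sum_congr rfl
  intro μ _
  congr 1
  have : (1 : Module.End ℂ V).restrict
      (f.mapsTo_maxGenEigenspace_of_comm (Commute.one_right f) μ) = 1 := by
    apply LinearMap.ext
    intro x
    apply Subtype.ext
    rfl
  rw [this, LinearMap.trace_one]

end Cfsg.Agent.Helper12.SpecTrace
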