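import Mathlib
import Cfsg.Prelude.Def_Characters
import Cfsg.Prelude.Def_Perm
import Cfsg.Agent.Lib.Helper81.CharCore
import Cfsg.Agent.Lib.Helper12.MultFree
import Cfsg.Agent.Lib.Helper12.Orbital
import Cfsg.Agent.Lib.Helper12.RankFormula
import Cfsg.Agent.Lib.Helper12.SpecTrace
import Cfsg.Agent.S0718

set_option autoImplicit false
set_option linter.unusedSectionVars false

/-! Spectrum of an orbital matrix of a multiplicity-free transitive group. -/

namespace Cfsg.Agent.Helper12.OrbitalSpec

open Representation Cfsg Cfsg.Agent.Helper81 Cfsg.Agent.Helper12.Orbital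
  Cfsg.Agent.Helper12.RankFormula Cfsg.Agent.Helper12.SpecTrace Module
open scoped ComplexConjugate

universe u v

theorem exists_unique_of_sum_eq_one {ι : Type*} (S : Finset ι) (n : ι → ℕ)
    (h : ∑ μ ∈ S, n μ = 1) : ∃ μ₀ ∈ S, n μ₀ = 1 ∧ ∀ μ ∈ S, μ ≠ μ₀ → n μ = 0 := by
  classical
  have h1 : ∃ μ₀ ∈ S, n μ₀ ≠ 0 := by
    by_contra hcon
    push Not at hcon
    rw [Finset.sum_eq_zero hcon] at h
    exact zero_ne_one h
  obtain ⟨μ₀, hμ₀, hn⟩ := h1
  rw [← Finset.add_sum_erase S n hμ₀] at h
  have h2 : ∑ μ ∈ S.erase μ₀, n μ = 0 := by omega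
  refine ⟨μ₀, hμ₀, by omega, ?_⟩
  intro μ hμ hne
  exact (Finset.sum_eq_zero_iff.mp h2) μ (Finset.mem_erase.mpr ⟨hne, hμ⟩)

section
variable {G : Type u} [Group G] [Fintype G] {Ω : Type v} [Fintype Ω] [DecidableEq Ω]
    [MulAction G Ω]

/-- character of the eigen-subrepresentation -/
noncomputable def eigChar (a b : Ω) (μ : ℂ) : G → ℂ :=
  (eigSub (G := G) a b μ).toRepresentation.character

theorem perm_char_eq_sum (a b : Ω) :
    (permRep ℂ G Ω).character =
      ∑ μ ∈ spec (Matrix.toLin' (matC G a b)), eigChar (G := G) a b μ := by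
  funext x
  have := trace_mul_pow (Matrix.toLin' (matC G a b)) (permRep ℂ G Ω x) (commute_toLin a b x) 0
  simp only [pow_zero, mul_one, one_mul] at this
  rw [Finset.sum_apply]
  exact this

theorem isClassFunction_eigChar (a b : Ω) (μ : ℂ) : IsClassFunction G (eigChar (G := G) a b μ) :=
  isClassFunction_of_isCharacter (isCharacter_of_rep _)

theorem mem_roots_of_mem_spec (a b : Ω) (μ : ℂ)
    (hμ : μ ∈ spec (Matrix.toLin' (matC G a b))) :
    μ ∈ ((matZ G a b).map (Int.castRingHom ℂ)).charpoly.roots := by
  rw [mem_spec] at hμ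
  have h1 : 0 < finrank ℂ (Module.End.maxGenEigenspace (Matrix.toLin' (matC G a b)) μ) := by
    rw [Nat.pos_iff_ne_zero]
    intro h0
    exact hμ (Submodule.finrank_eq_zero.mp h0)
  rw [LinearMap.finrank_maxGenEigenspace_eq, Matrix.charpoly_toLin'] at h1
  rw [Polynomial.rootMultiplicity_pos (Matrix.charpoly_monic _).ne_zero] at h1
  rw [Polynomial.mem_roots (Matrix.charpoly_monic _).ne_zero]
  exact h1

theorem const_mem [MulAction.IsPretransitive G Ω] (a b : Ω) :
    (fun _ : Ω => (1 : ℂ)) ∈ Module.End.maxGenEigenspace (Matrix.toLin' (matC G a b))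
      (Nat.card (MulAction.orbit (MulAction.stabilizer G a) b) : ℂ) := by
  have hone : Matrix.toLin' (matC G a b) (fun _ => (1 : ℂ)) =
      (Nat.card (MulAction.orbit (MulAction.stabilizer G a) b) : ℂ) • (fun _ => (1 : ℂ)) := by
    funext x
    rw [toLin_apply]
    simp only [mul_one, Pi.smul_apply, smul_eq_mul]
    exact rowsum a b x
  rw [Module.End.mem_maxGenEigenspace]
  refine ⟨1, ?_⟩
  rw [pow_one, LinearMap.sub_apply, hone]
  simp

/-- The spectrum of an orbital matrix in a multiplicity-free permutation representation. -/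
theorem spectrum [MulAction.IsPretransitive G Ω] [Nonempty Ω] (a b : Ω) {I : Type*} [Fintype I]
    [DecidableEq I] (χ : I → G → ℂ) (hirr : ∀ i, IsIrrCharacter G (χ i))
    (hinj : Function.Injective χ) (hπ : (permRep ℂ G Ω).character = ∑ i, χ i) :
    ∃ θ : I → ℂ, (∀ i, IsIntegral ℤ (θ i)) ∧
      (∀ i, χ i = (fun _ => 1) →
        θ i = (Nat.card (MulAction.orbit (MulAction.stabilizer G a) b) : ℂ)) ∧
      ∀ j : ℕ, ((matC G a b) ^ j).trace = ∑ i, χ i 1 * θ i ^ j := by
  classical
  set f := Matrix.toLin' (matC G a b) with hf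
  set S := spec f with hS
  -- multiplicities
  have hn : ∀ (μ : ℂ) (i : I), ∃ m : ℕ, classInner (eigChar (G := G) a b μ) (χ i) = m :=
    fun μ i => exists_mult _ _ (hirr i)
  choose n hn using hn
  -- inner products with the permutation character
  have hπi : ∀ i, classInner (permRep ℂ G Ω).character (χ i) = 1 := by
    intro i
    rw [hπ, classInner_sum_left]
    rw [Finset.sum_eq_single i]
    · rw [irr_orthonormal (hirr i) (hirr i), if_pos rfl]
    · intro i' _ hne
      rw [irr_orthonormal (hirr i') (hirr i), if_neg (fun h => hne (hinj h))]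
    · intro h; exact absurd (Finset.mem_univ i) h
  have hsum1 : ∀ i, ∑ μ ∈ S, n μ i = 1 := by
    intro i
    have h1 := hπi i
    rw [perm_char_eq_sum a b, classInner_sum_left] at h1
    simp_rw [hn] at h1
    exact_mod_cast h1
  -- other irreducible characters do not occur
  have hother : ∀ ψ : G → ℂ, IsIrrCharacter G ψ → (∀ i, χ i ≠ ψ) → ∀ μ ∈ S,
      classInner (eigChar (G := G) a b μ) ψ = 0 := by
    intro ψ hψ hne
    have hm : ∀ μ : ℂ, ∃ m : ℕ, classInner (eigChar (G := G) a b μ) ψ = m :=
      fun μ => exists_mult _ _ hψ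
    choose m hm using hm
    have h1 : classInner (permRep ℂ G Ω).character ψ = 0 := by
      rw [hπ, classInner_sum_left]
      apply Finset.sum_eq_zero
      intro i _
      rw [irr_orthonormal (hirr i) hψ, if_neg (hne i)]
    rw [perm_char_eq_sum a b, classInner_sum_left] at h1
    simp_rw [hm] at h1
    have h2 : ∑ μ ∈ S, m μ = 0 := by exact_mod_cast h1
    intro μ hμ
    rw [hm, (Finset.sum_eq_zero_iff.mp h2) μ hμ]
    simp
  -- expansion of the eigen-characters
  have hexp : ∀ μ ∈ S, eigChar (G := G) a b μ = ∑ i, (n μ i : ℂ) • χ i := by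
    intro μ hμ
    rw [← sub_eq_zero]
    apply eq_zero_of_classInner_irr_eq_zero
    · intro g h
      simp only [Pi.sub_apply, Finset.sum_apply, Pi.smul_apply, smul_eq_mul]
      rw [isClassFunction_eigChar a b μ g h]
      congr 1
      apply Finset.sum_congr rfl
      intro i _
      rw [isClassFunction_of_isCharacter (IsIrrCharacter.isCharacter (hirr i)) g h]
    · intro ψ hψ
      rw [classInner_sub_left, classInner_sum_left]
      by_cases hex : ∃ i, χ i = ψ
      · obtain ⟨i, rfl⟩ := hex
        rw [Finset.sum_eq_single i]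
        · rw [classInner_smul_left, irr_orthonormal (hirr i) (hirr i), if_pos rfl, hn]
          ring
        · intro i' _ hne
          rw [classInner_smul_left, irr_orthonormal (hirr i') (hirr i),
            if_neg (fun h => hne (hinj h)), mul_zero]
        · intro h; exact absurd (Finset.mem_univ i) h
      · push Not at hex
        rw [hother ψ hψ hex μ hμ]
        rw [Finset.sum_eq_zero]
        · ring
        · intro i _
          rw [classInner_smul_left, irr_orthonormal (hirr i) hψ, if_neg (hex i), mul_zero]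
  have hdim : ∀ μ ∈ S, (finrank ℂ (Module.End.maxGenEigenspace f μ) : ℂ) =
      ∑ i, (n μ i : ℂ) * χ i 1 := by
    intro μ hμ
    have h1 := congrFun (hexp μ hμ) 1
    unfold eigChar at h1
    rw [Representation.char_one] at h1
    simp only [Finset.sum_apply, Pi.smul_apply, smul_eq_mul] at h1
    exact h1
  -- the eigenvalue on each constituent
  have hex : ∀ i, ∃ μ₀ ∈ S, n μ₀ i = 1 ∧ ∀ μ ∈ S, μ ≠ μ₀ → n μ i = 0 :=
    fun i => exists_unique_of_sum_eq_one S (fun μ => n μ i) (hsum1 i)
  choose θ hθS hθ1 hθ0 using hex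
  refine ⟨θ, ?_, ?_, ?_⟩
  · intro i
    exact isIntegral_of_root (matZ G a b) (θ i) (mem_roots_of_mem_spec a b (θ i) (hθS i))
  · intro i hi
    set k : ℂ := (Nat.card (MulAction.orbit (MulAction.stabilizer G a) b) : ℂ) with hk
    by_contra hne
    have hcm := const_mem (G := G) a b
    have hkS : k ∈ S := by
      rw [hS, mem_spec]
      intro hbot
      rw [hbot, Submodule.mem_bot] at hcm
      have := congrFun hcm a
      simp at this
    have h0 : n k i = 0 := hθ0 i k hkS (fun h => hne h.symm)
    have h1 := hn k i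
    rw [h0, hi] at h1
    -- inner product with the trivial character is the dimension of invariants
    have : Invertible (Nat.card G : ℂ) :=
      invertibleOfNonzero (by exact_mod_cast (Nat.card_pos (α := G)).ne')
    unfold classInner eigChar at h1
    simp only [map_one, mul_one] at h1
    rw [Representation.card_inv_mul_sum_char_eq_finrank] at h1
    have h2 : finrank ℂ (invariants (eigSub (G := G) a b k).toRepresentation) = 0 := by
      exact_mod_cast h1
    have h3 := Submodule.finrank_eq_zero.mp h2
    have hmem : (⟨fun _ => (1 : ℂ), hcm⟩ : (eigSub (G := G) a b k).toSubmodule) ∈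
        invariants (eigSub (G := G) a b k).toRepresentation := by
      rw [mem_invariants]
      intro g
      apply Subtype.ext
      rfl
    rw [h3, Submodule.mem_bot] at hmem
    have := congrFun (congrArg Subtype.val hmem) a
    simp at this
  · intro j
    have h1 : ((matC G a b) ^ j).trace = LinearMap.trace ℂ _ (f ^ j) := by
      rw [hf, ← Matrix.toLin'_pow, Matrix.trace_toLin'_eq]
    rw [h1, trace_pow]
    have h2 : ∀ μ ∈ S, μ ^ j * (finrank ℂ (Module.End.maxGenEigenspace f μ) : ℂ) =
        ∑ i, χ i 1 * ((n μ i : ℂ) * μ ^ j) := by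
      intro μ hμ
      rw [hdim μ hμ, Finset.mul_sum]
      apply Finset.sum_congr rfl
      intro i _
      ring
    rw [Finset.sum_congr rfl h2, Finset.sum_comm]
    apply Finset.sum_congr rfl
    intro i _
    rw [← Finset.mul_sum]
    congr 1
    rw [Finset.sum_eq_single (θ i)]
    · rw [hθ1 i]; simp
    · intro μ hμ hne
      rw [hθ0 i μ hμ hne]; simp
    · intro h; exact absurd (hθS i) h

end

end Cfsg.Agent.Helper12.OrbitalSpec
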