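import Mathlib

set_option autoImplicit false
set_option linter.unusedSectionVars false
set_option linter.style.haveILetI false
set_option linter.unusedVariables false

/-! Transitive permutation groups of degree `p + 1` and order `(p + 1) p d` with `d < p`:
basic structure. -/

namespace Cfsg.Agent.Helper12.PPlusOne

open MulAction

variable {α : Type*} [Fintype α] [DecidableEq α] {p d : ℕ}

theorem d_pos (G : Subgroup (Equiv.Perm α)) (hG : Nat.card G = (p + 1) * p * d) : 0 < d := by
  rcases Nat.eq_zero_or_pos d with h | h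
  · rw [h, mul_zero] at hG
    have : 0 < Nat.card G := Nat.card_pos
    omega
  · exact h

theorem card_stab (hα : Fintype.card α = p + 1) (G : Subgroup (Equiv.Perm α))
    [MulAction.IsPretransitive G α] (hG : Nat.card G = (p + 1) * p * d) (a : α) :
    Nat.card (stabilizer G a) = p * d := by
  have h1 := MulAction.index_stabilizer_of_transitive G a
  have h2 := Subgroup.card_mul_index (stabilizer G a)
  rw [h1, Nat.card_eq_fintype_card (α := α), hα, hG] at h2
  apply Nat.eq_of_mul_eq_mul_right (Nat.succ_pos p)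
  rw [Nat.succ_eq_add_one, h2]; ring

theorem exists_u (hp : p.Prime) (hα : Fintype.card α = p + 1) (G : Subgroup (Equiv.Perm α))
    [MulAction.IsPretransitive G α] (hG : Nat.card G = (p + 1) * p * d) (a : α) :
    ∃ u : G, u • a = a ∧ orderOf u = p := by
  haveI : Fact p.Prime := ⟨hp⟩
  have hc := card_stab hα G hG a
  obtain ⟨u', hu'⟩ := exists_prime_orderOf_dvd_card' (G := ↥(stabilizer G a)) p
    (by rw [hc]; exact Dvd.intro _ rfl)
  refine ⟨(u' : G), u'.2, ?_⟩
  rw [Subgroup.orderOf_coe, hu']

/-- an element of order `p` fixing `a` fixes no other point -/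
theorem u_fix (hp : p.Prime) (hα : Fintype.card α = p + 1) (G : Subgroup (Equiv.Perm α))
    {a : α} {u : G} (hua : u • a = a) (huo : orderOf u = p) {x : α} (hx : x ≠ a) :
    u • x ≠ x := by
  haveI : Fact p.Prime := ⟨hp⟩
  intro hux
  have hσo : orderOf (u : Equiv.Perm α) = p := by rw [Subgroup.orderOf_coe, huo]
  have hσp : (u : Equiv.Perm α) ^ p ^ 1 = 1 := by rw [pow_one, ← hσo, pow_orderOf_eq_one]
  have hmod := Equiv.Perm.card_compl_support_modEq hσp
  rw [hα] at hmod
  have ha' : a ∈ ((u : Equiv.Perm α).support)ᶜ := by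
    rw [Finset.mem_compl, Equiv.Perm.mem_support, not_not]
    exact hua
  have hx' : x ∈ ((u : Equiv.Perm α).support)ᶜ := by
    rw [Finset.mem_compl, Equiv.Perm.mem_support, not_not]
    exact hux
  have h2 : 2 ≤ ((u : Equiv.Perm α).support)ᶜ.card := by
    have : ({a, x} : Finset α) ⊆ ((u : Equiv.Perm α).support)ᶜ := by
      intro y hy
      rw [Finset.mem_insert, Finset.mem_singleton] at hy
      rcases hy with rfl | rfl
      · exact ha'
      · exact hx'
    have h3 := Finset.card_le_card this
    rw [Finset.card_pair (Ne.symm hx)] at h3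
    exact h3
  have hle : ((u : Equiv.Perm α).support)ᶜ.card ≤ p + 1 := by
    rw [← hα]; exact Finset.card_le_univ _
  have hp2 := hp.two_le
  have hcard : ((u : Equiv.Perm α).support)ᶜ.card = p + 1 := by
    set c := ((u : Equiv.Perm α).support)ᶜ.card with hc
    have h4 : c % p = 1 := by
      have := hmod
      unfold Nat.ModEq at this
      rw [this, Nat.add_mod_left, Nat.mod_eq_of_lt (by omega)]
    have h5 := Nat.div_add_mod c p
    rw [h4] at h5
    rcases Nat.lt_or_ge (c / p) 1 with h6 | h6
    · have : c / p = 0 := Nat.lt_one_iff.mp h6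
      rw [this, mul_zero] at h5
      omega
    · have : p * 1 ≤ p * (c / p) := Nat.mul_le_mul_left p h6
      omega
  have huniv : ((u : Equiv.Perm α).support)ᶜ = Finset.univ := by
    apply Finset.eq_univ_of_card
    rw [hcard, hα]
  have hsupp : (u : Equiv.Perm α).support = ∅ := by
    rw [← Finset.top_eq_univ, compl_eq_top] at huniv
    exact huniv
  have h1 : (u : Equiv.Perm α) = 1 := Equiv.Perm.support_eq_empty_iff.mp hsupp
  rw [h1, orderOf_one] at hσo
  omega

/-- powers of `u` fixing a point other than `a` are trivial -/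
theorem u_free (hp : p.Prime) (hα : Fintype.card α = p + 1) (G : Subgroup (Equiv.Perm α))
    {a : α} {u : G} (hua : u • a = a) (huo : orderOf u = p) {x : α} (hx : x ≠ a) (i : ℕ)
    (hi : (u ^ i) • x = x) : p ∣ i := by
  by_contra hpi
  have hcop : Nat.Coprime i (orderOf u) := by
    rw [huo]
    exact (Nat.Coprime.symm ((Nat.Prime.coprime_iff_not_dvd hp).mpr hpi))
  obtain ⟨m, hm⟩ := exists_pow_eq_self_of_coprime hcop
  apply u_fix hp hα G hua huo hx
  rw [← hm]
  have : ∀ k : ℕ, ((u ^ i) ^ k) • x = x := by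
    intro k
    induction k with
    | zero => simp
    | succ k ih => rw [pow_succ, mul_smul, hi, ih]
  exact this m

/-- elements of `zpowers u` fixing a point other than `a` are trivial -/
theorem zpowers_free (hp : p.Prime) (hα : Fintype.card α = p + 1)
    (G : Subgroup (Equiv.Perm α))
    {a : α} {u : G} (hua : u • a = a) (huo : orderOf u = p) {x : α} (hx : x ≠ a) {w : G}
    (hw : w ∈ Subgroup.zpowers u) (hwx : w • x = x) : w = 1 := by
  have hfin : IsOfFinOrder u := by
    rw [← orderOf_pos_iff, huo]; exact hp.pos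
  rw [← mem_powers_iff_mem_zpowers] at hw
  obtain ⟨i, rfl⟩ := hw
  have := u_free hp hα G hua huo hx i hwx
  rw [← huo] at this
  exact orderOf_dvd_iff_pow_eq_one.mp this

theorem zpowers_fix {G : Subgroup (Equiv.Perm α)} {a : α} {u : G} (hua : u • a = a) {w : G}
    (hw : w ∈ Subgroup.zpowers u) : w • a = a := by
  have : Subgroup.zpowers u ≤ stabilizer G a := by
    rw [Subgroup.zpowers_le]
    exact hua
  exact this hw

/-- `⟨u⟩` is transitive on the points other than `a` -/
theorem u_trans (hp : p.Prime) (hα : Fintype.card α = p + 1) (G : Subgroup (Equiv.Perm α))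
    {a : α} {u : G} (hua : u • a = a) (huo : orderOf u = p) {x y : α} (hx : x ≠ a)
    (hy : y ≠ a) : ∃ i : ℕ, (u ^ i) • x = y := by
  have hpow_a : ∀ i : ℕ, (u ^ i) • a = a := by
    intro i
    induction i with
    | zero => simp
    | succ k ih => rw [pow_succ, mul_smul, hua, ih]
  let f : Fin p → {y : α // y ≠ a} := fun i => ⟨(u ^ (i : ℕ)) • x, by
    intro h
    exact hx (smul_left_cancel _ (h.trans (hpow_a i).symm))⟩
  have hinj : Function.Injective f := by
    have key : ∀ i j : Fin p, (i : ℕ) ≤ j → f i = f j → i = j := by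
      intro i j hij h
      have h1 : (u ^ (i : ℕ)) • x = (u ^ (j : ℕ)) • x := congrArg Subtype.val h
      have h2 : (u ^ ((j : ℕ) - i)) • x = x := by
        have : u ^ (j : ℕ) = u ^ (i : ℕ) * u ^ ((j : ℕ) - i) := by
          rw [← pow_add]; congr 1; omega
        rw [this, mul_smul] at h1
        exact (smul_left_cancel _ h1).symm
      have h3 := u_free hp hα G hua huo hx _ h2
      have h4 : (j : ℕ) - i < p := by have := j.2; omega
      have h5 : (j : ℕ) - i = 0 := Nat.eq_zero_of_dvd_of_lt h3 h4
      apply Fin.ext; omega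
    intro i j h
    rcases Nat.le_total (i : ℕ) j with hij | hij
    · exact key i j hij h
    · exact (key j i hij h.symm).symm
  have hcard : Fintype.card (Fin p) = Fintype.card {y : α // y ≠ a} := by
    rw [Fintype.card_fin, Fintype.card_subtype_compl, Fintype.card_subtype_eq, hα]
    omega
  have hbij := (Fintype.bijective_iff_injective_and_card f).mpr ⟨hinj, hcard⟩
  obtain ⟨i, hi⟩ := hbij.2 ⟨y, hy⟩
  exact ⟨i, congrArg Subtype.val hi⟩

theorem two_trans (hp : p.Prime) (hα : Fintype.card α = p + 1) (G : Subgroup (Equiv.Perm α))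
    [MulAction.IsPretransitive G α] (hG : Nat.card G = (p + 1) * p * d) :
    MulAction.IsMultiplyPretransitive G α 2 := by
  rw [MulAction.is_two_pretransitive_iff]
  intro a b c e hab hce
  obtain ⟨g1, hg1⟩ := MulAction.exists_smul_eq G a c
  obtain ⟨u, huc, huo⟩ := exists_u hp hα G hG c
  have h1 : g1 • b ≠ c := by
    intro h
    exact hab (smul_left_cancel g1 (hg1.trans h.symm))
  obtain ⟨i, hi⟩ := u_trans hp hα G huc huo h1 (Ne.symm hce)
  have hpow_c : ∀ i : ℕ, (u ^ i) • c = c := by
    intro i
    induction i with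
    | zero => simp
    | succ k ih => rw [pow_succ, mul_smul, huc, ih]
  refine ⟨u ^ i * g1, ?_, ?_⟩
  · rw [mul_smul, hg1, hpow_c]
  · rw [mul_smul, hi]

/-- the subgroup of order `p` of a point stabiliser is unique -/
theorem mem_zpowers_of_order (hp : p.Prime) (hα : Fintype.card α = p + 1)
    (G : Subgroup (Equiv.Perm α)) [MulAction.IsPretransitive G α]
    (hG : Nat.card G = (p + 1) * p * d) (hd : d < p)
    {a : α} {u v : G} (hua : u • a = a) (huo : orderOf u = p) (hva : v • a = a)
    (hvo : orderOf v = p) : v ∈ Subgroup.zpowers u := by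
  by_contra hv
  have hinter : ∀ w : G, w ∈ Subgroup.zpowers u → w ∈ Subgroup.zpowers v → w = 1 := by
    intro w hwu hwv
    by_contra hw1
    apply hv
    have hfin : IsOfFinOrder v := by
      rw [← orderOf_pos_iff, hvo]; exact hp.pos
    rw [← mem_powers_iff_mem_zpowers] at hwv
    obtain ⟨j, rfl⟩ := hwv
    have hpj : ¬ p ∣ j := by
      intro h
      apply hw1
      rw [← hvo] at h
      exact orderOf_dvd_iff_pow_eq_one.mp h
    have hcop : Nat.Coprime j (orderOf v) := by
      rw [hvo]
      exact (Nat.Coprime.symm ((Nat.Prime.coprime_iff_not_dvd hp).mpr hpj))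
    obtain ⟨m, hm⟩ := exists_pow_eq_self_of_coprime hcop
    rw [← hm]
    exact Subgroup.pow_mem _ hwu m
  let f : (Subgroup.zpowers u) × (Subgroup.zpowers v) → stabilizer G a := fun xy =>
    ⟨(xy.1 : G) * (xy.2 : G), by
      rw [mem_stabilizer_iff, mul_smul, zpowers_fix hva xy.2.2, zpowers_fix hua xy.1.2]⟩
  have hinj : Function.Injective f := by
    rintro ⟨x, y⟩ ⟨x', y'⟩ h
    have h1 : (x : G) * (y : G) = (x' : G) * (y' : G) := congrArg Subtype.val h
    have h2 : (x' : G)⁻¹ * (x : G) = (y' : G) * (y : G)⁻¹ := by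
      have : (x : G) = (x' : G) * (y' : G) * (y : G)⁻¹ := by
        rw [← h1]; group
      rw [this]; group
    have h3 : (x' : G)⁻¹ * (x : G) = 1 := by
      apply hinter
      · exact Subgroup.mul_mem _ (Subgroup.inv_mem _ x'.2) x.2
      · rw [h2]
        exact Subgroup.mul_mem _ y'.2 (Subgroup.inv_mem _ y.2)
    have h4 : (x : G) = x' := by
      have := congrArg (fun z => (x' : G) * z) h3
      simpa using this.trans (mul_one _)
    have h5 : (y : G) = y' := by
      rw [h4] at h1
      exact mul_left_cancel h1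
    exact Prod.ext (Subtype.ext h4) (Subtype.ext h5)
  have hle := Nat.card_le_card_of_injective f hinj
  rw [Nat.card_prod, Nat.card_zpowers, Nat.card_zpowers, huo, hvo, card_stab hα G hG a] at hle
  have : p * d < p * p := Nat.mul_lt_mul_of_pos_left hd hp.pos
  omega

/-- no non-identity element fixes three points -/
theorem three_fix (hp : p.Prime) (hα : Fintype.card α = p + 1)
    (G : Subgroup (Equiv.Perm α)) [MulAction.IsPretransitive G α]
    (hG : Nat.card G = (p + 1) * p * d) (hd : d < p) (g : G) (a b c : α) (hab : a ≠ b)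
    (hbc : b ≠ c) (hac : a ≠ c) (hga : g • a = a) (hgb : g • b = b) (hgc : g • c = c) :
    g = 1 := by
  obtain ⟨u, hua, huo⟩ := exists_u hp hα G hG a
  have hfin : IsOfFinOrder u := by
    rw [← orderOf_pos_iff, huo]; exact hp.pos
  have hg'a : g⁻¹ • a = a := by rw [inv_smul_eq_iff, hga]
  have hva : (g * u * g⁻¹) • a = a := by
    rw [mul_smul, mul_smul, hg'a, hua, hga]
  have hvo : orderOf (g * u * g⁻¹) = p := by
    have := orderOf_injective (MulAut.conj g).toMonoidHom (MulAut.conj g).injective u
    rw [← huo, ← this]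
    rfl
  have hmem := mem_zpowers_of_order hp hα G hG hd hua huo hva hvo
  rw [← mem_powers_iff_mem_zpowers] at hmem
  obtain ⟨m, hm0⟩ := hmem
  have hm : u ^ m = g * u * g⁻¹ := hm0
  -- action of `g` on the orbit of `b`
  have hconj : ∀ j : ℕ, g * u ^ j * g⁻¹ = u ^ (m * j) := by
    intro j
    rw [pow_mul, hm, conj_pow]
  have hgj : ∀ j : ℕ, g • (u ^ j) • b = (u ^ (m * j)) • b := by
    intro j
    rw [← hconj j, mul_smul, mul_smul]
    have : g⁻¹ • b = b := by rw [inv_smul_eq_iff, hgb]
    rw [this]
  obtain ⟨i, hi⟩ := u_trans hp hα G hua huo (Ne.symm hab) (Ne.symm hac)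
  have hpi : ¬ p ∣ i := by
    intro h
    apply hbc
    rw [← hi]
    rw [← huo] at h
    rw [orderOf_dvd_iff_pow_eq_one.mp h, one_smul]
  have h1 : (u ^ (m * i)) • b = (u ^ i) • b := by
    rw [← hgj i, hi, hgc]
  -- `m * i ≡ i`
  have hmod : m * i ≡ i [MOD p] := by
    rcases Nat.le_total i (m * i) with hle | hle
    · have h2 : (u ^ (m * i - i)) • b = b := by
        have : u ^ (m * i) = u ^ i * u ^ (m * i - i) := by
          rw [← pow_add]; congr 1; omega
        rw [this, mul_smul] at h1
        exact smul_left_cancel _ h1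
      have h3 := u_free hp hα G hua huo (Ne.symm hab) _ h2
      exact ((Nat.modEq_iff_dvd' hle).mpr h3).symm
    · have h2 : (u ^ (i - m * i)) • b = b := by
        have : u ^ i = u ^ (m * i) * u ^ (i - m * i) := by
          rw [← pow_add]; congr 1; omega
        rw [this, mul_smul] at h1
        exact (smul_left_cancel _ h1).symm
      have h3 := u_free hp hα G hua huo (Ne.symm hab) _ h2
      exact (Nat.modEq_iff_dvd' hle).mpr h3
  have hm1 : m ≡ 1 [MOD p] := by
    have hcop : Nat.Coprime i p := (Nat.Coprime.symm ((Nat.Prime.coprime_iff_not_dvd hp).mpr hpi))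
    have h4 : m * i ≡ 1 * i [MOD p] := by rw [one_mul]; exact hmod
    exact Nat.ModEq.cancel_right_of_coprime (by rw [Nat.gcd_comm]; exact hcop) h4
  have hum : u ^ m = u := by
    have : u ^ m = u ^ 1 := by
      rw [pow_eq_pow_iff_modEq, huo]
      exact hm1
    rw [this, pow_one]
  have hcomm : g * u * g⁻¹ = u := by rw [← hm, hum]
  have hconj1 : ∀ j : ℕ, g * u ^ j * g⁻¹ = u ^ j := by
    intro j
    rw [← conj_pow, hcomm]
  -- `g` fixes every point
  apply Subtype.ext
  apply Equiv.ext
  intro x
  change g • x = x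
  by_cases hxa : x = a
  · rw [hxa, hga]
  · obtain ⟨j, hj⟩ := u_trans hp hα G hua huo (Ne.symm hab) hxa
    rw [← hj]
    have : g⁻¹ • b = b := by rw [inv_smul_eq_iff, hgb]
    calc g • (u ^ j) • b = (g * u ^ j * g⁻¹) • b := by
          rw [mul_smul, mul_smul, this]
      _ = (u ^ j) • b := by rw [hconj1]

/-- the order of a two point stabiliser -/
theorem card_D (hp : p.Prime) (hα : Fintype.card α = p + 1)
    (G : Subgroup (Equiv.Perm α)) [MulAction.IsPretransitive G α]
    (hG : Nat.card G = (p + 1) * p * d) {a b : α} (hab : a ≠ b) :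
    Nat.card ↥(stabilizer G a ⊓ stabilizer G b : Subgroup G) = d := by
  obtain ⟨u, hua, huo⟩ := exists_u hp hα G hG a
  let f : (Subgroup.zpowers u) × ↥(stabilizer G a ⊓ stabilizer G b : Subgroup G) →
      stabilizer G a := fun xy =>
    ⟨(xy.1 : G) * (xy.2 : G), by
      rw [mem_stabilizer_iff, mul_smul, (Subgroup.mem_inf.mp xy.2.2).1, zpowers_fix hua xy.1.2]⟩
  have hinj : Function.Injective f := by
    rintro ⟨x, y⟩ ⟨x', y'⟩ h
    have h1 : (x : G) * (y : G) = (x' : G) * (y' : G) := congrArg Subtype.val h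
    have h2 : (x' : G)⁻¹ * (x : G) = (y' : G) * (y : G)⁻¹ := by
      have : (x : G) = (x' : G) * (y' : G) * (y : G)⁻¹ := by
        rw [← h1]; group
      rw [this]; group
    have h3 : (x' : G)⁻¹ * (x : G) = 1 := by
      apply zpowers_free hp hα G hua huo (Ne.symm hab)
      · exact Subgroup.mul_mem _ (Subgroup.inv_mem _ x'.2) x.2
      · rw [h2, mul_smul]
        have hy : (y : G)⁻¹ • b = b := by
          rw [inv_smul_eq_iff]
          exact ((Subgroup.mem_inf.mp y.2).2 : (y : G) • b = b).symm
        rw [hy]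
        exact (Subgroup.mem_inf.mp y'.2).2
    have h4 : (x : G) = x' := by
      have := congrArg (fun z => (x' : G) * z) h3
      simpa using this.trans (mul_one _)
    have h5 : (y : G) = y' := by
      rw [h4] at h1
      exact mul_left_cancel h1
    exact Prod.ext (Subtype.ext h4) (Subtype.ext h5)
  have hsurj : Function.Surjective f := by
    rintro ⟨g, hg⟩
    rw [mem_stabilizer_iff] at hg
    have hgb : g • b ≠ a := by
      intro h
      exact hab (smul_left_cancel g (hg.trans h.symm))
    obtain ⟨i, hi⟩ := u_trans hp hα G hua huo (Ne.symm hab) hgb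
    have hpow_a : (u ^ i) • a = a := zpowers_fix hua (Subgroup.pow_mem _ (Subgroup.mem_zpowers u) i)
    refine ⟨⟨⟨u ^ i, Subgroup.pow_mem _ (Subgroup.mem_zpowers u) i⟩, ⟨(u ^ i)⁻¹ * g, ?_⟩⟩, ?_⟩
    · refine Subgroup.mem_inf.mpr ⟨?_, ?_⟩
      · rw [mem_stabilizer_iff, mul_smul, hg, inv_smul_eq_iff, hpow_a]
      · rw [mem_stabilizer_iff, mul_smul, inv_smul_eq_iff, hi]
    · apply Subtype.ext
      change u ^ i * ((u ^ i)⁻¹ * g) = g
      group
  have hcard := Nat.card_congr (Equiv.ofBijective f ⟨hinj, hsurj⟩)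
  rw [Nat.card_prod, Nat.card_zpowers, huo, card_stab hα G hG a] at hcard
  exact (Nat.eq_of_mul_eq_mul_left hp.pos hcard)

end Cfsg.Agent.Helper12.PPlusOne
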