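import Mathlib
import Cfsg.Prelude.Def_Perm
import Cfsg.Agent.Lib.Helper12.PPlusOne
import Cfsg.Agent.Lib.Helper12.AffCoord
import Cfsg.Agent.Lib.Helper12.HupGalois

set_option autoImplicit false
set_option linter.unusedSectionVars false
set_option linter.style.haveILetI false
set_option linter.unusedVariables false

/-! Transitive permutation groups of degree `p + 1` and order `(p + 1) p d` with `d < p` having a
regular normal subgroup: `p + 1 = 2 ^ q`, `d ∈ {1, q}` and the group is semi-affine. -/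

namespace Cfsg.Agent.Helper12.PPlusOneAff

open MulAction Cfsg.Agent.Helper12.PPlusOne

variable {α : Type*} [Fintype α] [DecidableEq α] {p d : ℕ}

set_option maxHeartbeats 1000000 in
theorem affine_case (hp : p.Prime) (hp2 : p ≠ 2) (hα : Fintype.card α = p + 1)
    (G : Subgroup (Equiv.Perm α)) [MulAction.IsPretransitive G α]
    (hG : Nat.card G = (p + 1) * p * d) (hd : d < p)
    (N : Subgroup G) [hNn : N.Normal] (hNt : ∀ x y : α, ∃ n ∈ N, n • x = y)
    (hNf : ∀ n ∈ N, ∀ x : α, n • x = x → n = 1) :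
    ∃ q : ℕ, q.Prime ∧ p + 1 = 2 ^ q ∧ (d = 1 ∨ d = q) ∧ ∃ e : α ≃ GaloisField 2 q,
      ∀ g : G, (e.symm.trans (((g : Equiv.Perm α)).trans e)) ∈
        Cfsg.semiaffineGroup (GaloisField 2 q) := by
  classical
  have hp2le := hp.two_le
  have hne : Nonempty α := by
    rw [← Fintype.card_pos_iff, hα]; omega
  obtain ⟨a⟩ := hne
  obtain ⟨u, hua, huo⟩ := exists_u hp hα G hG a
  have hfinu : IsOfFinOrder u := by
    rw [← orderOf_pos_iff, huo]; exact hp.pos
  -- regularity
  have hNreg : ∀ x y : α, ∃! n : N, (n : G) • x = y := by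
    intro x y
    obtain ⟨n, hn, hnx⟩ := hNt x y
    refine ⟨⟨n, hn⟩, hnx, ?_⟩
    intro m hm
    have h1 : ((n⁻¹ * (m : G)) : G) • x = x := by
      rw [mul_smul, hm, ← hnx, inv_smul_smul]
    have h2 := hNf _ (N.mul_mem (N.inv_mem hn) m.2) x h1
    apply Subtype.ext
    have := congrArg (fun z => n * z) h2
    simpa using this
  -- `|N| = p + 1`
  have hcardN : Nat.card N = p + 1 := by
    rw [← hα, ← Nat.card_eq_fintype_card]
    apply Nat.card_congr
    refine Equiv.ofBijective (fun n : N => (n : G) • a) ⟨?_, ?_⟩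
    · intro n m h
      exact (hNreg a ((m : G) • a)).unique h rfl
    · intro y
      obtain ⟨n, hn, -⟩ := hNreg a y
      exact ⟨n, hn⟩
  have hpodd : Odd p := hp.odd_of_ne_two hp2
  -- an involution in `N`
  haveI : Fact (Nat.Prime 2) := ⟨Nat.prime_two⟩
  obtain ⟨t, ht⟩ := exists_prime_orderOf_dvd_card' (G := ↥N) 2 (by
    rw [hcardN]
    obtain ⟨k, hk⟩ := hpodd
    exact ⟨k + 1, by omega⟩)
  have ht1 : t ≠ 1 := by
    intro h
    rw [h, orderOf_one] at ht
    omega
  have htt : (t : G) * (t : G) = 1 := by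
    have h1 : t ^ 2 = 1 := by rw [← ht]; exact pow_orderOf_eq_one t
    have h2 : ((t ^ 2 : N) : G) = 1 := by rw [h1]; rfl
    rw [← pow_two]
    exact h2
  have hne1 : ∀ n : N, n ≠ 1 → (n : G) • a ≠ a := by
    intro n hn h
    apply hn
    exact Subtype.ext (hNf _ n.2 a h)
  have hupow_a : ∀ i : ℕ, (u ^ i) • a = a := fun i =>
    zpowers_fix hua (Subgroup.pow_mem _ (Subgroup.mem_zpowers u) i)
  have hN2 : ∀ n ∈ N, n * n = 1 := by
    intro n hn
    by_cases hn1 : n = 1
    · rw [hn1, mul_one]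
    have hna : n • a ≠ a := hne1 ⟨n, hn⟩ (fun h => hn1 (congrArg Subtype.val h))
    have hta : (t : G) • a ≠ a := hne1 t ht1
    obtain ⟨i, hi⟩ := u_trans hp hα G hua huo hta hna
    have hmem : u ^ i * (t : G) * (u ^ i)⁻¹ ∈ N := hNn.conj_mem _ t.2 _
    have h1 : (u ^ i * (t : G) * (u ^ i)⁻¹) • a = n • a := by
      rw [mul_smul, mul_smul]
      have : (u ^ i)⁻¹ • a = a := by rw [inv_smul_eq_iff, hupow_a]
      rw [this, hi]
    have h2 := (hNreg a (n • a)).unique (y₁ := ⟨_, hmem⟩) (y₂ := ⟨n, hn⟩) h1 rfl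
    have h3 : u ^ i * (t : G) * (u ^ i)⁻¹ = n := congrArg Subtype.val h2
    rw [← h3]
    calc u ^ i * (t : G) * (u ^ i)⁻¹ * (u ^ i * (t : G) * (u ^ i)⁻¹)
        = u ^ i * ((t : G) * (t : G)) * (u ^ i)⁻¹ := by group
      _ = 1 := by rw [htt]; group
  -- the subgroup `P`
  have hPa : ∀ w ∈ Subgroup.zpowers u, w • a = a := fun w hw => zpowers_fix hua hw
  have hPnorm : ∀ g : G, g • a = a → ∀ w ∈ Subgroup.zpowers u, g * w * g⁻¹ ∈ Subgroup.zpowers u := by
    intro g hga w hw
    obtain ⟨k, rfl⟩ := Subgroup.mem_zpowers_iff.mp hw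
    have hg'a : g⁻¹ • a = a := by rw [inv_smul_eq_iff, hga]
    have hva : (g * u * g⁻¹) • a = a := by
      rw [mul_smul, mul_smul, hg'a, hua, hga]
    have hvo : orderOf (g * u * g⁻¹) = p := by
      have := orderOf_injective (MulAut.conj g).toMonoidHom (MulAut.conj g).injective u
      rw [← huo, ← this]
      rfl
    have hmem := mem_zpowers_of_order hp hα G hG hd hua huo hva hvo
    rw [← conj_zpow]
    exact Subgroup.zpow_mem _ hmem k
  have hPcomm : ∀ w ∈ Subgroup.zpowers u, ∀ w' ∈ Subgroup.zpowers u, w * w' = w' * w := by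
    intro w hw w' hw'
    obtain ⟨k, rfl⟩ := Subgroup.mem_zpowers_iff.mp hw
    obtain ⟨l, rfl⟩ := Subgroup.mem_zpowers_iff.mp hw'
    rw [← zpow_add, ← zpow_add, add_comm]
  have hPtrans : ∀ x y : α, x ≠ a → y ≠ a → ∃ w ∈ Subgroup.zpowers u, w • x = y := by
    intro x y hx hy
    obtain ⟨i, hi⟩ := u_trans hp hα G hua huo hx hy
    exact ⟨u ^ i, Subgroup.pow_mem _ (Subgroup.mem_zpowers u) i, hi⟩
  have hex : ∃ x : α, x ≠ a := Fintype.exists_ne_of_one_lt_card (by rw [hα]; omega) a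
  obtain ⟨F, iF, iT, e, he0, h2F, hform⟩ :=
    AffCoord.exists_semiaffine (Γ := ↥G) N (Subgroup.zpowers u) a hNreg hN2 hPa hPnorm hPcomm
      hPtrans hex
  -- the field
  have hcardF : Fintype.card F = p + 1 := by rw [← hα]; exact (Fintype.card_congr e).symm
  haveI : CharP F 2 := CharTwo.of_one_ne_zero_of_two_eq_zero one_ne_zero h2F
  obtain ⟨q', -, hq'⟩ := FiniteField.card F 2
  obtain ⟨q, hqdef⟩ : ∃ q : ℕ, q = (q' : ℕ) := ⟨_, rfl⟩
  rw [← hqdef] at hq'
  have hq0 : q ≠ 0 := by rw [hqdef]; exact q'.pos.ne'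
  have hpq : p + 1 = 2 ^ q := by rw [← hcardF, hq']
  have hq1 : q ≠ 1 := by
    intro h
    rw [h, pow_one] at hpq
    have : p = 1 := by omega
    rw [this] at hp
    exact Nat.not_prime_one hp
  have hqprime : q.Prime := by
    have hP : (2 ^ q - 1).Prime := by
      have : 2 ^ q - 1 = p := by omega
      rw [this]; exact hp
    exact (Nat.prime_of_pow_sub_one_prime hq1 hP).2
  let F₀ := GaloisField 2 q
  haveI : Fintype F₀ := Fintype.ofFinite _
  have hF₀ : Fintype.card F₀ = 2 ^ q := by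
    rw [← Nat.card_eq_fintype_card]
    exact GaloisField.card 2 q hq0
  let ρ : F ≃+* F₀ := FiniteField.ringEquivOfCardEq (by rw [hq', hF₀])
  -- the order of the two point stabiliser
  obtain ⟨b, hb⟩ : ∃ b : α, b = e.symm 1 := ⟨_, rfl⟩
  have heb : e b = 1 := by rw [hb]; exact e.apply_symm_apply 1
  have hab : a ≠ b := by
    intro h
    rw [← h, he0] at heb
    exact zero_ne_one heb
  have hcD := card_D hp hα G hG hab
  have hautD : ∀ g : ↥(stabilizer G a ⊓ stabilizer G b : Subgroup G),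
      ∃ σ : F ≃+* F, ∀ x : α, e ((g : G) • x) = σ (e x) := by
    intro g
    obtain ⟨c, σ, b', hcσ⟩ := hform (g : G)
    have hga : (g : G) • a = a := (Subgroup.mem_inf.mp g.2).1
    have hgb : (g : G) • b = b := (Subgroup.mem_inf.mp g.2).2
    have hb' : b' = 0 := by
      have := hcσ a
      rw [hga, he0, map_zero, mul_zero, zero_add] at this
      exact this.symm
    have hc : c = 1 := by
      have := hcσ b
      rw [hgb, heb, map_one, mul_one, hb', add_zero] at this
      exact this.symm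
    refine ⟨σ, fun x => ?_⟩
    rw [hcσ x, hc, hb', one_mul, add_zero]
  choose Φ hΦ using hautD
  have hΦmul : ∀ g h, Φ (g * h) = Φ g * Φ h := by
    intro g h
    apply RingEquiv.ext
    intro y
    obtain ⟨x, rfl⟩ := e.surjective y
    rw [← hΦ, RingAut.mul_apply, ← hΦ, ← hΦ, Subgroup.coe_mul, mul_smul]
  let Φhom : ↥(stabilizer G a ⊓ stabilizer G b : Subgroup G) →* (F ≃+* F) :=
    MonoidHom.mk' Φ hΦmul
  have hΦinj : Function.Injective Φhom := by
    intro g h hgh
    have h1 : Φ g = Φ h := hgh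
    apply Subtype.ext
    apply Subtype.ext
    apply Equiv.ext
    intro x
    apply e.injective
    change e ((g : G) • x) = e ((h : G) • x)
    rw [hΦ, hΦ, h1]
  have hdvd := Subgroup.card_dvd_of_injective Φhom hΦinj
  have haut : Nat.card (F ≃+* F) = q :=
    HupGalois.aut_card F 2 q (by rw [Nat.card_eq_fintype_card, hq'])
  rw [hcD, haut] at hdvd
  have hdq : d = 1 ∨ d = q := (Nat.dvd_prime hqprime).mp hdvd
  refine ⟨q, hqprime, hpq, hdq, e.trans ρ.toEquiv, ?_⟩
  intro g
  obtain ⟨c, σ, b', hcσ⟩ := hform g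
  have hc0 : c ≠ 0 := by
    intro hc
    obtain ⟨x, hx⟩ := hex
    have h1 := hcσ x
    have h2 := hcσ a
    rw [hc, zero_mul, zero_add] at h1 h2
    have := e.injective (h1.trans h2.symm)
    exact hx (smul_left_cancel g this)
  refine ⟨Units.mk0 (ρ c) (by
    intro h
    apply hc0
    exact (map_eq_zero_iff ρ ρ.injective).mp h), ρ b', ρ.symm.trans (σ.trans ρ), ?_⟩
  intro y
  change ρ (e ((g : Equiv.Perm α) (e.symm (ρ.symm y)))) = _
  have h1 : (g : Equiv.Perm α) (e.symm (ρ.symm y)) = g • (e.symm (ρ.symm y)) := rfl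
  rw [h1, hcσ, map_add, map_mul, Equiv.apply_symm_apply]
  rfl

end Cfsg.Agent.Helper12.PPlusOneAff
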