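import Mathlib

set_option autoImplicit false

/-! `SL_n` and `PSL_n` are functorial for ring isomorphisms. -/

namespace Cfsg.Agent.Helper12.PSLCongr

open Matrix

variable {n : Type*} [Fintype n] [DecidableEq n] {R S : Type*} [CommRing R] [CommRing S]

/-- `SL_n` is functorial for ring isomorphisms. -/
noncomputable def slCongr (e : R ≃+* S) :
    Matrix.SpecialLinearGroup n R ≃* Matrix.SpecialLinearGroup n S :=
  MonoidHom.toMulEquiv (Matrix.SpecialLinearGroup.map (e : R →+* S))
    (Matrix.SpecialLinearGroup.map (e.symm : S →+* R))
    (by
      ext A i j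
      simp)
    (by
      ext A i j
      simp)

theorem map_center_eq {G H : Type*} [Group G] [Group H] (e : G ≃* H) :
    (Subgroup.center G).map (e : G →* H) = Subgroup.center H := by
  ext x
  rw [Subgroup.mem_map, Subgroup.mem_center_iff]
  constructor
  · rintro ⟨z, hz, rfl⟩ h
    rw [Subgroup.mem_center_iff] at hz
    have := hz (e.symm h)
    have h2 := congrArg e this
    simpa using h2
  · intro hx
    refine ⟨e.symm x, ?_, by simp⟩
    rw [Subgroup.mem_center_iff]
    intro g
    apply e.injective
    have := hx (e g)
    simpa using this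

/-- `PSL_n` is functorial for ring isomorphisms. -/
noncomputable def pslCongr (e : R ≃+* S) :
    Matrix.ProjectiveSpecialLinearGroup n R ≃* Matrix.ProjectiveSpecialLinearGroup n S :=
  QuotientGroup.congr _ _ (slCongr e) (map_center_eq (slCongr e))

end Cfsg.Agent.Helper12.PSLCongr
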