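import Mathlib

set_option autoImplicit false

/-! Sharply doubly transitive finite groups: the fixed-point-free elements together with the
identity form a regular normal elementary abelian subgroup. -/

namespace Cfsg.Agent.Helper12.Sharp2

open MulAction

section
variable {G : Type*} [Group G] {α : Type*} [MulAction G α]

/-- The sharply 2-transitive hypothesis. -/
structure IsSharp2 (G : Type*) [Group G] (α : Type*) [MulAction G α] : Prop where
  trans : ∀ a b c d : α, a ≠ b → c ≠ d → ∃ g : G, g • a = c ∧ g • b = d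
  sharp : ∀ (g : G) (a b : α), a ≠ b → g • a = a → g • b = b → g = 1

theorem isSharp2_of (h2 : IsMultiplyPretransitive G α 2)
    (hsharp : ∀ x : Fin 2 ↪ α, stabilizer G x = ⊥) : IsSharp2 G α where
  trans := fun a b c d hab hcd => (is_two_pretransitive_iff.mp h2) hab hcd
  sharp := by
    intro g a b hab ha hb
    have : g ∈ stabilizer G (Function.Embedding.embFinTwo hab) := by
      rw [mem_stabilizer_iff]
      ext i
      fin_cases i
      · exact ha
      · exact hb
    rw [hsharp] at this
    exact this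

variable (hS : IsSharp2 G α)
include hS

theorem IsSharp2.unique {g h : G} {a b : α} (hab : a ≠ b) (ha : g • a = h • a)
    (hb : g • b = h • b) : g = h := by
  have h1 : (h⁻¹ * g) • a = a := by rw [mul_smul, ha, inv_smul_smul]
  have h2 : (h⁻¹ * g) • b = b := by rw [mul_smul, hb, inv_smul_smul]
  have := hS.sharp _ a b hab h1 h2
  have h3 : h * (h⁻¹ * g) = h * 1 := by rw [this]
  simpa using h3

/-- fixed-point-free -/
def Fpf (G : Type*) [Group G] (α : Type*) [MulAction G α] (g : G) : Prop := ∀ c : α, g • c ≠ c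

omit hS in
theorem fpf_inv {g : G} (h : Fpf G α g) : Fpf G α g⁻¹ := by
  intro c hc
  apply h c
  rw [← hc, smul_inv_smul, hc]

omit hS in
theorem fpf_conj {g : G} (h : Fpf G α g) (k : G) : Fpf G α (k * g * k⁻¹) := by
  intro c hc
  apply h (k⁻¹ • c)
  rw [mul_smul, mul_smul] at hc
  have := congrArg (fun x => k⁻¹ • x) hc
  simpa using this

variable [Finite α]

/-- For `a ≠ b`, the elements mapping `a` to `b` correspond to points `≠ b`. -/
theorem card_map (a b : α) (hab : a ≠ b) :
    Nat.card {g : G // g • a = b} = Nat.card α - 1 := by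
  classical
  have : Fintype α := Fintype.ofFinite α
  let f : {g : G // g • a = b} → {d : α // d ≠ b} := fun g => ⟨g.1 • b, by
    intro h
    exact hab (smul_left_cancel g.1 (g.2.trans h.symm))⟩
  have hf : Function.Bijective f := by
    constructor
    · intro g g' hgg
      have h1 : g.1 • b = g'.1 • b := congrArg Subtype.val hgg
      have h2 : g.1 • a = g'.1 • a := by rw [g.2, g'.2]
      exact Subtype.ext (hS.unique hab h2 h1)
    · intro d
      obtain ⟨g, hg1, hg2⟩ := hS.trans a b b d.1 hab (Ne.symm d.2)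
      exact ⟨⟨g, hg1⟩, Subtype.ext hg2⟩
  rw [Nat.card_congr (Equiv.ofBijective f hf), Nat.card_eq_fintype_card, Fintype.card_subtype_compl,
    Fintype.card_subtype_eq, Nat.card_eq_fintype_card]

theorem card_map_fix (a b : α) (hab : a ≠ b) :
    Nat.card {g : G // g • a = b ∧ ∃ c : α, g • c = c} = Nat.card α - 2 := by
  classical
  have : Fintype α := Fintype.ofFinite α
  have hex : ∀ c : {c : α // c ≠ a ∧ c ≠ b}, ∃ g : G, g • a = b ∧ g • c.1 = c.1 := by
    intro c
    obtain ⟨g, h1, h2⟩ := hS.trans c.1 a c.1 b c.2.1 c.2.2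
    exact ⟨g, h2, h1⟩
  let f : {c : α // c ≠ a ∧ c ≠ b} → {g : G // g • a = b ∧ ∃ c : α, g • c = c} := fun c =>
    ⟨Classical.choose (hex c), (Classical.choose_spec (hex c)).1, c.1,
      (Classical.choose_spec (hex c)).2⟩
  have hf : Function.Bijective f := by
    constructor
    · intro c c' hcc
      have h1 : Classical.choose (hex c) = Classical.choose (hex c') := congrArg Subtype.val hcc
      have h2 := (Classical.choose_spec (hex c)).2
      have h3 := (Classical.choose_spec (hex c')).2
      have h4 := (Classical.choose_spec (hex c)).1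
      rw [← h1] at h3
      by_contra hne
      have hne' : c.1 ≠ c'.1 := fun h => hne (Subtype.ext h)
      have := hS.sharp _ c.1 c'.1 hne' h2 h3
      rw [this, one_smul] at h4
      exact hab h4
    · rintro ⟨g, hg1, c, hc⟩
      have hca : c ≠ a := by
        intro h; rw [h, hg1] at hc; exact hab hc.symm
      have hcb : c ≠ b := by
        intro h
        rw [h] at hc
        rw [← hg1] at hc
        have h5 := smul_left_cancel g hc
        rw [hg1] at h5
        exact hab h5.symm
      refine ⟨⟨c, hca, hcb⟩, ?_⟩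
      apply Subtype.ext
      change Classical.choose (hex ⟨c, hca, hcb⟩) = g
      have h2 := (Classical.choose_spec (hex ⟨c, hca, hcb⟩))
      exact hS.unique hca (by rw [h2.2, hc]) (by rw [h2.1, hg1])
  rw [← Nat.card_congr (Equiv.ofBijective f hf), Nat.card_eq_fintype_card]
  have : Fintype.card {c : α // c ≠ a ∧ c ≠ b} = Fintype.card α - 2 := by
    have e : {c : α // c ≠ a ∧ c ≠ b} ≃ {c : {c : α // c ≠ a} // c.1 ≠ b} :=
      (Equiv.subtypeSubtypeEquivSubtypeInter (fun c => c ≠ a) (fun c => c ≠ b)).symm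
    rw [Fintype.card_congr e, Fintype.card_subtype_compl, Fintype.card_subtype_compl,
      Fintype.card_subtype_eq]
    have : Fintype.card {x : {c : α // ¬ c = a} // x.1 = b} = 1 := by
      rw [Fintype.card_eq_one_iff]
      exact ⟨⟨⟨b, Ne.symm hab⟩, rfl⟩, fun y => Subtype.ext (Subtype.ext y.2)⟩
    rw [this]
    omega
  rw [this, Nat.card_eq_fintype_card]

theorem existsUnique_fpf (a b : α) (hab : a ≠ b) : ∃! g : G, g • a = b ∧ Fpf G α g := by
  classical
  have : Fintype α := Fintype.ofFinite α
  have hn : 2 ≤ Nat.card α := by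
    rw [Nat.card_eq_fintype_card]
    exact Fintype.one_lt_card_iff.mpr ⟨a, b, hab⟩
  have h1 := card_map hS a b hab
  have h2 := card_map_fix hS a b hab
  have hfin : Finite {g : G // g • a = b} := Nat.finite_of_card_ne_zero (by rw [h1]; omega)
  have : Fintype {g : G // g • a = b} := Fintype.ofFinite _
  let p : {g : G // g • a = b} → Prop := fun g => ∃ c : α, g.1 • c = c
  have e : {x : {g : G // g • a = b} // p x} ≃ {g : G // g • a = b ∧ ∃ c : α, g • c = c} :=
    Equiv.subtypeSubtypeEquivSubtypeInter (fun g : G => g • a = b) (fun g => ∃ c : α, g • c = c)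
  have h3 : Fintype.card {x : {g : G // g • a = b} // ¬ p x} = 1 := by
    rw [Fintype.card_subtype_compl, ← Nat.card_eq_fintype_card, ← Nat.card_eq_fintype_card,
      Nat.card_congr e, h1, h2]
    omega
  rw [Fintype.card_eq_one_iff] at h3
  obtain ⟨⟨⟨g, hg1⟩, hg2⟩, huniq⟩ := h3
  have hg3 : Fpf G α g := by
    intro c hc
    exact hg2 ⟨c, hc⟩
  refine ⟨g, ⟨hg1, hg3⟩, ?_⟩
  rintro g' ⟨hg'1, hg'2⟩
  have := huniq ⟨⟨g', hg'1⟩, fun ⟨c, hc⟩ => hg'2 c hc⟩
  exact congrArg (fun x => x.1.1) this

/-- The Frobenius kernel: identity and fixed-point-free elements. -/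
def kernel : Subgroup G where
  carrier := {g | g = 1 ∨ Fpf G α g}
  one_mem' := Or.inl rfl
  inv_mem' := by
    rintro g (rfl | hg)
    · left; simp
    · right; exact fpf_inv hg
  mul_mem' := by
    rintro x y hx hy
    by_cases hxy : x * y = 1
    · left; exact hxy
    right
    intro c hc
    apply hxy
    rw [mul_smul] at hc
    have hc' : y • c = x⁻¹ • c := by rw [← hc, inv_smul_smul, hc]
    by_cases hd : y • c = c
    · have hy1 : y = 1 := by
        rcases hy with rfl | hy
        · rfl
        · exact absurd hd (hy c)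
      have hx1 : x = 1 := by
        rcases hx with rfl | hx
        · rfl
        · exfalso
          apply hx c
          rw [hy1, one_smul] at hc
          exact hc
      rw [hx1, hy1, one_mul]
    · have hyf : Fpf G α y := by
        rcases hy with rfl | hy
        · exact absurd (one_smul G c) hd
        · exact hy
      have hxf : Fpf G α x⁻¹ := by
        rcases hx with rfl | hx
        · exfalso; apply hd; rw [hc']; simp
        · exact fpf_inv hx
      obtain ⟨g, _, huniq⟩ := existsUnique_fpf hS c (y • c) (Ne.symm hd)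
      have e1 := huniq y ⟨rfl, hyf⟩
      have e2 := huniq x⁻¹ ⟨hc'.symm, hxf⟩
      rw [e1, ← e2, mul_inv_cancel]

theorem mem_kernel {g : G} : g ∈ kernel hS ↔ g = 1 ∨ Fpf G α g := Iff.rfl

theorem kernel_normal : (kernel hS).Normal := by
  constructor
  rintro n (rfl | hn) g
  · left; simp
  · right; exact fpf_conj hn g

theorem kernel_trans (a b : α) : ∃ x ∈ kernel hS, x • a = b := by
  by_cases hab : a = b
  · exact ⟨1, Or.inl rfl, by rw [one_smul, hab]⟩
  · obtain ⟨g, ⟨hg1, hg2⟩, _⟩ := existsUnique_fpf hS a b hab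
    exact ⟨g, Or.inr hg2, hg1⟩

theorem kernel_free {x : G} (hx : x ∈ kernel hS) {a : α} (h : x • a = a) : x = 1 := by
  rcases hx with rfl | hx
  · rfl
  · exact absurd h (hx a)

theorem kernel_unique {x y : G} (hx : x ∈ kernel hS) (hy : y ∈ kernel hS) {a : α}
    (h : x • a = y • a) : x = y := by
  have h1 : (y⁻¹ * x) • a = a := by rw [mul_smul, h, inv_smul_smul]
  have h2 := kernel_free hS ((kernel hS).mul_mem ((kernel hS).inv_mem hy) hx) h1
  have h3 : y * (y⁻¹ * x) = y * 1 := by rw [h2]
  simpa using h3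

/-- Non-identity elements of the kernel are conjugate. -/
theorem kernel_conj {x y : G} (hx : x ∈ kernel hS) (hy : y ∈ kernel hS) (hx1 : x ≠ 1)
    (hy1 : y ≠ 1) (a : α) : ∃ g : G, g • a = a ∧ g * x * g⁻¹ = y := by
  have hxa : a ≠ x • a := fun h => hx1 (kernel_free hS hx h.symm)
  have hya : a ≠ y • a := fun h => hy1 (kernel_free hS hy h.symm)
  obtain ⟨g, hg1, hg2⟩ := hS.trans a (x • a) a (y • a) hxa hya
  refine ⟨g, hg1, ?_⟩
  have hn := kernel_normal hS
  apply kernel_unique hS (hn.conj_mem x hx g) hy (a := a)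
  rw [mul_smul, mul_smul]
  have : g⁻¹ • a = a := by rw [inv_smul_eq_iff, hg1]
  rw [this, hg2]

theorem card_kernel (a : α) : Nat.card (kernel hS) = Nat.card α := by
  apply Nat.card_congr
  refine Equiv.ofBijective (fun x : kernel hS => x.1 • a) ⟨?_, ?_⟩
  · intro x y hxy
    exact Subtype.ext (kernel_unique hS x.2 y.2 hxy)
  · intro b
    obtain ⟨x, hx, hxb⟩ := kernel_trans hS a b
    exact ⟨⟨x, hx⟩, hxb⟩

theorem kernel_finite [Nonempty α] : Finite (kernel hS) := by
  obtain ⟨a⟩ := ‹Nonempty α›
  apply Nat.finite_of_card_ne_zero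
  rw [card_kernel hS a]
  exact Nat.card_pos.ne'

theorem kernel_exponent (hα : 2 ≤ Nat.card α) : ∃ p j : ℕ, p.Prime ∧ 1 ≤ j ∧
    Nat.card α = p ^ j ∧ (∀ x ∈ kernel hS, x ^ p = 1) ∧ IsPGroup p (kernel hS) := by
  have hne : Nonempty α := by
    by_contra h
    rw [not_nonempty_iff] at h
    rw [Nat.card_of_isEmpty] at hα
    omega
  have hne' := hne
  obtain ⟨a⟩ := hne'
  have hfin : Finite (kernel hS) := kernel_finite hS
  have hcard := card_kernel hS a
  have hcard1 : Nat.card (kernel hS) ≠ 1 := by rw [hcard]; omega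
  obtain ⟨p, hp, hpd⟩ := Nat.exists_prime_and_dvd hcard1
  have : Fact p.Prime := ⟨hp⟩
  obtain ⟨x, hx⟩ := exists_prime_orderOf_dvd_card' (G := kernel hS) p hpd
  have hx1 : x ≠ 1 := by
    intro h; rw [h, orderOf_one] at hx; exact hp.one_lt.ne' hx.symm
  have hxp : x.1 ^ p = 1 := by
    have : x ^ p = 1 := by rw [← hx]; exact pow_orderOf_eq_one x
    have := congrArg Subtype.val this
    simpa using this
  have hexp : ∀ y ∈ kernel hS, y ^ p = 1 := by
    intro y hy
    by_cases hy1 : y = 1
    · rw [hy1, one_pow]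
    · have hx1' : x.1 ≠ 1 := fun h => hx1 (Subtype.ext h)
      obtain ⟨g, _, hg⟩ := kernel_conj hS x.2 hy hx1' hy1 a
      rw [← hg, conj_pow, hxp, mul_one, mul_inv_cancel]
  have hPG : IsPGroup p (kernel hS) := by
    intro y
    refine ⟨1, ?_⟩
    rw [pow_one]
    apply Subtype.ext
    have := hexp y.1 y.2
    simpa using this
  obtain ⟨j, hj⟩ := IsPGroup.iff_card.mp hPG
  rw [hcard] at hj
  have hj1 : 1 ≤ j := by
    by_contra h
    have : j = 0 := by omega
    rw [this, pow_zero] at hj
    omega
  exact ⟨p, j, hp, hj1, hj, hexp, hPG⟩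

theorem kernel_comm (hα : 2 ≤ Nat.card α) : ∀ x ∈ kernel hS, ∀ y ∈ kernel hS, x * y = y * x := by
  have hne : Nonempty α := by
    by_contra h
    rw [not_nonempty_iff] at h
    rw [Nat.card_of_isEmpty] at hα
    omega
  have hne' := hne
  obtain ⟨a⟩ := hne'
  obtain ⟨p, j, hp, hj1, hj, hexp, hPG⟩ := kernel_exponent hS hα
  have : Fact p.Prime := ⟨hp⟩
  have hfin : Finite (kernel hS) := kernel_finite hS
  have hnt : Nontrivial (kernel hS) := by
    rw [← Finite.one_lt_card_iff_nontrivial, card_kernel hS a]; omega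
  have hcen := hPG.center_nontrivial
  obtain ⟨⟨z, hz⟩, hz1⟩ := exists_ne (1 : Subgroup.center (kernel hS))
  have hz1' : z.1 ≠ 1 := by
    intro h
    apply hz1
    apply Subtype.ext
    apply Subtype.ext
    exact h
  rw [Subgroup.mem_center_iff] at hz
  have hzc : ∀ w ∈ kernel hS, w * z.1 = z.1 * w := by
    intro w hw
    have := hz ⟨w, hw⟩
    exact congrArg Subtype.val this
  have hn := kernel_normal hS
  -- every non-identity element is central
  have hcentral : ∀ y ∈ kernel hS, ∀ w ∈ kernel hS, w * y = y * w := by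
    intro y hy w hw
    by_cases hy1 : y = 1
    · rw [hy1, mul_one, one_mul]
    · obtain ⟨g, _, hg⟩ := kernel_conj hS z.2 hy hz1' hy1 a
      have hw' : g⁻¹ * w * g ∈ kernel hS := by
        have := hn.conj_mem w hw g⁻¹
        simpa using this
      have h1 := hzc _ hw'
      rw [← hg]
      calc w * (g * z.1 * g⁻¹) = g * ((g⁻¹ * w * g) * z.1) * g⁻¹ := by group
        _ = g * (z.1 * (g⁻¹ * w * g)) * g⁻¹ := by rw [h1]
        _ = g * z.1 * g⁻¹ * w := by group
  intro x hx y hy
  exact hcentral y hy x hx

/-- The order of a sharply doubly transitive group. -/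
theorem card_group (a b : α) (hab : a ≠ b) : Nat.card G = Nat.card α * (Nat.card α - 1) := by
  classical
  have : Fintype α := Fintype.ofFinite α
  let x₀ : Fin 2 ↪ α := Function.Embedding.embFinTwo hab
  have hbij : Function.Bijective (fun g : G => g • x₀) := by
    constructor
    · intro g h hgh
      have h0 := congrArg (fun f : Fin 2 ↪ α => f 0) hgh
      have h1 := congrArg (fun f : Fin 2 ↪ α => f 1) hgh
      exact hS.unique hab h0 h1
    · intro y
      have hy : y 0 ≠ y 1 := y.injective.ne (by decide)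
      obtain ⟨g, hg0, hg1⟩ := hS.trans a b (y 0) (y 1) hab hy
      refine ⟨g, ?_⟩
      ext i
      fin_cases i
      · exact hg0
      · exact hg1
  rw [Nat.card_congr (Equiv.ofBijective _ hbij), Nat.card_eq_fintype_card,
    Fintype.card_embedding_eq, Fintype.card_fin, Nat.card_eq_fintype_card]
  have : (Fintype.card α).descFactorial 2 = Fintype.card α * (Fintype.card α - 1) := by
    rw [Nat.descFactorial_succ, Nat.descFactorial_succ, Nat.descFactorial_zero, Nat.sub_zero,
      mul_one, mul_comm]
  exact this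

end

end Cfsg.Agent.Helper12.Sharp2
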