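import Mathlib
import Cfsg.Prelude.Def_LieExceptional
import Cfsg.Agent.S0738
import Cfsg.Agent.Lib.Helper19.ZassEven
import Cfsg.Agent.Lib.Helper19.IrredField

set_option autoImplicit false
set_option linter.unusedSectionVars false
set_option linter.style.haveILetI false
set_option linter.unusedVariables false

/-! Zassenhaus groups of degree `n + 1` with cyclic two-point stabiliser `D` of order `(n - 1) / 2`
and commutative Frobenius kernel `H`: `H` is the additive group of a field on which `D` acts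
as multiplication by the non-zero squares.  (Adapted from `Helper19.ZassCoord`, which treats the
case of even `|D|`; here cyclicity of `D` and commutativity of `H` are hypotheses.) -/

namespace Cfsg.Agent.Helper12.ZassOddCoord

open MulAction Cfsg.Agent.Helper19

variable {G Ω : Type*} [Group G] [MulAction G Ω] [Finite G] [Fintype Ω] {a b : Ω} {H : Subgroup G}

local notation "𝔇" => (MulAction.stabilizer G a ⊓ MulAction.stabilizer G b : Subgroup G)

theorem exists_coordinates_odd (hZ : Cfsg.IsZassenhausGroup G Ω) (hab : a ≠ b)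
    (hHa : H ≤ stabilizer G a) (hHcard : Nat.card H + 1 = Fintype.card Ω)
    (hHfix : ∀ u ∈ H, u ≠ 1 → ∀ c : Ω, u • c = c → c = a)
    (hcyc : IsCyclic ↥𝔇) (hHcomm : ∀ x y : ↥H, x * y = y * x)
    (heq : Fintype.card Ω - 2 = 2 * Nat.card ↥𝔇) :
    ∃ (E : Type) (_ : Field E) (_ : Fintype E) (τ : E → G),
      (∀ x, τ x ∈ H) ∧ (∀ u ∈ H, ∃ x, τ x = u) ∧ Function.Injective τ ∧
      (∀ x y, τ (x + y) = τ x * τ y) ∧
      (∀ d ∈ 𝔇, ∃ m : E, m ≠ 0 ∧ IsSquare m ∧ ∀ x, d * τ x * d⁻¹ = τ (m * x)) ∧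
      (∀ m : E, m ≠ 0 → IsSquare m → ∃ d ∈ 𝔇, ∀ x, d * τ x * d⁻¹ = τ (m * x)) ∧
      Fintype.card E + 1 = Fintype.card Ω := by
  classical
  have h3fix := hZ.2.2.1
  have hn3 := Cfsg.Agent.S0878.card_ge_three hZ
  have hfree : ∀ g : G, g • a = a → g • b = b → ∀ y : Ω, y ≠ a → y ≠ b → g • y = y → g = 1 :=
    fun g ha hb y hya hyb hy => h3fix g a b y hab (Ne.symm hyb) (Ne.symm hya) ha hb hy
  have hDpos : 0 < Nat.card ↥𝔇 := Nat.card_pos
  -- a generator of `𝔇`
  obtain ⟨g0, hg0⟩ := hcyc.exists_generator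
  obtain ⟨δ0, hδ0def⟩ : ∃ δ0 : G, δ0 = (g0 : G) := ⟨_, rfl⟩
  have hδ0mem : δ0 ∈ 𝔇 := by rw [hδ0def]; exact g0.2
  have hord : orderOf δ0 = Nat.card ↥𝔇 := by
    rw [hδ0def, Subgroup.orderOf_coe]
    exact orderOf_eq_card_of_forall_mem_zpowers hg0
  have hgen : ∀ d ∈ 𝔇, ∃ k : ℕ, d = δ0 ^ k := by
    intro d hd
    have h1 : (⟨d, hd⟩ : ↥𝔇) ∈ Subgroup.zpowers g0 := hg0 _
    rw [← mem_powers_iff_mem_zpowers] at h1
    obtain ⟨k, hk⟩ := (Submonoid.mem_powers_iff _ _).mp h1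
    refine ⟨k, ?_⟩
    have := congrArg Subtype.val hk
    rw [hδ0def]
    simpa using this.symm
  have hpowmem : ∀ k : ℕ, δ0 ^ k ∈ 𝔇 := fun k => (𝔇).pow_mem hδ0mem k
  have hconj : ∀ d ∈ 𝔇, ∀ u ∈ H, d * u * d⁻¹ ∈ H := fun d hd u hu =>
    ZassH.H_conj_mem hZ hHa hHcard hHfix (Subgroup.mem_inf.mp hd).1 hu
  let δ : ↥H →* ↥H :=
    { toFun := fun u => ⟨δ0 * u * δ0⁻¹, hconj δ0 hδ0mem u u.2⟩
      map_one' := by ext; simp
      map_mul' := fun u v => by ext; simp [mul_assoc] }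
  have hHcard2 : 2 ≤ Nat.card ↥H := by omega
  haveI : Nontrivial ↥H := (Finite.one_lt_card_iff_nontrivial).mp (by omega)
  have hirr : ∀ C : Subgroup ↥H, (∀ x ∈ C, δ x ∈ C) → C = ⊥ ∨ C = ⊤ := by
    intro C hC
    by_cases hbot : C = ⊥
    · exact Or.inl hbot
    right
    let C' : Subgroup G := C.map H.subtype
    have hC'H : C' ≤ H := by
      rintro _ ⟨y, -, rfl⟩
      exact y.2
    have hC'δ : ∀ x ∈ C', δ0 * x * δ0⁻¹ ∈ C' := by
      rintro _ ⟨y, hy, rfl⟩
      exact ⟨δ y, hC y hy, rfl⟩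
    have hC'pow : ∀ k : ℕ, ∀ x ∈ C', δ0 ^ k * x * (δ0 ^ k)⁻¹ ∈ C' := by
      intro k
      induction k with
      | zero => intro x hx; simpa using hx
      | succ k ih =>
        intro x hx
        have : δ0 ^ (k + 1) * x * (δ0 ^ (k + 1))⁻¹ = δ0 * (δ0 ^ k * x * (δ0 ^ k)⁻¹) * δ0⁻¹ := by
          rw [pow_succ']; group
        rw [this]
        exact hC'δ _ (ih x hx)
    have hdvd := Cfsg.Agent.S0738.card_sub_one_dvd hfree hab C' (hC'H.trans hHa)
      (fun u hu hub => ZassH.H_inf_stab hHfix hab.symm (hC'H hu) hub)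
      (fun h hh c hc => by
        obtain ⟨k, rfl⟩ := hgen h hh
        exact hC'pow k c hc)
    have hcardC' : Nat.card C' = Nat.card C := Subgroup.card_map_of_injective H.subtype_injective
    have hdvdH : Nat.card C ∣ Nat.card ↥H := Subgroup.card_subgroup_dvd_card C
    have hC2 : 1 < Nat.card C := (Subgroup.one_lt_card_iff_ne_bot C).mpr hbot
    rw [hcardC'] at hdvd
    apply (Subgroup.card_eq_iff_eq_top C).mp
    obtain ⟨k, hk⟩ := hdvdH
    have hle : Nat.card ↥𝔇 ≤ Nat.card C - 1 := Nat.le_of_dvd (by omega) hdvd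
    rcases k with _ | _ | k
    · omega
    · omega
    · exfalso
      have h5 : Nat.card C * 2 ≤ Nat.card C * (k + 1 + 1) := Nat.mul_le_mul_left _ (by omega)
      omega
  obtain ⟨E, iF, iT, θ, ε, hθbij, hθadd, hθδ⟩ := IrredField.exists_field_mul hHcomm δ hirr
  have hcardE : Fintype.card E = Nat.card ↥H := by
    rw [← Nat.card_eq_fintype_card]
    exact Nat.card_eq_of_bijective θ hθbij
  have hcardE' : Fintype.card E = 2 * Nat.card ↥𝔇 + 1 := by omega
  have hchar : ringChar E ≠ 2 := by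
    intro h
    have := FiniteField.even_card_of_char_two h
    omega
  have hhalf : Fintype.card E / 2 = Nat.card ↥𝔇 := by omega
  obtain ⟨τ, hτdef⟩ : ∃ τ : E → G, τ = fun x => (θ x : G) := ⟨_, rfl⟩
  have hτH : ∀ x, τ x ∈ H := fun x => by rw [hτdef]; exact (θ x).2
  have hτsurj : ∀ u ∈ H, ∃ x, τ x = u := by
    intro u hu
    obtain ⟨x, hx⟩ := hθbij.2 ⟨u, hu⟩
    exact ⟨x, by rw [hτdef]; exact congrArg Subtype.val hx⟩
  have hτinj : Function.Injective τ := by
    intro x y hxy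
    rw [hτdef] at hxy
    exact hθbij.1 (Subtype.ext hxy)
  have hτadd : ∀ x y, τ (x + y) = τ x * τ y := by
    intro x y
    rw [hτdef]
    exact congrArg Subtype.val (hθadd x y)
  have hτδ : ∀ x, δ0 * τ x * δ0⁻¹ = τ (ε * x) := by
    intro x
    rw [hτdef]
    exact (congrArg Subtype.val (hθδ x)).symm
  have hτ0 : τ 0 = 1 := by
    have h1 := hτadd 0 0
    rw [add_zero] at h1
    exact (mul_eq_left.mp h1.symm)
  have hpow : ∀ k : ℕ, ∀ x, δ0 ^ k * τ x * (δ0 ^ k)⁻¹ = τ (ε ^ k * x) := by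
    intro k
    induction k with
    | zero => intro x; simp
    | succ k ih =>
      intro x
      have : δ0 ^ (k + 1) * τ x * (δ0 ^ (k + 1))⁻¹ = δ0 * (δ0 ^ k * τ x * (δ0 ^ k)⁻¹) * δ0⁻¹ := by
        rw [pow_succ']; group
      rw [this, ih, hτδ, pow_succ', mul_assoc]
  have hτ1 : τ 1 ≠ 1 := by
    intro h
    rw [← hτ0] at h
    exact one_ne_zero (hτinj h)
  have hεpow : ε ^ Nat.card ↥𝔇 = 1 := by
    have h1 := hpow (Nat.card ↥𝔇) 1
    have h2 : δ0 ^ Nat.card ↥𝔇 = 1 := by rw [← hord, pow_orderOf_eq_one]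
    rw [h2, inv_one, mul_one, one_mul, mul_one] at h1
    exact (hτinj h1).symm
  have hε0 : ε ≠ 0 := by
    intro h
    rw [h, zero_pow hDpos.ne'] at hεpow
    exact zero_ne_one hεpow
  have hprim : IsPrimitiveRoot ε (Nat.card ↥𝔇) := by
    apply IsPrimitiveRoot.mk_of_lt ε hDpos hεpow
    intro l hl0 hl hεl
    have h1 := hpow l 1
    rw [hεl, mul_one] at h1
    -- `δ0 ^ l` commutes with `τ 1`
    have hcomm : δ0 ^ l * τ 1 = τ 1 * δ0 ^ l := by
      have := congrArg (fun w => w * δ0 ^ l) h1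
      simpa [mul_assoc] using this
    have hd := hpowmem l
    have hda : δ0 ^ l • a = a := (Subgroup.mem_inf.mp hd).1
    have hdb : δ0 ^ l • b = b := (Subgroup.mem_inf.mp hd).2
    have hua : τ 1 • a = a := hHa (hτH 1)
    have hub : τ 1 • b ≠ b := fun h' => hτ1 (ZassH.H_inf_stab hHfix hab.symm (hτH 1) h')
    have hub' : τ 1 • b ≠ a := fun h' => hab.symm (smul_left_cancel (τ 1) (h'.trans hua.symm))
    have hfix : δ0 ^ l • (τ 1 • b) = τ 1 • b := by
      rw [← mul_smul, hcomm, mul_smul, hdb]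
    have hone : δ0 ^ l = 1 := h3fix _ a b (τ 1 • b) hab (Ne.symm hub) (Ne.symm hub') hda hdb hfix
    have := orderOf_dvd_of_pow_eq_one hone
    rw [hord] at this
    have := Nat.le_of_dvd hl0 this
    omega
  have hεsq : IsSquare ε := by
    rw [FiniteField.isSquare_iff hchar hε0, hhalf]
    exact hεpow
  refine ⟨E, iF, iT, τ, hτH, hτsurj, hτinj, hτadd, ?_, ?_, by omega⟩
  · intro d hd
    obtain ⟨k, rfl⟩ := hgen d hd
    exact ⟨ε ^ k, pow_ne_zero k hε0, hεsq.pow k, hpow k⟩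
  · intro m hm0 hmsq
    rw [FiniteField.isSquare_iff hchar hm0, hhalf] at hmsq
    haveI : NeZero (Nat.card ↥𝔇) := ⟨hDpos.ne'⟩
    obtain ⟨i, -, hi⟩ := hprim.eq_pow_of_pow_eq_one hmsq
    refine ⟨δ0 ^ i, hpowmem i, ?_⟩
    intro x
    rw [hpow i x, hi]

end Cfsg.Agent.Helper12.ZassOddCoord
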