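import Mathlib
import Cfsg.Prelude.Def_LieExceptional
import Cfsg.Agent.Lib.Helper5.PSL2Small
import Cfsg.Agent.Lib.Helper12.ZassOddCoord
import Cfsg.Agent.Lib.Helper19.ZassPSL
import Cfsg.Agent.Lib.Helper19.MoebiusPSL

set_option autoImplicit false
set_option linter.unusedSectionVars false
set_option linter.style.haveILetI false
set_option linter.unusedVariables false

/-! Zassenhaus groups of degree `q + 1` with cyclic two-point stabiliser of odd order `(q - 1) / 2`
inverted by the elements swapping the two points, and commutative Frobenius kernel, are isomorphic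
to `PSL₂(q)` (`q ≡ 3 mod 4`).  Adapted from `Helper19.ZassPSL` (even case); here the swapping
involution is fixed-point-free, which forces it to act as `x ↦ α / x` with `-α` a square. -/

namespace Cfsg.Agent.Helper12.ZassOddPSL

open MulAction Matrix OnePoint Cfsg.Agent.Helper19 Cfsg.Agent.Helper19.Moebius
  Cfsg.Agent.Helper19.MoebiusPSL Cfsg.Agent.Helper19.ZassPSL

variable {G Ω : Type*} [Group G] [MulAction G Ω] [Finite G] [Fintype Ω] {a b : Ω} {H : Subgroup G}

local notation "𝔇" => (MulAction.stabilizer G a ⊓ MulAction.stabilizer G b : Subgroup G)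

set_option maxHeartbeats 1000000 in
theorem nonempty_mulEquiv_psl_odd (hZ : Cfsg.IsZassenhausGroup G Ω) (hab : a ≠ b)
    (hHa : H ≤ stabilizer G a) (hHcard : Nat.card H + 1 = Fintype.card Ω)
    (hHfix : ∀ u ∈ H, u ≠ 1 → ∀ c : Ω, u • c = c → c = a)
    (hodd : Odd (Nat.card ↥𝔇)) (heq : Fintype.card Ω - 2 = 2 * Nat.card ↥𝔇)
    (hcyc : IsCyclic ↥𝔇) (hHcomm : ∀ x y : ↥H, x * y = y * x)
    (hsD : ∀ s : G, s • a = b → s • b = a → ∀ d ∈ 𝔇, s * d * s⁻¹ = d⁻¹) :
    ∃ (E : Type) (_ : Field E) (_ : Fintype E), Fintype.card E + 1 = Fintype.card Ω ∧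
      Nonempty (G ≃* Matrix.ProjectiveSpecialLinearGroup (Fin 2) E) := by
  classical
  obtain ⟨E, iF, iT, τ, hτH, hτsurj, hτinj, hτadd, hM1, hM2, hcardE⟩ :=
    ZassOddCoord.exists_coordinates_odd hZ hab hHa hHcard hHfix hcyc hHcomm heq
  have h3fix := hZ.2.2.1
  haveI : FaithfulSMul G Ω := hZ.1
  have hn3 := Cfsg.Agent.S0878.card_ge_three hZ
  have hDpos : 0 < Nat.card ↥𝔇 := Nat.card_pos
  have hτ0 : τ 0 = 1 := by
    have h1 := hτadd 0 0
    rw [add_zero] at h1
    exact (mul_eq_left.mp h1.symm)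
  have hτa : ∀ x, τ x • a = a := fun x => hHa (hτH x)
  have hτb_inj : ∀ x y, τ x • b = τ y • b → x = y := by
    intro x y h
    have h1 : ((τ y)⁻¹ * τ x) • b = b := by rw [mul_smul, h, inv_smul_smul]
    have h2 := ZassH.H_inf_stab hHfix hab.symm (H.mul_mem (H.inv_mem (hτH y)) (hτH x)) h1
    apply hτinj
    have := congrArg (fun w => τ y * w) h2
    simpa using this
  have hτb_ne : ∀ x, τ x • b ≠ a := fun x h =>
    hab.symm (smul_left_cancel (τ x) (h.trans (hτa x).symm))
  have hτb_surj : ∀ c, c ≠ a → ∃ x, τ x • b = c := by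
    intro c hc
    obtain ⟨u, hu, huc⟩ := ZassH.exists_H_smul hHa hHcard hHfix hab.symm hc
    obtain ⟨x, rfl⟩ := hτsurj u hu
    exact ⟨x, huc⟩
  have hτ0b : τ 0 • b = b := by rw [hτ0, one_smul]
  have hτb0 : ∀ x, τ x • b = b → x = 0 := fun x h => hτb_inj x 0 (by rw [hτ0b]; exact h)
  have hτ_pt : ∀ c x, τ c • (τ x • b) = τ (c + x) • b := fun c x => by
    rw [← mul_smul, ← hτadd]
  have hconj_pt : ∀ d ∈ 𝔇, ∀ m : E, (∀ x, d * τ x * d⁻¹ = τ (m * x)) →
      ∀ x, d • (τ x • b) = τ (m * x) • b := by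
    intro d hd m hm x
    have hdb : d • b = b := (Subgroup.mem_inf.mp hd).2
    have hdb' : d⁻¹ • b = b := by rw [inv_smul_eq_iff, hdb]
    rw [← hm x, mul_smul, mul_smul, hdb']
  -- field facts
  have hcardE' : Fintype.card E = 2 * Nat.card ↥𝔇 + 1 := by omega
  have hchar : ringChar E ≠ 2 := by
    intro h
    have := FiniteField.even_card_of_char_two h
    omega
  have h2 : (2 : E) ≠ 0 := Ring.two_ne_zero hchar
  have hcard4 : Fintype.card E % 4 = 3 := by
    obtain ⟨k, hk⟩ := hodd
    omega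
  have hnsq : ¬ IsSquare (-1 : E) := by
    rw [FiniteField.isSquare_neg_one_iff]
    omega
  have hhalf : Fintype.card E / 2 = Nat.card ↥𝔇 := by omega
  -- exactly one of `x`, `-x` is a square
  have hdich : ∀ x : E, x ≠ 0 → ¬ IsSquare x → IsSquare (-x) := by
    intro x hx hns
    rw [FiniteField.isSquare_iff hchar (neg_ne_zero.mpr hx), hhalf]
    rw [FiniteField.isSquare_iff hchar hx, hhalf] at hns
    rcases FiniteField.pow_dichotomy hchar hx with h | h
    · rw [hhalf] at h
      exact absurd h hns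
    · rw [hhalf] at h
      rw [neg_pow, h, hodd.neg_one_pow]
      ring
  have hnotboth : ∀ x : E, x ≠ 0 → IsSquare x → ¬ IsSquare (-x) := by
    intro x hx hs hs'
    apply hnsq
    have : (-1 : E) = (-x) / x := by field_simp
    rw [this]
    exact hs'.div hs
  -- an element swapping `a` and `b`
  obtain ⟨s, hsa, hsb⟩ := ZassH.two_trans' hZ.2.1 hab hab.symm
  have hsD' := hsD s hsa hsb
  have hs2 : s * s = 1 := by
    have hmem : s * s ∈ 𝔇 := by
      rw [Subgroup.mem_inf, mem_stabilizer_iff, mem_stabilizer_iff, mul_smul, mul_smul, hsa, hsb,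
        hsa]
      exact ⟨rfl, rfl⟩
    have h1 := hsD' (s * s) hmem
    have h2' : s * (s * s) * s⁻¹ = s * s := by group
    rw [h2'] at h1
    -- `(s*s)^2 = 1` in a group of odd order
    have h4 : (s * s) * (s * s) = 1 := by
      calc (s * s) * (s * s) = (s * s) * (s * s)⁻¹ := by rw [← h1]
        _ = 1 := mul_inv_cancel _
    have hord : orderOf (s * s) ∣ 2 := orderOf_dvd_of_pow_eq_one (by rw [pow_two]; exact h4)
    have hord2 : orderOf (⟨s * s, hmem⟩ : ↥𝔇) ∣ Nat.card ↥𝔇 := orderOf_dvd_natCard _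
    rw [Subgroup.orderOf_mk] at hord2
    rcases (Nat.dvd_prime Nat.prime_two).mp hord with h | h
    · exact orderOf_eq_one_iff.mp h
    · exfalso
      rw [h] at hord2
      obtain ⟨k, hk⟩ := hodd
      omega
  have hsinv : s⁻¹ = s := inv_eq_of_mul_eq_one_right hs2
  have hss : ∀ c : Ω, s • (s • c) = c := fun c => by rw [← mul_smul, hs2, one_smul]
  have hsD := hsD'
  have hs1 : s ≠ 1 := by
    rintro rfl
    rw [one_smul] at hsa
    exact hab hsa
  -- `s` has no fixed point, point stabilisers having odd order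
  have hcardG := ZassD.card_G hZ hHa hHcard hHfix hab
  have hsfpf : ∀ c : Ω, s • c ≠ c := by
    intro c hc
    haveI : MulAction.IsPretransitive G Ω := ⟨fun x y => Cfsg.Agent.Helper96.zass_trans hZ x y⟩
    have hcs : Nat.card (stabilizer G c) * Fintype.card Ω = Nat.card G := by
      have h2' := Subgroup.card_mul_index (stabilizer G c)
      rw [index_stabilizer_of_transitive G c, Nat.card_eq_fintype_card (α := Ω)] at h2'
      exact h2'
    have hstab : Nat.card (stabilizer G c) = Nat.card ↥H * Nat.card ↥𝔇 := by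
      have hpos : 0 < Fintype.card Ω := Fintype.card_pos_iff.mpr ⟨a⟩
      apply Nat.eq_of_mul_eq_mul_right hpos
      rw [hcs, hcardG, ← hHcard]
      ring
    have hmem : s ∈ stabilizer G c := mem_stabilizer_iff.mpr hc
    have ho : orderOf s = 2 := orderOf_eq_prime (by rw [pow_two]; exact hs2) hs1
    have hdvd : orderOf (⟨s, hmem⟩ : stabilizer G c) ∣ Nat.card (stabilizer G c) :=
      orderOf_dvd_natCard _
    rw [Subgroup.orderOf_mk, ho, hstab] at hdvd
    obtain ⟨k, hk⟩ := hodd
    have hH : Nat.card ↥H = 2 * Nat.card ↥𝔇 + 1 := by omega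
    rw [hH] at hdvd
    have hoddprod : Odd ((2 * Nat.card ↥𝔇 + 1) * Nat.card ↥𝔇) :=
      Odd.mul ⟨Nat.card ↥𝔇, rfl⟩ ⟨k, hk⟩
    rcases hoddprod with ⟨j, hj⟩
    omega
  have hex : ∀ x : E, ∃ y : E, x ≠ 0 → s • (τ x • b) = τ y • b := by
    intro x
    by_cases hx : x = 0
    · exact ⟨0, fun h => absurd hx h⟩
    · have hne : s • (τ x • b) ≠ a := by
        intro h
        rw [← hsb] at h
        exact hx (hτb0 x (smul_left_cancel s h))
      obtain ⟨y, hy⟩ := hτb_surj _ hne
      exact ⟨y, fun _ => hy.symm⟩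
  choose φ hφ using hex
  have h0 : ∀ x, x ≠ 0 → φ x ≠ 0 := by
    intro x hx h
    have h1 := hφ x hx
    rw [h, hτ0b] at h1
    have h2' : τ x • b = a := by
      have := congrArg (fun c => s • c) h1
      simp only [hss] at this
      rw [this, hsb]
    exact hτb_ne x h2'
  have hinv : ∀ x, x ≠ 0 → φ (φ x) = x := by
    intro x hx
    have h1 := hφ x hx
    have h2' := hφ (φ x) (h0 x hx)
    rw [← h1, hss] at h2'
    exact (hτb_inj _ _ h2').symm
  have hmul : ∀ m x : E, m ≠ 0 → IsSquare m → x ≠ 0 → φ (m * x) = m⁻¹ * φ x := by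
    intro m x hm hsq hx
    obtain ⟨d, hd, hdm⟩ := hM2 m hm hsq
    have hdinv : ∀ y, d⁻¹ * τ y * d = τ (m⁻¹ * y) := by
      intro y
      have := hdm (m⁻¹ * y)
      rw [mul_inv_cancel_left₀ hm] at this
      rw [← this]
      group
    have hdb : d • b = b := (Subgroup.mem_inf.mp hd).2
    have hsd : s * d = d⁻¹ * s := by
      have := hsD d hd
      calc s * d = (s * d * s⁻¹) * s := by group
        _ = d⁻¹ * s := by rw [this]
    apply hτb_inj
    rw [← hφ (m * x) (mul_ne_zero hm hx), ← hconj_pt d hd m hdm x, ← mul_smul, hsd, mul_smul,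
      hφ x hx, ← hdinv (φ x), mul_smul, mul_smul, hdb]
  -- the formula for `φ`
  obtain ⟨α, hα⟩ : ∃ α : E, α = φ 1 := ⟨_, rfl⟩
  have hα0 : α ≠ 0 := by rw [hα]; exact h0 1 one_ne_zero
  have hφfix : ∀ x, x ≠ 0 → φ x ≠ x := by
    intro x hx h
    have h1 := hφ x hx
    rw [h] at h1
    exact hsfpf _ h1
  have hφsq : ∀ m : E, m ≠ 0 → IsSquare m → φ m = α / m := by
    intro m hm hsq
    have := hmul m 1 hm hsq one_ne_zero
    rw [mul_one] at this
    rw [this, ← hα, div_eq_mul_inv, mul_comm]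
  have hαns : ¬ IsSquare α := by
    rintro ⟨r, hr⟩
    have hr0 : r ≠ 0 := by
      rintro rfl
      rw [mul_zero] at hr
      exact hα0 hr
    by_cases hrs : IsSquare r
    · apply hφfix r hr0
      rw [hφsq r hr0 hrs, hr]
      field_simp
    · have hrs' := hdich r hr0 hrs
      apply hφfix (-r) (neg_ne_zero.mpr hr0)
      rw [hφsq (-r) (neg_ne_zero.mpr hr0) hrs', hr]
      field_simp
  have hαsq : IsSquare (-α) := hdich α hα0 hαns
  have hφneg1 : φ (-1) = -α := by
    -- `φ α = 1` and `α = (-α) * (-1)`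
    have h1 : φ α = 1 := by rw [hα]; exact hinv 1 one_ne_zero
    have h2' := hmul (-α) (-1) (neg_ne_zero.mpr hα0) hαsq (by norm_num)
    have h3 : (-α) * (-1) = α := by ring
    rw [h3, h1] at h2'
    have hna : (-α) ≠ 0 := neg_ne_zero.mpr hα0
    have h5 : (-α) * 1 = (-α) * ((-α)⁻¹ * φ (-1)) := by rw [← h2']
    rw [mul_one, mul_inv_cancel_left₀ hna] at h5
    exact h5.symm
  have hαφ : ∀ x, x ≠ 0 → φ x = α / x := by
    intro x hx
    by_cases hxs : IsSquare x
    · exact hφsq x hx hxs
    · have hxs' := hdich x hx hxs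
      have h1 := hmul (-x) (-1) (neg_ne_zero.mpr hx) hxs' (by norm_num)
      have h3 : (-x) * (-1) = x := by ring
      rw [h3, hφneg1] at h1
      rw [h1]
      field_simp
  -- the identification of `Ω` with the projective line
  let ptf : OnePoint E → Ω := fun z => z.elim a (fun x => τ x • b)
  have hptf_inf : ptf ∞ = a := rfl
  have hptf_coe : ∀ x : E, ptf (x : OnePoint E) = τ x • b := fun x => rfl
  have hbij : Function.Bijective ptf := by
    constructor
    · intro z w hzw
      induction z using OnePoint.rec with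
      | infty =>
        induction w using OnePoint.rec with
        | infty => rfl
        | coe y =>
          rw [hptf_inf, hptf_coe] at hzw
          exact absurd hzw.symm (hτb_ne y)
      | coe x =>
        induction w using OnePoint.rec with
        | infty =>
          rw [hptf_inf, hptf_coe] at hzw
          exact absurd hzw (hτb_ne x)
        | coe y =>
          rw [hptf_coe, hptf_coe] at hzw
          rw [hτb_inj x y hzw]
    · intro c
      by_cases hc : c = a
      · exact ⟨∞, by rw [hptf_inf, hc]⟩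
      · obtain ⟨x, hx⟩ := hτb_surj c hc
        exact ⟨(x : OnePoint E), by rw [hptf_coe, hx]⟩
  let ψ : Ω ≃ OnePoint E := (Equiv.ofBijective ptf hbij).symm
  have hψsymm : ∀ z, ψ.symm z = ptf z := fun z => rfl
  have hrep : ∀ (g : G) (M : GL (Fin 2) E), (∀ z, g • ptf z = ptf (M • z)) →
      MulAction.toPermHom G Ω g = glHom ψ M := by
    intro g M hgM
    ext c
    rw [glHom_apply, hψsymm, ← hgM, ← hψsymm, Equiv.symm_apply_apply]
    rfl
  -- the generators act through `PSL₂`
  have hP_H : ∀ u ∈ H, MulAction.toPermHom G Ω u ∈ (pslHom ψ).range := by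
    intro u hu
    obtain ⟨c, rfl⟩ := hτsurj u hu
    rw [hrep (τ c) (affMat 1 c one_ne_zero) (by
      intro z
      induction z using OnePoint.rec with
      | infty => rw [affMat_smul_infty, hptf_inf, hτa]
      | coe x => rw [affMat_smul_coe, hptf_coe, hptf_coe, hτ_pt, one_mul])]
    apply glHom_mem_range
    rw [det_affMat]
    exact ⟨1, (mul_one 1).symm⟩
  have hP_D : ∀ d ∈ 𝔇, MulAction.toPermHom G Ω d ∈ (pslHom ψ).range := by
    intro d hd
    obtain ⟨m, hm0, hmsq, hdm⟩ := hM1 d hd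
    rw [hrep d (affMat m 0 hm0) (by
      intro z
      induction z using OnePoint.rec with
      | infty => rw [affMat_smul_infty, hptf_inf]; exact (Subgroup.mem_inf.mp hd).1
      | coe x => rw [affMat_smul_coe, hptf_coe, hptf_coe, hconj_pt d hd m hdm, zero_add])]
    apply glHom_mem_range
    rw [det_affMat]
    exact hmsq
  have hP_Ga : ∀ g ∈ stabilizer G a, MulAction.toPermHom G Ω g ∈ (pslHom ψ).range := by
    intro g hg
    obtain ⟨u, hu, d, hd, rfl⟩ := ZassH.stab_decomp hHa hHcard hHfix hab.symm hg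
    rw [map_mul]
    exact Subgroup.mul_mem _ (hP_H u hu) (hP_D d hd)
  have hP_s : MulAction.toPermHom G Ω s ∈ (pslHom ψ).range := by
    rw [hrep s (affMat α 0 hα0 * invMat) (by
      intro z
      rw [mul_smul]
      induction z using OnePoint.rec with
      | infty =>
        rw [invMat_smul_infty, affMat_smul_coe, hptf_inf, hptf_coe, hsa, mul_zero, add_zero, hτ0b]
      | coe x =>
        by_cases hx : x = 0
        · rw [hx, invMat_smul_zero, affMat_smul_infty, hptf_inf, hptf_coe, hτ0b, hsb]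
        · rw [invMat_smul_coe hx, affMat_smul_coe, hptf_coe, hptf_coe, hφ x hx, hαφ x hx, zero_add,
            div_eq_mul_inv])]
    apply glHom_mem_range
    rw [Matrix.GeneralLinearGroup.coe_mul, Matrix.det_mul, det_affMat, det_invMat, mul_neg, mul_one]
    exact hαsq
  have hsub : ∀ g : G, MulAction.toPermHom G Ω g ∈ (pslHom ψ).range := by
    intro g
    by_cases hg : g • a = a
    · exact hP_Ga g (mem_stabilizer_iff.mpr hg)
    · obtain ⟨x, hx⟩ := hτb_surj _ hg
      have hg' : (τ x * s)⁻¹ * g ∈ stabilizer G a := by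
        rw [mem_stabilizer_iff, mul_smul, inv_smul_eq_iff, mul_smul, hsa, hx]
      have hgeq : g = τ x * s * ((τ x * s)⁻¹ * g) := by group
      rw [hgeq, map_mul, map_mul]
      exact Subgroup.mul_mem _ (Subgroup.mul_mem _ (hP_H _ (hτH x)) hP_s) (hP_Ga _ hg')
  -- orders
  have hcardP := Cfsg.Agent.Helper5.card_PSL2_mul (F := E) (q := 2 * Nat.card ↥𝔇 + 1) hcardE'
  obtain ⟨e, he⟩ : ∃ e : ℕ, e = Nat.card ↥𝔇 := ⟨_, rfl⟩
  rw [← he] at hcardG hcardP hDpos
  have hHe : Nat.card ↥H = 2 * e + 1 := by omega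
  rw [hHe] at hcardG
  have hq1 : (2 * e + 1) ^ 2 - 1 = 4 * e * (e + 1) := by
    have : (2 * e + 1) ^ 2 = 4 * e * (e + 1) + 1 := by ring
    omega
  have hq2 : (2 * e + 1) ^ 2 - (2 * e + 1) = 2 * e * (2 * e + 1) := by
    have : (2 * e + 1) ^ 2 = 2 * e * (2 * e + 1) + (2 * e + 1) := by ring
    omega
  have hq3 : 2 * e + 1 - 1 = 2 * e := by omega
  have hgcd : Nat.gcd 2 (2 * e) = 2 := Nat.gcd_eq_left (Dvd.intro e rfl)
  rw [hq1, hq2, hq3, hgcd] at hcardP
  have hcard : Nat.card G = Nat.card (Matrix.ProjectiveSpecialLinearGroup (Fin 2) E) := by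
    have h4e : 0 < 2 * (2 * e) := by omega
    apply Nat.eq_of_mul_eq_mul_right h4e
    rw [hcardG]
    have : Nat.card (Matrix.ProjectiveSpecialLinearGroup (Fin 2) E) * (2 * (2 * e)) =
        Nat.card (Matrix.ProjectiveSpecialLinearGroup (Fin 2) E) * 2 * (2 * e) := by ring
    rw [this, hcardP]
    ring
  exact ⟨E, iF, iT, hcardE, MoebiusPSL.nonempty_mulEquiv_psl ψ hsub hcard⟩

end Cfsg.Agent.Helper12.ZassOddPSL
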