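import Mathlib
import Cfsg.Prelude.Def_LieExceptional
import Cfsg.Agent.S0339
import Cfsg.Agent.S0739
import Cfsg.Agent.Lib.Helper19.ZassD
import Cfsg.Agent.Lib.Helper96.Zassenhaus

set_option autoImplicit false
set_option linter.unusedSectionVars false
set_option linter.style.haveILetI false
set_option linter.unusedVariables false

/-! Reduction of the Feit bound `n - 2 ≤ 2 |G_ab|` for Zassenhaus groups with abelian Frobenius
kernel and `|G_ab|` odd to the case of simple groups, and the consequences in the extremal case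
`n - 2 = 2 |G_ab|`: no normal `q`-complements, hence (S0739) `G_ab` is cyclic and inverted by the
elements swapping `a` and `b`. -/

namespace Cfsg.Agent.Helper12.ZassOddRed

open MulAction

universe u v

/-- The Feit bound for simple Zassenhaus groups with abelian Frobenius kernel and two-point
stabiliser of odd order, as a hypothesis. -/
def SimpleBound : Prop :=
  ∀ (G : Type u) (Ω : Type v) [Group G] [Finite G] [MulAction G Ω] [Fintype Ω] [IsSimpleGroup G]
    (hZ : Cfsg.IsZassenhausGroup G Ω) (a b : Ω) (hab : a ≠ b)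
    (hodd : Odd (Nat.card ↥(stabilizer G a ⊓ stabilizer G b : Subgroup G)))
    (H : Subgroup G) (hHa : H ≤ stabilizer G a) (hHcard : Nat.card H + 1 = Fintype.card Ω)
    (hHfix : ∀ u ∈ H, u ≠ 1 → ∀ c : Ω, u • c = c → c = a)
    (hHab : ∀ u ∈ H, ∀ v ∈ H, u * v = v * u),
    Fintype.card Ω - 2 ≤ 2 * Nat.card ↥(stabilizer G a ⊓ stabilizer G b : Subgroup G)

section

variable {G : Type u} {Ω : Type v} [Group G] [MulAction G Ω] [Finite G] [Fintype Ω] {a b : Ω}
  {H : Subgroup G}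

local notation "𝔇" => (MulAction.stabilizer G a ⊓ MulAction.stabilizer G b : Subgroup G)

/-- The kernel lies in every nontrivial normal subgroup. -/
theorem H_le_normal (hZ : Cfsg.IsZassenhausGroup G Ω) (hHa : H ≤ stabilizer G a)
    (hHfix : ∀ u ∈ H, u ≠ 1 → ∀ c : Ω, u • c = c → c = a) (N : Subgroup G) [N.Normal]
    (hN : N ≠ ⊥) : H ≤ N := by
  intro u hu
  apply Cfsg.Agent.Helper96.zass_ptKernel_le_normal hZ N hN a
  refine ⟨hHa hu, ?_⟩
  by_cases h1 : u = 1
  · exact Or.inl h1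
  · right
    intro x hx hfix
    exact hx (hHfix u hu h1 x hfix)

/-- The two point stabiliser of a subgroup. -/
theorem card_D_sub_dvd (N : Subgroup G) :
    Nat.card ↥(stabilizer ↥N a ⊓ stabilizer ↥N b : Subgroup ↥N) ∣ Nat.card ↥𝔇 := by
  let f : ↥(stabilizer ↥N a ⊓ stabilizer ↥N b : Subgroup ↥N) →* ↥𝔇 :=
    { toFun := fun d => ⟨((d : ↥N) : G), by
        have h1 := (Subgroup.mem_inf.mp d.2).1
        have h2 := (Subgroup.mem_inf.mp d.2).2
        rw [mem_stabilizer_iff] at h1 h2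
        exact Subgroup.mem_inf.mpr ⟨mem_stabilizer_iff.mpr h1, mem_stabilizer_iff.mpr h2⟩⟩
      map_one' := rfl
      map_mul' := fun _ _ => rfl }
  have hinj : Function.Injective f := by
    intro x y hxy
    apply Subtype.ext
    apply Subtype.ext
    exact congrArg (fun z : ↥𝔇 => (z : G)) hxy
  exact Subgroup.card_dvd_of_injective f hinj

/-- Data for a nontrivial normal subgroup. -/
theorem normal_data (hZ : Cfsg.IsZassenhausGroup G Ω) (hHa : H ≤ stabilizer G a)
    (hHcard : Nat.card H + 1 = Fintype.card Ω)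
    (hHfix : ∀ u ∈ H, u ≠ 1 → ∀ c : Ω, u • c = c → c = a)
    (hHab : ∀ u ∈ H, ∀ v ∈ H, u * v = v * u) (N : Subgroup G) [N.Normal] (hN : N ≠ ⊥) :
    Cfsg.IsZassenhausGroup ↥N Ω ∧ (H.subgroupOf N) ≤ stabilizer ↥N a ∧
      Nat.card ↥(H.subgroupOf N) + 1 = Fintype.card Ω ∧
      (∀ u ∈ H.subgroupOf N, u ≠ 1 → ∀ c : Ω, u • c = c → c = a) ∧
      (∀ u ∈ H.subgroupOf N, ∀ v ∈ H.subgroupOf N, u * v = v * u) := by
  have hHN : H ≤ N := H_le_normal hZ hHa hHfix N hN
  refine ⟨Cfsg.Agent.S0339.result hZ N hN, ?_, ?_, ?_, ?_⟩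
  · intro u hu
    rw [Subgroup.mem_subgroupOf] at hu
    have := hHa hu
    rw [mem_stabilizer_iff] at this ⊢
    exact this
  · rw [Nat.card_congr (Subgroup.subgroupOfEquivOfLe hHN).toEquiv]
    exact hHcard
  · intro u hu hu1 c huc
    rw [Subgroup.mem_subgroupOf] at hu
    refine hHfix (u : G) hu ?_ c huc
    intro h
    exact hu1 (Subtype.ext h)
  · intro u hu v hv
    rw [Subgroup.mem_subgroupOf] at hu hv
    exact Subtype.ext (hHab _ hu _ hv)

/-- Order of a nontrivial normal subgroup. -/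
theorem card_normal (hZ : Cfsg.IsZassenhausGroup G Ω) (hab : a ≠ b) (hHa : H ≤ stabilizer G a)
    (hHcard : Nat.card H + 1 = Fintype.card Ω)
    (hHfix : ∀ u ∈ H, u ≠ 1 → ∀ c : Ω, u • c = c → c = a)
    (hHab : ∀ u ∈ H, ∀ v ∈ H, u * v = v * u) (N : Subgroup G) [N.Normal] (hN : N ≠ ⊥) :
    Nat.card ↥N = (Nat.card H + 1) *
      (Nat.card H * Nat.card ↥(stabilizer ↥N a ⊓ stabilizer ↥N b : Subgroup ↥N)) := by
  obtain ⟨hZN, h1, h2, h3, h4⟩ := normal_data hZ hHa hHcard hHfix hHab N hN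
  have hHN : H ≤ N := H_le_normal hZ hHa hHfix N hN
  have := Cfsg.Agent.Helper19.ZassD.card_G hZN h1 h2 h3 hab
  rw [Nat.card_congr (Subgroup.subgroupOfEquivOfLe hHN).toEquiv] at this
  exact this

end

/-- The Feit bound for all Zassenhaus groups with abelian kernel and odd two-point stabiliser,
given the bound for simple groups. -/
theorem bound_aux (hS : SimpleBound.{u, v}) (Ω : Type v) [Fintype Ω] :
    ∀ (n : ℕ) (G : Type u) [Group G] [Finite G] [MulAction G Ω], Nat.card G = n →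
    ∀ (hZ : Cfsg.IsZassenhausGroup G Ω) (a b : Ω) (hab : a ≠ b)
    (hodd : Odd (Nat.card ↥(stabilizer G a ⊓ stabilizer G b : Subgroup G)))
    (H : Subgroup G) (hHa : H ≤ stabilizer G a) (hHcard : Nat.card H + 1 = Fintype.card Ω)
    (hHfix : ∀ u ∈ H, u ≠ 1 → ∀ c : Ω, u • c = c → c = a)
    (hHab : ∀ u ∈ H, ∀ v ∈ H, u * v = v * u),
    Fintype.card Ω - 2 ≤ 2 * Nat.card ↥(stabilizer G a ⊓ stabilizer G b : Subgroup G) := by
  intro n
  induction n using Nat.strong_induction_on with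
  | _ n ih =>
    intro G _ _ _ hn hZ a b hab hodd H hHa hHcard hHfix hHab
    by_cases hsimple : IsSimpleGroup G
    · exact hS G Ω hZ a b hab hodd H hHa hHcard hHfix hHab
    · have hnt : Nontrivial G := by
        obtain ⟨g, hg, _⟩ := hZ.2.2.2.1
        exact ⟨⟨g, 1, hg⟩⟩
      obtain ⟨N, hNn, hN1, hN2⟩ : ∃ N : Subgroup G, N.Normal ∧ N ≠ ⊥ ∧ N ≠ ⊤ := by
        by_contra hcon
        push Not at hcon
        apply hsimple
        refine ⟨fun N hN => ?_⟩
        by_cases h : N = ⊥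
        · exact Or.inl h
        · exact Or.inr (hcon N hN h)
      haveI := hNn
      obtain ⟨hZN, h1, h2, h3, h4⟩ := normal_data hZ hHa hHcard hHfix hHab N hN1
      have hlt : Nat.card ↥N < n := by
        rw [← hn]
        have hle : Nat.card ↥N ≤ Nat.card G := Subgroup.card_le_card_group N
        rcases Nat.lt_or_ge (Nat.card ↥N) (Nat.card G) with h | h
        · exact h
        · exfalso
          exact hN2 (Subgroup.card_eq_iff_eq_top N |>.mp (le_antisymm hle h))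
      have hdvd := card_D_sub_dvd (a := a) (b := b) N
      have hoddN : Odd (Nat.card ↥(stabilizer ↥N a ⊓ stabilizer ↥N b : Subgroup ↥N)) := by
        rcases hdvd with ⟨c, hc⟩
        rw [hc] at hodd
        exact (Nat.odd_mul.mp hodd).1
      have hb := ih (Nat.card ↥N) hlt ↥N rfl hZN a b hab hoddN _ h1 h2 h3 h4
      have hle : Nat.card ↥(stabilizer ↥N a ⊓ stabilizer ↥N b : Subgroup ↥N) ≤
          Nat.card ↥(stabilizer G a ⊓ stabilizer G b : Subgroup G) :=
        Nat.le_of_dvd Nat.card_pos hdvd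
      omega

section

variable {G : Type u} {Ω : Type v} [Group G] [MulAction G Ω] [Finite G] [Fintype Ω] {a b : Ω}
  {H : Subgroup G}

local notation "𝔇" => (MulAction.stabilizer G a ⊓ MulAction.stabilizer G b : Subgroup G)

theorem bound (hS : SimpleBound.{u, v}) (hZ : Cfsg.IsZassenhausGroup G Ω) (hab : a ≠ b)
    (hodd : Odd (Nat.card ↥𝔇))
    (hHa : H ≤ stabilizer G a) (hHcard : Nat.card H + 1 = Fintype.card Ω)
    (hHfix : ∀ u ∈ H, u ≠ 1 → ∀ c : Ω, u • c = c → c = a)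
    (hHab : ∀ u ∈ H, ∀ v ∈ H, u * v = v * u) :
    Fintype.card Ω - 2 ≤ 2 * Nat.card ↥𝔇 :=
  bound_aux hS Ω _ G rfl hZ a b hab hodd H hHa hHcard hHfix hHab

/-- In the extremal case there are no normal `q`-complements. -/
theorem no_normal_complement (hS : SimpleBound.{u, v}) (hZ : Cfsg.IsZassenhausGroup G Ω)
    (hab : a ≠ b) (hodd : Odd (Nat.card ↥𝔇))
    (hHa : H ≤ stabilizer G a) (hHcard : Nat.card H + 1 = Fintype.card Ω)
    (hHfix : ∀ u ∈ H, u ≠ 1 → ∀ c : Ω, u • c = c → c = a)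
    (hHab : ∀ u ∈ H, ∀ v ∈ H, u * v = v * u)
    (heq : Fintype.card Ω - 2 = 2 * Nat.card ↥𝔇) :
    ∀ q : ℕ, q.Prime → q ∣ Nat.card ↥𝔇 →
      ¬ ∃ N : Subgroup G, N.Normal ∧ N.index = q ^ (Nat.card G).factorization q := by
  rintro q hq hqe ⟨N, hNn, hidx⟩
  haveI := hNn
  have hn3 := Cfsg.Agent.S0878.card_ge_three hZ
  have hcG := Cfsg.Agent.Helper19.ZassD.card_G hZ hHa hHcard hHfix hab
  have hGpos : 0 < Nat.card G := Nat.card_pos
  have hepos : 0 < Nat.card ↥𝔇 := Nat.card_pos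
  have hh2 : 2 ≤ Nat.card H := by omega
  have hqG : q ∣ Nat.card G := by
    rw [hcG]
    exact Dvd.dvd.mul_left (Dvd.dvd.mul_left hqe _) _
  have hk : 1 ≤ (Nat.card G).factorization q :=
    (hq.dvd_iff_one_le_factorization hGpos.ne').mp hqG
  have hN1 : N ≠ ⊥ := by
    intro hbot
    rw [hbot, Subgroup.index_bot] at hidx
    -- |G| = q^k, but h and h+1 both divide |G|
    have hd1 : Nat.card H ∣ q ^ (Nat.card G).factorization q := by
      rw [← hidx, hcG]
      exact Dvd.dvd.mul_left (Dvd.intro _ rfl) _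
    have hd2 : Nat.card H + 1 ∣ q ^ (Nat.card G).factorization q := by
      rw [← hidx, hcG]
      exact Dvd.intro _ rfl
    obtain ⟨i, hi, hi'⟩ := (Nat.dvd_prime_pow hq).mp hd1
    obtain ⟨j, hj, hj'⟩ := (Nat.dvd_prime_pow hq).mp hd2
    have hi0 : i ≠ 0 := by
      rintro rfl
      rw [pow_zero] at hi'
      omega
    have hj0 : j ≠ 0 := by
      rintro rfl
      rw [pow_zero] at hj'
      omega
    have hq1 : q ∣ Nat.card H := by rw [hi']; exact dvd_pow_self q hi0
    have hq2 : q ∣ Nat.card H + 1 := by rw [hj']; exact dvd_pow_self q hj0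
    have : q ∣ 1 := (Nat.dvd_add_right hq1).mp hq2
    exact hq.one_lt.ne' (Nat.dvd_one.mp this)
  have hcN := card_normal hZ hab hHa hHcard hHfix hHab N hN1
  obtain ⟨hZN, h1, h2, h3, h4⟩ := normal_data hZ hHa hHcard hHfix hHab N hN1
  have hdvd := card_D_sub_dvd (a := a) (b := b) N
  have hoddN : Odd (Nat.card ↥(stabilizer ↥N a ⊓ stabilizer ↥N b : Subgroup ↥N)) := by
    rcases hdvd with ⟨c, hc⟩
    rw [hc] at hodd
    exact (Nat.odd_mul.mp hodd).1
  have hbN := bound hS hZN hab hoddN h1 h2 h3 h4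
  -- e_N * q^k = e
  obtain ⟨k, hkdef⟩ : ∃ k : ℕ, k = (Nat.card G).factorization q := ⟨_, rfl⟩
  rw [← hkdef] at hidx hk
  have hmul := Subgroup.card_mul_index N
  rw [hidx, hcN, hcG] at hmul
  have hcancel : Nat.card ↥(stabilizer ↥N a ⊓ stabilizer ↥N b : Subgroup ↥N) *
      q ^ k = Nat.card ↥𝔇 := by
    have hpos : 0 < (Nat.card H + 1) * Nat.card H := by positivity
    apply Nat.eq_of_mul_eq_mul_left hpos
    rw [mul_assoc (Nat.card H + 1) (Nat.card H) (Nat.card ↥𝔇), ← hmul]; ring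
  have hq2 : 2 ≤ q ^ k := by
    calc 2 ≤ q := hq.two_le
      _ = q ^ 1 := (pow_one q).symm
      _ ≤ q ^ k := Nat.pow_le_pow_right hq.pos hk
  have h2e : 2 * Nat.card ↥(stabilizer ↥N a ⊓ stabilizer ↥N b : Subgroup ↥N) ≤ Nat.card ↥𝔇 := by
    rw [← hcancel]
    calc 2 * Nat.card ↥(stabilizer ↥N a ⊓ stabilizer ↥N b : Subgroup ↥N)
        = Nat.card ↥(stabilizer ↥N a ⊓ stabilizer ↥N b : Subgroup ↥N) * 2 := by ring
      _ ≤ _ := Nat.mul_le_mul_left _ hq2
  omega

/-- The extremal case: `𝔇` is cyclic and inverted by the swapping elements. -/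
theorem extremal (hS : SimpleBound.{u, v}) (hZ : Cfsg.IsZassenhausGroup G Ω)
    (hab : a ≠ b) (hodd : Odd (Nat.card ↥𝔇))
    (hHa : H ≤ stabilizer G a) (hHcard : Nat.card H + 1 = Fintype.card Ω)
    (hHfix : ∀ u ∈ H, u ≠ 1 → ∀ c : Ω, u • c = c → c = a)
    (hHab : ∀ u ∈ H, ∀ v ∈ H, u * v = v * u)
    (heq : Fintype.card Ω - 2 = 2 * Nat.card ↥𝔇) :
    IsCyclic ↥𝔇 ∧ ∀ s : G, s • a = b → s • b = a → ∀ d ∈ 𝔇, s * d * s⁻¹ = d⁻¹ := by
  have hnil := no_normal_complement hS hZ hab hodd hHa hHcard hHfix hHab heq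
  obtain ⟨h1, -, h3⟩ := Cfsg.Agent.S0739.result hZ hab hodd hnil
  exact ⟨h1, h3⟩

end

end Cfsg.Agent.Helper12.ZassOddRed
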