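import Mathlib
import Cfsg.Agent.Lib.Helper12.NearFieldSolv
import Cfsg.Agent.Lib.Helper12.NormalIrred
import Cfsg.Agent.Lib.Helper12.IndexTwo
import Cfsg.Agent.Lib.Helper71.FrobConj
import Cfsg.Agent.Lib.Helper53.NormalComplement
import Cfsg.Agent.S0016

set_option autoImplicit false
set_option linter.unusedSectionVars false
set_option linter.style.haveILetI false

/-! Regular linear groups over the prime field: Sylow subgroups, and the case of an irreducible
cyclic normal subgroup. -/

namespace Cfsg.Agent.Helper12.RegLinSyl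

open Module Cfsg.Agent.Helper12.NearFieldSolv Cfsg.Agent.Helper12.IndexTwo

variable {p : ℕ} [Fact p.Prime] {V : Type*} [AddCommGroup V] [Module (ZMod p) V]

/-- the action of a subgroup of a linear group on the multiplicative copy of the space -/
def actHom (H : Subgroup (V ≃ₗ[ZMod p] V)) (B : Subgroup H) : B →* MulAut (Multiplicative V) where
  toFun b := AddEquiv.toMultiplicative (((b : H) : V ≃ₗ[ZMod p] V).toAddEquiv)
  map_one' := by
    ext x
    rfl
  map_mul' := by
    intro a b
    ext x
    rfl

theorem actHom_apply (H : Subgroup (V ≃ₗ[ZMod p] V)) (B : Subgroup H) (b : B) (v : V) :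
    actHom H B b (Multiplicative.ofAdd v) =
      Multiplicative.ofAdd (((b : H) : V ≃ₗ[ZMod p] V) v) := rfl

theorem card_V [Finite V] : Nat.card V = p ^ finrank (ZMod p) V := by
  have : Fintype V := Fintype.ofFinite _
  rw [Module.natCard_eq_pow_finrank (K := ZMod p) (V := V)]
  simp

/-- Sylow subgroups of a regular linear group are cyclic or generalised quaternion -/
theorem syl [Finite V] (H : Subgroup (V ≃ₗ[ZMod p] V))
    (hreg : ∀ v w : V, v ≠ 0 → w ≠ 0 → ∃! h : H, (h : V ≃ₗ[ZMod p] V) v = w)
    (r : ℕ) [Fact r.Prime] (B : Subgroup H) (hB : IsPGroup r B) :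
    IsCyclic B ∨ (r = 2 ∧ ∃ n : ℕ, Nonempty (B ≃* QuaternionGroup (2 ^ n))) := by
  have hfinE : Finite (V ≃ₗ[ZMod p] V) :=
    Finite.of_injective (fun e : V ≃ₗ[ZMod p] V => (e : V → V)) DFunLike.coe_injective
  have hr : r.Prime := Fact.out
  have hp : p.Prime := Fact.out
  by_cases hB1 : Nat.card B = 1
  · left
    have : Subsingleton B := (Nat.card_eq_one_iff_unique.mp hB1).1
    exact isCyclic_of_subsingleton
  -- `V` is nontrivial
  have hVnt : ∃ v₀ : V, v₀ ≠ 0 := by
    by_contra hcon
    push Not at hcon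
    apply hB1
    have hsub : Subsingleton (V ≃ₗ[ZMod p] V) := by
      constructor
      intro a b
      apply LinearEquiv.ext
      intro v
      rw [hcon v, map_zero, map_zero]
    have : Subsingleton B := by
      constructor
      intro a b
      apply Subtype.ext
      apply Subtype.ext
      exact Subsingleton.elim _ _
    exact Nat.card_unique
  obtain ⟨v₀, hv₀⟩ := hVnt
  have hcardH := Cfsg.Agent.S0685.card_H H hreg v₀ hv₀
  have hcardV : Nat.card V = p ^ finrank (ZMod p) V := card_V
  have hrB : r ∣ Nat.card B := by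
    obtain ⟨n, hn⟩ := (IsPGroup.iff_card).mp hB
    rcases Nat.eq_zero_or_pos n with h0 | h0
    · rw [h0, pow_zero] at hn
      exact absurd hn hB1
    · rw [hn]
      exact dvd_pow_self r (by omega)
  have hrH : r ∣ Nat.card H := hrB.trans (Subgroup.card_subgroup_dvd_card B)
  have hcop : (Nat.card (Multiplicative V)).Coprime r := by
    have h1 : Nat.card (Multiplicative V) = Nat.card V := rfl
    rw [h1, hcardV]
    rw [hcardH] at hrH
    have hpos : 1 ≤ p ^ finrank (ZMod p) V := Nat.one_le_pow _ _ hp.pos
    rw [Nat.coprime_comm, Nat.Prime.coprime_iff_not_dvd hr]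
    intro hdvd
    have h2 : r ∣ p ^ finrank (ZMod p) V - (p ^ finrank (ZMod p) V - 1) := Nat.dvd_sub hdvd hrH
    have h3 : p ^ finrank (ZMod p) V - (p ^ finrank (ZMod p) V - 1) = 1 := by omega
    rw [h3] at h2
    exact hr.one_lt.ne' (Nat.dvd_one.mp h2)
  haveI : Nontrivial (Multiplicative V) :=
    ⟨⟨Multiplicative.ofAdd v₀, Multiplicative.ofAdd 0, fun h => hv₀ (Multiplicative.ofAdd.injective h)⟩⟩
  have hfpf : ∀ g : B, g ≠ 1 → ∀ x : Multiplicative V, actHom H B g x = x → x = 1 := by
    intro g hg x hx
    by_contra hx1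
    apply hg
    have hv : Multiplicative.toAdd x ≠ 0 := fun h => hx1 (by
      have : x = Multiplicative.ofAdd (Multiplicative.toAdd x) := rfl
      rw [this, h]; rfl)
    have hfix : ((g : H) : V ≃ₗ[ZMod p] V) (Multiplicative.toAdd x) = Multiplicative.toAdd x :=
      congrArg Multiplicative.toAdd hx
    have := fpfH H hreg (g : H) _ hv hfix
    exact Subtype.ext this
  have huniq := Cfsg.Agent.Helper71.unique_subgroup_order_p_of_fpf r hB hcop (actHom H B) hfpf
  exact Cfsg.Agent.S0016.result r hB huniq

/-- a group of even order with a normal 2-complement has a subgroup of index 2 -/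
theorem exists_of_npc {Γ : Type*} [Group Γ] [Finite Γ] (h2 : 2 ∣ Nat.card Γ)
    (h : Cfsg.HasNormalPComplement 2 Γ) : ∃ N : Subgroup Γ, N.index = 2 := by
  obtain ⟨N, hNn, hodd, k, hk⟩ := Cfsg.Agent.Helper53.exists_odd_card_of_hasNormalPComplement h
  haveI := hNn
  apply exists_of_normal_index_pow N (k := k) _ hk
  rcases Nat.eq_zero_or_pos k with h0 | h0
  · exfalso
    rw [h0, pow_zero] at hk
    have := N.card_mul_index
    rw [hk, mul_one] at this
    rw [this] at hodd
    exact hodd h2
  · exact h0

end Cfsg.Agent.Helper12.RegLinSyl
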