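import Mathlib
import Cfsg.Agent.Lib.Helper12.RegLinSyl
import Cfsg.Agent.Lib.Helper49.CyclicSylow
import Cfsg.Agent.Lib.Helper21.FStar
import Cfsg.Agent.S0106
import Cfsg.Agent.S4072
import Cfsg.Agent.S1303

set_option autoImplicit false
set_option linter.unusedSectionVars false
set_option linter.style.haveILetI false

/-! A regular linear group over the prime field of even order with at most one subgroup of order 3
has a subgroup of index 2. -/

namespace Cfsg.Agent.Helper12.RegLinIdx

open Module Cfsg.Agent.Helper12.NearFieldSolv Cfsg.Agent.Helper12.IndexTwo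
  Cfsg.Agent.Helper12.RegLinSyl Cfsg.Agent.Helper12.FpfLinear

open scoped commutatorElement

variable {p : ℕ} [Fact p.Prime] {V : Type*} [AddCommGroup V] [Module (ZMod p) V]

/-- the case of an irreducible cyclic normal subgroup, with non-abelian Sylow 2-subgroups -/
theorem caseA [Finite V] (H : Subgroup (V ≃ₗ[ZMod p] V))
    (A₀ : Subgroup H) (hAn : A₀.Normal) (hAc : IsCyclic A₀)
    (hirr : ∀ W : Submodule (ZMod p) V,
      (∀ a ∈ A₀, ∀ v ∈ W, ((a : H) : V ≃ₗ[ZMod p] V) v ∈ W) → W = ⊥ ∨ W = ⊤)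
    (S : Sylow 2 H) (x y : H) (hx : x ∈ S) (hy : y ∈ S) (hxy : x * y ≠ y * x) :
    ∃ N : Subgroup H, N.index = 2 := by
  have hfinE : Finite (V ≃ₗ[ZMod p] V) :=
    Finite.of_injective (fun e : V ≃ₗ[ZMod p] V => (e : V → V)) DFunLike.coe_injective
  haveI := hAn
  -- the centraliser is commutative
  have hCcomm : ∀ c ∈ Subgroup.centralizer (A₀ : Set H),
      ∀ c' ∈ Subgroup.centralizer (A₀ : Set H), c * c' = c' * c := by
    intro c hc c' hc'
    have hirr' : ∀ W : Submodule (ZMod p) V, Inv (A₀.map H.subtype) W → W = ⊥ ∨ W = ⊤ := by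
      intro W hW
      apply hirr W
      intro a ha v hv
      exact hW (a : V ≃ₗ[ZMod p] V) ⟨a, ha, rfl⟩ v hv
    have key : ∀ d ∈ Subgroup.centralizer (A₀ : Set H), ∀ b ∈ A₀.map H.subtype,
        (d : V ≃ₗ[ZMod p] V) * b = b * (d : V ≃ₗ[ZMod p] V) := by
      rintro d hd _ ⟨a, ha, rfl⟩
      rw [Subgroup.mem_centralizer_iff] at hd
      have := hd a ha
      have h2 := congrArg Subtype.val this
      simpa using h2.symm
    have := Cfsg.Agent.Helper12.NormalIrred.centralizer_comm hirr'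
      (c : V ≃ₗ[ZMod p] V) (c' : V ≃ₗ[ZMod p] V) (key c hc) (key c' hc')
    exact Subtype.ext this
  -- the quotient by the centraliser is abelian
  obtain ⟨a, ha⟩ := hAc.exists_generator
  have hgen : ∀ b ∈ A₀, ∃ k : ℤ, (a : H) ^ k = b := by
    intro b hb
    have := ha ⟨b, hb⟩
    rw [Subgroup.mem_zpowers_iff] at this
    obtain ⟨k, hk⟩ := this
    refine ⟨k, ?_⟩
    have := congrArg Subtype.val hk
    simpa using this
  have hconj_eq : ∀ u w : H, u * (a : H) * u⁻¹ = w * (a : H) * w⁻¹ →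
      ∀ b ∈ A₀, u * b * u⁻¹ = w * b * w⁻¹ := by
    intro u w h b hb
    obtain ⟨k, rfl⟩ := hgen b hb
    rw [← conj_zpow, ← conj_zpow, h]
  have hswap : ∀ g h : H, (g * h) * (a : H) * (g * h)⁻¹ = (h * g) * (a : H) * (h * g)⁻¹ := by
    intro g h
    obtain ⟨i, hi⟩ := hgen _ (hAn.conj_mem (a : H) a.2 g)
    obtain ⟨j, hj⟩ := hgen _ (hAn.conj_mem (a : H) a.2 h)
    have h1 : (g * h) * (a : H) * (g * h)⁻¹ = g * (h * (a : H) * h⁻¹) * g⁻¹ := by group
    have h2 : (h * g) * (a : H) * (h * g)⁻¹ = h * (g * (a : H) * g⁻¹) * h⁻¹ := by group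
    rw [h1, h2, ← hi, ← hj, ← conj_zpow, ← conj_zpow, ← hi, ← hj, ← zpow_mul, ← zpow_mul, mul_comm]
  have hab : commutator H ≤ Subgroup.centralizer (A₀ : Set H) := by
    rw [commutator_def, Subgroup.commutator_le]
    intro g _ h _
    rw [Subgroup.mem_centralizer_iff]
    intro b hb
    have hb' : (h * g)⁻¹ * b * (h * g) ∈ A₀ := by
      have := hAn.conj_mem b hb (h * g)⁻¹
      rwa [inv_inv] at this
    have h1 := hconj_eq (g * h) (h * g) (hswap g h) _ hb'
    have h2 : (h * g) * ((h * g)⁻¹ * b * (h * g)) * (h * g)⁻¹ = b := by group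
    rw [h2] at h1
    have h3 : ⁅g, h⁆ = (g * h) * (h * g)⁻¹ := by
      rw [commutatorElement_def]; group
    rw [h3]
    calc b * ((g * h) * (h * g)⁻¹)
        = ((g * h) * ((h * g)⁻¹ * b * (h * g)) * (g * h)⁻¹) * ((g * h) * (h * g)⁻¹) := by rw [h1]
      _ = (g * h) * (h * g)⁻¹ * b := by group
  -- the index is even
  have heven : 2 ∣ (Subgroup.centralizer (A₀ : Set H)).index := by
    by_contra hodd
    have hmemC : ∀ u ∈ (S : Subgroup H), u ∈ Subgroup.centralizer (A₀ : Set H) := by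
      intro u hu
      have h1 : u ^ (Subgroup.centralizer (A₀ : Set H)).index ∈
          Subgroup.centralizer (A₀ : Set H) := Subgroup.pow_index_mem _ u
      obtain ⟨k, hk⟩ := (IsPGroup.iff_orderOf.mp S.isPGroup') ⟨u, hu⟩
      have hk' : orderOf u = 2 ^ k := (Subgroup.orderOf_mk u hu).symm.trans hk
      have hcop : ((Subgroup.centralizer (A₀ : Set H)).index).Coprime (orderOf u) := by
        rw [hk']
        apply Nat.Coprime.pow_right
        rw [Nat.coprime_comm, Nat.Prime.coprime_iff_not_dvd Nat.prime_two]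
        exact hodd
      obtain ⟨m, hm⟩ := exists_pow_eq_self_of_coprime hcop
      rw [← hm]
      exact Subgroup.pow_mem _ h1 m
    exact hxy (hCcomm x (hmemC x hx) y (hmemC y hy))
  exact exists_of_commutator_le _ hab heven

theorem card_sl23 : Nat.card (Matrix.SpecialLinearGroup (Fin 2) (ZMod 3)) = 24 := by
  rw [Nat.card_eq_fintype_card]
  decide +kernel

/-- a group with a normal subgroup of order 3 (the only subgroup of that order) and order not
divisible by 9 has no section isomorphic to `SL(2,3)` -/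
theorem no_section {Γ : Type*} [Group Γ] [Finite Γ]
    (hU3 : ∀ A B : Subgroup Γ, Nat.card A = 3 → Nat.card B = 3 → A = B)
    (h9 : ¬ 9 ∣ Nat.card Γ)
    (X Y : Subgroup Γ) (hY : (Y.subgroupOf X).Normal)
    (e : (X ⧸ Y.subgroupOf X) ≃* Matrix.SpecialLinearGroup (Fin 2) (ZMod 3)) : False := by
  haveI : Fact (Nat.Prime 3) := ⟨by norm_num⟩
  have hcardQ : Nat.card (X ⧸ Y.subgroupOf X) = 24 := by
    rw [Nat.card_congr e.toEquiv, card_sl23]
  have hcardX : Nat.card X = Nat.card (X ⧸ Y.subgroupOf X) * Nat.card (Y.subgroupOf X) :=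
    Subgroup.card_eq_card_quotient_mul_card_subgroup _
  rw [hcardQ] at hcardX
  have h3X : 3 ∣ Nat.card X := by rw [hcardX]; exact Dvd.dvd.mul_right (by norm_num) _
  obtain ⟨x, hx⟩ := exists_prime_orderOf_dvd_card' 3 h3X
  have hx3 : (x : Γ) ^ 3 = 1 := by
    have := pow_orderOf_eq_one x
    rw [hx] at this
    have h2 := congrArg Subtype.val this
    simpa using h2
  have hxo : orderOf (x : Γ) = 3 := by rw [Subgroup.orderOf_coe, hx]
  -- `x` is not in `Y`
  have hxY : x ∉ Y.subgroupOf X := by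
    intro hmem
    apply h9
    have h1 : 3 ∣ Nat.card (Y.subgroupOf X) := by
      have := Subgroup.orderOf_dvd_natCard (Y.subgroupOf X) hmem
      rwa [hx] at this
    have h2 : 9 ∣ Nat.card X := by
      rw [hcardX]
      obtain ⟨c, hc⟩ := h1
      rw [hc]
      exact ⟨8 * c, by ring⟩
    exact h2.trans (Subgroup.card_subgroup_dvd_card X)
  -- the subgroup generated by `x` is normal in `Γ`
  have hT : Nat.card (Subgroup.zpowers (x : Γ)) = 3 := by rw [Nat.card_zpowers, hxo]
  have hnorm : ∀ g : Γ, g * (x : Γ) * g⁻¹ ∈ Subgroup.zpowers (x : Γ) := by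
    intro g
    have h1 : Nat.card ((Subgroup.zpowers (x : Γ)).map (MulAut.conj g).toMonoidHom) = 3 := by
      rw [Subgroup.card_map_of_injective (MulAut.conj g).injective, hT]
    have h2 := hU3 _ _ h1 hT
    rw [← h2]
    exact ⟨(x : Γ), Subgroup.mem_zpowers _, by simp [MulAut.conj_apply]⟩
  have hcube : ∀ z ∈ Subgroup.zpowers (x : Γ), z ^ 3 = 1 := by
    intro z hz
    rw [Subgroup.mem_zpowers_iff] at hz
    obtain ⟨k, rfl⟩ := hz
    rw [← zpow_natCast, ← zpow_mul, mul_comm, zpow_mul, zpow_natCast, hx3, one_zpow]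
  -- transfer to `SL(2,3)`
  set u := e (QuotientGroup.mk x) with hu
  have hu1 : u ≠ 1 := by
    intro h
    rw [hu, MulEquiv.map_eq_one_iff, QuotientGroup.eq_one_iff] at h
    exact hxY h
  have hu3 : u ^ 3 = 1 := by
    rw [hu, ← map_pow, ← QuotientGroup.mk_pow]
    have : x ^ 3 = 1 := Subtype.ext (by simpa using hx3)
    rw [this, QuotientGroup.mk_one, map_one]
  obtain ⟨h, hh⟩ := Cfsg.Agent.S1303.d1 u hu1 hu3
  apply hh
  obtain ⟨q, rfl⟩ := e.surjective h
  obtain ⟨g, rfl⟩ := QuotientGroup.mk_surjective q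
  have hmem : (g : Γ) * (x : Γ) * (g : Γ)⁻¹ * (x : Γ)⁻¹ ∈ Subgroup.zpowers (x : Γ) :=
    Subgroup.mul_mem _ (hnorm g) (Subgroup.inv_mem _ (Subgroup.mem_zpowers _))
  have h1 : (g * x * g⁻¹ * x⁻¹) ^ 3 = 1 := by
    apply Subtype.ext
    have := hcube _ hmem
    simpa using this
  rw [hu, ← map_inv, ← map_inv, ← map_mul, ← map_mul, ← map_mul, ← map_pow,
    ← QuotientGroup.mk_inv, ← QuotientGroup.mk_inv, ← QuotientGroup.mk_mul, ← QuotientGroup.mk_mul,
    ← QuotientGroup.mk_mul, ← QuotientGroup.mk_pow, h1, QuotientGroup.mk_one, map_one]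

/-- a perfect group has no subgroup of index 2 -/
theorem no_index_two_of_perfect {Γ : Type*} [Group Γ] (hperf : commutator Γ = ⊤)
    (M : Subgroup Γ) (hM : M.index = 2) : False := by
  haveI : M.Normal := Subgroup.normal_of_index_eq_two hM
  have hle : commutator Γ ≤ M := by
    rw [commutator_def, Subgroup.commutator_le]
    intro g _ h _
    have h1 : ⁅g, h⁆ = g * (h * g⁻¹ * h⁻¹) := by rw [commutatorElement_def]; group
    rw [h1, Subgroup.mul_mem_iff_of_index_two hM]
    have h2 : h * g⁻¹ * h⁻¹ ∈ M ↔ g⁻¹ ∈ M := by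
      constructor
      · intro hh
        have := Subgroup.Normal.conj_mem inferInstance _ hh h⁻¹
        have h3 : h⁻¹ * (h * g⁻¹ * h⁻¹) * h⁻¹⁻¹ = g⁻¹ := by group
        rwa [h3] at this
      · intro hh
        exact Subgroup.Normal.conj_mem inferInstance _ hh h
    rw [h2, inv_mem_iff]
  rw [hperf, top_le_iff] at hle
  rw [hle, Subgroup.index_top] at hM
  omega

/-- a finite group whose Sylow subgroups are cyclic or generalised quaternion, with a unique
subgroup of order 3 which is central, is solvable -/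
theorem solvable_of_central_three {Γ : Type*} [Group Γ] [Finite Γ]
    (hsyl : ∀ (r : ℕ) [Fact r.Prime] (B : Subgroup Γ), IsPGroup r B →
      IsCyclic B ∨ (r = 2 ∧ ∃ n : ℕ, Nonempty (B ≃* QuaternionGroup (2 ^ n))))
    (hU3 : ∀ A B : Subgroup Γ, Nat.card A = 3 → Nat.card B = 3 → A = B)
    (t : Γ) (ht : orderOf t = 3) (htc : ∀ g : Γ, g * t = t * g) : Group.IsSolvable Γ := by
  by_contra hns
  haveI : Fact (Nat.Prime 2) := ⟨Nat.prime_two⟩
  haveI : Fact (Nat.Prime 3) := ⟨by norm_num⟩
  obtain ⟨D, hDn, hDD, hD⟩ := Cfsg.Agent.Helper21.exists_perfect_core Γ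
  have hDne : D ≠ ⊥ := fun h => hns (hD h)
  have hperf : commutator D = ⊤ := by
    apply Subgroup.map_injective D.subtype_injective
    rw [Subgroup.map_subtype_commutator, hDD, ← MonoidHom.range_eq_map, Subgroup.range_subtype]
  haveI : Nontrivial D := (Subgroup.nontrivial_iff_ne_bot D).mpr hDne
  -- Sylow subgroups of `D`
  have hsylD : ∀ (r : ℕ) [Fact r.Prime] (B : Subgroup D), IsPGroup r B →
      IsCyclic B ∨ (r = 2 ∧ ∃ n : ℕ, Nonempty (B ≃* QuaternionGroup (2 ^ n))) := by
    intro r _ B hB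
    have e := B.equivMapOfInjective D.subtype D.subtype_injective
    rcases hsyl r (B.map D.subtype) (hB.map D.subtype) with h | ⟨h2, n, ⟨f⟩⟩
    · left
      exact isCyclic_of_surjective e.symm e.symm.surjective
    · right
      exact ⟨h2, n, ⟨e.trans f⟩⟩
  -- some Sylow 2-subgroup is not cyclic
  have hnc : ∃ P : Sylow 2 D, ¬ IsCyclic P := by
    by_contra hcon
    push Not at hcon
    have hZ : IsZGroup D := by
      constructor
      intro r hr P
      haveI : Fact r.Prime := ⟨hr⟩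
      rcases hsylD r P P.isPGroup' with h | ⟨h2, -⟩
      · exact h
      · subst h2
        exact hcon P
    have hlt := Group.IsSolvable.commutator_lt_top_of_nontrivial (G := D)
    rw [hperf] at hlt
    exact lt_irrefl _ hlt
  obtain ⟨P, hP⟩ := hnc
  rcases hsylD 2 P P.isPGroup' with h | ⟨-, n, ⟨f⟩⟩
  · exact hP h
  have hn : 1 ≤ n := by
    rcases Nat.eq_zero_or_pos n with h0 | h0
    · exfalso
      apply hP
      subst h0
      haveI := QuaternionGroup.quaternionGroup_one_isCyclic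
      exact isCyclic_of_surjective f.symm f.symm.surjective
    · exact h0
  have h2D : 2 ∣ Nat.card D := by
    have h1 : Nat.card (P : Subgroup D) = 4 * 2 ^ n := by
      haveI : NeZero (2 ^ n) := ⟨by positivity⟩
      rw [Nat.card_congr f.toEquiv, Nat.card_eq_fintype_card, QuaternionGroup.card]
    have h2 : 2 ∣ Nat.card (P : Subgroup D) := by rw [h1]; exact Dvd.dvd.mul_right (by norm_num) _
    exact h2.trans (Subgroup.card_subgroup_dvd_card _)
  -- 3 divides the order of `D`
  have h3D : 3 ∣ Nat.card D := by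
    rcases Cfsg.Agent.S0106.result P n hn ⟨f⟩ with hnpc | ⟨X, Y, hY, ⟨e⟩⟩
    · exfalso
      obtain ⟨M, hM⟩ := exists_of_npc h2D hnpc
      exact no_index_two_of_perfect hperf M hM
    · have hcardQ : Nat.card (X ⧸ Y.subgroupOf X) = 24 := by
        rw [Nat.card_congr e.toEquiv, card_sl23]
      have hcardX : Nat.card X = Nat.card (X ⧸ Y.subgroupOf X) * Nat.card (Y.subgroupOf X) :=
        Subgroup.card_eq_card_quotient_mul_card_subgroup _
      rw [hcardQ] at hcardX
      have h3X : 3 ∣ Nat.card X := by rw [hcardX]; exact Dvd.dvd.mul_right (by norm_num) _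
      exact h3X.trans (Subgroup.card_subgroup_dvd_card X)
  -- so `t` lies in `D`
  obtain ⟨d, hd⟩ := exists_prime_orderOf_dvd_card' 3 h3D
  have hdo : orderOf (d : Γ) = 3 := by rw [Subgroup.orderOf_coe, hd]
  have hzp : Subgroup.zpowers (d : Γ) = Subgroup.zpowers t := by
    apply hU3
    · rw [Nat.card_zpowers, hdo]
    · rw [Nat.card_zpowers, ht]
  have htD : t ∈ D := by
    have h1 : t ∈ Subgroup.zpowers (d : Γ) := by rw [hzp]; exact Subgroup.mem_zpowers t
    exact (Subgroup.zpowers_le.mpr d.2) h1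
  set t' : D := ⟨t, htD⟩ with ht'
  have ht'o : orderOf t' = 3 := by rw [← Subgroup.orderOf_coe]; exact ht
  have ht'1 : t' ≠ 1 := by
    intro h
    rw [h, orderOf_one] at ht'o
    omega
  have ht'c : ∀ g : D, g * t' * g⁻¹ = t' := by
    intro g
    apply Subtype.ext
    change (g : Γ) * t * (g : Γ)⁻¹ = t
    rw [htc, mul_assoc, mul_inv_cancel, mul_one]
  have hp3 : IsPGroup 3 (Subgroup.zpowers t') := by
    rw [IsPGroup.iff_card]
    exact ⟨1, by rw [Nat.card_zpowers, ht'o, pow_one]⟩
  obtain ⟨P₃, hP₃⟩ := hp3.exists_le_sylow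
  have ht'P : t' ∈ (P₃ : Subgroup D) := hP₃ (Subgroup.mem_zpowers t')
  have hcyc : IsCyclic (P₃ : Subgroup D) := by
    rcases hsylD 3 P₃ P₃.isPGroup' with h | ⟨h2, -⟩
    · exact h
    · omega
  have hNC := Cfsg.Agent.Helper49.normalizer_le_centralizer_of_cyclic_sylow P₃ hcyc t' ht'P ht'1
    (fun g _ => ht'c g)
  have hne : (P₃ : Subgroup D) ≠ ⊥ := by
    intro h
    rw [h, Subgroup.mem_bot] at ht'P
    exact ht'1 ht'P
  exact Cfsg.Agent.S4072.not_perfect_of_burnside P₃ hNC hne hperf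

/-- generalised quaternion groups of order at least 8 are not commutative -/
theorem quat_not_comm {n : ℕ} (hn : 1 ≤ n) :
    ∃ x y : QuaternionGroup (2 ^ n), x * y ≠ y * x := by
  refine ⟨QuaternionGroup.a 1, QuaternionGroup.xa 0, ?_⟩
  rw [QuaternionGroup.a_mul_xa, QuaternionGroup.xa_mul_a]
  intro h
  have h1 : (0 : ZMod (2 * 2 ^ n)) - 1 = 0 + 1 := QuaternionGroup.xa.inj h
  have h2 : ((2 : ℕ) : ZMod (2 * 2 ^ n)) = 0 := by
    have : (2 : ZMod (2 * 2 ^ n)) = 0 := by linear_combination -h1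
    exact_mod_cast this
  rw [ZMod.natCast_eq_zero_iff] at h2
  have h3 : 2 ^ 1 ≤ 2 ^ n := Nat.pow_le_pow_right (by norm_num) hn
  have h4 := Nat.le_of_dvd (by norm_num) h2
  omega

/-- a subgroup which is the only one of its order is normal -/
theorem normal_of_unique {Γ : Type*} [Group Γ] [Finite Γ] {m : ℕ}
    (hU : ∀ A B : Subgroup Γ, Nat.card A = m → Nat.card B = m → A = B)
    (T : Subgroup Γ) (hT : Nat.card T = m) : T.Normal := by
  constructor
  intro x hx g
  have h1 : Nat.card (T.map (MulAut.conj g).toMonoidHom) = m := by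
    rw [Subgroup.card_map_of_injective (MulAut.conj g).injective, hT]
  have h2 := hU _ _ h1 hT
  rw [← h2]
  exact ⟨x, hx, by simp [MulAut.conj_apply]⟩

/-- a regular linear group over the prime field of even order with at most one subgroup of
order 3 has a subgroup of index 2 -/
theorem mainLin [Finite V] (H : Subgroup (V ≃ₗ[ZMod p] V))
    (hreg : ∀ v w : V, v ≠ 0 → w ≠ 0 → ∃! h : H, (h : V ≃ₗ[ZMod p] V) v = w)
    (h2 : 2 ∣ Nat.card H)
    (hU3 : ∀ A B : Subgroup H, Nat.card A = 3 → Nat.card B = 3 → A = B) :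
    ∃ N : Subgroup H, N.index = 2 := by
  have hfinE : Finite (V ≃ₗ[ZMod p] V) :=
    Finite.of_injective (fun e : V ≃ₗ[ZMod p] V => (e : V → V)) DFunLike.coe_injective
  haveI : Fact (Nat.Prime 2) := ⟨Nat.prime_two⟩
  haveI : Fact (Nat.Prime 3) := ⟨by norm_num⟩
  have hp : p.Prime := Fact.out
  let S : Sylow 2 H := default
  have hcycCase : IsCyclic (S : Subgroup H) → ∃ N : Subgroup H, N.index = 2 := by
    intro hc
    apply exists_of_npc h2
    exact Cfsg.Agent.Helper53.hasNormalPComplement_of_cyclic (S : Subgroup H) hc S.isPGroup'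
      S.not_dvd_index
  rcases syl H hreg 2 S S.isPGroup' with hc | ⟨-, n, ⟨f⟩⟩
  · exact hcycCase hc
  rcases Nat.eq_zero_or_pos n with h0 | hn
  · apply hcycCase
    subst h0
    haveI := QuaternionGroup.quaternionGroup_one_isCyclic
    exact isCyclic_of_surjective f.symm f.symm.surjective
  rcases Cfsg.Agent.S0106.result S n hn ⟨f⟩ with hnpc | ⟨X, Y, hY, ⟨e⟩⟩
  · exact exists_of_npc h2 hnpc
  by_cases hI : ∀ A : Subgroup H, A.Normal → IsCyclic A → ∃ W : Submodule (ZMod p) V,
      W ≠ ⊥ ∧ W ≠ ⊤ ∧ ∀ a ∈ A, ∀ v ∈ W, ((a : H) : V ≃ₗ[ZMod p] V) v ∈ W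
  · by_cases hsolv : Group.IsSolvable H
    · exfalso
      obtain ⟨W0, hW0, -, -⟩ := hI ⊥ inferInstance inferInstance
      obtain ⟨v₀, -, hv₀⟩ := Submodule.exists_mem_ne_zero_of_ne_bot hW0
      have hcardH := Cfsg.Agent.S0685.card_H H hreg v₀ hv₀
      have hcardV : Nat.card V = p ^ finrank (ZMod p) V := card_V
      rw [← hcardV] at hcardH
      have h9 : ¬ 9 ∣ Nat.card H := by
        rw [hcardH]
        rcases main H hreg hI hsolv with h | h | h | h <;> rw [h] <;> norm_num
      exact no_section hU3 h9 X Y hY e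
    · -- an element of order 3
      have hcardQ : Nat.card (X ⧸ Y.subgroupOf X) = 24 := by
        rw [Nat.card_congr e.toEquiv, card_sl23]
      have hcardX : Nat.card X = Nat.card (X ⧸ Y.subgroupOf X) * Nat.card (Y.subgroupOf X) :=
        Subgroup.card_eq_card_quotient_mul_card_subgroup _
      rw [hcardQ] at hcardX
      have h3X : 3 ∣ Nat.card X := by rw [hcardX]; exact Dvd.dvd.mul_right (by norm_num) _
      have h3H : 3 ∣ Nat.card H := h3X.trans (Subgroup.card_subgroup_dvd_card X)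
      obtain ⟨t, ht⟩ := exists_prime_orderOf_dvd_card' 3 h3H
      have hT : Nat.card (Subgroup.zpowers t) = 3 := by rw [Nat.card_zpowers, ht]
      haveI hTn : (Subgroup.zpowers t).Normal := normal_of_unique hU3 _ hT
      by_cases hTc : Subgroup.zpowers t ≤ Subgroup.center H
      · exfalso
        apply hsolv
        apply solvable_of_central_three (fun r _ B hB => syl H hreg r B hB) hU3 t ht
        intro g
        have := hTc (Subgroup.mem_zpowers t)
        rw [Subgroup.mem_center_iff] at this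
        exact this g
      · exact ⟨_, centralizer_index_two (Subgroup.zpowers t) hT hTc⟩
  · push Not at hI
    obtain ⟨A₀, hAn, hAc, hirr⟩ := hI
    obtain ⟨x₀, y₀, hxy₀⟩ := quat_not_comm hn
    refine caseA H A₀ hAn hAc ?_ S (f.symm x₀ : H) (f.symm y₀ : H) (f.symm x₀).2 (f.symm y₀).2 ?_
    · intro W hW
      by_contra hcon
      rw [not_or] at hcon
      obtain ⟨a, ha, v, hv, hav⟩ := hirr W hcon.1 hcon.2
      exact hav (hW a ha v hv)
    · intro h
      apply hxy₀
      have h1 : f.symm x₀ * f.symm y₀ = f.symm y₀ * f.symm x₀ := Subtype.ext h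
      have h2 := congrArg f h1
      simpa using h2

end Cfsg.Agent.Helper12.RegLinIdx
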