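import Mathlib
import Cfsg.Agent.Lib.Helper12.Sharp2
import Cfsg.Agent.Lib.Helper12.LinTransport
import Cfsg.Agent.Lib.Helper12.RegLinIdx
import Cfsg.Agent.Lib.Helper19.Sharp3
import Cfsg.Agent.S0728

set_option autoImplicit false
set_option linter.unusedSectionVars false
set_option linter.style.haveILetI false

/-! In a sharply 3-transitive group of even degree at least 6, a two-point stabiliser has a
subgroup of index 2. -/

namespace Cfsg.Agent.Helper12.Sharp3Idx

open MulAction Cfsg.Agent.Helper12.Sharp2 Cfsg.Agent.Helper19.Sharp3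

universe u

variable {α : Type u} [Fintype α] [DecidableEq α] (G : Subgroup (Equiv.Perm α))

/-- The point stabiliser acts sharply 2-transitively on the remaining points. -/
theorem isSharp2 (h3 : MulAction.IsMultiplyPretransitive G α 3)
    (hsharp : ∀ x : Fin 3 ↪ α, MulAction.stabilizer G x = ⊥) (a : α) :
    IsSharp2 (MulAction.stabilizer G a) (SubMulAction.ofStabilizer G a) := by
  constructor
  · rintro ⟨x, hx⟩ ⟨y, hy⟩ ⟨x', hx'⟩ ⟨y', hy'⟩ hxy hxy'
    have hx0 : x ≠ a := hx
    have hy0 : y ≠ a := hy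
    have hx0' : x' ≠ a := hx'
    have hy0' : y' ≠ a := hy'
    have h1 : x ≠ y := fun e => hxy (Subtype.ext e)
    have h2 : x' ≠ y' := fun e => hxy' (Subtype.ext e)
    obtain ⟨g, hg1, hg2, hg3⟩ := exists_map3 G h3 (Ne.symm hx0) (Ne.symm hy0) h1
      (Ne.symm hx0') (Ne.symm hy0') h2
    refine ⟨⟨g, hg1⟩, Subtype.ext ?_, Subtype.ext ?_⟩
    · exact hg2
    · exact hg3
  · rintro ⟨g, hg⟩ ⟨x, hx⟩ ⟨y, hy⟩ hxy hgx hgy
    have hx0 : x ≠ a := hx
    have hy0 : y ≠ a := hy
    have h1 : x ≠ y := fun e => hxy (Subtype.ext e)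
    have hgx' : g • x = x := congrArg Subtype.val hgx
    have hgy' : g • y = y := congrArg Subtype.val hgy
    have := eq_one_of_fix3 G hsharp (Ne.symm hx0) (Ne.symm hy0) h1 hg hgx' hgy'
    exact Subtype.ext this

/-- the two-point stabiliser has a subgroup of index 2 -/
theorem exists_index_two (heven : Even (Fintype.card α)) (h6 : 6 ≤ Fintype.card α)
    (h3 : MulAction.IsMultiplyPretransitive G α 3)
    (hsharp : ∀ x : Fin 3 ↪ α, MulAction.stabilizer G x = ⊥) {a b : α} (hab : a ≠ b) :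
    ∃ N : Subgroup (↥(MulAction.stabilizer G a ⊓ MulAction.stabilizer G b)), N.index = 2 := by
  classical
  have hS := isSharp2 G h3 hsharp a
  have hcardX : Nat.card (SubMulAction.ofStabilizer G a) + 1 = Fintype.card α := by
    have := SubMulAction.nat_card_ofStabilizer_add_one_eq G a
    rw [Nat.card_eq_fintype_card (α := α)] at this
    exact this
  have hα2 : 2 ≤ Nat.card (SubMulAction.ofStabilizer G a) := by omega
  obtain ⟨p, j, hp, hj, hpj, hexp, -⟩ := kernel_exponent hS hα2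
  have hcomm := kernel_comm hS hα2
  haveI : Fact p.Prime := ⟨hp⟩
  have hKn := kernel_normal hS
  set Γa := MulAction.stabilizer G a with hΓa
  set K : Subgroup G := (kernel hS).map Γa.subtype with hK
  set H : Subgroup G := MulAction.stabilizer G a ⊓ MulAction.stabilizer G b with hH
  have hmemH : ∀ g : G, g ∈ H ↔ g • a = a ∧ g • b = b := by
    intro g
    simp only [hH, Subgroup.mem_inf, MulAction.mem_stabilizer_iff]
  have hmemK : ∀ k : G, k ∈ K ↔ ∃ k₀ : Γa, k₀ ∈ kernel hS ∧ (k₀ : G) = k := by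
    intro k
    rw [hK, Subgroup.mem_map]
    rfl
  -- the point `b` of the sub-action
  let b' : SubMulAction.ofStabilizer G a := ⟨b, Ne.symm hab⟩
  have hsmul : ∀ (g : Γa) (x : SubMulAction.ofStabilizer G a),
      ((g • x : SubMulAction.ofStabilizer G a) : α) = (g : G) • (x : α) := fun _ _ => rfl
  -- hypotheses of the transport lemma
  have hKc : ∀ x ∈ K, ∀ y ∈ K, x * y = y * x := by
    intro x hx y hy
    obtain ⟨x₀, hx₀, rfl⟩ := (hmemK x).mp hx
    obtain ⟨y₀, hy₀, rfl⟩ := (hmemK y).mp hy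
    have := hcomm x₀ hx₀ y₀ hy₀
    exact congrArg Subtype.val this
  have hKp : ∀ x ∈ K, x ^ p = 1 := by
    intro x hx
    obtain ⟨x₀, hx₀, rfl⟩ := (hmemK x).mp hx
    have := hexp x₀ hx₀
    exact congrArg Subtype.val this
  have hnorm : ∀ h ∈ H, ∀ k ∈ K, h * k * h⁻¹ ∈ K := by
    intro h hh k hk
    obtain ⟨k₀, hk₀, rfl⟩ := (hmemK k).mp hk
    have hha : h ∈ Γa := ((hmemH h).mp hh).1
    rw [hmemK]
    exact ⟨⟨h, hha⟩ * k₀ * ⟨h, hha⟩⁻¹, hKn.conj_mem k₀ hk₀ ⟨h, hha⟩, rfl⟩
  have hfpfK : ∀ k₀ : Γa, k₀ ∈ kernel hS → k₀ ≠ 1 → (k₀ : G) • b ≠ b := by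
    intro k₀ hk₀ hk1 h
    apply hk1
    apply kernel_free hS hk₀ (a := b')
    apply Subtype.ext
    rw [hsmul]
    exact h
  have hreg : ∀ k ∈ K, ∀ k' ∈ K, k ≠ 1 → k' ≠ 1 →
      ∃! h : H, (h : G) * k * (h : G)⁻¹ = k' := by
    intro k hk k' hk' hk1 hk'1
    obtain ⟨k₀, hk₀, rfl⟩ := (hmemK k).mp hk
    obtain ⟨k₀', hk₀', rfl⟩ := (hmemK k').mp hk'
    have hk₀1 : k₀ ≠ 1 := fun h => hk1 (by rw [h]; rfl)
    have hk₀'1 : k₀' ≠ 1 := fun h => hk'1 (by rw [h]; rfl)
    obtain ⟨g, hgb, hg⟩ := kernel_conj hS hk₀ hk₀' hk₀1 hk₀'1 b'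
    have hgH : (g : G) ∈ H := by
      rw [hmemH]
      refine ⟨g.2, ?_⟩
      have := congrArg Subtype.val hgb
      rw [hsmul] at this
      exact this
    refine ⟨⟨(g : G), hgH⟩, ?_, ?_⟩
    · change (g : G) * (k₀ : G) * (g : G)⁻¹ = (k₀' : G)
      have := congrArg Subtype.val hg
      simpa using this
    · rintro ⟨h, hhH⟩ hh
      change h * (k₀ : G) * h⁻¹ = (k₀' : G) at hh
      apply Subtype.ext
      change h = (g : G)
      have hg' : (g : G) * (k₀ : G) * (g : G)⁻¹ = (k₀' : G) := by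
        have := congrArg Subtype.val hg
        simpa using this
      -- `u = g⁻¹ h` commutes with `k₀` and fixes `a`, `b`
      set u : G := (g : G)⁻¹ * h with hu
      have hucomm : u * (k₀ : G) = (k₀ : G) * u := by
        have h1 : h * (k₀ : G) * h⁻¹ = (g : G) * (k₀ : G) * (g : G)⁻¹ := by rw [hh, hg']
        have h2 : (k₀ : G) = (g : G)⁻¹ * (h * (k₀ : G) * h⁻¹) * (g : G) := by rw [h1]; group
        calc u * (k₀ : G) = (g : G)⁻¹ * (h * (k₀ : G) * h⁻¹) * (g : G) * ((g : G)⁻¹ * h) := by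
              rw [hu]; group
          _ = (k₀ : G) * u := by rw [← h2]
      have hua : u • a = a := by
        rw [hu, mul_smul, ((hmemH h).mp hhH).1, inv_smul_eq_iff]
        exact ((hmemH _).mp hgH).1.symm
      have hub : u • b = b := by
        rw [hu, mul_smul, ((hmemH h).mp hhH).2, inv_smul_eq_iff]
        exact ((hmemH _).mp hgH).2.symm
      have hukb : u • ((k₀ : G) • b) = (k₀ : G) • b := by
        rw [← mul_smul, hucomm, mul_smul, hub]
      have hkb : (k₀ : G) • b ≠ b := hfpfK k₀ hk₀ hk₀1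
      have hka : (k₀ : G) • b ≠ a := by
        intro h
        have h1 : (k₀ : G) • a = a := k₀.2
        have h2 : (k₀ : G) • b = (k₀ : G) • a := by rw [h, h1]
        exact hab (smul_left_cancel _ h2).symm
      have hu1 : u = 1 := eq_one_of_fix3 G hsharp hab (Ne.symm hka) (Ne.symm hkb) hua hub hukb
      have : h = (g : G) * u := by rw [hu]; group
      rw [this, hu1, mul_one]
  have hKnt : ∃ k ∈ K, k ≠ 1 := by
    -- the kernel has `card α - 1 ≥ 5` elements
    have hcardK := card_kernel hS b'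
    by_contra hcon
    push Not at hcon
    have hbot : kernel hS = ⊥ := by
      rw [Subgroup.eq_bot_iff_forall]
      intro k₀ hk₀
      have := hcon (k₀ : G) ((hmemK _).mpr ⟨k₀, hk₀, rfl⟩)
      exact Subtype.ext this
    rw [hbot, Subgroup.card_bot] at hcardK
    omega
  obtain ⟨V, hV1, hV2, hV3, H', hreg', ⟨ε⟩, hcardV⟩ :=
    Cfsg.Agent.Helper12.LinTransport.exists_linear K H p hKc hKp hnorm hreg hKnt
  have hfinE : Finite (V ≃ₗ[ZMod p] V) :=
    Finite.of_injective (fun e : V ≃ₗ[ZMod p] V => (e : V → V)) DFunLike.coe_injective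
  -- the order of `H'`
  have hcardK : Nat.card K = Fintype.card α - 1 := by
    rw [hK, Subgroup.card_map_of_injective Γa.subtype_injective, card_kernel hS b']
    omega
  obtain ⟨k₁, hk₁, hk₁1⟩ := hKnt
  have hVnt : ∃ v₀ : V, v₀ ≠ 0 := by
    by_contra hcon
    push Not at hcon
    have : Subsingleton V := ⟨fun x y => by rw [hcon x, hcon y]⟩
    have h1 : Nat.card V = 1 := Nat.card_unique
    rw [hcardV, hcardK] at h1
    omega
  obtain ⟨v₀, hv₀⟩ := hVnt
  have hcardH' := Cfsg.Agent.S0685.card_H H' hreg' v₀ hv₀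
  rw [← Cfsg.Agent.Helper12.RegLinSyl.card_V, hcardV, hcardK] at hcardH'
  have h2H' : 2 ∣ Nat.card H' := by
    rw [hcardH']
    obtain ⟨m, hm⟩ := heven
    exact ⟨m - 1, by omega⟩
  -- at most one subgroup of order 3
  have hU3 : ∀ A B : Subgroup H', Nat.card A = 3 → Nat.card B = 3 → A = B := by
    intro A B hA hB
    have key : ∀ C : Subgroup H',
        Nat.card ((C.comap ε.toMonoidHom).map H.subtype) = Nat.card C := by
      intro C
      rw [Subgroup.card_map_of_injective H.subtype_injective,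
        Subgroup.comap_equiv_eq_map_symm',
        Subgroup.card_map_of_injective ε.symm.injective]
    have h1 := Cfsg.Agent.S0728.result heven h6 G h3 hsharp hab
      ((A.comap ε.toMonoidHom).map H.subtype) ((B.comap ε.toMonoidHom).map H.subtype)
      (Subgroup.map_subtype_le _) (Subgroup.map_subtype_le _)
      ((key A).trans hA) ((key B).trans hB)
    have h2 := Subgroup.map_injective H.subtype_injective h1
    exact Subgroup.comap_injective ε.surjective h2
  obtain ⟨N', hN'⟩ := Cfsg.Agent.Helper12.RegLinIdx.mainLin H' hreg' h2H' hU3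
  refine ⟨N'.comap ε.toMonoidHom, ?_⟩
  rw [Subgroup.index_comap_of_surjective N' ε.surjective]
  exact hN'

end Cfsg.Agent.Helper12.Sharp3Idx
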