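import Mathlib
import Cfsg.Prelude.Def_LieExceptional
import Cfsg.Agent.S0738
import Cfsg.Agent.S0741
import Cfsg.Agent.S0742
import Cfsg.Agent.S0878
import Cfsg.Agent.Lib.Helper19.ZassSharp3
import Cfsg.Agent.Lib.Helper12.ZassOddRed
import Cfsg.Agent.Lib.Helper12.ZassOddPSL

set_option autoImplicit false
set_option linter.unusedSectionVars false
set_option linter.style.haveILetI false
set_option linter.unusedVariables false

/-! Zassenhaus groups whose point stabiliser has an abelian regular normal subgroup: assembly of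
the classification (sharply 3-transitive or `PSL₂(q)`, `q` odd) from the Feit bounds. -/

namespace Cfsg.Agent.Helper12.ZassAbelMain

open MulAction

universe u v

theorem ringChar_ne_two_of_odd_card {K : Type*} [Field K] [Fintype K]
    (h : Odd (Fintype.card K)) : ringChar K ≠ 2 := by
  intro h2
  obtain ⟨n, hp, hc⟩ := FiniteField.card K (ringChar K)
  rw [h2] at hc
  rw [hc] at h
  have : Even (2 ^ (n : ℕ)) := (Nat.even_pow.mpr ⟨even_two, n.pos.ne'⟩)
  exact (Nat.not_even_iff_odd.mpr h) this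

/-- A Zassenhaus group with `|G_ab| = n - 2` is sharply 3-transitive. -/
theorem sharp3_of_eq {G : Type u} {Ω : Type v} [Group G] [Finite G] [MulAction G Ω] [Fintype Ω]
    (hZ : Cfsg.IsZassenhausGroup G Ω) {a b : Ω} (hab : a ≠ b)
    (heq1 : Fintype.card Ω - 2 = Nat.card ↥(stabilizer G a ⊓ stabilizer G b : Subgroup G)) :
    MulAction.IsMultiplyPretransitive G Ω 3 ∧ ∀ t : Fin 3 ↪ Ω, MulAction.stabilizer G t = ⊥ := by
  constructor
  · refine ⟨fun x y => ?_⟩
    have hx : ∀ i j : Fin 3, i ≠ j → x i ≠ x j := fun i j hij h => hij (x.injective h)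
    have hy : ∀ i j : Fin 3, i ≠ j → y i ≠ y j := fun i j hij h => hij (y.injective h)
    obtain ⟨g, h0, h1, h2⟩ := Cfsg.Agent.Helper19.ZassSharp3.exists_map3 hZ hab heq1
      (hx 0 1 (by decide)) (hx 0 2 (by decide)) (hx 1 2 (by decide))
      (hy 0 1 (by decide)) (hy 0 2 (by decide)) (hy 1 2 (by decide))
    refine ⟨g, ?_⟩
    ext i
    fin_cases i
    · exact h0
    · exact h1
    · exact h2
  · intro t
    rw [Subgroup.eq_bot_iff_forall]
    intro g hg
    rw [mem_stabilizer_iff] at hg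
    have ht : ∀ i j : Fin 3, i ≠ j → t i ≠ t j := fun i j hij h => hij (t.injective h)
    have hgi : ∀ i, g • t i = t i := fun i => by
      have := congrArg (fun s : Fin 3 ↪ Ω => s i) hg
      exact this
    exact hZ.2.2.1 g (t 0) (t 1) (t 2) (ht 0 1 (by decide)) (ht 1 2 (by decide))
      (ht 0 2 (by decide)) (hgi 0) (hgi 1) (hgi 2)

/-- The classification in kernel form, with the numerical information. -/
theorem main_aux (hS : ZassOddRed.SimpleBound.{u, v}) {G : Type u} {Ω : Type v} [Group G]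
    [Finite G] [MulAction G Ω] [Fintype Ω] (hZ : Cfsg.IsZassenhausGroup G Ω) {x b : Ω}
    (hab : x ≠ b) {F : Subgroup G} (hFle : F ≤ MulAction.stabilizer G x)
    (hHcard : Nat.card F + 1 = Fintype.card Ω)
    (hHfix : ∀ u ∈ F, u ≠ 1 → ∀ c : Ω, u • c = c → c = x)
    (hHab : ∀ u ∈ F, ∀ v ∈ F, u * v = v * u) :
    (Fintype.card Ω - 2 = Nat.card ↥(stabilizer G x ⊓ stabilizer G b : Subgroup G) ∧
      MulAction.IsMultiplyPretransitive G Ω 3 ∧
      ∀ t : Fin 3 ↪ Ω, MulAction.stabilizer G t = ⊥) ∨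
    (Fintype.card Ω - 2 = 2 * Nat.card ↥(stabilizer G x ⊓ stabilizer G b : Subgroup G) ∧
      ∃ (K : Type) (_ : Field K) (_ : Fintype K), Fintype.card K + 1 = Fintype.card Ω ∧
        Nonempty (G ≃* Matrix.ProjectiveSpecialLinearGroup (Fin 2) K)) := by
  classical
  have hn3 := Cfsg.Agent.S0878.card_ge_three hZ
  have hHcomm : ∀ x y : ↥F, x * y = y * x := fun x y => Subtype.ext (hHab x x.2 y y.2)
  have hfree : ∀ g : G, g • x = x → g • b = b → ∀ y : Ω, y ≠ x → y ≠ b → g • y = y → g = 1 :=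
    fun g ha hb' y hya hyb hy => hZ.2.2.1 g x b y hab (Ne.symm hyb) (Ne.symm hya) ha hb' hy
  have hdvd : Nat.card ↥(stabilizer G x ⊓ stabilizer G b : Subgroup G) ∣ Nat.card F - 1 :=
    Cfsg.Agent.S0738.card_sub_one_dvd hfree hab F hFle
      (fun u hu hub => Cfsg.Agent.Helper19.ZassH.H_inf_stab hHfix hab.symm hu hub)
      (fun h hh c hc => Cfsg.Agent.Helper19.ZassH.H_conj_mem hZ hFle hHcard hHfix
        (Subgroup.mem_inf.mp hh).1 hc)
  have hepos : 0 < Nat.card ↥(stabilizer G x ⊓ stabilizer G b : Subgroup G) := Nat.card_pos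
  -- the bound
  have hbound : Fintype.card Ω - 2 ≤
      2 * Nat.card ↥(stabilizer G x ⊓ stabilizer G b : Subgroup G) := by
    rcases Nat.even_or_odd (Nat.card ↥(stabilizer G x ⊓ stabilizer G b : Subgroup G)) with he | ho
    · exact Cfsg.Agent.S0741.result hZ hab he
    · exact ZassOddRed.bound hS hZ hab ho hFle hHcard hHfix hHab
  obtain ⟨t, ht⟩ := hdvd
  have ht' : Fintype.card Ω - 2 =
      Nat.card ↥(stabilizer G x ⊓ stabilizer G b : Subgroup G) * t := by
    rw [← ht]; omega
  have ht1 : 1 ≤ t := by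
    rcases Nat.eq_zero_or_pos t with h | h
    · rw [h, mul_zero] at ht'
      omega
    · exact h
  have ht2 : t ≤ 2 := by
    by_contra hcon
    push Not at hcon
    have : Nat.card ↥(stabilizer G x ⊓ stabilizer G b : Subgroup G) * 3 ≤
        Nat.card ↥(stabilizer G x ⊓ stabilizer G b : Subgroup G) * t :=
      Nat.mul_le_mul_left _ hcon
    omega
  have htcases : t = 1 ∨ t = 2 := by omega
  rcases htcases with rfl | rfl
  · left
    rw [mul_one] at ht'
    exact ⟨ht', sharp3_of_eq hZ hab ht'⟩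
  · right
    have heq : Fintype.card Ω - 2 =
        2 * Nat.card ↥(stabilizer G x ⊓ stabilizer G b : Subgroup G) := by
      rw [ht']; ring
    refine ⟨heq, ?_⟩
    rcases Nat.even_or_odd (Nat.card ↥(stabilizer G x ⊓ stabilizer G b : Subgroup G)) with he | ho
    · obtain ⟨p, f, K, iF, iT, hp, hp2, hcK, hcΩ, hiso⟩ :=
        Cfsg.Agent.S0742.result hZ hab he heq.ge
      exact ⟨K, iF, iT, by rw [hcK, hcΩ], hiso⟩
    · obtain ⟨hcyc, hsD⟩ := ZassOddRed.extremal hS hZ hab ho hFle hHcard hHfix hHab heq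
      exact ZassOddPSL.nonempty_mulEquiv_psl_odd hZ hab hFle hHcard hHfix ho heq hcyc hHcomm hsD

theorem main (hS : ZassOddRed.SimpleBound.{u, v}) {G : Type u} {Ω : Type v} [Group G] [Finite G]
    [MulAction G Ω] [Finite Ω] (hZ : Cfsg.IsZassenhausGroup G Ω) (x : Ω) (F : Subgroup G)
    (hFle : F ≤ MulAction.stabilizer G x)
    (hFn : (F.subgroupOf (MulAction.stabilizer G x)).Normal) (hFab : IsMulCommutative F)
    (hreg : ∀ y z : Ω, y ≠ x → z ≠ x → ∃! u : F, (u : G) • y = z) :
    (MulAction.IsMultiplyPretransitive G Ω 3 ∧ ∀ t : Fin 3 ↪ Ω, MulAction.stabilizer G t = ⊥) ∨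
      ∃ (K : Type) (_ : Field K) (_ : Fintype K), ringChar K ≠ 2 ∧
        Nonempty (G ≃* Matrix.ProjectiveSpecialLinearGroup (Fin 2) K) := by
  classical
  have := Fintype.ofFinite Ω
  have hn3 := Cfsg.Agent.S0878.card_ge_three hZ
  obtain ⟨b, hb⟩ : ∃ b : Ω, b ≠ x := Fintype.exists_ne_of_one_lt_card (by omega) x
  have hab : x ≠ b := Ne.symm hb
  have hHfix : ∀ u ∈ F, u ≠ 1 → ∀ c : Ω, u • c = c → c = x := by
    intro u hu hu1 c huc
    by_contra hc
    obtain ⟨w, -, hw⟩ := hreg c c hc hc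
    have h1 := hw ⟨u, hu⟩ huc
    have h2 := hw 1 (one_smul _ _)
    apply hu1
    have := h1.trans h2.symm
    exact congrArg Subtype.val this
  have hHcard : Nat.card F + 1 = Fintype.card Ω := by
    let f : F → {y : Ω // y ≠ x} := fun u => ⟨(u : G) • b, by
      intro h
      have hu : (u : G) • x = x := hFle u.2
      exact hb (smul_left_cancel (u : G) (h.trans hu.symm))⟩
    have hbij : Function.Bijective f := by
      constructor
      · intro u v huv
        have h1 : (u : G) • b = (v : G) • b := congrArg Subtype.val huv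
        obtain ⟨w, -, hw⟩ := hreg b ((v : G) • b) hb (f v).2
        exact (hw u h1).trans (hw v rfl).symm
      · rintro ⟨y, hy⟩
        obtain ⟨w, hw, -⟩ := hreg b y hb hy
        exact ⟨w, Subtype.ext hw⟩
    have hcard : Nat.card F = Nat.card {y : Ω // y ≠ x} :=
      Nat.card_congr (Equiv.ofBijective f hbij)
    have h1 : Nat.card {y : Ω // y ≠ x} = Fintype.card Ω - 1 := by
      rw [Nat.card_eq_fintype_card, Fintype.card_subtype_compl, Fintype.card_subtype_eq]
    omega
  have hHab : ∀ u ∈ F, ∀ v ∈ F, u * v = v * u := by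
    intro u hu v hv
    have := (isMulCommutative_iff.mp hFab) ⟨u, hu⟩ ⟨v, hv⟩
    exact congrArg Subtype.val this
  rcases main_aux hS hZ hab hFle hHcard hHfix hHab with ⟨-, h⟩ | ⟨heq, K, iF, iT, hcK, hiso⟩
  · exact Or.inl h
  · right
    refine ⟨K, iF, iT, ?_, hiso⟩
    apply ringChar_ne_two_of_odd_card
    have : Fintype.card K =
        2 * Nat.card ↥(stabilizer G x ⊓ stabilizer G b : Subgroup G) + 1 := by omega
    rw [this]
    exact odd_two_mul_add_one _

end Cfsg.Agent.Helper12.ZassAbelMain
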