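import Mathlib
import Cfsg.Agent.Lib.Helper12.Sharp2
import Cfsg.Agent.Lib.Helper12.LinTransport
import Cfsg.Agent.Lib.Helper12.Sharp3Idx
import Cfsg.Agent.Lib.Helper19.Sharp3

set_option autoImplicit false
set_option linter.unusedSectionVars false
set_option linter.style.haveILetI false

/-! The two-point stabiliser of a sharply 3-transitive group as a regular linear group. -/

namespace Cfsg.Agent.Helper12.Sharp3Lin

open MulAction Cfsg.Agent.Helper12.Sharp2 Cfsg.Agent.Helper19.Sharp3 Cfsg.Agent.Helper12.Sharp3Idx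

universe u

variable {α : Type u} [Fintype α] [DecidableEq α] (G : Subgroup (Equiv.Perm α))

/-- the two-point stabiliser is isomorphic to a linear group regular on the non-zero vectors of
a space with `card α - 1` elements -/
theorem exists_linear_model (h4 : 4 ≤ Fintype.card α)
    (h3 : MulAction.IsMultiplyPretransitive G α 3)
    (hsharp : ∀ x : Fin 3 ↪ α, MulAction.stabilizer G x = ⊥) {a b : α} (hab : a ≠ b) :
    ∃ (p : ℕ) (_ : Fact p.Prime) (V : Type u) (_ : AddCommGroup V) (_ : Module (ZMod p) V)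
      (_ : Finite V) (H' : Subgroup (V ≃ₗ[ZMod p] V)),
      (∀ v w : V, v ≠ 0 → w ≠ 0 → ∃! h : H', (h : V ≃ₗ[ZMod p] V) v = w) ∧
      Nonempty (↥(MulAction.stabilizer G a ⊓ MulAction.stabilizer G b) ≃* H') ∧
      Nat.card V = Fintype.card α - 1 := by
  classical
  have hS := isSharp2 G h3 hsharp a
  have hcardX : Nat.card (SubMulAction.ofStabilizer G a) + 1 = Fintype.card α := by
    have := SubMulAction.nat_card_ofStabilizer_add_one_eq G a
    rw [Nat.card_eq_fintype_card (α := α)] at this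
    exact this
  have hα2 : 2 ≤ Nat.card (SubMulAction.ofStabilizer G a) := by omega
  obtain ⟨p, j, hp, hj, hpj, hexp, -⟩ := kernel_exponent hS hα2
  have hcomm := kernel_comm hS hα2
  haveI : Fact p.Prime := ⟨hp⟩
  have hKn := kernel_normal hS
  set Γa := MulAction.stabilizer G a with hΓa
  set K : Subgroup G := (kernel hS).map Γa.subtype with hK
  set H : Subgroup G := MulAction.stabilizer G a ⊓ MulAction.stabilizer G b with hH
  have hmemH : ∀ g : G, g ∈ H ↔ g • a = a ∧ g • b = b := by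
    intro g
    simp only [hH, Subgroup.mem_inf, MulAction.mem_stabilizer_iff]
  have hmemK : ∀ k : G, k ∈ K ↔ ∃ k₀ : Γa, k₀ ∈ kernel hS ∧ (k₀ : G) = k := by
    intro k
    rw [hK, Subgroup.mem_map]
    rfl
  -- the point `b` of the sub-action
  let b' : SubMulAction.ofStabilizer G a := ⟨b, Ne.symm hab⟩
  have hsmul : ∀ (g : Γa) (x : SubMulAction.ofStabilizer G a),
      ((g • x : SubMulAction.ofStabilizer G a) : α) = (g : G) • (x : α) := fun _ _ => rfl
  -- hypotheses of the transport lemma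
  have hKc : ∀ x ∈ K, ∀ y ∈ K, x * y = y * x := by
    intro x hx y hy
    obtain ⟨x₀, hx₀, rfl⟩ := (hmemK x).mp hx
    obtain ⟨y₀, hy₀, rfl⟩ := (hmemK y).mp hy
    have := hcomm x₀ hx₀ y₀ hy₀
    exact congrArg Subtype.val this
  have hKp : ∀ x ∈ K, x ^ p = 1 := by
    intro x hx
    obtain ⟨x₀, hx₀, rfl⟩ := (hmemK x).mp hx
    have := hexp x₀ hx₀
    exact congrArg Subtype.val this
  have hnorm : ∀ h ∈ H, ∀ k ∈ K, h * k * h⁻¹ ∈ K := by
    intro h hh k hk
    obtain ⟨k₀, hk₀, rfl⟩ := (hmemK k).mp hk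
    have hha : h ∈ Γa := ((hmemH h).mp hh).1
    rw [hmemK]
    exact ⟨⟨h, hha⟩ * k₀ * ⟨h, hha⟩⁻¹, hKn.conj_mem k₀ hk₀ ⟨h, hha⟩, rfl⟩
  have hfpfK : ∀ k₀ : Γa, k₀ ∈ kernel hS → k₀ ≠ 1 → (k₀ : G) • b ≠ b := by
    intro k₀ hk₀ hk1 h
    apply hk1
    apply kernel_free hS hk₀ (a := b')
    apply Subtype.ext
    rw [hsmul]
    exact h
  have hreg : ∀ k ∈ K, ∀ k' ∈ K, k ≠ 1 → k' ≠ 1 →
      ∃! h : H, (h : G) * k * (h : G)⁻¹ = k' := by
    intro k hk k' hk' hk1 hk'1
    obtain ⟨k₀, hk₀, rfl⟩ := (hmemK k).mp hk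
    obtain ⟨k₀', hk₀', rfl⟩ := (hmemK k').mp hk'
    have hk₀1 : k₀ ≠ 1 := fun h => hk1 (by rw [h]; rfl)
    have hk₀'1 : k₀' ≠ 1 := fun h => hk'1 (by rw [h]; rfl)
    obtain ⟨g, hgb, hg⟩ := kernel_conj hS hk₀ hk₀' hk₀1 hk₀'1 b'
    have hgH : (g : G) ∈ H := by
      rw [hmemH]
      refine ⟨g.2, ?_⟩
      have := congrArg Subtype.val hgb
      rw [hsmul] at this
      exact this
    refine ⟨⟨(g : G), hgH⟩, ?_, ?_⟩
    · change (g : G) * (k₀ : G) * (g : G)⁻¹ = (k₀' : G)
      have := congrArg Subtype.val hg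
      simpa using this
    · rintro ⟨h, hhH⟩ hh
      change h * (k₀ : G) * h⁻¹ = (k₀' : G) at hh
      apply Subtype.ext
      change h = (g : G)
      have hg' : (g : G) * (k₀ : G) * (g : G)⁻¹ = (k₀' : G) := by
        have := congrArg Subtype.val hg
        simpa using this
      -- `u = g⁻¹ h` commutes with `k₀` and fixes `a`, `b`
      set u : G := (g : G)⁻¹ * h with hu
      have hucomm : u * (k₀ : G) = (k₀ : G) * u := by
        have h1 : h * (k₀ : G) * h⁻¹ = (g : G) * (k₀ : G) * (g : G)⁻¹ := by rw [hh, hg']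
        have h2 : (k₀ : G) = (g : G)⁻¹ * (h * (k₀ : G) * h⁻¹) * (g : G) := by rw [h1]; group
        calc u * (k₀ : G) = (g : G)⁻¹ * (h * (k₀ : G) * h⁻¹) * (g : G) * ((g : G)⁻¹ * h) := by
              rw [hu]; group
          _ = (k₀ : G) * u := by rw [← h2]
      have hua : u • a = a := by
        rw [hu, mul_smul, ((hmemH h).mp hhH).1, inv_smul_eq_iff]
        exact ((hmemH _).mp hgH).1.symm
      have hub : u • b = b := by
        rw [hu, mul_smul, ((hmemH h).mp hhH).2, inv_smul_eq_iff]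
        exact ((hmemH _).mp hgH).2.symm
      have hukb : u • ((k₀ : G) • b) = (k₀ : G) • b := by
        rw [← mul_smul, hucomm, mul_smul, hub]
      have hkb : (k₀ : G) • b ≠ b := hfpfK k₀ hk₀ hk₀1
      have hka : (k₀ : G) • b ≠ a := by
        intro h
        have h1 : (k₀ : G) • a = a := k₀.2
        have h2 : (k₀ : G) • b = (k₀ : G) • a := by rw [h, h1]
        exact hab (smul_left_cancel _ h2).symm
      have hu1 : u = 1 := eq_one_of_fix3 G hsharp hab (Ne.symm hka) (Ne.symm hkb) hua hub hukb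
      have : h = (g : G) * u := by rw [hu]; group
      rw [this, hu1, mul_one]
  have hKnt : ∃ k ∈ K, k ≠ 1 := by
    -- the kernel has `card α - 1 ≥ 5` elements
    have hcardK := card_kernel hS b'
    by_contra hcon
    push Not at hcon
    have hbot : kernel hS = ⊥ := by
      rw [Subgroup.eq_bot_iff_forall]
      intro k₀ hk₀
      have := hcon (k₀ : G) ((hmemK _).mpr ⟨k₀, hk₀, rfl⟩)
      exact Subtype.ext this
    rw [hbot, Subgroup.card_bot] at hcardK
    omega
  obtain ⟨V, hV1, hV2, hV3, H', hreg', ⟨ε⟩, hcardV⟩ :=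
    Cfsg.Agent.Helper12.LinTransport.exists_linear K H p hKc hKp hnorm hreg hKnt
  have hcardK : Nat.card K = Fintype.card α - 1 := by
    rw [hK, Subgroup.card_map_of_injective Γa.subtype_injective, card_kernel hS b']
    omega
  exact ⟨p, ⟨hp⟩, V, hV1, hV2, hV3, H', hreg', ⟨ε⟩, hcardV.trans hcardK⟩

end Cfsg.Agent.Helper12.Sharp3Lin
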