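import Mathlib

set_option autoImplicit false
set_option linter.unusedSectionVars false
set_option linter.style.haveILetI false

/-! A finite group with cyclic Sylow subgroups, no inverted elements and an involutory
automorphism with at most two fixed points is commutative. -/

namespace Cfsg.Agent.Helper12.ZAbel

open Subgroup

variable {Γ : Type*} [Group Γ] [Finite Γ]

open scoped IsMulCommutative in
/-- the commutator subgroup of a finite group with cyclic Sylow subgroups has odd order -/
theorem odd_card_commutator [IsZGroup Γ] : Odd (Nat.card (commutator Γ)) := by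
  by_cases h2 : 2 ∣ Nat.card Γ
  · have hmin : (Nat.card Γ).minFac = 2 := (Nat.minFac_eq_two_iff _).mpr h2
    haveI : Fact (Nat.Prime 2) := ⟨Nat.prime_two⟩
    let P : Sylow 2 Γ := default
    have hP : IsCyclic P := inferInstance
    let f := MonoidHom.transferSylow P (hP.normalizer_le_centralizer hmin)
    have hle : commutator Γ ≤ f.ker := Abelianization.commutator_subset_ker f
    have hc : f.ker.IsComplement' P := hP.isComplement' hmin
    have h3 := hc.card_mul_card
    have h4 := (P : Subgroup Γ).card_mul_index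
    have h5 : Nat.card f.ker = (P : Subgroup Γ).index := by
      have hpos : 0 < Nat.card (P : Subgroup Γ) := Nat.card_pos
      have : Nat.card (P : Subgroup Γ) * Nat.card f.ker =
          Nat.card (P : Subgroup Γ) * (P : Subgroup Γ).index := by
        rw [h4, mul_comm, h3]
      exact Nat.eq_of_mul_eq_mul_left hpos this
    have h6 : ¬ 2 ∣ Nat.card f.ker := by
      rw [h5]
      exact P.not_dvd_index
    have h7 : Nat.card (commutator Γ) ∣ Nat.card f.ker := Subgroup.card_dvd_of_le hle
    rw [← Nat.not_even_iff_odd, even_iff_two_dvd]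
    intro h8
    exact h6 (h8.trans h7)
  · have h7 : Nat.card (commutator Γ) ∣ Nat.card Γ := Subgroup.card_subgroup_dvd_card _
    rw [← Nat.not_even_iff_odd, even_iff_two_dvd]
    intro h8
    exact h2 (h8.trans h7)

/-- an element of a subgroup of odd order whose square is trivial is trivial -/
theorem eq_one_of_sq_of_odd (A : Subgroup Γ) (hA : Odd (Nat.card A)) {x : Γ} (hx : x ∈ A)
    (hxx : x * x = 1) : x = 1 := by
  have h1 : orderOf x ∣ 2 := orderOf_dvd_of_pow_eq_one (by rw [pow_two]; exact hxx)
  have h2 : orderOf (⟨x, hx⟩ : A) ∣ Nat.card A := orderOf_dvd_natCard _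
  rw [Subgroup.orderOf_mk] at h2
  rcases (Nat.dvd_prime Nat.prime_two).mp h1 with h | h
  · exact orderOf_eq_one_iff.mp h
  · exfalso
    rw [h] at h2
    rw [← Nat.not_even_iff_odd, even_iff_two_dvd] at hA
    exact hA h2

/-- if all `h⁻¹ σ(h)` lie in a subgroup `C` and `σ` has at most two fixed points then `C` has
index at most two -/
theorem card_le_two_mul (σ : Γ ≃* Γ)
    (hfix : ∀ a b c : Γ, σ a = a → σ b = b → σ c = c → a = b ∨ a = c ∨ b = c)
    (C : Subgroup Γ) (hcen : ∀ h : Γ, h⁻¹ * σ h ∈ C) : Nat.card Γ ≤ 2 * Nat.card C := by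
  classical
  have hfib : ∀ h h' : Γ, h⁻¹ * σ h = h'⁻¹ * σ h' → σ (h' * h⁻¹) = h' * h⁻¹ := by
    intro h h' hh
    rw [map_mul, map_inv]
    have h3 : σ h' = h' * (h⁻¹ * σ h) := by rw [hh]; group
    rw [h3]
    group
  haveI : Fintype Γ := Fintype.ofFinite _
  haveI : Fintype C := Fintype.ofFinite _
  let κ : Γ → C := fun h => ⟨h⁻¹ * σ h, hcen h⟩
  have h1 := Finset.card_le_mul_card_image (f := κ) Finset.univ 2 (by
    intro b _
    by_contra hcon
    rw [not_le, Finset.two_lt_card] at hcon
    obtain ⟨h₁, hm₁, h₂, hm₂, h₃, hm₃, h12, h13, h23⟩ := hcon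
    simp only [Finset.mem_filter, Finset.mem_univ, true_and] at hm₁ hm₂ hm₃
    have e1 : h₁⁻¹ * σ h₁ = h₂⁻¹ * σ h₂ := by
      have := hm₁.trans hm₂.symm
      exact congrArg Subtype.val this
    have e2 : h₁⁻¹ * σ h₁ = h₃⁻¹ * σ h₃ := by
      have := hm₁.trans hm₃.symm
      exact congrArg Subtype.val this
    have f1 : σ (1 : Γ) = 1 := map_one σ
    have f2 := hfib h₁ h₂ e1
    have f3 := hfib h₁ h₃ e2
    rcases hfix 1 (h₂ * h₁⁻¹) (h₃ * h₁⁻¹) f1 f2 f3 with h | h | h
    · apply h12
      have : h₂ = (h₂ * h₁⁻¹) * h₁ := by group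
      rw [this, ← h, one_mul]
    · apply h13
      have : h₃ = (h₃ * h₁⁻¹) * h₁ := by group
      rw [this, ← h, one_mul]
    · apply h23
      exact mul_right_cancel h)
  rw [Finset.card_univ, ← Nat.card_eq_fintype_card] at h1
  have h2 : (Finset.image κ Finset.univ).card ≤ Nat.card C := by
    rw [Nat.card_eq_fintype_card]
    exact Finset.card_le_univ _
  calc Nat.card Γ ≤ 2 * (Finset.image κ Finset.univ).card := h1
    _ ≤ 2 * Nat.card C := Nat.mul_le_mul_left 2 h2

/-- the index is one or two -/
theorem index_le_two (σ : Γ ≃* Γ)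
    (hfix : ∀ a b c : Γ, σ a = a → σ b = b → σ c = c → a = b ∨ a = c ∨ b = c)
    (C : Subgroup Γ) (hcen : ∀ h : Γ, h⁻¹ * σ h ∈ C) : C.index = 1 ∨ C.index = 2 := by
  have hcount := card_le_two_mul σ hfix C hcen
  have h1 := C.card_mul_index
  have hpos : 0 < Nat.card C := Nat.card_pos
  have h2 : C.index ≤ 2 := by
    by_contra hcon
    have h3 : 3 ≤ C.index := by omega
    have h4 : Nat.card C * 3 ≤ Nat.card C * C.index := Nat.mul_le_mul_left _ h3
    omega
  have h0 : C.index ≠ 0 := Subgroup.index_ne_zero_of_finite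
  omega

/-- the main statement -/
theorem comm_of_zgroup [IsZGroup Γ]
    (hL2 : ∀ x h : Γ, h * x * h⁻¹ = x⁻¹ → x * x = 1)
    (σ : Γ ≃* Γ) (hσ : ∀ g, σ (σ g) = g)
    (hfix : ∀ a b c : Γ, σ a = a → σ b = b → σ c = c → a = b ∨ a = c ∨ b = c) :
    ∀ x y : Γ, x * y = y * x := by
  classical
  set A : Subgroup Γ := commutator Γ with hA
  have hAodd : Odd (Nat.card A) := odd_card_commutator
  haveI hAn : A.Normal := inferInstance
  -- `σ` preserves `A`
  have hσA : ∀ a ∈ A, σ a ∈ A := by
    intro a ha
    have hchar : A.Characteristic := inferInstance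
    have h1 := (Subgroup.characteristic_iff_map_eq.mp hchar) σ
    rw [← h1]
    exact ⟨a, ha, rfl⟩
  -- `σ` has no non-trivial fixed point on `A`
  have hfixA : ∀ a ∈ A, σ a = a → a = 1 := by
    intro a ha hfa
    by_contra ha1
    have h1 : σ (a * a) = a * a := by rw [map_mul, hfa]
    have h2 : σ (1 : Γ) = 1 := map_one σ
    rcases hfix a (a * a) 1 hfa h1 h2 with h | h | h
    · apply ha1
      have : a * 1 = a * a := by rw [mul_one]; exact h
      exact (mul_left_cancel this).symm
    · exact ha1 h
    · exact ha1 (eq_one_of_sq_of_odd A hAodd ha h)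
  -- `σ` inverts `A`
  have hinvA : ∀ a ∈ A, σ a = a⁻¹ := by
    let κ : A → A := fun a => ⟨(a : Γ)⁻¹ * σ a, A.mul_mem (A.inv_mem a.2) (hσA a a.2)⟩
    have hinj : Function.Injective κ := by
      intro a b hab
      have h1 : (a : Γ)⁻¹ * σ a = (b : Γ)⁻¹ * σ b := congrArg Subtype.val hab
      have h2 : σ ((b : Γ) * (a : Γ)⁻¹) = (b : Γ) * (a : Γ)⁻¹ := by
        rw [map_mul, map_inv]
        have h3 : σ (b : Γ) = (b : Γ) * ((a : Γ)⁻¹ * σ a) := by rw [h1]; group
        rw [h3]
        group
      have h4 := hfixA _ (A.mul_mem b.2 (A.inv_mem a.2)) h2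
      apply Subtype.ext
      have : (b : Γ) = a := by
        calc (b : Γ) = ((b : Γ) * (a : Γ)⁻¹) * a := by group
          _ = a := by rw [h4, one_mul]
      exact this.symm
    have hsurj : Function.Surjective κ := Finite.injective_iff_surjective.mp hinj
    intro a ha
    obtain ⟨b, hb⟩ := hsurj ⟨a, ha⟩
    have hb' : (b : Γ)⁻¹ * σ b = a := congrArg Subtype.val hb
    rw [← hb', map_mul, map_inv, hσ]
    group
  -- the elements `h⁻¹ σ h` centralize `A`
  have hcen : ∀ h : Γ, h⁻¹ * σ h ∈ centralizer (A : Set Γ) := by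
    intro h
    rw [mem_centralizer_iff]
    intro a ha
    have ha' : a⁻¹ ∈ A := A.inv_mem ha
    have h1 : h * a⁻¹ * h⁻¹ ∈ A := hAn.conj_mem _ ha' h
    have h2 := hinvA _ h1
    simp only [map_mul, map_inv] at h2
    rw [hinvA a ha, inv_inv] at h2
    -- h2 : σ h * a * (σ h)⁻¹ = (h * a⁻¹ * h⁻¹)⁻¹
    have h3 : σ h * a * (σ h)⁻¹ = h * a * h⁻¹ := by
      rw [h2]; group
    calc a * (h⁻¹ * σ h) = h⁻¹ * (h * a * h⁻¹) * σ h := by group
      _ = h⁻¹ * (σ h * a * (σ h)⁻¹) * σ h := by rw [h3]
      _ = h⁻¹ * σ h * a := by group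
  set C : Subgroup Γ := centralizer (A : Set Γ) with hC
  have hidx : C.index = 1 ∨ C.index = 2 := index_le_two σ hfix C hcen
  -- `A` is central
  have hAcen : C = ⊤ := by
    rcases hidx with h1 | h2
    · exact Subgroup.index_eq_one.mp h1
    · exfalso
      have hCne : C ≠ ⊤ := by
        intro h
        rw [h, Subgroup.index_top] at h2
        omega
      obtain ⟨h, hh⟩ : ∃ h : Γ, h ∉ C := by
        by_contra hcon
        push Not at hcon
        exact hCne ((Subgroup.eq_top_iff' C).mpr hcon)
      have hsq : h * h ∈ C := Subgroup.mul_self_mem_of_index_two h2 h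
      have hex : ∃ a ∈ A, a * h ≠ h * a := by
        by_contra hcon
        push Not at hcon
        apply hh
        rw [hC, mem_centralizer_iff]
        intro a ha
        exact hcon a ha
      obtain ⟨a, ha, hah⟩ := hex
      set b := h * a * h⁻¹ with hb
      have hbA : b ∈ A := hAn.conj_mem a ha h
      set x := a⁻¹ * b with hx
      have hxA : x ∈ A := A.mul_mem (A.inv_mem ha) hbA
      have hx1 : x ≠ 1 := by
        intro h1
        apply hah
        have h2 : b = a := by
          calc b = a * (a⁻¹ * b) := by group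
            _ = a := by rw [← hx, h1, mul_one]
        calc a * h = (h * a * h⁻¹) * h := by rw [← hb, h2]
          _ = h * a := by group
      have hsqa : (h * h) * a * (h * h)⁻¹ = a := by
        rw [hC, mem_centralizer_iff] at hsq
        have := hsq a ha
        rw [← this]
        group
      have hinvx : h * x * h⁻¹ = x⁻¹ := by
        calc h * x * h⁻¹ = (h * a * h⁻¹)⁻¹ * ((h * h) * a * (h * h)⁻¹) := by
              rw [hx, hb]; group
          _ = b⁻¹ * a := by rw [hsqa]
          _ = x⁻¹ := by rw [hx]; group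
      exact hx1 (eq_one_of_sq_of_odd A hAodd hxA (hL2 x h hinvx))
  -- hence the group is nilpotent, and then cyclic
  have hcenter : A ≤ center Γ := by
    intro a ha
    rw [Subgroup.mem_center_iff]
    intro g
    have hg : g ∈ C := by rw [hAcen]; exact Subgroup.mem_top g
    rw [hC, mem_centralizer_iff] at hg
    exact (hg a ha).symm
  haveI : Group.IsNilpotent Γ := by
    apply Subgroup.isNilpotent_of_ker_le_center (Abelianization.of (G := Γ))
    rw [Abelianization.ker_of]
    exact hcenter
  haveI : IsCyclic Γ := inferInstance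
  intro x y
  letI := IsCyclic.commGroup (α := Γ)
  exact mul_comm x y

end Cfsg.Agent.Helper12.ZAbel
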