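import Mathlib
import Cfsg.Agent.Lib.Helper12.Sharp3Lin
import Cfsg.Agent.Lib.Helper12.DetParity
import Cfsg.Agent.Lib.Helper12.ZAbel
import Cfsg.Agent.Lib.Helper12.RegLinSyl

set_option autoImplicit false
set_option linter.style.haveILetI false

/-!
# Sharply 3-transitive groups of degree `p ^ f + 1`, `p` odd, `f` odd: the two-point stabiliser
is abelian.
-/

namespace Cfsg.Agent.Helper12.Sharp3OddA

open MulAction Module Cfsg.Agent.Helper19.Sharp3

universe u

theorem quat_rel (n : ℕ) : (QuaternionGroup.xa 0 : QuaternionGroup n) * QuaternionGroup.a 1 *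
    (QuaternionGroup.xa 0)⁻¹ = (QuaternionGroup.a 1)⁻¹ := by
  have hinv : (QuaternionGroup.a 1 : QuaternionGroup n)⁻¹ = QuaternionGroup.a (-1) := by
    apply inv_eq_of_mul_eq_one_right
    rw [QuaternionGroup.a_mul_a, add_neg_cancel, QuaternionGroup.a_zero]
  rw [mul_inv_eq_iff_eq_mul, hinv, QuaternionGroup.xa_mul_a, QuaternionGroup.a_mul_xa]
  congr 1
  ring

theorem quat_sq_ne (k : ℕ) (hk : 1 ≤ k) :
    (QuaternionGroup.a 1 : QuaternionGroup (2 ^ k)) * QuaternionGroup.a 1 ≠ 1 := by
  intro h
  have h1 : orderOf (QuaternionGroup.a 1 : QuaternionGroup (2 ^ k)) ∣ 2 :=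
    orderOf_dvd_of_pow_eq_one (by rw [pow_two]; exact h)
  rw [QuaternionGroup.orderOf_a_one] at h1
  have h2 : 2 * 2 ^ k ≤ 2 := Nat.le_of_dvd (by norm_num) h1
  have h3 : 2 ^ 1 ≤ 2 ^ k := Nat.pow_le_pow_right (by norm_num) hk
  omega

/-- A regular linear group in odd dimension and odd characteristic is a Z-group in which no
element of order greater than two is inverted. -/
theorem regular_zgroup {p : ℕ} [Fact p.Prime] {V : Type*} [AddCommGroup V] [Module (ZMod p) V]
    [Finite V] (hp2 : p ≠ 2) (hodd : Odd (finrank (ZMod p) V)) (H : Subgroup (V ≃ₗ[ZMod p] V))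
    (hreg : ∀ v w : V, v ≠ 0 → w ≠ 0 → ∃! h : H, (h : V ≃ₗ[ZMod p] V) v = w) :
    IsZGroup H ∧ ∀ x h : H, h * x * h⁻¹ = x⁻¹ → x * x = 1 := by
  have hL2 : ∀ x h : H, h * x * h⁻¹ = x⁻¹ → x * x = 1 := by
    intro x h hinv
    have h1 : (h : V ≃ₗ[ZMod p] V) * (x : V ≃ₗ[ZMod p] V) * (h : V ≃ₗ[ZMod p] V)⁻¹ =
        (x : V ≃ₗ[ZMod p] V)⁻¹ := by
      have := congrArg (Subtype.val) hinv
      simpa using this
    have h2 := DetParity.sq_eq_one_of_inverted hp2 hodd (x : V ≃ₗ[ZMod p] V) h h1 (by
      intro v hv hxv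
      obtain ⟨g, _, hg⟩ := hreg v v hv hv
      have e1 : (x * x : H) = g := hg _ (by simpa using hxv)
      have e2 : (1 : H) = g := hg _ (by simp)
      have := e1.trans e2.symm
      have := congrArg (Subtype.val) this
      simpa using this)
    apply Subtype.ext
    simpa using h2
  refine ⟨?_, hL2⟩
  rw [isZGroup_iff]
  intro r hr P
  haveI : Fact r.Prime := ⟨hr⟩
  rcases RegLinSyl.syl H hreg r (P : Subgroup H) P.isPGroup' with hc | ⟨_, n, ⟨e⟩⟩
  · exact hc
  · rcases Nat.eq_zero_or_pos n with h0 | hpos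
    · subst h0
      rw [pow_zero] at e
      haveI := QuaternionGroup.quaternionGroup_one_isCyclic
      exact isCyclic_of_surjective e.symm e.symm.surjective
    · exfalso
      apply quat_sq_ne n hpos
      have hrel := quat_rel (2 ^ n)
      have h1 := congrArg e.symm hrel
      rw [map_mul, map_mul, map_inv, map_inv] at h1
      have h2 := hL2 _ _ (congrArg Subtype.val h1)
      have h3 : e.symm (QuaternionGroup.a 1) * e.symm (QuaternionGroup.a 1) = 1 :=
        Subtype.ext h2
      rw [← map_mul] at h3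
      have := congrArg e h3
      simpa using this

variable {α : Type u} [Fintype α] [DecidableEq α] (G : Subgroup (Equiv.Perm α))

/-- In a sharply 3-transitive group of degree `p ^ f + 1` with `p` and `f` odd, the stabiliser
of two points is abelian. -/
theorem twoPoint_comm {p f : ℕ} (hp : p.Prime) (hp2 : p ≠ 2) (hfo : Odd f)
    (hα : Fintype.card α = p ^ f + 1)
    (h3 : MulAction.IsMultiplyPretransitive G α 3)
    (hsharp : ∀ x : Fin 3 ↪ α, MulAction.stabilizer G x = ⊥) {a b : α} (hab : a ≠ b)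
    (x y : G) (hxa : x • a = a) (hxb : x • b = b) (hya : y • a = a) (hyb : y • b = b) :
    x * y = y * x := by
  classical
  have hf1 : 1 ≤ f := hfo.pos
  have hp3 : 3 ≤ p := by
    have := hp.two_le
    omega
  have hpf : 3 ≤ p ^ f := by
    calc 3 ≤ p ^ 1 := by rw [pow_one]; exact hp3
      _ ≤ p ^ f := Nat.pow_le_pow_right (by omega) hf1
  have h4 : 4 ≤ Fintype.card α := by omega
  -- a third point
  obtain ⟨c, hca, hcb⟩ : ∃ c : α, c ≠ a ∧ c ≠ b := by
    by_contra hcon
    push Not at hcon
    have : Fintype.card α ≤ 2 := by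
      have hsub : (Finset.univ : Finset α) ⊆ {a, b} := by
        intro z _
        by_cases hz : z = a
        · simp [hz]
        · simp [hcon z hz]
      calc Fintype.card α = (Finset.univ : Finset α).card := rfl
        _ ≤ ({a, b} : Finset α).card := Finset.card_le_card hsub
        _ ≤ 2 := Finset.card_le_two
    omega
  have hac : a ≠ c := Ne.symm hca
  have hbc : b ≠ c := Ne.symm hcb
  obtain ⟨t, hta, htb, htc⟩ := exists_map3 G h3 hab hac hbc (Ne.symm hab) hbc hac
  -- the linear model
  obtain ⟨p', hp', V, _, _, _, H', hreg', ⟨ε⟩, hcard⟩ :=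
    Sharp3Lin.exists_linear_model G h4 h3 hsharp hab
  have hcV : p' ^ finrank (ZMod p') V = p ^ f := by
    rw [← RegLinSyl.card_V, hcard, hα]
    omega
  have hpp : p' = p := by
    have hp'p : p'.Prime := hp'.out
    have h1 : p ∣ p' ^ finrank (ZMod p') V := by
      rw [hcV]; exact dvd_pow_self p (by omega)
    have h2 := hp.dvd_of_dvd_pow h1
    exact ((Nat.prime_dvd_prime_iff_eq hp hp'p).mp h2).symm
  subst hpp
  have hff : finrank (ZMod p') V = f := Nat.pow_right_injective hp.two_le hcV
  have hodd : Odd (finrank (ZMod p') V) := by rw [hff]; exact hfo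
  obtain ⟨hZ', hL2'⟩ := regular_zgroup hp2 hodd H' hreg'
  set H : Subgroup G := MulAction.stabilizer G a ⊓ MulAction.stabilizer G b with hH
  have hmemH : ∀ g : G, g ∈ H ↔ g • a = a ∧ g • b = b := by
    intro g
    simp only [hH, Subgroup.mem_inf, MulAction.mem_stabilizer_iff]
  haveI : IsZGroup H := IsZGroup.of_injective (f := ε.toMonoidHom) ε.injective
  have hL2 : ∀ x h : H, h * x * h⁻¹ = x⁻¹ → x * x = 1 := by
    intro x h hinv
    have h1 := congrArg ε hinv
    rw [map_mul, map_mul, map_inv, map_inv] at h1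
    have h2 := hL2' _ _ h1
    rw [← map_mul] at h2
    have := congrArg ε.symm h2
    simpa using this
  -- `t` is an involution
  have htt : t * t = 1 := by
    apply eq_one_of_fix3 G hsharp hab hac hbc
    · rw [mul_smul, hta, htb]
    · rw [mul_smul, htb, hta]
    · rw [mul_smul, htc, htc]
  have htinv : t⁻¹ = t := inv_eq_of_mul_eq_one_right htt
  have hconjH : ∀ x ∈ H, t * x * t⁻¹ ∈ H := by
    intro x hx
    rw [hmemH] at hx ⊢
    rw [htinv]
    constructor
    · rw [mul_smul, mul_smul, hta, hx.2, htb]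
    · rw [mul_smul, mul_smul, htb, hx.1, hta]
  let σ : H ≃* H :=
    { toFun := fun x => ⟨t * x * t⁻¹, hconjH x x.2⟩
      invFun := fun x => ⟨t * x * t⁻¹, hconjH x x.2⟩
      left_inv := by
        intro x
        apply Subtype.ext
        change t * (t * (x : G) * t⁻¹) * t⁻¹ = x
        rw [htinv]
        calc t * (t * (x : G) * t) * t = (t * t) * (x : G) * (t * t) := by group
          _ = x := by rw [htt, one_mul, mul_one]
      right_inv := by
        intro x
        apply Subtype.ext
        change t * (t * (x : G) * t⁻¹) * t⁻¹ = x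
        rw [htinv]
        calc t * (t * (x : G) * t) * t = (t * t) * (x : G) * (t * t) := by group
          _ = x := by rw [htt, one_mul, mul_one]
      map_mul' := by
        intro x y
        apply Subtype.ext
        change t * ((x : G) * (y : G)) * t⁻¹ = t * (x : G) * t⁻¹ * (t * (y : G) * t⁻¹)
        group }
  have hσ : ∀ x : H, ((σ x : H) : G) = t * (x : G) * t⁻¹ := fun _ => rfl
  have hσσ : ∀ x, σ (σ x) = x := by
    intro x
    apply Subtype.ext
    rw [hσ, hσ, htinv]
    calc t * (t * (x : G) * t) * t = (t * t) * (x : G) * (t * t) := by group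
      _ = x := by rw [htt, one_mul, mul_one]
  -- fixed points of `σ` give fixed points of `t`
  have hfixpt : ∀ g : H, σ g = g → t • ((g : G) • c) = (g : G) • c := by
    intro g hg
    have h1 : t * (g : G) * t⁻¹ = g := by rw [← hσ, hg]
    have h2 : t * (g : G) = g * t := by
      calc t * (g : G) = (t * (g : G) * t⁻¹) * t := by group
        _ = g * t := by rw [h1]
    rw [← mul_smul, h2, mul_smul, htc]
  have hinjc : ∀ g g' : H, (g : G) • c = (g' : G) • c → g = g' := by
    intro g g' hgg
    apply Subtype.ext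
    apply eq_of_agree3 G hsharp hab hac hbc
    · rw [((hmemH _).mp g.2).1, ((hmemH _).mp g'.2).1]
    · rw [((hmemH _).mp g.2).2, ((hmemH _).mp g'.2).2]
    · exact hgg
  have ht1 : t ≠ 1 := by
    rintro rfl
    rw [one_smul] at hta
    exact hab hta
  have hfix : ∀ g1 g2 g3 : H, σ g1 = g1 → σ g2 = g2 → σ g3 = g3 →
      g1 = g2 ∨ g1 = g3 ∨ g2 = g3 := by
    intro g1 g2 g3 h1 h2 h3'
    by_contra hcon
    push Not at hcon
    obtain ⟨n12, n13, n23⟩ := hcon
    apply ht1
    apply eq_one_of_fix3 G hsharp (p := (g1 : G) • c) (q := (g2 : G) • c) (r := (g3 : G) • c)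
    · exact fun e => n12 (hinjc _ _ e)
    · exact fun e => n13 (hinjc _ _ e)
    · exact fun e => n23 (hinjc _ _ e)
    · exact hfixpt g1 h1
    · exact hfixpt g2 h2
    · exact hfixpt g3 h3'
  have hcomm := ZAbel.comm_of_zgroup hL2 σ hσσ hfix
  have := hcomm ⟨x, (hmemH x).mpr ⟨hxa, hxb⟩⟩ ⟨y, (hmemH y).mpr ⟨hya, hyb⟩⟩
  exact congrArg Subtype.val this

end Cfsg.Agent.Helper12.Sharp3OddA
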