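import Mathlib
import Cfsg.Agent.Lib.Helper12.ZAbel

/-!
# An involutory automorphism of `Fˣ` satisfying the "Moebius functional equation" is inversion

Let `F` be a finite field of odd characteristic, `τ` an involutory automorphism of `Fˣ` with at
most two fixed points such that `τ (1 - τ y) = 1 - τ (1 - y)` for all `y ≠ 1`.  Then `τ x = x⁻¹`.
-/

namespace Cfsg.Agent.Helper12.TauInv

variable {F : Type*} [Field F] [Finite F]

/-- The subgroup of units inverted by `τ`. -/
def invSub (τ : Fˣ ≃* Fˣ) : Subgroup Fˣ where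
  carrier := {x | τ x = x⁻¹}
  one_mem' := by simp
  mul_mem' := by
    intro a b ha hb
    simp only [Set.mem_ofPred_eq] at ha hb ⊢
    rw [map_mul, ha, hb, mul_inv]
  inv_mem' := by
    intro a ha
    simp only [Set.mem_ofPred_eq] at ha ⊢
    rw [map_inv, ha]

omit [Finite F] in
theorem mem_invSub (τ : Fˣ ≃* Fˣ) (x : Fˣ) : x ∈ invSub τ ↔ τ x = x⁻¹ := Iff.rfl

omit [Finite F] in
theorem unit_sq_one (z : Fˣ) (hz : z * z = 1) : z = 1 ∨ z = -1 := by
  have h : ((z : F) - 1) * ((z : F) + 1) = 0 := by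
    have : (z : F) * (z : F) = 1 := by
      rw [← Units.val_mul, hz, Units.val_one]
    linear_combination this
  rcases mul_eq_zero.mp h with h | h
  · left
    apply Units.ext
    rw [Units.val_one]
    linear_combination h
  · right
    apply Units.ext
    rw [Units.val_neg, Units.val_one]
    linear_combination h

omit [Finite F] in
theorem neg_one_ne_one (h2 : (2 : F) ≠ 0) : (-1 : Fˣ) ≠ 1 := by
  intro h
  have : ((-1 : Fˣ) : F) = ((1 : Fˣ) : F) := by rw [h]
  rw [Units.val_neg, Units.val_one] at this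
  apply h2
  linear_combination -this

theorem tau_inv (h2 : (2 : F) ≠ 0) (τ : Fˣ ≃* Fˣ) (hτ : ∀ x, τ (τ x) = x)
    (hfix : ∀ a b c : Fˣ, τ a = a → τ b = b → τ c = c → a = b ∨ a = c ∨ b = c)
    (hfe : ∀ y : Fˣ, (y : F) ≠ 1 → ∃ w w' : Fˣ, (w : F) = 1 - ((τ y : Fˣ) : F) ∧
      (w' : F) = 1 - (y : F) ∧ ((τ w : Fˣ) : F) = 1 - ((τ w' : Fˣ) : F)) :
    ∀ x, τ x = x⁻¹ := by
  classical
  set J := invSub τ with hJ
  have hcen : ∀ h : Fˣ, h⁻¹ * τ h ∈ J := by
    intro h
    rw [hJ, mem_invSub, map_mul, map_inv, hτ, mul_inv, inv_inv, mul_comm]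
  rcases ZAbel.index_le_two τ hfix J hcen with h1 | hidx
  · intro x
    have : J = ⊤ := Subgroup.index_eq_one.mp h1
    have hx : x ∈ J := by rw [this]; trivial
    exact hx
  exfalso
  -- `-1 ∈ J`
  have hu : (-1 : Fˣ) ∈ J := by
    rw [hJ, mem_invSub]
    have hsq : τ (-1) * τ (-1) = 1 := by
      rw [← map_mul]; simp
    rcases unit_sq_one _ hsq with h | h
    · exfalso
      have : (-1 : Fˣ) = 1 := by
        apply τ.injective
        rw [h, map_one]
      exact neg_one_ne_one h2 this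
    · rw [h]; simp
  -- outside `J`, `τ x = - x⁻¹`
  have hout : ∀ x : Fˣ, x ∉ J → τ x = -x⁻¹ := by
    intro x hx
    have hxx : x * x ∈ J := Subgroup.mul_self_mem_of_index_two hidx x
    rw [hJ, mem_invSub, map_mul] at hxx
    have hsq : (τ x * x) * (τ x * x) = 1 := by
      calc (τ x * x) * (τ x * x) = (τ x * τ x) * (x * x) := by
            simp only [mul_assoc, mul_left_comm, mul_comm]
        _ = 1 := by rw [hxx]; simp
    rcases unit_sq_one _ hsq with h | h
    · exfalso
      apply hx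
      rw [hJ, mem_invSub]
      exact eq_inv_of_mul_eq_one_left h
    · have : τ x = -1 * x⁻¹ := by
        rw [← h, mul_assoc, mul_inv_cancel, mul_one]
      rw [this]; simp
  -- pick `x₀ ∉ J`
  obtain ⟨x₀, hx₀⟩ : ∃ x : Fˣ, x ∉ J := by
    by_contra hcon
    push Not at hcon
    have : J = ⊤ := by
      rw [eq_top_iff]; intro x _; exact hcon x
    rw [this, Subgroup.index_top] at hidx
    omega
  -- find `y ∉ J` with `1 - y ∈ J`
  have key : ∃ y : Fˣ, y ∉ J ∧ ∃ w' : Fˣ, (w' : F) = 1 - (y : F) ∧ w' ∈ J := by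
    have hx1 : (x₀ : F) ≠ 1 := by
      intro h
      apply hx₀
      have : x₀ = 1 := Units.ext (by rw [h, Units.val_one])
      rw [this]; exact J.one_mem
    have hne : (1 : F) - x₀ ≠ 0 := by
      intro h; apply hx1; linear_combination -h
    by_cases hw : Units.mk0 ((1 : F) - x₀) hne ∈ J
    · exact ⟨x₀, hx₀, Units.mk0 _ hne, rfl, hw⟩
    · refine ⟨x₀⁻¹, fun h => hx₀ (by simpa using J.inv_mem h), ?_⟩
      refine ⟨-1 * (Units.mk0 ((1 : F) - x₀) hne * x₀⁻¹), ?_, ?_⟩
      · simp only [Units.val_mul, Units.val_neg, Units.val_one, Units.val_mk0, Units.val_inv_eq_inv_val]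
        have : (x₀ : F) ≠ 0 := x₀.ne_zero
        field_simp
        ring
      · apply J.mul_mem hu
        rw [Subgroup.mul_mem_iff_of_index_two hidx]
        constructor
        · intro h; exact absurd h hw
        · intro h; exact absurd (by simpa using J.inv_mem h) hx₀
  obtain ⟨y, hyJ, w', hw', hw'J⟩ := key
  have hy1 : (y : F) ≠ 1 := by
    intro h
    apply hyJ
    have : y = 1 := Units.ext (by rw [h, Units.val_one])
    rw [this]; exact J.one_mem
  obtain ⟨w, w'', hw, hw'', heq⟩ := hfe y hy1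
  have hww : w'' = w' := Units.ext (by rw [hw'', hw'])
  rw [hww] at heq
  have hτy : ((τ y : Fˣ) : F) = -(y : F)⁻¹ := by
    rw [hout y hyJ]; simp
  have hτw' : ((τ w' : Fˣ) : F) = (1 - (y : F))⁻¹ := by
    have : τ w' = w'⁻¹ := hw'J
    rw [this, Units.val_inv_eq_inv_val, hw']
  rw [hτy] at hw
  have hy0 : (y : F) ≠ 0 := y.ne_zero
  have h1y : (1 : F) - y ≠ 0 := by
    intro h; apply hy1; linear_combination -h
  have hw0 : (1 : F) - -(y : F)⁻¹ ≠ 0 := by
    rw [← hw]; exact w.ne_zero
  have hy1' : (y : F) + 1 ≠ 0 := by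
    intro h
    apply hw0
    field_simp
    linear_combination h
  have hy1'' : (y : F) - -1 ≠ 0 := by rwa [sub_neg_eq_add]
  by_cases hwJ : w ∈ J
  · have hτw : ((τ w : Fˣ) : F) = (1 - -(y : F)⁻¹)⁻¹ := by
      have : τ w = w⁻¹ := hwJ
      rw [this, Units.val_inv_eq_inv_val, hw]
    rw [hτw, hτw'] at heq
    field_simp at heq
    have h3 : (2 : F) * y = 0 := by linear_combination heq
    rcases mul_eq_zero.mp h3 with h | h
    · exact h2 h
    · exact hy0 h
  · have hτw : ((τ w : Fˣ) : F) = -(1 - -(y : F)⁻¹)⁻¹ := by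
      rw [hout w hwJ]
      simp [hw]
    rw [hτw, hτw'] at heq
    field_simp at heq
    have h3 : (2 : F) * y * y = 0 := by linear_combination heq
    rcases mul_eq_zero.mp h3 with h | h
    · rcases mul_eq_zero.mp h with h | h
      · exact h2 h
      · exact hy0 h
    · exact hy0 h

end Cfsg.Agent.Helper12.TauInv
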