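import Mathlib
import Cfsg.Agent.Lib.Helper12.Sharp3OddA
import Cfsg.Agent.Lib.Helper12.TauInv
import Cfsg.Agent.Lib.Helper12.Sharp3Idx
import Cfsg.Agent.Lib.Helper19.Zass2

set_option autoImplicit false
set_option linter.style.haveILetI false
set_option linter.unusedSimpArgs false
set_option linter.unusedSectionVars false
set_option linter.unusedVariables false

/-!
# Zassenhaus: sharply 3-transitive groups of degree `p ^ f + 1`, `p` odd, `f` odd, are `PGL₂`.
-/

namespace Cfsg.Agent.Helper12.Sharp3Odd

open MulAction Cfsg.Agent.Helper19.Sharp3 Cfsg.Agent.Helper19.Sharp2 Cfsg.Agent.Helper19.Zass2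

universe u

variable {α : Type u} [Fintype α] [DecidableEq α] (G : Subgroup (Equiv.Perm α))

set_option maxHeartbeats 1000000 in
theorem exists_field_mulEquiv_odd {p f : ℕ} (hp : p.Prime) (hp2 : p ≠ 2) (hfo : Odd f)
    (hα : Fintype.card α = p ^ f + 1)
    (h3 : MulAction.IsMultiplyPretransitive G α 3)
    (hsharp : ∀ x : Fin 3 ↪ α, MulAction.stabilizer G x = ⊥) :
    ∃ (F : Type u) (_ : Field F) (_ : Fintype F), Fintype.card α = Fintype.card F + 1 ∧
      Nonempty (G ≃* Matrix.ProjGenLinGroup (Fin 2) F) := by
  classical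
  have hf1 : 1 ≤ f := hfo.pos
  have hp3 : 3 ≤ p := by
    have := hp.two_le
    omega
  have hpf : 3 ≤ p ^ f := by
    calc 3 ≤ p ^ 1 := by rw [pow_one]; exact hp3
      _ ≤ p ^ f := Nat.pow_le_pow_right (by omega) hf1
  have hcard : 3 ≤ Fintype.card α := by omega
  obtain ⟨x⟩ : Nonempty (Fin 3 ↪ α) :=
    Function.Embedding.nonempty_of_card_le (by rw [Fintype.card_fin]; exact hcard)
  obtain ⟨inf, o, i, hio, hii, hoi⟩ : ∃ inf o i : α, inf ≠ o ∧ inf ≠ i ∧ o ≠ i :=
    ⟨x 0, x 1, x 2, fun e => by simpa using x.injective e, fun e => by simpa using x.injective e,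
      fun e => by simpa using x.injective e⟩
  have hS12 := Cfsg.Agent.Helper12.Sharp3Idx.isSharp2 G h3 hsharp inf
  have hS : IsSharp2 (MulAction.stabilizer G inf) (SubMulAction.ofStabilizer G inf) :=
    ⟨hS12.trans, hS12.sharp⟩
  have hcardX : Nat.card (SubMulAction.ofStabilizer G inf) = p ^ f := by
    have := SubMulAction.nat_card_ofStabilizer_add_one_eq G inf
    rw [Nat.card_eq_fintype_card (α := α)] at this
    omega
  have hX2 : 2 ≤ Nat.card (SubMulAction.ofStabilizer G inf) := by omega
  let o' : SubMulAction.ofStabilizer G inf := mkPt G inf o (Ne.symm hio)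
  let i' : SubMulAction.ofStabilizer G inf := mkPt G inf i (Ne.symm hii)
  have hoi' : o' ≠ i' := fun e => hoi (congrArg Subtype.val e)
  obtain ⟨t, ht1, ht2, ht3⟩ := exists_map3 G h3 hio hii hoi (Ne.symm hio) hoi hii
  let D : FieldData (MulAction.stabilizer G inf) (SubMulAction.ofStabilizer G inf) :=
    { h := hS
      N := Cfsg.Agent.Helper12.Sharp2.kernel hS12
      normal := Cfsg.Agent.Helper12.Sharp2.kernel_normal hS12
      regular := by
        intro x y
        obtain ⟨n, hn, hnx⟩ := Cfsg.Agent.Helper12.Sharp2.kernel_trans hS12 x y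
        refine ⟨n, ⟨hn, hnx⟩, ?_⟩
        rintro m ⟨hm, hmx⟩
        exact Cfsg.Agent.Helper12.Sharp2.kernel_unique hS12 hm hn (hmx.trans hnx.symm)
      commN := fun a b ha hb => Cfsg.Agent.Helper12.Sharp2.kernel_comm hS12 hX2 a ha b hb
      o := o'
      i := i'
      hoi := hoi'
      commH := by
        intro a b ha hb
        have ha2 : (a : G) • o = o := congrArg Subtype.val ha
        have hb2 : (b : G) • o = o := congrArg Subtype.val hb
        apply Subtype.ext
        rw [Subgroup.coe_mul, Subgroup.coe_mul]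
        exact Cfsg.Agent.Helper12.Sharp3OddA.twoPoint_comm G hp hp2 hfo hα h3 hsharp hio
          (a : G) (b : G) a.2 ha2 b.2 hb2 }
  letI : Field (SubMulAction.ofStabilizer G inf) := D.field
  haveI : Fintype (SubMulAction.ofStabilizer G inf) := Fintype.ofFinite _
  refine ⟨SubMulAction.ofStabilizer G inf, D.field, inferInstance, ?_, ?_⟩
  · have := SubMulAction.nat_card_ofStabilizer_add_one_eq G inf
    rw [Nat.card_eq_fintype_card, Nat.card_eq_fintype_card] at this
    exact this.symm
  -- basic facts on `t`
  have htt : t * t = 1 := by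
    apply eq_one_of_fix3 G hsharp hio hii hoi
    · rw [mul_smul, ht1, ht2]
    · rw [mul_smul, ht2, ht1]
    · rw [mul_smul, ht3, ht3]
  have htne : t ≠ 1 := by
    rintro rfl
    rw [one_smul] at ht1
    exact hio ht1
  have htinv : t⁻¹ = t := inv_eq_of_mul_eq_one_right htt
  have hval_ne_inf : ∀ x : SubMulAction.ofStabilizer G inf, x.val ≠ inf :=
    fun x => (SubMulAction.mem_ofStabilizer_iff G inf).mp x.2
  -- (F1) elements fixing `o'` act as multiplications
  have hF1 : ∀ g : MulAction.stabilizer G inf, g • o' = o' →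
      ∀ z : SubMulAction.ofStabilizer G inf, g • z = (g • i') * z := by
    intro g hg z
    have hne : g • i' ≠ D.o := by
      intro e
      have e' : g • i' = g • o' := e.trans hg.symm
      exact hoi' (MulAction.injective g e').symm
    have hg' : g = D.eta (g • i') := D.eta_unique hg rfl
    change g • z = D.mul (g • i') z
    rw [D.mul_of_ne hne, ← hg']
  have hti : t⁻¹ • i = i := by rw [inv_smul_eq_iff, ht3]
  -- the map induced by `t` on nonzero points
  have hTex : ∀ x : SubMulAction.ofStabilizer G inf, x ≠ o' →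
      ∃ y : SubMulAction.ofStabilizer G inf, y ≠ o' ∧ y.val = t • x.val := by
    intro x hx
    have h1 : t • x.val ≠ inf := by
      intro e
      have e2 : t • x.val = t • o := e.trans ht2.symm
      exact hx (Subtype.ext (MulAction.injective t e2))
    refine ⟨mkPt G inf (t • x.val) h1, ?_, rfl⟩
    intro e
    have e' : t • x.val = o := congrArg Subtype.val e
    have e2 : t • x.val = t • inf := e'.trans ht1.symm
    exact hval_ne_inf x (MulAction.injective t e2)
  have hunit_ne : ∀ u : (SubMulAction.ofStabilizer G inf)ˣ,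
      (u : SubMulAction.ofStabilizer G inf) ≠ o' := fun u => u.ne_zero
  choose T0 hT0ne hT0val using hTex
  let T : (SubMulAction.ofStabilizer G inf)ˣ → (SubMulAction.ofStabilizer G inf)ˣ :=
    fun u => Units.mk0 (T0 u (hunit_ne u)) (hT0ne u (hunit_ne u))
  have hTval : ∀ u : (SubMulAction.ofStabilizer G inf)ˣ,
      ((T u : (SubMulAction.ofStabilizer G inf)ˣ) : SubMulAction.ofStabilizer G inf).val =
        t • (u : SubMulAction.ofStabilizer G inf).val := fun u => hT0val u (hunit_ne u)
  have hTT : ∀ u, T (T u) = u := by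
    intro u
    apply Units.ext
    apply Subtype.ext
    rw [hTval, hTval, ← mul_smul, htt, one_smul]
  have hTmul : ∀ u v, T (u * v) = T u * T v := by
    intro u v
    apply Units.ext
    apply Subtype.ext
    rw [hTval]
    set γ := D.eta (u : SubMulAction.ofStabilizer G inf) with hγ
    have hγo : γ • o' = o' := D.eta_o' _
    have hγi : γ • i' = (u : SubMulAction.ofStabilizer G inf) := D.eta_i (hunit_ne u)
    have e1 : (u : SubMulAction.ofStabilizer G inf) * (v : SubMulAction.ofStabilizer G inf) =
        γ • (v : SubMulAction.ofStabilizer G inf) :=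
      D.mul_of_ne (hunit_ne u) _
    have hγo2 : (γ : G) • o = o := congrArg Subtype.val hγo
    have hg_inf : (t * (γ : G) * t⁻¹) • inf = inf := by
      rw [htinv, mul_smul, mul_smul, ht1, hγo2, ht2]
    have hg_o : (t * (γ : G) * t⁻¹) • o = o := by
      have : (γ : G) • inf = inf := γ.2
      rw [htinv, mul_smul, mul_smul, ht2, this, ht1]
    let g' : MulAction.stabilizer G inf := ⟨t * (γ : G) * t⁻¹, hg_inf⟩
    have hg'o : g' • o' = o' := Subtype.ext hg_o
    have hg'i : g' • i' = ((T u : (SubMulAction.ofStabilizer G inf)ˣ) :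
        SubMulAction.ofStabilizer G inf) := by
      apply Subtype.ext
      rw [hTval]
      change (t * (γ : G) * t⁻¹) • i = t • (u : SubMulAction.ofStabilizer G inf).val
      rw [mul_smul, mul_smul, hti, ← hγi]
      rfl
    have h5 := hF1 g' hg'o ((T v : (SubMulAction.ofStabilizer G inf)ˣ) :
        SubMulAction.ofStabilizer G inf)
    rw [hg'i] at h5
    rw [Units.val_mul, Units.val_mul, ← h5, e1]
    change t • ((γ : G) • (v : SubMulAction.ofStabilizer G inf).val) =
      (t * (γ : G) * t⁻¹) • ((T v : (SubMulAction.ofStabilizer G inf)ˣ) :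
        SubMulAction.ofStabilizer G inf).val
    rw [hTval, mul_smul, mul_smul, inv_smul_smul]
  let τ : (SubMulAction.ofStabilizer G inf)ˣ ≃* (SubMulAction.ofStabilizer G inf)ˣ :=
    { toFun := T
      invFun := T
      left_inv := hTT
      right_inv := hTT
      map_mul' := hTmul }
  have hτT : ∀ u, τ u = T u := fun _ => rfl
  have hτval : ∀ u : (SubMulAction.ofStabilizer G inf)ˣ,
      ((τ u : (SubMulAction.ofStabilizer G inf)ˣ) : SubMulAction.ofStabilizer G inf).val =
        t • (u : SubMulAction.ofStabilizer G inf).val := hTval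
  have hτfix : ∀ a b c : (SubMulAction.ofStabilizer G inf)ˣ, τ a = a → τ b = b → τ c = c →
      a = b ∨ a = c ∨ b = c := by
    intro a b c ha hb hc
    by_contra hcon
    push Not at hcon
    obtain ⟨n1, n2, n3⟩ := hcon
    have hinj : ∀ u v : (SubMulAction.ofStabilizer G inf)ˣ,
        (u : SubMulAction.ofStabilizer G inf).val = (v : SubMulAction.ofStabilizer G inf).val →
        u = v := fun u v e => Units.ext (Subtype.ext e)
    have hfx : ∀ u : (SubMulAction.ofStabilizer G inf)ˣ, τ u = u →
        t • (u : SubMulAction.ofStabilizer G inf).val =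
          (u : SubMulAction.ofStabilizer G inf).val := by
      intro u hu
      rw [← hτval, hu]
    apply htne
    exact eq_one_of_fix3 G hsharp (fun e => n1 (hinj _ _ e)) (fun e => n2 (hinj _ _ e))
      (fun e => n3 (hinj _ _ e)) (hfx a ha) (hfx b hb) (hfx c hc)
  -- the map `z ↦ 1 - z`
  obtain ⟨φ, hφ1, hφ2⟩ := hS.trans o' i' i' o' hoi' (Ne.symm hoi')
  have hφ : ∀ z : SubMulAction.ofStabilizer G inf, φ • z = 1 - z := by
    obtain ⟨a, b, ha, hab⟩ := D.affine φ
    have hab' : ∀ z : SubMulAction.ofStabilizer G inf, φ • z = b + a * z := hab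
    have hb : b = 1 := by
      have h0 := hab' 0
      rw [mul_zero, add_zero] at h0
      rw [← h0]
      exact hφ1
    have ha1 : a = -1 := by
      have h0 := hab' 1
      rw [mul_one, hb] at h0
      have h00 : φ • (1 : SubMulAction.ofStabilizer G inf) = 0 := hφ2
      rw [h00] at h0
      linear_combination -h0
    intro z
    rw [hab', hb, ha1]
    ring
  have hφinf : (φ : G) • inf = inf := φ.2
  have hφo : (φ : G) • o = i := congrArg Subtype.val hφ1
  have hφi : (φ : G) • i = o := congrArg Subtype.val hφ2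
  have hrel : t * (φ : G) * t = (φ : G) * t * (φ : G) := by
    apply eq_of_agree3 G hsharp hio hii hoi
    · rw [mul_smul, mul_smul, mul_smul, mul_smul, ht1, hφo, ht3, hφinf, ht1, hφo]
    · rw [mul_smul, mul_smul, mul_smul, mul_smul, ht2, hφinf, ht1, hφo, ht3, hφi]
    · rw [mul_smul, mul_smul, mul_smul, mul_smul, ht3, hφi, ht2, hφinf]
  have hφval : ∀ z : SubMulAction.ofStabilizer G inf, (1 - z).val = (φ : G) • z.val := by
    intro z
    rw [← hφ]
    rfl
  have hτfe : ∀ y : (SubMulAction.ofStabilizer G inf)ˣ,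
      (y : SubMulAction.ofStabilizer G inf) ≠ 1 →
      ∃ w w' : (SubMulAction.ofStabilizer G inf)ˣ,
        (w : SubMulAction.ofStabilizer G inf) =
          1 - ((τ y : (SubMulAction.ofStabilizer G inf)ˣ) : SubMulAction.ofStabilizer G inf) ∧
        (w' : SubMulAction.ofStabilizer G inf) = 1 - (y : SubMulAction.ofStabilizer G inf) ∧
        ((τ w : (SubMulAction.ofStabilizer G inf)ˣ) : SubMulAction.ofStabilizer G inf) =
          1 - ((τ w' : (SubMulAction.ofStabilizer G inf)ˣ) : SubMulAction.ofStabilizer G inf) := by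
    intro y hy
    have hτy1 : ((τ y : (SubMulAction.ofStabilizer G inf)ˣ) :
        SubMulAction.ofStabilizer G inf) ≠ 1 := by
      intro e
      have e1 : τ y = 1 := Units.ext e
      have e2 : y = 1 := τ.injective (e1.trans (map_one τ).symm)
      apply hy
      rw [e2]
      rfl
    refine ⟨Units.mk0 (1 - ((τ y : (SubMulAction.ofStabilizer G inf)ˣ) :
        SubMulAction.ofStabilizer G inf)) (sub_ne_zero.mpr (Ne.symm hτy1)),
      Units.mk0 (1 - (y : SubMulAction.ofStabilizer G inf)) (sub_ne_zero.mpr (Ne.symm hy)),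
      rfl, rfl, ?_⟩
    apply Subtype.ext
    rw [hτval, hφval, hτval, Units.val_mk0, Units.val_mk0, hφval, hφval, hτval]
    have := congrArg (fun g : G => g • (y : SubMulAction.ofStabilizer G inf).val) hrel
    simpa only [mul_smul] using this
  have h2ne : (2 : SubMulAction.ofStabilizer G inf) ≠ 0 := by
    intro h
    have h1 : addOrderOf (1 : SubMulAction.ofStabilizer G inf) ∣ 2 := by
      apply addOrderOf_dvd_of_nsmul_eq_zero
      rw [nsmul_eq_mul, mul_one]
      exact_mod_cast h
    have h1' : addOrderOf (1 : SubMulAction.ofStabilizer G inf) ∣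
        Nat.card (SubMulAction.ofStabilizer G inf) := addOrderOf_dvd_natCard _
    have h1'' : addOrderOf (1 : SubMulAction.ofStabilizer G inf) ≠ 1 := by
      intro e
      rw [AddMonoid.addOrderOf_eq_one_iff] at e
      exact one_ne_zero e
    have h22 : addOrderOf (1 : SubMulAction.ofStabilizer G inf) = 2 := by
      rcases (Nat.dvd_prime Nat.prime_two).mp h1 with e | e
      · exact absurd e h1''
      · exact e
    rw [h22, hcardX] at h1'
    have := (Nat.prime_dvd_prime_iff_eq Nat.prime_two hp).mp (Nat.prime_two.dvd_of_dvd_pow h1')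
    exact hp2 this.symm
  have hτinv := Cfsg.Agent.Helper12.TauInv.tau_inv h2ne τ hTT hτfix hτfe
  apply Cfsg.Agent.Helper19.Moebius.nonempty_mulEquiv_pgl G h3 hsharp (psi G inf)
  · -- affine
    intro g hg
    rw [psi_symm_infty] at hg
    have hginf : g • inf = inf := psi_eq_infty G inf hg
    obtain ⟨a, b, ha, hab⟩ := D.affine ⟨g, hginf⟩
    refine ⟨a, b, ha, fun x => ?_⟩
    rw [psi_symm_coe]
    have e : g • x.val = ((⟨g, hginf⟩ : MulAction.stabilizer G inf) • x).val := rfl
    rw [e, psi_val, hab x]
    rfl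
  · -- transitivity
    intro c
    refine ⟨(D.nu c : G), ?_, ?_⟩
    · rw [psi_symm_infty]
      have : (D.nu c : G) • inf = inf := (D.nu c).2
      rw [this, psi_inf]
    · have e0 : ((0 : SubMulAction.ofStabilizer G inf) :
          OnePoint (SubMulAction.ofStabilizer G inf)) = (o' : OnePoint _) := rfl
      rw [e0, psi_symm_coe]
      have e : (D.nu c : G) • o'.val = (D.nu c • o').val := rfl
      rw [e, psi_val]
      congr 1
      exact D.nu_smul c
  · -- inversion
    refine ⟨t, ?_, ?_, ?_⟩
    · rw [psi_symm_infty, ht1]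
      exact psi_val G inf o'
    · have e0 : ((0 : SubMulAction.ofStabilizer G inf) :
          OnePoint (SubMulAction.ofStabilizer G inf)) = (o' : OnePoint _) := rfl
      rw [e0, psi_symm_coe]
      change psi G inf (t • o) = _
      rw [ht2, psi_inf]
    · intro x hx
      rw [psi_symm_coe]
      have h6 := hτinv (Units.mk0 x hx)
      have h7 : t • x.val = (x⁻¹ : SubMulAction.ofStabilizer G inf).val := by
        have := hτval (Units.mk0 x hx)
        rw [Units.val_mk0] at this
        rw [← this, h6, Units.val_inv_eq_inv_val, Units.val_mk0]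
      rw [h7, psi_val]

end Cfsg.Agent.Helper12.Sharp3Odd
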