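import Mathlib
import Cfsg.Prelude.Def_Perm
import Cfsg.Prelude.Def_LieExceptional
import Cfsg.Agent.S0727
import Cfsg.Agent.S0730
import Cfsg.Agent.Lib.Helper12.PPlusOne
import Cfsg.Agent.Lib.Helper12.PPlusOneAff
import Cfsg.Agent.Lib.Helper12.PSLCongr
import Cfsg.Agent.Lib.Helper12.Sharp2
import Cfsg.Agent.Lib.Helper12.ZassAbelMain
import Cfsg.Agent.Lib.Helper19.Zass2Final

set_option autoImplicit false
set_option linter.unusedSectionVars false
set_option linter.style.haveILetI false
set_option linter.unusedVariables false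

/-! Transitive permutation groups of degree `p + 1` and order `(p + 1) p d` with `d < p`:
the classification, modulo the Feit bound for simple Zassenhaus groups. -/

namespace Cfsg.Agent.Helper12.PPlusOneMain

open MulAction Cfsg.Agent.Helper12.PPlusOne

universe u

variable {α : Type u} [Fintype α] [DecidableEq α] {p d : ℕ}

/-- degree three -/
theorem three_trans_of_card_three (hα : Fintype.card α = 3) (G : Subgroup (Equiv.Perm α))
    (h2 : MulAction.IsMultiplyPretransitive G α 2) : MulAction.IsMultiplyPretransitive G α 3 := by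
  refine ⟨fun x y => ?_⟩
  have hx : ∀ i j : Fin 3, i ≠ j → x i ≠ x j := fun i j hij h => hij (x.injective h)
  have hy : ∀ i j : Fin 3, i ≠ j → y i ≠ y j := fun i j hij h => hij (y.injective h)
  obtain ⟨g, hg0, hg1⟩ := (MulAction.is_two_pretransitive_iff.mp h2)
    (hx 0 1 (by decide)) (hy 0 1 (by decide))
  refine ⟨g, ?_⟩
  have h20 : g • x 2 ≠ y 0 := by
    rw [← hg0]
    intro h
    exact hx 2 0 (by decide) (smul_left_cancel g h)
  have h21 : g • x 2 ≠ y 1 := by
    rw [← hg1]
    intro h
    exact hx 2 1 (by decide) (smul_left_cancel g h)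
  have hcard : ({y 0, y 1, g • x 2} : Finset α).card = 3 := by
    rw [Finset.card_insert_of_notMem, Finset.card_insert_of_notMem, Finset.card_singleton]
    · simpa using Ne.symm h21
    · simp only [Finset.mem_insert, Finset.mem_singleton, not_or]
      exact ⟨hy 0 1 (by decide), Ne.symm h20⟩
  have huniv : ({y 0, y 1, g • x 2} : Finset α) = Finset.univ := by
    apply Finset.eq_univ_of_card
    rw [hcard, hα]
  have hmem : y 2 ∈ ({y 0, y 1, g • x 2} : Finset α) := by rw [huniv]; exact Finset.mem_univ _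
  simp only [Finset.mem_insert, Finset.mem_singleton] at hmem
  have h22 : g • x 2 = y 2 := by
    rcases hmem with h | h | h
    · exact absurd h (hy 2 0 (by decide))
    · exact absurd h (hy 2 1 (by decide))
    · exact h.symm
  ext i
  fin_cases i
  · exact hg0
  · exact hg1
  · exact h22

theorem sharp_of_three_fix (G : Subgroup (Equiv.Perm α))
    (h3 : ∀ (g : G) (a b c : α), a ≠ b → b ≠ c → a ≠ c → g • a = a → g • b = b → g • c = c →
      g = 1) : ∀ t : Fin 3 ↪ α, MulAction.stabilizer G t = ⊥ := by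
  intro t
  rw [Subgroup.eq_bot_iff_forall]
  intro g hg
  rw [mem_stabilizer_iff] at hg
  have ht : ∀ i j : Fin 3, i ≠ j → t i ≠ t j := fun i j hij h => hij (t.injective h)
  have hgi : ∀ i, g • t i = t i := fun i => by
    have := congrArg (fun s : Fin 3 ↪ α => s i) hg
    exact this
  exact h3 g (t 0) (t 1) (t 2) (ht 0 1 (by decide)) (ht 1 2 (by decide))
    (ht 0 2 (by decide)) (hgi 0) (hgi 1) (hgi 2)

set_option maxHeartbeats 1000000 in
theorem main (hS : ZassOddRed.SimpleBound.{u, u}) (hp : p.Prime)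
    (hα : Fintype.card α = p + 1) (G : Subgroup (Equiv.Perm α))
    [MulAction.IsPretransitive G α] (hG : Nat.card G = (p + 1) * p * d) (hd : d < p) :
    (d = p - 1 ∧ Nonempty (G ≃* Matrix.ProjGenLinGroup (Fin 2) (ZMod p))) ∨
    (2 * d = p - 1 ∧ Nonempty (G ≃* Matrix.ProjectiveSpecialLinearGroup (Fin 2) (ZMod p))) ∨
    (∃ q : ℕ, q.Prime ∧ p + 1 = 2 ^ q ∧ (d = 1 ∨ d = q) ∧ ∃ e : α ≃ GaloisField 2 q,
      ∀ g : G, (e.symm.trans (((g : Equiv.Perm α)).trans e)) ∈
        Cfsg.semiaffineGroup (GaloisField 2 q)) := by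
  classical
  haveI : Fact p.Prime := ⟨hp⟩
  have hd0 := d_pos G hG
  have h2t := two_trans hp hα G hG
  have h3f := three_fix hp hα G hG hd
  have hcZ : Fintype.card (ZMod p) = p := ZMod.card p
  by_cases hp2 : p = 2
  · -- degree three
    left
    subst hp2
    have hd1 : d = 1 := by omega
    refine ⟨by omega, ?_⟩
    have h3t := three_trans_of_card_three (by rw [hα]) G h2t
    obtain ⟨F, iF, iT, hcF, ⟨e⟩⟩ := Cfsg.Agent.S0727.result (f := 1) le_rfl (by rw [hα]; norm_num) G
      h3t (sharp_of_three_fix G h3f)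
    have r : F ≃+* ZMod 2 := FiniteField.ringEquivOfCardEq (by rw [hcF, hcZ]; norm_num)
    exact ⟨e.trans (Cfsg.Agent.Helper19.Zass2.pglCongr r)⟩
  have hp3 : 3 ≤ p := by
    have := hp.two_le
    omega
  have hne : Nonempty α := by
    rw [← Fintype.card_pos_iff, hα]; omega
  obtain ⟨a⟩ := hne
  obtain ⟨b, hb⟩ : ∃ b : α, b ≠ a := Fintype.exists_ne_of_one_lt_card (by rw [hα]; omega) a
  have hab : a ≠ b := Ne.symm hb
  have hcD := card_D hp hα G hG hab
  by_cases hd1 : d = 1
  · -- sharply doubly transitive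
    right; right
    have hS2 : Sharp2.IsSharp2 ↥G α := by
      refine ⟨fun a b c d hab hcd => (MulAction.is_two_pretransitive_iff.mp h2t) hab hcd, ?_⟩
      intro g x y hxy hgx hgy
      have hc := card_D hp hα G hG hxy
      rw [hd1] at hc
      haveI : Subsingleton ↥(stabilizer G x ⊓ stabilizer G y : Subgroup G) :=
        (Nat.card_eq_one_iff_unique.mp hc).1
      have := Subsingleton.elim (⟨g, Subgroup.mem_inf.mpr ⟨hgx, hgy⟩⟩ :
        ↥(stabilizer G x ⊓ stabilizer G y : Subgroup G)) 1
      exact congrArg Subtype.val this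
    haveI := Sharp2.kernel_normal hS2
    exact PPlusOneAff.affine_case hp hp2 hα G hG hd (Sharp2.kernel hS2)
      (fun x y => Sharp2.kernel_trans hS2 x y)
      (fun n hn x hx => Sharp2.kernel_free hS2 hn hx)
  have hd2 : 2 ≤ d := by omega
  by_cases hZ : Cfsg.IsZassenhausGroup ↥G α
  · -- Zassenhaus groups
    obtain ⟨u, hua, huo⟩ := exists_u hp hα G hG a
    have hHa : Subgroup.zpowers u ≤ stabilizer G a := by
      rw [Subgroup.zpowers_le]; exact hua
    have hHcard : Nat.card (Subgroup.zpowers u) + 1 = Fintype.card α := by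
      rw [Nat.card_zpowers, huo, hα]
    have hHfix : ∀ w ∈ Subgroup.zpowers u, w ≠ 1 → ∀ c : α, w • c = c → c = a := by
      intro w hw hw1 c hwc
      by_contra hc
      exact hw1 (zpowers_free hp hα G hua huo hc hw hwc)
    have hHab : ∀ w ∈ Subgroup.zpowers u, ∀ w' ∈ Subgroup.zpowers u, w * w' = w' * w := by
      intro w hw w' hw'
      obtain ⟨k, rfl⟩ := Subgroup.mem_zpowers_iff.mp hw
      obtain ⟨l, rfl⟩ := Subgroup.mem_zpowers_iff.mp hw'
      rw [← zpow_add, ← zpow_add, add_comm]
    rcases ZassAbelMain.main_aux hS hZ hab hHa hHcard hHfix hHab with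
      ⟨heq, h3t, hsharp⟩ | ⟨heq, K, iF, iT, hcK, ⟨e⟩⟩
    · left
      rw [hcD, hα] at heq
      refine ⟨by omega, ?_⟩
      obtain ⟨F, iF, iT, hcF, ⟨e⟩⟩ := Cfsg.Agent.S0730.result (f := 1) hp hp2 odd_one
        (by rw [hα, pow_one]) G h3t hsharp
      have r : F ≃+* ZMod p := FiniteField.ringEquivOfCardEq (by rw [hcF, hcZ, pow_one])
      exact ⟨e.trans (Cfsg.Agent.Helper19.Zass2.pglCongr r)⟩
    · right; left
      rw [hcD, hα] at heq
      refine ⟨by omega, ?_⟩
      have hcK' : Fintype.card K = p := by rw [hα] at hcK; omega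
      have r : K ≃+* ZMod p := FiniteField.ringEquivOfCardEq (by rw [hcK', hcZ])
      exact ⟨e.trans (PSLCongr.pslCongr r)⟩
  · -- a regular normal subgroup
    right; right
    have hfaith : FaithfulSMul ↥G α := by
      refine ⟨fun {g h} hgh => ?_⟩
      apply Subtype.ext
      apply Equiv.ext
      exact hgh
    have hex : ∃ g : G, g ≠ 1 ∧ ∃ x y : α, x ≠ y ∧ g • x = x ∧ g • y = y := by
      have h1 : 1 < Nat.card ↥(stabilizer G a ⊓ stabilizer G b : Subgroup G) := by
        rw [hcD]; omega
      haveI : Finite ↥(stabilizer G a ⊓ stabilizer G b : Subgroup G) := inferInstance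
      haveI := Finite.one_lt_card_iff_nontrivial.mp h1
      obtain ⟨g, hg⟩ := exists_ne (1 : ↥(stabilizer G a ⊓ stabilizer G b : Subgroup G))
      exact ⟨g, fun h => hg (Subtype.ext h), a, b, hab, (Subgroup.mem_inf.mp g.2).1,
        (Subgroup.mem_inf.mp g.2).2⟩
    have hN : ∃ N : Subgroup G, N.Normal ∧ MulAction.IsPretransitive N α ∧
        ∀ x : α, MulAction.stabilizer N x = ⊥ := by
      by_contra hcon
      apply hZ
      refine ⟨hfaith, h2t, h3f, hex, ?_⟩
      intro N hNn hNt
      by_contra hcon2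
      push Not at hcon2
      exact hcon ⟨N, hNn, hNt, hcon2⟩
    obtain ⟨N, hNn, hNt, hNs⟩ := hN
    haveI := hNn
    refine PPlusOneAff.affine_case hp hp2 hα G hG hd N ?_ ?_
    · intro x y
      obtain ⟨n, hn⟩ := MulAction.exists_smul_eq N x y
      exact ⟨n, n.2, hn⟩
    · intro n hn x hx
      have : (⟨n, hn⟩ : N) ∈ MulAction.stabilizer N x := hx
      rw [hNs x, Subgroup.mem_bot] at this
      exact congrArg Subtype.val this

end Cfsg.Agent.Helper12.PPlusOneMain
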