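import Mathlib
import Cfsg.Agent.Lib.Helper88.Psp4Defs

/-!
# Linear algebra of the 4-dimensional symplectic space (helper12, for helper88's PSP4F server, S5320)

`B u v = u ⬝ᵥ J *ᵥ v`; a matrix whose columns form a symplectic basis is symplectic; conjugation from `t * P = P * z`.
-/

set_option autoImplicit false

namespace Cfsg.Agent.Helper12.Psp4

open Matrix Cfsg.Agent.Helper88.Psp4

variable {F : Type*} [Field F]

/-- the symplectic form on `F⁴` -/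
def B (u v : Fin 2 ⊕ Fin 2 → F) : F := u ⬝ᵥ (J (Fin 2) F *ᵥ v)

theorem B_add_left (u u' v : Fin 2 ⊕ Fin 2 → F) : B (u + u') v = B u v + B u' v := by
  simp [B, add_dotProduct]

theorem B_add_right (u v v' : Fin 2 ⊕ Fin 2 → F) : B u (v + v') = B u v + B u v' := by
  simp [B, mulVec_add, dotProduct_add]

theorem B_smul_left (a : F) (u v : Fin 2 ⊕ Fin 2 → F) : B (a • u) v = a * B u v := by
  simp [B, smul_dotProduct]

theorem B_smul_right (a : F) (u v : Fin 2 ⊕ Fin 2 → F) : B u (a • v) = a * B u v := by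
  simp [B, mulVec_smul, dotProduct_smul]

theorem B_neg_left (u v : Fin 2 ⊕ Fin 2 → F) : B (-u) v = -B u v := by
  simp [B, neg_dotProduct]

theorem B_neg_right (u v : Fin 2 ⊕ Fin 2 → F) : B u (-v) = -B u v := by
  simp [B, mulVec_neg, dotProduct_neg]

theorem B_sub_left (u u' v : Fin 2 ⊕ Fin 2 → F) : B (u - u') v = B u v - B u' v := by
  rw [sub_eq_add_neg, B_add_left, B_neg_left, sub_eq_add_neg]

theorem B_sub_right (u v v' : Fin 2 ⊕ Fin 2 → F) : B u (v - v') = B u v - B u v' := by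
  rw [sub_eq_add_neg, B_add_right, B_neg_right, sub_eq_add_neg]

theorem B_zero_left (v : Fin 2 ⊕ Fin 2 → F) : B 0 v = 0 := by simp [B]

theorem B_zero_right (u : Fin 2 ⊕ Fin 2 → F) : B u 0 = 0 := by simp [B]

theorem B_expand (u v : Fin 2 ⊕ Fin 2 → F) :
    B u v = -(u (Sum.inl 0) * v (Sum.inr 0)) - u (Sum.inl 1) * v (Sum.inr 1)
      + u (Sum.inr 0) * v (Sum.inl 0) + u (Sum.inr 1) * v (Sum.inl 1) := by
  simp [B, J, dotProduct, mulVec, Fintype.sum_sum_type, Fin.sum_univ_two, fromBlocks]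
  ring

theorem B_skew (u v : Fin 2 ⊕ Fin 2 → F) : B u v = -B v u := by
  rw [B_expand, B_expand]; ring

theorem B_self (u : Fin 2 ⊕ Fin 2 → F) : B u u = 0 := by
  rw [B_expand]; ring


theorem B_mulVec {A : Matrix (Fin 2 ⊕ Fin 2) (Fin 2 ⊕ Fin 2) F}
    (hA : A ∈ Matrix.symplecticGroup (Fin 2) F) (u v : Fin 2 ⊕ Fin 2 → F) :
    B (A *ᵥ u) (A *ᵥ v) = B u v := by
  have h := SymplecticGroup.mem_iff'.1 hA
  unfold B
  rw [← vecMul_transpose, ← dotProduct_mulVec, mulVec_mulVec, mulVec_mulVec, h]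

/-- nondegeneracy -/
theorem B_nondeg {u : Fin 2 ⊕ Fin 2 → F} (hu : u ≠ 0) : ∃ x, B u x ≠ 0 := by
  by_contra hcon
  push Not at hcon
  apply hu
  funext i
  have h1 := hcon (Pi.single (Sum.inl 0) 1)
  have h2 := hcon (Pi.single (Sum.inl 1) 1)
  have h3 := hcon (Pi.single (Sum.inr 0) 1)
  have h4 := hcon (Pi.single (Sum.inr 1) 1)
  rw [B_expand] at h1 h2 h3 h4
  simp at h1 h2 h3 h4
  rcases i with i | i <;> fin_cases i <;> simp_all

/-- the matrix with prescribed columns -/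
def colMat (cols : Fin 2 ⊕ Fin 2 → (Fin 2 ⊕ Fin 2 → F)) :
    Matrix (Fin 2 ⊕ Fin 2) (Fin 2 ⊕ Fin 2) F := Matrix.of fun r c => cols c r

theorem colMat_mulVec_single (cols : Fin 2 ⊕ Fin 2 → (Fin 2 ⊕ Fin 2 → F)) (c : Fin 2 ⊕ Fin 2) :
    colMat cols *ᵥ Pi.single c 1 = cols c := by
  rw [mulVec_single_one]; rfl

theorem gram_colMat (cols : Fin 2 ⊕ Fin 2 → (Fin 2 ⊕ Fin 2 → F)) (c c' : Fin 2 ⊕ Fin 2) :
    ((colMat cols)ᵀ * J (Fin 2) F * colMat cols) c c' = B (cols c) (cols c') := by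
  rw [Matrix.mul_assoc, Matrix.mul_apply]
  unfold B
  rw [dotProduct]
  refine Finset.sum_congr rfl fun r _ => ?_
  congr 1

theorem colMat_mem {cols : Fin 2 ⊕ Fin 2 → (Fin 2 ⊕ Fin 2 → F)}
    (h : ∀ c c', B (cols c) (cols c') = J (Fin 2) F c c') :
    colMat cols ∈ Matrix.symplecticGroup (Fin 2) F := by
  rw [SymplecticGroup.mem_iff']
  ext c c'
  rw [gram_colMat, h]

/-- the six conditions for a symplectic basis -/
theorem gram_of_six {e0 e1 f0 f1 : Fin 2 ⊕ Fin 2 → F}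
    (h1 : B e0 e1 = 0) (h2 : B f0 f1 = 0) (h3 : B e0 f0 = -1) (h4 : B e1 f1 = -1)
    (h5 : B e0 f1 = 0) (h6 : B e1 f0 = 0) (c c' : Fin 2 ⊕ Fin 2) :
    B ((Sum.elim ![e0, e1] ![f0, f1] : Fin 2 ⊕ Fin 2 → (Fin 2 ⊕ Fin 2 → F)) c)
      ((Sum.elim ![e0, e1] ![f0, f1] : Fin 2 ⊕ Fin 2 → (Fin 2 ⊕ Fin 2 → F)) c') =
      J (Fin 2) F c c' := by
  have h1' : B e1 e0 = 0 := by rw [B_skew, h1, neg_zero]
  have h2' : B f1 f0 = 0 := by rw [B_skew, h2, neg_zero]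
  have h3' : B f0 e0 = 1 := by rw [B_skew, h3, neg_neg]
  have h4' : B f1 e1 = 1 := by rw [B_skew, h4, neg_neg]
  have h5' : B f1 e0 = 0 := by rw [B_skew, h5, neg_zero]
  have h6' : B f0 e1 = 0 := by rw [B_skew, h6, neg_zero]
  rcases c with c | c <;> rcases c' with c' | c' <;> fin_cases c <;> fin_cases c' <;>
    simp [J, B_self, *]

theorem mul_colMat (A : Matrix (Fin 2 ⊕ Fin 2) (Fin 2 ⊕ Fin 2) F)
    (cols : Fin 2 ⊕ Fin 2 → (Fin 2 ⊕ Fin 2 → F)) :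
    A * colMat cols = colMat fun c => A *ᵥ cols c := by
  ext r c
  rw [Matrix.mul_apply]
  rfl

/-- conjugation from an intertwining relation -/
theorem conj_of_intertwine {t z : ↥(Matrix.symplecticGroup (Fin 2) F)}
    {P : Matrix (Fin 2 ⊕ Fin 2) (Fin 2 ⊕ Fin 2) F} (hP : P ∈ Matrix.symplecticGroup (Fin 2) F)
    (h : (t : Matrix (Fin 2 ⊕ Fin 2) (Fin 2 ⊕ Fin 2) F) * P =
      P * (z : Matrix (Fin 2 ⊕ Fin 2) (Fin 2 ⊕ Fin 2) F)) :
    ∃ g : ↥(Matrix.symplecticGroup (Fin 2) F), g * t * g⁻¹ = z := by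
  refine ⟨(⟨P, hP⟩ : ↥(Matrix.symplecticGroup (Fin 2) F))⁻¹, ?_⟩
  have h' : t * (⟨P, hP⟩ : ↥(Matrix.symplecticGroup (Fin 2) F)) = ⟨P, hP⟩ * z := Subtype.ext h
  rw [inv_inv, mul_assoc, h', ← mul_assoc, inv_mul_cancel, one_mul]

end Cfsg.Agent.Helper12.Psp4
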