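import Mathlib
import Cfsg.Agent.Lib.Helper88.Psp4Defs
import Cfsg.Agent.Lib.Helper12.Psp4Lin

/-!
# PSP4F (INV): all noncentral involutions of `Sp4` are conjugate (helper12, for helper88's server, S5320)
-/

set_option autoImplicit false

namespace Cfsg.Agent.Helper12.Psp4

open Matrix Cfsg Cfsg.Agent.Helper88.Psp4

variable {F : Type*} [Field F]

local notation "SL2" => Matrix.SpecialLinearGroup (Fin 2) F
set_option quotPrecheck false in
local notation "Sp4" => ↥(Matrix.symplecticGroup (Fin 2) F)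

/-- a symplectic involution `≠ 1` has a hyperbolic pair in its `(-1)`-eigenspace -/
theorem hyp_pair_of_invol (h2 : (2 : F) ≠ 0) {T : Matrix (Fin 2 ⊕ Fin 2) (Fin 2 ⊕ Fin 2) F}
    (hT : T ∈ Matrix.symplecticGroup (Fin 2) F) (hTT : T * T = 1) (hT1 : T ≠ 1) :
    ∃ e f : Fin 2 ⊕ Fin 2 → F, T *ᵥ e = -e ∧ T *ᵥ f = -f ∧ B e f = -1 := by
  have hTTv : ∀ v, T *ᵥ (T *ᵥ v) = v := fun v => by rw [mulVec_mulVec, hTT, one_mulVec]
  obtain ⟨v, hv⟩ : ∃ v, T *ᵥ v ≠ v := by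
    by_contra hcon
    push Not at hcon
    exact hT1 (ext_iff_mulVec.2 fun v => by rw [hcon v, one_mulVec])
  set e := v - T *ᵥ v with he
  have he0 : e ≠ 0 := fun h => hv (sub_eq_zero.1 h).symm
  have hTe : T *ᵥ e = -e := by rw [he, mulVec_sub, hTTv, neg_sub]
  obtain ⟨x, hx⟩ := B_nondeg he0
  set x' := x - T *ᵥ x with hx'
  have hTx' : T *ᵥ x' = -x' := by rw [hx', mulVec_sub, hTTv, neg_sub]
  have hBx' : B e x' = 2 * B e x := by
    have h1 : B e (T *ᵥ x) = -B e x := by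
      rw [← B_mulVec hT e (T *ᵥ x), hTTv, hTe, B_neg_left]
    rw [hx', B_sub_right, h1]; ring
  have hne : B e x' ≠ 0 := by rw [hBx']; exact mul_ne_zero h2 hx
  refine ⟨e, (-1 / B e x') • x', hTe, ?_, ?_⟩
  · rw [mulVec_smul, hTx', smul_neg]
  · rw [B_smul_right]; field_simp

/-- eigenvectors for `-1` and `1` of a symplectic matrix are orthogonal -/
theorem B_eq_zero_of_eigen (h2 : (2 : F) ≠ 0) {T : Matrix (Fin 2 ⊕ Fin 2) (Fin 2 ⊕ Fin 2) F}
    (hT : T ∈ Matrix.symplecticGroup (Fin 2) F) {u v : Fin 2 ⊕ Fin 2 → F}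
    (hu : T *ᵥ u = -u) (hv : T *ᵥ v = v) : B u v = 0 := by
  have h := B_mulVec hT u v
  rw [hu, hv, B_neg_left] at h
  have h' : 2 * B u v = 0 := by linear_combination -h
  exact (mul_eq_zero.1 h').resolve_left h2

theorem inv_conj (h2 : (2 : F) ≠ 0) (t : Sp4) (ht : t * t = 1) (ht1 : t ≠ 1) (ht2 : t ≠ nI) :
    ∃ g : Sp4, g * t * g⁻¹ = z1 := by
  have hT := t.2
  have hTT : (t : Matrix (Fin 2 ⊕ Fin 2) (Fin 2 ⊕ Fin 2) F) * t = 1 := by
    have := congrArg Subtype.val ht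
    simpa using this
  have hT1 : (t : Matrix (Fin 2 ⊕ Fin 2) (Fin 2 ⊕ Fin 2) F) ≠ 1 := fun h => ht1 (Subtype.ext h)
  have hT2 : -(t : Matrix (Fin 2 ⊕ Fin 2) (Fin 2 ⊕ Fin 2) F) ≠ 1 := fun h =>
    ht2 (Subtype.ext (by rw [nI_val, ← h, neg_neg]))
  obtain ⟨e0, f0, he0, hf0, hef0⟩ := hyp_pair_of_invol h2 hT hTT hT1
  obtain ⟨e1, f1, he1, hf1, hef1⟩ := hyp_pair_of_invol h2 (SymplecticGroup.neg_mem hT)
    (by rw [neg_mul_neg, hTT]) hT2
  rw [neg_mulVec, neg_inj] at he1 hf1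
  have hP := colMat_mem (gram_of_six (B_eq_zero_of_eigen h2 hT he0 he1)
    (B_eq_zero_of_eigen h2 hT hf0 hf1) hef0 hef1 (B_eq_zero_of_eigen h2 hT he0 hf1)
    (by rw [B_skew, B_eq_zero_of_eigen h2 hT hf0 he1, neg_zero]))
  refine conj_of_intertwine hP ?_
  rw [mul_colMat]
  ext r c
  rw [Matrix.mul_apply, Fintype.sum_sum_type, Fin.sum_univ_two, Fin.sum_univ_two]
  rcases c with c | c <;> fin_cases c <;>
    simp [colMat, z1, embM, he0, he1, hf0, hf1]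

end Cfsg.Agent.Helper12.Psp4
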