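import Mathlib
import Cfsg.Agent.Lib.Helper88.Psp4Defs
import Cfsg.Agent.Lib.Helper12.Psp4Lin

/-!
# PSP4F (SQ): all `t ∈ Sp4` with `t² = -1` are conjugate to `emb (i0, i0)` (helper12, for helper88's server, S5320)
-/

set_option autoImplicit false

namespace Cfsg.Agent.Helper12.Psp4

open Matrix Cfsg Cfsg.Agent.Helper88.Psp4

variable {F : Type*} [Field F]

local notation "SL2" => Matrix.SpecialLinearGroup (Fin 2) F
set_option quotPrecheck false in
local notation "Sp4" => ↥(Matrix.symplecticGroup (Fin 2) F)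

/-- every element of a finite field of odd characteristic is a sum of two squares -/
theorem exists_sq_add_sq [Finite F] (h2 : (2 : F) ≠ 0) (x : F) : ∃ a b : F, a * a + b * b = x := by
  have := Fintype.ofFinite F
  have hchar : ringChar F ≠ 2 := by
    intro h
    apply h2
    have h' := ringChar.Nat.cast_ringChar (R := F)
    rw [h] at h'
    exact_mod_cast h'
  have hodd := FiniteField.odd_card_of_char_ne_two hchar
  obtain ⟨a, b, hab⟩ := FiniteField.exists_root_sum_quadratic (R := F)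
    (f := Polynomial.X ^ 2) (g := Polynomial.X ^ 2 - Polynomial.C x)
    (Polynomial.degree_X_pow 2) (Polynomial.degree_X_pow_sub_C (by norm_num) x) hodd
  refine ⟨a, b, ?_⟩
  simp at hab
  linear_combination hab

section

variable {T : Matrix (Fin 2 ⊕ Fin 2) (Fin 2 ⊕ Fin 2) F}

theorem TT_mulVec (hTT : T * T = -1) (v : Fin 2 ⊕ Fin 2 → F) : T *ᵥ (T *ᵥ v) = -v := by
  rw [mulVec_mulVec, hTT, neg_mulVec, one_mulVec]

/-- `B u (T w)` is symmetric -/
theorem B_T_symm (hT : T ∈ Matrix.symplecticGroup (Fin 2) F) (hTT : T * T = -1)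
    (u w : Fin 2 ⊕ Fin 2 → F) : B w (T *ᵥ u) = B u (T *ᵥ w) := by
  rw [← B_mulVec hT w (T *ᵥ u), TT_mulVec hTT, B_neg_right, ← B_skew]

/-- in a `T`-invariant nondegenerate nonzero subspace there is `e` with `B e (T e) = 1` -/
theorem exists_unit_vec [Finite F] (h2 : (2 : F) ≠ 0) (hT : T ∈ Matrix.symplecticGroup (Fin 2) F)
    (hTT : T * T = -1) (S : Submodule F (Fin 2 ⊕ Fin 2 → F)) (hST : ∀ v ∈ S, T *ᵥ v ∈ S)
    (hnd : ∀ u ∈ S, u ≠ 0 → ∃ x ∈ S, B u x ≠ 0) (hS0 : ∃ u ∈ S, u ≠ 0) :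
    ∃ e ∈ S, B e (T *ᵥ e) = 1 := by
  -- first a vector with `B u (T u) ≠ 0`
  obtain ⟨u, huS, hu⟩ : ∃ u ∈ S, B u (T *ᵥ u) ≠ 0 := by
    by_contra hcon
    push Not at hcon
    have hpol : ∀ u ∈ S, ∀ w ∈ S, B u (T *ᵥ w) = 0 := by
      intro u hu w hw
      have h1 := hcon (u + w) (S.add_mem hu hw)
      rw [mulVec_add, B_add_left, B_add_right, B_add_right, hcon u hu, hcon w hw,
        B_T_symm hT hTT u w] at h1
      have h' : 2 * B u (T *ᵥ w) = 0 := by linear_combination h1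
      exact (mul_eq_zero.1 h').resolve_left h2
    obtain ⟨u, huS, hu0⟩ := hS0
    obtain ⟨x, hxS, hx⟩ := hnd u huS hu0
    apply hx
    have h1 := hpol u huS (-(T *ᵥ x)) (S.neg_mem (hST x hxS))
    rwa [mulVec_neg, TT_mulVec hTT, neg_neg] at h1
  obtain ⟨a, b, hab⟩ := exists_sq_add_sq h2 (1 / B u (T *ᵥ u))
  refine ⟨a • u + b • (T *ᵥ u), S.add_mem (S.smul_mem a huS) (S.smul_mem b (hST u huS)), ?_⟩
  rw [mulVec_add, mulVec_smul, mulVec_smul, TT_mulVec hTT]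
  simp only [B_add_left, B_add_right, B_smul_left, B_smul_right, B_neg_right, B_self]
  have h3 : B (T *ᵥ u) u = -B u (T *ᵥ u) := B_skew _ _
  rw [h3]
  field_simp at hab
  linear_combination hab

end

theorem sq_conj [Finite F] (h2 : (2 : F) ≠ 0) (t : Sp4) (ht : t * t = nI) :
    ∃ g : Sp4, g * t * g⁻¹ = emb (i0, i0) := by
  have hT := t.2
  have hTT : (t : Matrix (Fin 2 ⊕ Fin 2) (Fin 2 ⊕ Fin 2) F) * t = -1 := by
    have := congrArg Subtype.val ht
    simpa using this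
  -- first hyperbolic pair
  obtain ⟨e0, -, he0⟩ := exists_unit_vec h2 hT hTT ⊤ (fun _ _ => Submodule.mem_top)
    (fun u _ hu => by obtain ⟨x, hx⟩ := B_nondeg hu; exact ⟨x, Submodule.mem_top, hx⟩)
    (by
      refine ⟨Pi.single (Sum.inl 0) 1, Submodule.mem_top, fun h => ?_⟩
      have := congrFun h (Sum.inl 0)
      simp at this)
  set f0 := -((t : Matrix (Fin 2 ⊕ Fin 2) (Fin 2 ⊕ Fin 2) F) *ᵥ e0) with hf0
  have hTe0 : (t : Matrix (Fin 2 ⊕ Fin 2) (Fin 2 ⊕ Fin 2) F) *ᵥ e0 = -f0 := by rw [hf0, neg_neg]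
  have hTf0 : (t : Matrix (Fin 2 ⊕ Fin 2) (Fin 2 ⊕ Fin 2) F) *ᵥ f0 = e0 := by
    rw [hf0, mulVec_neg, TT_mulVec hTT, neg_neg]
  have hef0 : B e0 f0 = -1 := by rw [hf0, B_neg_right, he0]
  -- the orthogonal complement
  let φ : (Fin 2 ⊕ Fin 2 → F) →ₗ[F] (Fin 2 → F) :=
    { toFun := fun v => ![B v e0, B v f0]
      map_add' := fun v v' => by
        ext i; fin_cases i <;> simp [B_add_left]
      map_smul' := fun a v => by
        ext i; fin_cases i <;> simp [B_smul_left] }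
  have hφ : ∀ v, v ∈ LinearMap.ker φ ↔ B v e0 = 0 ∧ B v f0 = 0 := by
    intro v
    rw [LinearMap.mem_ker]
    constructor
    · intro h
      exact ⟨by simpa [φ] using congrFun h 0, by simpa [φ] using congrFun h 1⟩
    · rintro ⟨h1, h2⟩
      ext i; fin_cases i <;> simp [φ, h1, h2]
  have hW0 : ∃ u ∈ LinearMap.ker φ, u ≠ 0 := by
    have hne : LinearMap.ker φ ≠ ⊥ := LinearMap.ker_ne_bot_of_finrank_lt (by
      rw [Module.finrank_fintype_fun_eq_card, Module.finrank_fintype_fun_eq_card]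
      simp)
    obtain ⟨u, hu, hu0⟩ := (Submodule.ne_bot_iff _).1 hne
    exact ⟨u, hu, hu0⟩
  have hWT : ∀ v ∈ LinearMap.ker φ,
      (t : Matrix (Fin 2 ⊕ Fin 2) (Fin 2 ⊕ Fin 2) F) *ᵥ v ∈ LinearMap.ker φ := by
    intro v hv
    rw [hφ] at hv ⊢
    constructor
    · rw [← hTf0, B_mulVec hT]; exact hv.2
    · have : f0 = (t : Matrix (Fin 2 ⊕ Fin 2) (Fin 2 ⊕ Fin 2) F) *ᵥ (-e0) := by
        rw [mulVec_neg, hTe0, neg_neg]
      rw [this, B_mulVec hT, B_neg_right, hv.1, neg_zero]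
  have hWnd : ∀ u ∈ LinearMap.ker φ, u ≠ 0 → ∃ x ∈ LinearMap.ker φ, B u x ≠ 0 := by
    intro u hu hu0
    obtain ⟨x, hx⟩ := B_nondeg hu0
    rw [hφ] at hu
    have hfe : B f0 e0 = 1 := by rw [B_skew, hef0, neg_neg]
    refine ⟨x + B x f0 • e0 - B x e0 • f0, ?_, ?_⟩
    · rw [hφ]
      constructor
      · rw [B_sub_left, B_add_left, B_smul_left, B_smul_left, B_self, hfe]; ring
      · rw [B_sub_left, B_add_left, B_smul_left, B_smul_left, B_self, hef0]; ring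
    · rw [B_sub_right, B_add_right, B_smul_right, B_smul_right, hu.1, hu.2]
      simpa using hx
  obtain ⟨e1, he1W, he1⟩ := exists_unit_vec h2 hT hTT (LinearMap.ker φ) hWT hWnd hW0
  set f1 := -((t : Matrix (Fin 2 ⊕ Fin 2) (Fin 2 ⊕ Fin 2) F) *ᵥ e1) with hf1
  have hTe1 : (t : Matrix (Fin 2 ⊕ Fin 2) (Fin 2 ⊕ Fin 2) F) *ᵥ e1 = -f1 := by rw [hf1, neg_neg]
  have hTf1 : (t : Matrix (Fin 2 ⊕ Fin 2) (Fin 2 ⊕ Fin 2) F) *ᵥ f1 = e1 := by
    rw [hf1, mulVec_neg, TT_mulVec hTT, neg_neg]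
  have hef1 : B e1 f1 = -1 := by rw [hf1, B_neg_right, he1]
  have hf1W : f1 ∈ LinearMap.ker φ := (LinearMap.ker φ).neg_mem (hWT e1 he1W)
  rw [hφ] at he1W hf1W
  have hP := colMat_mem (gram_of_six (e0 := e0) (e1 := e1) (f0 := f0) (f1 := f1)
    (by rw [B_skew, he1W.1, neg_zero]) (by rw [B_skew, hf1W.2, neg_zero]) hef0 hef1
    (by rw [B_skew, hf1W.1, neg_zero]) he1W.2)
  refine conj_of_intertwine hP ?_
  rw [mul_colMat]
  ext r c
  rw [Matrix.mul_apply, Fintype.sum_sum_type, Fin.sum_univ_two, Fin.sum_univ_two]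
  rcases c with c | c <;> fin_cases c <;>
    simp [colMat, embM, rot, hTe0, hTe1, hTf0, hTf1]

end Cfsg.Agent.Helper12.Psp4
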