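import Mathlib
import Cfsg.Prelude.Def_Characters
import Cfsg.Prelude.Def_Blocks
import Cfsg.Agent.Lib.Helper80.RMKDefs
import Cfsg.Agent.Lib.Helper80.RMKBasic
import Cfsg.Agent.Lib.Helper81.CharCore

set_option autoImplicit false
set_option linter.style.haveILetI false

namespace Cfsg.Agent.Helper12.RMK

open Cfsg Cfsg.Agent.Helper80 Cfsg.Agent.Helper80.RMK
open scoped ComplexConjugate

universe u

theorem irr_finite' {A : Type u} [Group A] [Finite A] : Finite (IrrCharacter A) := by
  haveI := Fintype.ofFinite A
  exact Cfsg.Agent.Helper81.irr_finite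

/-- (CNTEQ) the two counts agree iff every irreducible character of odd degree is real -/
theorem cnt_eq_iff {A : Type u} [Group A] [Finite A] :
    cnt true A = cnt false A ↔
      ∀ χ : IrrCharacter A, Odd (charDegree (χ : A → ℂ)) → ∀ a : A, ((χ : A → ℂ) a).im = 0 := by
  haveI : Finite (IrrCharacter A) := irr_finite'
  have hsub : {χ : IrrCharacter A | Good true χ} ⊆ {χ : IrrCharacter A | Good false χ} := by
    intro χ hχ
    exact ⟨fun h => by simp at h, hχ.2⟩
  have hct : cnt true A = Set.ncard {χ : IrrCharacter A | Good true χ} := by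
    unfold cnt
    rw [← Nat.card_coe_set_eq]; rfl
  have hcf : cnt false A = Set.ncard {χ : IrrCharacter A | Good false χ} := by
    unfold cnt
    rw [← Nat.card_coe_set_eq]; rfl
  constructor
  · intro h χ hodd
    have heq : {χ : IrrCharacter A | Good true χ} = {χ : IrrCharacter A | Good false χ} :=
      Set.eq_of_subset_of_ncard_le hsub (by rw [← hct, ← hcf, h]) (Set.toFinite _)
    have hmem : χ ∈ {χ : IrrCharacter A | Good false χ} := ⟨fun h => by simp at h, hodd⟩
    rw [← heq] at hmem
    exact hmem.1 rfl
  · intro h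
    have heq : {χ : IrrCharacter A | Good true χ} = {χ : IrrCharacter A | Good false χ} := by
      apply Set.Subset.antisymm hsub
      intro χ hχ
      exact ⟨fun _ => h χ hχ.2, hχ.2⟩
    rw [hct, hcf, heq]

end Cfsg.Agent.Helper12.RMK
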