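import Mathlib
import Cfsg.Prelude.Def_Characters
import Cfsg.Prelude.Def_Blocks
import Cfsg.Agent.Lib.Helper80.RMKDefs
import Cfsg.Agent.Lib.Helper80.RMKBasic
import Cfsg.Agent.Lib.Helper81.CharCore

set_option autoImplicit false
set_option linter.style.haveILetI false

namespace Cfsg.Agent.Helper12.RMK

open Cfsg Cfsg.Agent.Helper80 Cfsg.Agent.Helper80.RMK
open scoped ComplexConjugate

universe u

/-- (REAL2) the irreducible characters of a group of exponent two are real-valued -/
theorem real_of_exponent_two {G : Type u} [Group G] [Finite G] (M : Subgroup G)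
    (hsq : ∀ m ∈ M, m * m = 1) (θ : IrrCharacter ↥M) (m : ↥M) :
    ((θ : ↥M → ℂ) m).im = 0 := by
  obtain ⟨n, ρ, _, hρ⟩ := θ.2
  have hinv : m⁻¹ = m := by
    apply inv_eq_of_mul_eq_one_left
    apply Subtype.ext
    exact hsq m m.2
  have h1 := Cfsg.Agent.Helper81.char_inv ρ m
  rw [hinv, hρ] at h1
  exact Complex.conj_eq_iff_im.mp h1.symm

end Cfsg.Agent.Helper12.RMK
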