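import Mathlib
import Cfsg.Prelude.Def_Characters
import Cfsg.Prelude.Def_Blocks
import Cfsg.Agent.Lib.Helper80.RMKDefs
import Cfsg.Agent.Lib.Helper80.RMKBasic
import Cfsg.Agent.Lib.Helper12.RMKCNTEQ
import Cfsg.Agent.Lib.Helper79.Integrality
import Cfsg.Agent.Lib.Helper74.LinChar
import Cfsg.Agent.Lib.Helper51.RuSylFrat
import Cfsg.Agent.Lib.Helper47.Frat

set_option autoImplicit false
set_option linter.style.haveILetI false

namespace Cfsg.Agent.Helper12.RMK

open Cfsg Cfsg.Agent.Helper80 Cfsg.Agent.Helper80.RMK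
open scoped ComplexConjugate

universe u

/-- a real complex number of finite multiplicative order squares to one -/
theorem sq_eq_one_of_real_of_pow {z : ℂ} (him : z.im = 0) {n : ℕ} (hn : n ≠ 0) (hz : z ^ n = 1) :
    z * z = 1 := by
  have hnorm : ‖z‖ = 1 := Complex.norm_eq_one_of_pow_eq_one hz hn
  have hz' : z = (z.re : ℂ) := by
    apply Complex.ext <;> simp [him]
  have habs : |z.re| = 1 := by
    rw [hz', Complex.norm_real, Real.norm_eq_abs] at hnorm
    exact hnorm
  have hsq : z.re * z.re = 1 := by
    rcases abs_eq (by norm_num : (0:ℝ) ≤ 1) |>.mp habs with h | h <;> rw [h] <;> norm_num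
  rw [hz']
  exact_mod_cast hsq

/-- group theory: for a finite `2`-group, `Q' = Φ(Q)` iff all squares lie in `Q'` -/
theorem commutator_eq_frattini_iff {Q : Type u} [Group Q] [Finite Q] (hQ : IsPGroup 2 Q) :
    commutator Q = frattini Q ↔ ∀ g : Q, g * g ∈ commutator Q := by
  have hle : commutator Q ≤ frattini Q := by
    rw [commutator_eq_closure, Subgroup.closure_le]
    rintro _ ⟨a, b, rfl⟩
    rw [commutatorElement_def]
    exact Cfsg.Agent.Helper51.RuSyl.comm_mem_frattini hQ a b
  constructor
  · intro h g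
    rw [h]
    exact Cfsg.Agent.Helper51.RuSyl.sq_mem_frattini hQ g
  · intro h
    apply le_antisymm hle
    haveI : Fact (Nat.Prime 2) := ⟨Nat.prime_two⟩
    have h1 := Cfsg.Agent.Helper47.frattini_le_ker_of_elementary (p := 2)
      (Abelianization.of : Q →* Abelianization Q) (fun x y => mul_comm _ _) (by
        intro x
        rw [pow_two, ← map_mul]
        have : x * x ∈ (Abelianization.of : Q →* Abelianization Q).ker := by
          rw [Abelianization.ker_of]; exact h x
        exact this)
    rwa [Abelianization.ker_of] at h1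

/-- (TG) for a `2`-group: all irreducible characters of odd degree (= all linear characters) are
real iff the derived subgroup is the Frattini subgroup -/
theorem two_group_iff {Q : Type u} [Group Q] [Finite Q] (hQ : IsPGroup 2 Q) :
    cnt true Q = cnt false Q ↔ commutator Q = frattini Q := by
  rw [cnt_eq_iff, commutator_eq_frattini_iff hQ]
  constructor
  · -- all odd-degree characters real ⟹ squares in Q'
    intro h g
    by_contra hg
    have hne : (Abelianization.of (g * g) : Abelianization Q) ≠ 1 := by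
      intro h1
      apply hg
      have : g * g ∈ (Abelianization.of : Q →* Abelianization Q).ker := h1
      rwa [Abelianization.ker_of] at this
    haveI : NeZero (Monoid.exponent (Abelianization Q)) :=
      ⟨Monoid.exponent_ne_zero_of_finite⟩
    haveI : NeZero ((Monoid.exponent (Abelianization Q) : ℕ) : ℂ) := NeZero.charZero
    obtain ⟨ψ, hψ⟩ := CommGroup.exists_apply_ne_one_of_hasEnoughRootsOfUnity
      (Abelianization Q) ℂ hne
    set lam : Q →* ℂˣ := ψ.comp Abelianization.of with hlam
    set χ : IrrCharacter Q := Cfsg.Agent.Helper74.Lin.ofHom lam with hχ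
    have hχ1 : (χ : Q → ℂ) 1 = 1 := Cfsg.Agent.Helper74.Lin.ofHom_one_eq lam
    have hdeg : charDegree (χ : Q → ℂ) = 1 := by
      unfold charDegree
      rw [hχ1]
      simp
    have hreal := h χ (by rw [hdeg]; exact odd_one) g
    have hval : (χ : Q → ℂ) g = ((lam g : ℂˣ) : ℂ) := rfl
    rw [hval] at hreal
    have hpow : ((lam g : ℂˣ) : ℂ) ^ (orderOf g) = 1 := by
      rw [← Units.val_pow_eq_pow_val, ← map_pow, pow_orderOf_eq_one, map_one, Units.val_one]
    have hsq := sq_eq_one_of_real_of_pow hreal (orderOf_pos g).ne' hpow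
    apply hψ
    have : lam (g * g) = 1 := by
      apply Units.ext
      rw [map_mul, Units.val_mul, hsq, Units.val_one]
    exact this
  · -- squares in Q' ⟹ all odd-degree characters real
    intro h χ hodd a
    have hdvd := Cfsg.Agent.Helper79.irr_degree_dvd_card χ
    obtain ⟨k, hk⟩ := IsPGroup.iff_card.mp hQ
    rw [hk] at hdvd
    obtain ⟨j, _, hj⟩ := (Nat.dvd_prime_pow Nat.prime_two).mp hdvd
    have hdeg : charDegree (χ : Q → ℂ) = 1 := by
      rcases Nat.eq_zero_or_pos j with h0 | h0
      · rw [hj, h0, pow_zero]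
      · exfalso
        rw [hj] at hodd
        have : Even (2 ^ j) := (Nat.even_pow' h0.ne').mpr even_two
        exact (Nat.not_even_iff_odd.mpr hodd) this
    have hχ1 : (χ : Q → ℂ) 1 = 1 := by
      rw [(Cfsg.Agent.Helper79.irr_one_eq χ).1, hdeg]; simp
    set lam := Cfsg.Agent.Helper74.Lin.toHom χ hχ1 with hlam
    have hval : (χ : Q → ℂ) a = ((lam a : ℂˣ) : ℂ) := rfl
    have hker : a * a ∈ lam.ker := Abelianization.commutator_subset_ker lam (h a)
    have hsq : ((lam a : ℂˣ) : ℂ) * ((lam a : ℂˣ) : ℂ) = 1 := by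
      rw [← Units.val_mul, ← map_mul, MonoidHom.mem_ker.mp hker, Units.val_one]
    rw [hval]
    have h2 : ((lam a : ℂˣ) : ℂ) = 1 ∨ ((lam a : ℂˣ) : ℂ) = -1 := mul_self_eq_one_iff.mp hsq
    rcases h2 with h2 | h2 <;> rw [h2] <;> simp

end Cfsg.Agent.Helper12.RMK
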