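import Mathlib

/-!
# RPD3 (CEN3): a Sylow-like `p`-subgroup centralized by `N` with `T N ⊴ G` is normal (helper12, for helper80's server, S4863)
-/

set_option autoImplicit false

namespace Cfsg.Agent.Helper12.RPD3

universe u

/-- a `p`-subgroup `T` with `M ⊴ G`, `T ≤ M ≤ N_G(T)`, `|M : T|` prime to `p`, is normal -/
theorem normal_of_le_normalizer3 {G : Type u} [Group G] [Finite G] (p : ℕ) [Fact p.Prime]
    (M T : Subgroup G) (hT : IsPGroup p ↥T) (hTi : ¬ p ∣ T.relIndex M) (hM : M.Normal)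
    (hTM : T ≤ M) (hMN : M ≤ Subgroup.normalizer (T : Set G)) : T.Normal := by
  refine ⟨fun x hx g => ?_⟩
  have hT' : IsPGroup p ↥(T.map (MulAut.conj g).toMonoidHom) := hT.map _
  have hle : T.map (MulAut.conj g).toMonoidHom ≤ M := by
    rintro y ⟨z, hz, rfl⟩
    exact hM.conj_mem z (hTM hz) g
  have hsup : IsPGroup p ↥(T.map (MulAut.conj g).toMonoidHom ⊔ T) :=
    hT'.to_sup_of_normal_right' hT (hle.trans hMN)
  have h1 := Subgroup.relIndex_mul_relIndex (H := T)
    (K := T.map (MulAut.conj g).toMonoidHom ⊔ T) (L := M) le_sup_right (sup_le hle hTM)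
  obtain ⟨n, hn⟩ : ∃ n : ℕ, T.relIndex (T.map (MulAut.conj g).toMonoidHom ⊔ T) = p ^ n :=
    hsup.index _
  have hn0 : n = 0 := by
    by_contra hne
    apply hTi
    rw [← h1, hn]
    exact Dvd.dvd.mul_right (dvd_pow_self p hne) _
  rw [hn0, pow_zero, Subgroup.relIndex_eq_one] at hn
  exact hn (le_sup_left (a := T.map (MulAut.conj g).toMonoidHom) ⟨x, hx, rfl⟩)

/-- (CEN3) as RPD (CEN) for a `p`-subgroup `T` with `|T N : T|` prime to `p` -/
theorem normal_of_commute3 {G : Type u} [Group G] [Finite G] (p : ℕ) [Fact p.Prime]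
    (N T : Subgroup G) (hT : IsPGroup p ↥T) (hTi : ¬ p ∣ T.relIndex (T ⊔ N))
    (hM : (T ⊔ N).Normal) (hc : ∀ n ∈ N, ∀ x ∈ T, n * x = x * n) : T.Normal := by
  refine normal_of_le_normalizer3 p _ T hT hTi hM le_sup_left (sup_le Subgroup.le_normalizer ?_)
  intro n hn
  rw [Subgroup.mem_normalizer_iff]
  intro h
  constructor
  · intro hh
    have : n * h * n⁻¹ = h := by rw [hc n hn h hh, mul_inv_cancel_right]
    rw [this]; exact hh
  · intro hh
    have h1 := hc n hn _ hh
    have : h = n * h * n⁻¹ := by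
      have h2 : n * (n * h * n⁻¹) = n * h := by rw [h1, inv_mul_cancel_right]
      exact (mul_left_cancel h2).symm
    rw [this]; exact hh

end Cfsg.Agent.Helper12.RPD3
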