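import Mathlib
import Cfsg.Agent.Lib.Helper12.RPD3CEN3

/-!
# RPD3 (FRAT3): the Frattini dichotomy for a Sylow-like `p`-subgroup (helper12, for helper80's server, S4863)
-/

set_option autoImplicit false

namespace Cfsg.Agent.Helper12.RPD3

universe u

/-- Frattini argument for a Sylow-like `p`-subgroup `T` of a normal subgroup `M` -/
theorem frattini3 {G : Type u} [Group G] [Finite G] (p : ℕ) [Fact p.Prime]
    (M T : Subgroup G) (hT : IsPGroup p ↥T) (hTi : ¬ p ∣ T.relIndex M) (hM : M.Normal)
    (hTM : T ≤ M) : Subgroup.normalizer (T : Set G) ⊔ M = ⊤ := by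
  have := hM
  have hT' : IsPGroup p ↥(T.subgroupOf M) := hT.comap_subtype
  have hTi' : ¬ p ∣ (T.subgroupOf M).index := hTi
  have h := Sylow.normalizer_sup_eq_top (hT'.toSylow hTi')
  have e : Subgroup.map M.subtype ((hT'.toSylow hTi' : Sylow p ↥M) : Subgroup ↥M) = T := by
    rw [IsPGroup.toSylow_coe, Subgroup.subgroupOf_map_subtype, inf_of_le_left hTM]
  rw [e] at h
  exact h

/-- (FRAT3) as RPD (FRAT) for a `p`-subgroup `T` with `|T N : T|` prime to `p` -/
theorem frattini_dichotomy3 {G : Type u} [Group G] [Finite G] (p : ℕ) [Fact p.Prime]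
    (N : Subgroup G) (hN : N.Normal) (hcomm : ∀ a ∈ N, ∀ b ∈ N, a * b = b * a)
    (hmin : ∀ M : Subgroup G, M.Normal → M ≤ N → M = ⊥ ∨ M = N)
    (T : Subgroup G) (hT : IsPGroup p ↥T) (hTi : ¬ p ∣ T.relIndex (T ⊔ N))
    (hM : (T ⊔ N).Normal) :
    T.Normal ∨ (N ⊓ Subgroup.normalizer (T : Set G) = ⊥ ∧
      N ⊔ Subgroup.normalizer (T : Set G) = ⊤) := by
  have hfr : Subgroup.normalizer (T : Set G) ⊔ (T ⊔ N) = ⊤ :=
    frattini3 p _ T hT hTi hM le_sup_left
  have htop : N ⊔ Subgroup.normalizer (T : Set G) = ⊤ := by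
    rw [← hfr, ← sup_assoc, sup_eq_left.2 (Subgroup.le_normalizer : T ≤ _), sup_comm]
  have hCn : (N ⊓ Subgroup.normalizer (T : Set G)).Normal := by
    rw [← Subgroup.normalizer_eq_top_iff, eq_top_iff, ← htop]
    refine sup_le ?_ ?_
    · intro n hn
      rw [Subgroup.mem_normalizer_iff]
      intro c
      have key : ∀ c ∈ N, n * c * n⁻¹ = c := fun c hc => by
        rw [hcomm n hn c hc, mul_inv_cancel_right]
      constructor
      · intro hc
        rw [key c hc.1]; exact hc
      · intro hc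
        have hcN : c ∈ N := by
          have := hN.conj_mem _ hc.1 n⁻¹
          simpa [mul_assoc] using this
        rw [key c hcN] at hc; exact hc
    · intro g hg
      rw [Subgroup.mem_normalizer_iff]
      intro c
      constructor
      · rintro ⟨hc1, hc2⟩
        exact ⟨hN.conj_mem c hc1 g, Subgroup.mul_mem _ (Subgroup.mul_mem _ hg hc2)
          (Subgroup.inv_mem _ hg)⟩
      · rintro ⟨hc1, hc2⟩
        refine ⟨?_, ?_⟩
        · have := hN.conj_mem _ hc1 g⁻¹
          simpa [mul_assoc] using this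
        · have := Subgroup.mul_mem _ (Subgroup.mul_mem _ (Subgroup.inv_mem _ hg) hc2) hg
          simpa [mul_assoc] using this
  rcases hmin _ hCn inf_le_left with h | h
  · exact Or.inr ⟨h, htop⟩
  · left
    have hNle : N ≤ Subgroup.normalizer (T : Set G) := inf_eq_left.1 h
    exact normal_of_le_normalizer3 p _ T hT hTi hM le_sup_left
      (sup_le Subgroup.le_normalizer hNle)

end Cfsg.Agent.Helper12.RPD3
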