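import Mathlib
import Cfsg.Agent.Lib.Helper41.RPD2GT2

/-!
# RPD3 (HOM): the homomorphism trick (helper12, for helper80's server, S4863)
-/

set_option autoImplicit false

namespace Cfsg.Agent.Helper12.RPD3

universe u

/-- (HOM) the homomorphism trick: `N ⊴ G` abelian of odd order prime to `p`, `N ≤ K ⊴ G` with `K`
generated by `2`-elements and centralizing `N`; `T` a `p`-subgroup with `T N ⊴ G`. Then `T`
centralizes `N`. -/
theorem commute_of_central {G : Type u} [Group G] [Finite G] (p : ℕ) [Fact p.Prime]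
    (N K T : Subgroup G) (hN : N.Normal) (hK : K.Normal)
    (hcomm : ∀ a ∈ N, ∀ b ∈ N, a * b = b * a) (hNp : ¬ p ∣ Nat.card ↥N)
    (hNodd : Odd (Nat.card ↥N)) (hNK : N ≤ K)
    (hK2 : Subgroup.closure {g : G | g ∈ K ∧ ∃ k : ℕ, orderOf g = 2 ^ k} = K)
    (hKN : ∀ k ∈ K, ∀ n ∈ N, k * n = n * k) (hT : IsPGroup p ↥T) (hM : (T ⊔ N).Normal) :
    ∀ n ∈ N, ∀ x ∈ T, n * x = x * n := by
  have hp : p.Prime := Fact.out
  -- `p`-power torsion of `N` is trivial
  have hN1 : ∀ n ∈ N, ∀ a : ℕ, n ^ (p ^ a) = 1 → n = 1 := by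
    intro n hn a ha
    have h1 : orderOf n ∣ p ^ a := orderOf_dvd_of_pow_eq_one ha
    have h2 : orderOf n ∣ Nat.card ↥N := Subgroup.orderOf_dvd_natCard N hn
    have h3 : Nat.Coprime (p ^ a) (Nat.card ↥N) :=
      Nat.Coprime.pow_left a ((Nat.Prime.coprime_iff_not_dvd hp).2 hNp)
    have h4 : orderOf n ∣ 1 := by
      rw [← Nat.Coprime.gcd_eq_one h3]; exact Nat.dvd_gcd h1 h2
    exact orderOf_eq_one_iff.1 (Nat.dvd_one.1 h4)
  -- elements of `T` have `p`-power order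
  have hTpow : ∀ t ∈ T, ∃ a : ℕ, t ^ (p ^ a) = 1 := by
    intro t ht
    obtain ⟨a, ha⟩ := hT ⟨t, ht⟩
    refine ⟨a, ?_⟩
    have := congrArg Subtype.val ha
    simpa using this
  set R : Subgroup G := K ⊓ T with hR
  -- Dedekind
  have hdec : ∀ c : G, c ∈ K → c ∈ T ⊔ N → ∃ t ∈ R, ∃ n ∈ N, c = t * n := by
    intro c hcK hcM
    have := hN
    rw [← SetLike.mem_coe, Subgroup.mul_normal T N] at hcM
    obtain ⟨t, ht, n, hn, rfl⟩ := Set.mem_mul.1 hcM
    refine ⟨t, ⟨?_, ht⟩, n, hn, rfl⟩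
    have : t = (t * n) * n⁻¹ := by group
    rw [this]; exact K.mul_mem hcK (K.inv_mem (hNK hn))
  -- `R` is normal
  have hRn : R.Normal := by
    refine ⟨fun r hr g => ?_⟩
    obtain ⟨t, htR, n, hn, hc⟩ := hdec (g * r * g⁻¹) (hK.conj_mem r hr.1 g)
      (hM.conj_mem r (le_sup_left (a := T) hr.2) g)
    obtain ⟨a, ha⟩ := hTpow r hr.2
    obtain ⟨b, hb⟩ := hTpow t htR.2
    have h1 : (g * r * g⁻¹) ^ (p ^ (a + b)) = 1 := by
      rw [conj_pow, pow_add, pow_mul, ha, one_pow, mul_one, mul_inv_cancel]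
    have h2 : t ^ (p ^ (a + b)) = 1 := by
      rw [pow_add, mul_comm, pow_mul, hb, one_pow]
    have hcomm' : Commute t n := hKN t htR.1 n hn
    rw [hc, hcomm'.mul_pow, h2, one_mul] at h1
    have hn1 := hN1 n hn (a + b) h1
    rw [hc, hn1, mul_one]
    exact htR
  -- 2-elements of `K` centralize `T` modulo `R`
  have hs_cent : ∀ s ∈ K, (∃ k : ℕ, orderOf s = 2 ^ k) → ∀ x ∈ T,
      (QuotientGroup.mk' R s) * (QuotientGroup.mk' R x) =
        (QuotientGroup.mk' R x) * (QuotientGroup.mk' R s) := by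
    rintro s hsK ⟨k, hk⟩ x hx
    have hdvd : orderOf (QuotientGroup.mk' R s) ∣ 2 ^ k := by
      rw [← hk]; exact orderOf_map_dvd (QuotientGroup.mk' R) s
    obtain ⟨j, -, hj⟩ := (Nat.dvd_prime_pow Nat.prime_two).1 hdvd
    refine Cfsg.Agent.Helper41.RPD2.centralize_of_quotient (QuotientGroup.mk' R s) j hj
      (T.map (QuotientGroup.mk' R)) (N.map (QuotientGroup.mk' R)) ?_ ?_ ?_
      (QuotientGroup.mk' R x) ⟨x, hx, rfl⟩
    · rintro _ ⟨y, hy, rfl⟩
      have hcK : s * y * s⁻¹ * y⁻¹ ∈ K := by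
        have h1 : y * s⁻¹ * y⁻¹ ∈ K := hK.conj_mem _ (K.inv_mem hsK) y
        have : s * y * s⁻¹ * y⁻¹ = s * (y * s⁻¹ * y⁻¹) := by group
        rw [this]; exact K.mul_mem hsK h1
      have hcM : s * y * s⁻¹ * y⁻¹ ∈ T ⊔ N := by
        have hyM : y ∈ T ⊔ N := le_sup_left (a := T) hy
        exact (T ⊔ N).mul_mem (hM.conj_mem y hyM s) ((T ⊔ N).inv_mem hyM)
      obtain ⟨t, htR, n, hn, hc⟩ := hdec _ hcK hcM
      refine ⟨n, hn, ?_⟩
      have e : (QuotientGroup.mk' R s) * (QuotientGroup.mk' R y) * (QuotientGroup.mk' R s)⁻¹ *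
          (QuotientGroup.mk' R y)⁻¹ = QuotientGroup.mk' R (s * y * s⁻¹ * y⁻¹) := by
        simp only [map_mul, map_inv]
      rw [e, hc, map_mul]
      have ht1 : QuotientGroup.mk' R t = 1 := (QuotientGroup.eq_one_iff t).2 htR
      rw [ht1, one_mul]
    · rintro _ ⟨n, hn, rfl⟩
      rw [← map_mul, ← map_mul, hKN s hsK n hn]
    · rintro _ ⟨n, hn, rfl⟩
      have h1 : orderOf (QuotientGroup.mk' R n) ∣ Nat.card ↥N :=
        (orderOf_map_dvd (QuotientGroup.mk' R) n).trans (Subgroup.orderOf_dvd_natCard N hn)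
      exact Odd.of_dvd_nat hNodd h1
  -- the subgroup of elements centralizing `T` modulo `R`
  have hKC : K ≤ (Subgroup.centralizer
      ((T.map (QuotientGroup.mk' R) : Subgroup (G ⧸ R)) : Set (G ⧸ R))).comap
      (QuotientGroup.mk' R) := by
    rw [← hK2, Subgroup.closure_le]
    rintro s ⟨hsK, hs2⟩
    rw [SetLike.mem_coe, Subgroup.mem_comap, Subgroup.mem_centralizer_iff]
    rintro _ ⟨x, hx, rfl⟩
    exact (hs_cent s hsK hs2 x hx).symm
  intro n hn x hx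
  have h1 := hKC (hNK hn)
  rw [Subgroup.mem_comap, Subgroup.mem_centralizer_iff] at h1
  have h2 := h1 (QuotientGroup.mk' R x) ⟨x, hx, rfl⟩
  rw [← map_mul, ← map_mul] at h2
  have h3 : (x * n)⁻¹ * (n * x) ∈ R := QuotientGroup.eq.1 h2
  -- this element lies in `N ⊓ T`
  have h4 : (x * n)⁻¹ * (n * x) ∈ N := by
    have h5 : x⁻¹ * n * x ∈ N := by
      have := hN.conj_mem n hn x⁻¹
      simpa using this
    have : (x * n)⁻¹ * (n * x) = n⁻¹ * (x⁻¹ * n * x) := by group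
    rw [this]; exact N.mul_mem (N.inv_mem hn) h5
  obtain ⟨a, ha⟩ := hTpow _ h3.2
  have h6 := hN1 _ h4 a ha
  have h7 : x * n = n * x := by
    have h8 : (x * n) * ((x * n)⁻¹ * (n * x)) = (x * n) * 1 := by rw [h6]
    rw [mul_inv_cancel_left, mul_one] at h8
    exact h8.symm
  exact h7.symm

end Cfsg.Agent.Helper12.RPD3
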