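import Mathlib

/-!
# RPD (CEN): a Sylow subgroup centralized by `N` with `P N ⊴ G` is normal (helper12, for helper80's server, S4861)
-/

set_option autoImplicit false

namespace Cfsg.Agent.Helper12.RPD

universe u

/-- a Sylow `p`-subgroup `P` with `M ⊴ G`, `P ≤ M ≤ N_G(P)` is normal -/
theorem sylow_normal_of_le_normalizer {G : Type u} [Group G] [Finite G] (p : ℕ) [Fact p.Prime]
    (M : Subgroup G) (P : Sylow p G) (hM : M.Normal) (hPM : (P : Subgroup G) ≤ M)
    (hMN : M ≤ Subgroup.normalizer ((P : Subgroup G) : Set G)) : (P : Subgroup G).Normal := by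
  refine ⟨fun x hx g => ?_⟩
  have hP' : IsPGroup p ((P : Subgroup G).map (MulAut.conj g).toMonoidHom) := P.2.map _
  have hle : (P : Subgroup G).map (MulAut.conj g).toMonoidHom ≤ M := by
    rintro y ⟨z, hz, rfl⟩
    exact hM.conj_mem z (hPM hz) g
  have h1 := hP'.inf_normalizer_sylow P
  have h3 : (P : Subgroup G).map (MulAut.conj g).toMonoidHom ≤ P := fun y hy =>
    (h1.le ⟨hy, hMN (hle hy)⟩).2
  exact h3 ⟨x, hx, rfl⟩

/-- (CEN) if `P N ⊴ G` and `N` centralizes `P` then `P ⊴ G` -/
theorem sylow_normal_of_commute {G : Type u} [Group G] [Finite G] (p : ℕ) [Fact p.Prime]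
    (N : Subgroup G) (P : Sylow p G) (hM : ((P : Subgroup G) ⊔ N).Normal)
    (hc : ∀ n ∈ N, ∀ x ∈ (P : Subgroup G), n * x = x * n) : (P : Subgroup G).Normal := by
  refine sylow_normal_of_le_normalizer p _ P hM le_sup_left (sup_le Subgroup.le_normalizer ?_)
  intro n hn
  rw [Subgroup.mem_normalizer_iff]
  intro h
  constructor
  · intro hh
    have : n * h * n⁻¹ = h := by rw [hc n hn h hh, mul_inv_cancel_right]
    rw [this]; exact hh
  · intro hh
    have h1 := hc n hn _ hh
    have : h = n * h * n⁻¹ := by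
      have h2 : n * (n * h * n⁻¹) = n * h := by rw [h1, inv_mul_cancel_right]
      exact (mul_left_cancel h2).symm
    rw [this]; exact hh

end Cfsg.Agent.Helper12.RPD
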