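import Mathlib
import Cfsg.Agent.Lib.Helper12.RPDCEN

/-!
# RPD (FRAT): the Frattini dichotomy (helper12, for helper80's server, S4861)
-/

set_option autoImplicit false

namespace Cfsg.Agent.Helper12.RPD

universe u

/-- (FRAT) Frattini: for an abelian minimal normal `N` with `P N ⊴ G`, either `P ⊴ G` or the
normalizer of `P` is a complement of `N` -/
theorem frattini_dichotomy {G : Type u} [Group G] [Finite G] (p : ℕ) [Fact p.Prime]
    (N : Subgroup G) (hN : N.Normal) (hcomm : ∀ a ∈ N, ∀ b ∈ N, a * b = b * a)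
    (hmin : ∀ M : Subgroup G, M.Normal → M ≤ N → M = ⊥ ∨ M = N)
    (P : Sylow p G) (hM : ((P : Subgroup G) ⊔ N).Normal) :
    (P : Subgroup G).Normal ∨
      (N ⊓ Subgroup.normalizer ((P : Subgroup G) : Set G) = ⊥ ∧
        N ⊔ Subgroup.normalizer ((P : Subgroup G) : Set G) = ⊤) := by
  -- Frattini
  have hfr : Subgroup.normalizer ((P : Subgroup G) : Set G) ⊔ ((P : Subgroup G) ⊔ N) = ⊤ := by
    have := hM
    exact Sylow.normalizer_sup_eq_top' P le_sup_left
  have htop : N ⊔ Subgroup.normalizer ((P : Subgroup G) : Set G) = ⊤ := by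
    rw [← hfr, ← sup_assoc, sup_eq_left.2 (Subgroup.le_normalizer : (P : Subgroup G) ≤ _),
      sup_comm]
  -- `C = N ⊓ N_G(P)` is normal
  have hCn : (N ⊓ Subgroup.normalizer ((P : Subgroup G) : Set G)).Normal := by
    rw [← Subgroup.normalizer_eq_top_iff, eq_top_iff, ← htop]
    refine sup_le ?_ ?_
    · intro n hn
      rw [Subgroup.mem_normalizer_iff]
      intro c
      have key : ∀ c ∈ N, n * c * n⁻¹ = c := fun c hc => by
        rw [hcomm n hn c hc, mul_inv_cancel_right]
      constructor
      · intro hc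
        rw [key c hc.1]; exact hc
      · intro hc
        have hcN : c ∈ N := by
          have := hN.conj_mem _ hc.1 n⁻¹
          simpa [mul_assoc] using this
        rw [key c hcN] at hc; exact hc
    · intro g hg
      rw [Subgroup.mem_normalizer_iff]
      intro c
      constructor
      · rintro ⟨hc1, hc2⟩
        exact ⟨hN.conj_mem c hc1 g, Subgroup.mul_mem _ (Subgroup.mul_mem _ hg hc2)
          (Subgroup.inv_mem _ hg)⟩
      · rintro ⟨hc1, hc2⟩
        refine ⟨?_, ?_⟩
        · have := hN.conj_mem _ hc1 g⁻¹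
          simpa [mul_assoc] using this
        · have := Subgroup.mul_mem _ (Subgroup.mul_mem _ (Subgroup.inv_mem _ hg) hc2) hg
          simpa [mul_assoc] using this
  rcases hmin _ hCn inf_le_left with h | h
  · exact Or.inr ⟨h, htop⟩
  · left
    have hNle : N ≤ Subgroup.normalizer ((P : Subgroup G) : Set G) := inf_eq_left.1 h
    exact sylow_normal_of_le_normalizer p _ P hM le_sup_left
      (sup_le Subgroup.le_normalizer hNle)

end Cfsg.Agent.Helper12.RPD
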