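import Mathlib
import Cfsg.Agent.Lib.Helper93.RU0

set_option autoImplicit false

namespace Cfsg.Agent.Helper12.RU

open Matrix Cfsg.Agent.Helper93.RU

variable {F : Type*} [Field F] {m : ℕ}

/-- `det (1 + N) = 1` -/
theorem h12_det_upper : (1 + Nmat m F).det = 1 := by
  rw [Matrix.det_of_isUpperTriangular]
  · apply Finset.prod_eq_one
    intro i _
    simp [Nmat, Matrix.add_apply]
  · intro i j hij
    have hij' : j.val < i.val := hij
    have h1 : i ≠ j := fun h => by rw [h] at hij'; exact lt_irrefl _ hij'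
    have h2 : ¬ (i.val + 1 = j.val) := by omega
    simp [Nmat, Matrix.add_apply, Matrix.one_apply_ne h1, h2]

/-- `det (1 + L_ε) = 1` -/
theorem h12_det_lower (ε : F) : (1 + Lmat (m := m) ε).det = 1 := by
  rw [Matrix.det_of_isLowerTriangular]
  · apply Finset.prod_eq_one
    intro i _
    simp [Lmat, Matrix.add_apply]
  · intro i j hij
    have hij' : i.val < j.val := hij
    have h1 : i ≠ j := fun h => by rw [h] at hij'; exact lt_irrefl _ hij'
    have h2 : ¬ (j.val + 1 = i.val) := by omega
    simp [Lmat, Matrix.add_apply, Matrix.one_apply_ne h1, h2]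

theorem h12_uEl_val : (uEl m F).1 = 1 + Nmat m F := by
  simp [uEl, h12_det_upper]

theorem h12_lEl_val (ε : F) : (lEl (m := m) ε).1 = 1 + Lmat ε := by
  simp [lEl, h12_det_lower]

/-- (B5) the upper Jordan block is conjugate in `SL` to a lower Jordan block. -/
theorem exists_conj_lower :
    ∃ ε : F, (ε = 1 ∨ ε = -1) ∧ ∃ h : SLm m F, h * uEl m F * h⁻¹ = lEl ε := by
  classical
  -- the antidiagonal permutation matrix
  set P : Matrix (Fin (m + 3)) (Fin (m + 3)) F :=
    (Equiv.toPEquiv (Fin.revPerm : Equiv.Perm (Fin (m + 3)))).toMatrix with hP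
  set σ : F := P.det with hσ
  have hσ1 : σ = 1 ∨ σ = -1 := by
    rw [hσ, hP, Matrix.det_permutation]
    rcases Int.units_eq_one_or (Equiv.Perm.sign (Fin.revPerm : Equiv.Perm (Fin (m + 3)))) with h | h
    · left; rw [h]; simp
    · right; rw [h]; simp
  have hσσ : σ * σ = 1 := by
    rcases hσ1 with h | h <;> rw [h] <;> ring
  set d : Fin (m + 3) → F := fun i => if i.val = 0 then σ else 1 with hd
  have hdetD : (Matrix.diagonal d).det = σ := by
    rw [Matrix.det_diagonal]
    rw [Finset.prod_eq_single (0 : Fin (m + 3))]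
    · simp [hd]
    · intro b _ hb
      have : ¬ (b.val = 0) := fun h => hb (Fin.ext h)
      simp only [hd]
      rw [if_neg this]
    · intro h; exact absurd (Finset.mem_univ _) h
  have hdet : (Matrix.diagonal d * P).det = 1 := by
    rw [Matrix.det_mul, hdetD, ← hσ, hσσ]
  let hh : SLm m F := ⟨Matrix.diagonal d * P, hdet⟩
  refine ⟨σ, hσ1, hh, ?_⟩
  have key : hh * uEl m F = lEl σ * hh := ?_
  · rw [key, mul_inv_cancel_right]
  apply Subtype.ext
  rw [Matrix.SpecialLinearGroup.coe_mul, Matrix.SpecialLinearGroup.coe_mul, h12_uEl_val,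
    h12_lEl_val]
  change Matrix.diagonal d * P * (1 + Nmat m F) = (1 + Lmat σ) * (Matrix.diagonal d * P)
  rw [Matrix.mul_assoc, ← Matrix.mul_assoc (1 + Lmat σ)]
  rw [hP, PEquiv.toMatrix_toPEquiv_mul, PEquiv.mul_toMatrix_toPEquiv]
  ext i j
  rw [Matrix.diagonal_mul, Matrix.submatrix_apply, Matrix.submatrix_apply, Matrix.mul_diagonal]
  simp only [id_eq, Fin.revPerm_symm, Fin.revPerm_apply, Matrix.add_apply, Matrix.one_apply, Nmat,
    Lmat, Matrix.of_apply, hd, Fin.val_rev, Fin.ext_iff]
  have hi := i.isLt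
  have hj := j.isLt
  by_cases h1 : m + 3 - (i.val + 1) = j.val
  · have h1' : i.val = m + 3 - (j.val + 1) := by omega
    have h2 : ¬ (m + 3 - (i.val + 1) + 1 = j.val) := by omega
    have h3 : ¬ (m + 3 - (j.val + 1) + 1 = i.val) := by omega
    rw [if_pos h1, if_neg h2, if_pos h1', if_neg h3]
    by_cases h4 : i.val = 0
    · have h5 : m + 3 - (j.val + 1) = 0 := by omega
      rw [if_pos h4, if_pos h5]; ring
    · have h5 : ¬ (m + 3 - (j.val + 1) = 0) := by omega
      rw [if_neg h4, if_neg h5]; ring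
  · have h1' : ¬ (i.val = m + 3 - (j.val + 1)) := by omega
    rw [if_neg h1, if_neg h1']
    by_cases h2 : m + 3 - (i.val + 1) + 1 = j.val
    · have h3 : m + 3 - (j.val + 1) + 1 = i.val := by omega
      have h4 : ¬ (i.val = 0) := by omega
      rw [if_pos h2, if_pos h3, if_neg h4]
      by_cases h5 : m + 3 - (j.val + 1) = 0
      · rw [if_pos h5]
        linear_combination (-1 : F) * hσσ
      · rw [if_neg h5]; ring
    · have h3 : ¬ (m + 3 - (j.val + 1) + 1 = i.val) := by omega
      rw [if_neg h2, if_neg h3]; ring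

end Cfsg.Agent.Helper12.RU
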