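import Mathlib
import Cfsg.Agent.Lib.Helper93.RU0
import Cfsg.Agent.Lib.Helper44.RUD2

/-!
# RU project (helper93 server, S2280): piece (D1) `W_add`
(uses helper44's transvection calculus `h44_*` and `W_smul` from `Helper44.RUD2`)
-/

set_option autoImplicit false

namespace Cfsg.Agent.Helper12.RU

open Matrix Cfsg.Agent.Helper93.RU

variable {F : Type*} [Field F] {m : ℕ}

/-- product of two transvections with the same functional -/
theorem h12_tvS_add_same (v w χ : Fin (m + 3) → F) (hv : χ ⬝ᵥ v = 0) (hw : χ ⬝ᵥ w = 0) :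
    tvS (v + w) χ = tvS v χ * tvS w χ := by
  have hvw : χ ⬝ᵥ (v + w) = 0 := by rw [dotProduct_add, hv, hw, add_zero]
  apply Subtype.ext
  rw [Matrix.SpecialLinearGroup.coe_mul, Cfsg.Agent.Helper44.RU.h44_tvS_val _ _ hvw,
    Cfsg.Agent.Helper44.RU.h44_tvS_val _ _ hv, Cfsg.Agent.Helper44.RU.h44_tvS_val _ _ hw]
  unfold tvM
  rw [Matrix.add_mul, Matrix.one_mul, Matrix.mul_add, Matrix.mul_one, vecMulVec_mul_vecMulVec, hw,
    zero_smul, Matrix.vecMulVec_zero, add_zero, Matrix.add_vecMulVec]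
  abel

/-- a functional vanishing on `v` and equal to `1` on `w ∉ span {v}` -/
theorem h12_exists_dual (v w : Fin (m + 3) → F) (hw : w ∉ Submodule.span F {v}) :
    ∃ φ₀ : Fin (m + 3) → F, φ₀ ⬝ᵥ v = 0 ∧ φ₀ ⬝ᵥ w = 1 := by
  obtain ⟨f, hfw, hfp⟩ := Submodule.exists_dual_map_eq_bot_of_notMem hw inferInstance
  have hfv : f v = 0 := by
    have h1 : f v ∈ (Submodule.span F {v}).map f :=
      Submodule.mem_map_of_mem (Submodule.mem_span_singleton_self v)
    rw [hfp] at h1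
    simpa using h1
  have key : ∀ x : Fin (m + 3) → F,
      (fun i => (f w)⁻¹ * f (fun j => if i = j then 1 else 0)) ⬝ᵥ x = (f w)⁻¹ * f x := by
    intro x
    unfold dotProduct
    rw [LinearMap.pi_apply_eq_sum_univ f x, Finset.mul_sum]
    apply Finset.sum_congr rfl
    intro i _
    simp only [smul_eq_mul]
    ring
  refine ⟨fun i => (f w)⁻¹ * f (fun j => if i = j then 1 else 0), ?_, ?_⟩
  · rw [key, hfv, mul_zero]
  · rw [key, inv_mul_cancel₀ hfw]

/-- (D1) -/
theorem W_add (H : Subgroup (SLm m F)) (v w : Fin (m + 3) → F) (hv : v ∈ Wset H) (hw : w ∈ Wset H) :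
    v + w ∈ Wset H := by
  intro χ hχ
  by_cases hcv : χ ⬝ᵥ v = 0
  · have hcw : χ ⬝ᵥ w = 0 := by rw [dotProduct_add, hcv, zero_add] at hχ; exact hχ
    rw [h12_tvS_add_same v w χ hcv hcw]
    exact H.mul_mem (hv χ hcv) (hw χ hcw)
  · by_cases hsp : w ∈ Submodule.span F {v}
    · obtain ⟨a, rfl⟩ := Submodule.mem_span_singleton.mp hsp
      have h1 : v + a • v = (1 + a) • v := by rw [add_smul, one_smul]
      rw [h1]
      exact Cfsg.Agent.Helper44.RU.W_smul H (1 + a) v hv χ (by rw [← h1]; exact hχ)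
    · obtain ⟨φ₀, h0v, h0w⟩ := h12_exists_dual v w hsp
      have hcw : χ ⬝ᵥ w = -(χ ⬝ᵥ v) := by
        rw [dotProduct_add] at hχ; linear_combination hχ
      have hψw : (χ + (χ ⬝ᵥ v) • φ₀) ⬝ᵥ w = 0 := by
        rw [add_dotProduct, smul_dotProduct, h0w, hcw, smul_eq_mul, mul_one, neg_add_cancel]
      have key : tvS v φ₀ * tvS w (χ + (χ ⬝ᵥ v) • φ₀) = tvS (v + w) χ * tvS v φ₀ := by
        apply Subtype.ext
        rw [Matrix.SpecialLinearGroup.coe_mul, Matrix.SpecialLinearGroup.coe_mul,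
          Cfsg.Agent.Helper44.RU.h44_tvS_val _ _ h0v, Cfsg.Agent.Helper44.RU.h44_tvS_val _ _ hψw,
          Cfsg.Agent.Helper44.RU.h44_tvS_val _ _ hχ]
        unfold tvM
        simp only [Matrix.add_mul, Matrix.mul_add, Matrix.one_mul, Matrix.mul_one,
          vecMulVec_mul_vecMulVec, h0w, one_smul, Matrix.vecMulVec_add, Matrix.add_vecMulVec]
        abel
      have h2 : tvS (v + w) χ = tvS v φ₀ * tvS w (χ + (χ ⬝ᵥ v) • φ₀) * (tvS v φ₀)⁻¹ := by
        rw [key, mul_inv_cancel_right]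
      rw [h2]
      exact H.mul_mem (H.mul_mem (hv φ₀ h0v) (hw _ hψw)) (H.inv_mem (hv φ₀ h0v))

end Cfsg.Agent.Helper12.RU
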