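import Mathlib
import Cfsg.Agent.Lib.Helper93.RU0
import Cfsg.Agent.Lib.Helper44.RUD2
import Cfsg.Agent.Lib.Helper79.RUB1
import Cfsg.Agent.Lib.Helper12.RUD1

/-!
# RU project (helper93 server, S2280): piece (D4) `all_mem_W`
(uses (B7) from `Helper79.RUB1`, (D2)/(D3) from `Helper44.RUD2`, (D1) from `Helper12.RUD1`)
-/

set_option autoImplicit false

namespace Cfsg.Agent.Helper12.RU

open Matrix Cfsg.Agent.Helper93.RU

variable {F : Type*} [Field F] {m : ℕ}

/-- (D4) -/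
theorem all_mem_W (H : Subgroup (SLm m F)) (ε : F) (hε : ε = 1 ∨ ε = -1) (hl : lEl ε ∈ H)
    (h0 : eV 0 ∈ Wset H) (k : Fin (m + 3)) : eV k ∈ Wset H := by
  have hε0 : ε ≠ 0 := by
    rcases hε with rfl | rfl
    · exact one_ne_zero
    · exact neg_ne_zero.mpr one_ne_zero
  have main : ∀ n : ℕ, ∀ hn : n < m + 3, (eV ⟨n, hn⟩ : Fin (m + 3) → F) ∈ Wset H := by
    intro n
    induction n with
    | zero =>
      intro hn
      exact h0
    | succ n ih =>
      intro hn
      have hn' : n < m + 3 := by omega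
      have hk := ih hn'
      have h1 := Cfsg.Agent.Helper44.RU.W_conj H (lEl ε) hl _ hk
      rw [Cfsg.Agent.Helper79.RU.lEl_mulVec ε ⟨n, hn'⟩ hn] at h1
      have h2 := W_add H _ _ h1 (Cfsg.Agent.Helper44.RU.W_smul H (-1) _ hk)
      have hc : (if (⟨n, hn'⟩ : Fin (m + 3)).val = 0 then ε else 1) ≠ 0 := by
        split_ifs
        · exact hε0
        · exact one_ne_zero
      have h3 := Cfsg.Agent.Helper44.RU.W_smul H
        (if (⟨n, hn'⟩ : Fin (m + 3)).val = 0 then ε else 1)⁻¹ _ h2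
      have h4 : (if (⟨n, hn'⟩ : Fin (m + 3)).val = 0 then ε else 1)⁻¹ •
          ((eV ⟨n, hn'⟩ + (if (⟨n, hn'⟩ : Fin (m + 3)).val = 0 then ε else 1) •
            eV ⟨(⟨n, hn'⟩ : Fin (m + 3)).val + 1, hn⟩) + (-1 : F) • eV ⟨n, hn'⟩)
          = (eV ⟨n + 1, hn⟩ : Fin (m + 3) → F) := by
        rw [neg_one_smul, add_comm (eV _) _, add_neg_cancel_right, smul_smul, inv_mul_cancel₀ hc,
          one_smul]
      rw [h4] at h3
      exact h3
  exact main k.val k.isLt

end Cfsg.Agent.Helper12.RU
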