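import Mathlib
import Cfsg.Agent.Lib.Helper93.RU0

/-!
# RW project (S2279): `SL_n(F)`, `n ≥ 4`, is generated by two conjugate regular unipotent elements
`u = 1 + N` and `g u g⁻¹`, `g = 1 + c E_{n-1,0}`.  Shared definitions (helper12), `n = m + 3`.

`P k = u^k e_{n-1}`, `Q j = e_0ᵀ u^{-j}` (`k j : ℤ`), Gram `Q i ⬝ P j = mm (j - i)`,
`mm d = (u^d)_{0,n-1} = C(d, n-1)`.  `Tk k j a = 1 + a P_k Q_jᵀ` (a transvection when `mm (k-j) = 0`),
`sig c i = Tk i i c * (Tk (i+1) (i+1) c)⁻¹`.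
-/

set_option autoImplicit false

namespace Cfsg.Agent.Helper12.RW

open Matrix Cfsg.Agent.Helper93.RU

variable (m : ℕ) (F : Type*) [Field F]

/-- the last index `n - 1` -/
def lastI : Fin (m + 3) := ⟨m + 2, by omega⟩

/-- `P k = u^k e_{n-1}` -/
noncomputable def Pv (k : ℤ) : Fin (m + 3) → F := ((uEl m F) ^ k).1 *ᵥ eV (lastI m)

/-- `Q j = e_0ᵀ u^{-j}` -/
noncomputable def Qv (j : ℤ) : Fin (m + 3) → F := eV 0 ᵥ* ((uEl m F) ^ (-j)).1

/-- the Gram function `mm d = (u^d)_{0,n-1}` -/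
noncomputable def mm (d : ℤ) : F := ((uEl m F) ^ d).1 0 (lastI m)

variable {m} {F}

/-- `g = 1 + c E_{n-1,0}` -/
noncomputable def gEl (c : F) : SLm m F := tvS (eV (lastI m)) (c • eV 0)

/-- `Tk k j a = 1 + a P_k Q_jᵀ` -/
noncomputable def Tk (k j : ℤ) (a : F) : SLm m F := tvS (Pv m F k) (a • Qv m F j)

/-- `sig c i = (1 + c P_i Q_iᵀ)(1 + c P_{i+1} Q_{i+1}ᵀ)⁻¹` -/
noncomputable def sig (c : F) (i : ℤ) : SLm m F := Tk i i c * (Tk (i + 1) (i + 1) c)⁻¹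

/-- the coefficient sets -/
def Lam (H : Subgroup (SLm m F)) (d : ℤ) : Set F :=
  {a | ∀ k j : ℤ, k - j = d → Tk k j a ∈ H}

end Cfsg.Agent.Helper12.RW
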