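import Mathlib
import Cfsg.Agent.Lib.Helper2.SR0

/-!
# RW project (S2279): the abstract field argument (helper12).
`L d` additive subgroups of a finite field, `c L d ⊆ L (d+1)`, `L d1 L d2 ⊆ L (d1+d2-(D+1))`, `c^3 ∈ L 2`
and a generator condition give `L d = ⊤` for all `d ≤ D`.
-/

set_option autoImplicit false

namespace Cfsg.Agent.Helper12.RW

open Cfsg.Agent.Helper2.SR

theorem h12_stable_div {F : Type*} [Field F] [Finite F] (S : AddSubgroup F) (f1 t : F)
    (hf : f1 ≠ 0) (h1 : ∀ x ∈ S, f1 * x ∈ S) (h2 : ∀ x ∈ S, f1 * t * x ∈ S) :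
    ∀ x ∈ S, t * x ∈ S := by
  intro x hx
  let φ : S → S := fun y => ⟨f1 * y.1, h1 y.1 y.2⟩
  have hinj : Function.Injective φ := by
    intro y z hyz
    have h := congrArg Subtype.val hyz
    exact Subtype.ext (mul_left_cancel₀ hf h)
  have hsurj := Finite.injective_iff_surjective.1 hinj
  obtain ⟨y, hy⟩ := hsurj ⟨x, hx⟩
  have hxy : f1 * y.1 = x := congrArg Subtype.val hy
  rw [← hxy]
  have h3 := h2 y.1 y.2
  have e : t * (f1 * y.1) = f1 * t * y.1 := by ring
  rw [e]; exact h3

theorem h12_lam_top {F : Type*} [Field F] [Finite F] (D : ℕ) (hD : 2 ≤ D) (L : ℕ → AddSubgroup F)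
    (c : F) (hc : c ≠ 0)
    (hs : ∀ d, d < D → ∀ a ∈ L d, c * a ∈ L (d + 1))
    (hcp : ∀ d1 d2, d1 ≤ D → d2 ≤ D → D + 1 ≤ d1 + d2 → ∀ a ∈ L d1, ∀ b ∈ L d2,
      a * b ∈ L (d1 + d2 - (D + 1)))
    (hst : c ^ 3 ∈ L 2)
    (hgen : IsGen (c ^ (D + 2)) ∨ ∃ s r, s + 1 ≤ D ∧ r ≠ 0 ∧ IsGen (r * c ^ s) ∧
      ∀ a ∈ L D, ∀ b ∈ L D, r * (a * b) ∈ L (D - 1 - s)) :
    ∀ d, d ≤ D → L d = ⊤ := by
  have hpow : ∀ d, 2 ≤ d → d ≤ D → c ^ (d + 1) ∈ L d := by
    intro d h2
    induction d, h2 using Nat.le_induction with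
    | base => intro _; exact hst
    | succ d h2 ih =>
      intro hd
      have h := hs d (by omega) _ (ih (by omega))
      rwa [← pow_succ'] at h
  have hD1 : c ^ (D + 1) ∈ L D := hpow D hD le_rfl
  have hstab1 : ∀ a ∈ L D, c ^ (D + 2) * a ∈ L D := by
    intro a ha
    have h1 := hcp D D le_rfl le_rfl (by omega) _ hD1 a ha
    have e : D + D - (D + 1) = D - 1 := by omega
    rw [e] at h1
    have h2 := hs (D - 1) (by omega) _ h1
    have e2 : D - 1 + 1 = D := by omega
    rw [e2] at h2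
    have e3 : c ^ (D + 2) * a = c * (c ^ (D + 1) * a) := by ring
    rw [e3]; exact h2
  have hne : ∃ a ∈ L D, a ≠ 0 := ⟨_, hD1, pow_ne_zero _ hc⟩
  have hLD : L D = ⊤ := by
    rcases hgen with hA | ⟨s, r, hsD, hr, hg, hrel⟩
    · exact hA (L D) hne hstab1
    · have hiter : ∀ i, i ≤ s + 1 → ∀ a ∈ L (D - 1 - s), c ^ i * a ∈ L (D - 1 - s + i) := by
        intro i
        induction i with
        | zero => intro _ a ha; simpa using ha
        | succ i ih =>
          intro hi a ha
          have h := hs _ (by omega) _ (ih (by omega) a ha)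
          rw [pow_succ', mul_assoc]; exact h
      have hstab2 : ∀ a ∈ L D, c ^ (D + 2) * (r * c ^ s) * a ∈ L D := by
        intro a ha
        have h1 := hrel _ hD1 a ha
        have h2 := hiter (s + 1) le_rfl _ h1
        have e : D - 1 - s + (s + 1) = D := by omega
        rw [e] at h2
        have e3 : c ^ (D + 2) * (r * c ^ s) * a = c ^ (s + 1) * (r * (c ^ (D + 1) * a)) := by ring
        rw [e3]; exact h2
      have hstab3 := h12_stable_div (L D) (c ^ (D + 2)) (r * c ^ s) (pow_ne_zero _ hc) hstab1 hstab2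
      exact hg (L D) hne hstab3
  have hdown : ∀ i, i ≤ D → L (D - i) = ⊤ := by
    intro i
    induction i with
    | zero => intro _; simpa using hLD
    | succ i ih =>
      intro hi
      have h1 := ih (by omega)
      rw [eq_top_iff]; intro a _
      have h := hcp D (D - i) le_rfl (by omega) (by omega) 1 (by rw [hLD]; trivial) a
        (by rw [h1]; trivial)
      have e : D + (D - i) - (D + 1) = D - (i + 1) := by omega
      rw [e, one_mul] at h; exact h
  intro d hd
  have h := hdown (D - d) (by omega)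
  rwa [show D - (D - d) = d by omega] at h

end Cfsg.Agent.Helper12.RW
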