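import Mathlib
import Cfsg.Agent.Lib.Helper93.RU0
import Cfsg.Agent.Lib.Helper82.RUA
import Cfsg.Agent.Lib.Helper12.RW0

/-!
# RW project (S2279): the generic rank-one calculus (R1-R4) (helper12)
-/

set_option autoImplicit false

namespace Cfsg.Agent.Helper12.RW

open Matrix Cfsg.Agent.Helper93.RU Cfsg.Agent.Helper82.RU Cfsg.Agent.Helper12.RW

variable {F : Type*} [Field F] {m : ℕ}

/-- (R1) action on column vectors -/
theorem tvS_mulVec (v φ x : Fin (m + 3) → F) (h : φ ⬝ᵥ v = 0) :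
    (tvS v φ).1 *ᵥ x = x + (φ ⬝ᵥ x) • v := by
  rw [tvS_val v φ h]
  unfold tvM
  rw [Matrix.add_mulVec, Matrix.one_mulVec, Matrix.vecMulVec_mulVec]
  congr 1
  ext i
  simp [mul_comm]

/-- (R2) action on row vectors -/
theorem tvS_vecMul (v φ y : Fin (m + 3) → F) (h : φ ⬝ᵥ v = 0) :
    y ᵥ* (tvS v φ).1 = y + (y ⬝ᵥ v) • φ := by
  rw [tvS_val v φ h]
  unfold tvM
  rw [Matrix.vecMul_add, Matrix.vecMul_one, Matrix.vecMul_vecMulVec]

/-- (R3) same axis: centres add -/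
theorem tvS_add_centre (v w φ : Fin (m + 3) → F) (hv : φ ⬝ᵥ v = 0) (hw : φ ⬝ᵥ w = 0) :
    tvS (v + w) φ = tvS v φ * tvS w φ := by
  have hvw : φ ⬝ᵥ (v + w) = 0 := by rw [dotProduct_add, hv, hw, add_zero]
  apply Subtype.ext
  rw [Matrix.SpecialLinearGroup.coe_mul, tvS_val _ _ hvw, tvS_val _ _ hv, tvS_val _ _ hw]
  unfold tvM
  rw [mul_add, add_mul, add_mul, one_mul, one_mul, mul_one, Matrix.vecMulVec_mul_vecMulVec, hw,
    zero_smul, Matrix.vecMulVec_zero, add_zero, Matrix.add_vecMulVec, add_assoc]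

/-- (R4) the commutator of two transvections -/
theorem tvS_comm (a α b β : Fin (m + 3) → F) (ha : α ⬝ᵥ a = 0) (hb : β ⬝ᵥ b = 0)
    (hab : α ⬝ᵥ b = 0) :
    tvS a α * tvS b β * (tvS a α)⁻¹ * (tvS b β)⁻¹ = tvS b ((-(β ⬝ᵥ a)) • α) := by
  -- conjugate `tvS b β` by `g = tvS a α`
  have hc := tvS_conj (tvS a α) b β hb
  rw [hc.2]
  -- g b = b, β g⁻¹ = β - (β ⬝ a) α
  have e1 : (tvS a α).1 *ᵥ b = b := by
    rw [tvS_mulVec a α b ha, hab, zero_smul, add_zero]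
  have hna : (-α) ⬝ᵥ a = 0 := by rw [neg_dotProduct, ha, neg_zero]
  have e2 : β ᵥ* ((tvS a α)⁻¹).1 = β + (-(β ⬝ᵥ a)) • α := by
    rw [tvS_inv a α ha, tvS_vecMul a (-α) β hna, smul_neg, neg_smul]
  rw [e1, e2, tvS_inv b β hb]
  have h1 : (β + (-(β ⬝ᵥ a)) • α) ⬝ᵥ b = 0 := by
    rw [add_dotProduct, hb, smul_dotProduct, hab, smul_zero, add_zero]
  have h2 : (-β) ⬝ᵥ b = 0 := by rw [neg_dotProduct, hb, neg_zero]
  rw [tvS_mul b _ _ h1 h2]
  congr 1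
  abel

end Cfsg.Agent.Helper12.RW
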