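import Mathlib
import Cfsg.Agent.Lib.Helper93.RU0
import Cfsg.Agent.Lib.Helper82.RUA
import Cfsg.Agent.Lib.Helper12.RW0
import Cfsg.Agent.Lib.Helper12.RWKitA
import Cfsg.Agent.Lib.Helper76.RWG5

/-!
# RW project (S2279): shifts, `Tk` calculus, the elements `sig`, the moves SM and CM (helper12)
-/

set_option autoImplicit false

namespace Cfsg.Agent.Helper12.RW

open Matrix Cfsg.Agent.Helper93.RU Cfsg.Agent.Helper82.RU Cfsg.Agent.Helper12.RW
open Cfsg.Agent.Helper76.RW (mm_nat mm_neg_one)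

variable {F : Type*} [Field F] {m : ℕ}

theorem h12_gram (i j : ℤ) : Qv m F i ⬝ᵥ Pv m F j = mm m F (j - i) :=
  Cfsg.Agent.Helper76.RW.gram i j

theorem h12_mm_int (d : ℤ) (h0 : 0 ≤ d) (h1 : d ≤ m + 1) : mm m F d = 0 := by
  obtain ⟨n, rfl⟩ := Int.eq_ofNat_of_zero_le h0
  rw [mm_nat, Nat.choose_eq_zero_of_lt (by omega)]; simp

theorem h12_mm_zero : mm m F 0 = 0 := h12_mm_int 0 le_rfl (by positivity)

/-- the dot product condition of `Tk` -/
theorem h12_Tk_dot (k j : ℤ) (a : F) (h : mm m F (k - j) = 0) :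
    (a • Qv m F j) ⬝ᵥ Pv m F k = 0 := by
  rw [smul_dotProduct, h12_gram, h, smul_zero]

/-- (G6a) -/
theorem Pv_shift (i k : ℤ) : ((uEl m F) ^ i).1 *ᵥ Pv m F k = Pv m F (k + i) := by
  unfold Pv
  rw [Matrix.mulVec_mulVec, ← Matrix.SpecialLinearGroup.coe_mul, ← _root_.zpow_add, add_comm i k]

/-- (G6b) -/
theorem Qv_shift (i j : ℤ) : Qv m F j ᵥ* (((uEl m F) ^ i)⁻¹).1 = Qv m F (j + i) := by
  unfold Qv
  rw [Matrix.vecMul_vecMul, ← Matrix.SpecialLinearGroup.coe_mul, ← _root_.zpow_neg, ← _root_.zpow_add,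
    ← neg_add]

/-- (G6) -/
theorem Tk_conj (i k j : ℤ) (a : F) (h : mm m F (k - j) = 0) :
    (uEl m F) ^ i * Tk k j a * ((uEl m F) ^ i)⁻¹ = Tk (k + i) (j + i) a := by
  unfold Tk
  rw [(tvS_conj ((uEl m F) ^ i) (Pv m F k) (a • Qv m F j) (h12_Tk_dot k j a h)).2, Pv_shift,
    Matrix.smul_vecMul, Qv_shift]

/-- (G7) -/
theorem Pv_zero : Pv m F 0 = eV (lastI m) := by
  unfold Pv
  rw [zpow_zero, Matrix.SpecialLinearGroup.coe_one, Matrix.one_mulVec]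

/-- (G7') -/
theorem Qv_zero : Qv m F 0 = eV 0 := by
  unfold Qv
  rw [neg_zero, zpow_zero, Matrix.SpecialLinearGroup.coe_one, Matrix.vecMul_one]

/-- (G8) -/
theorem Tk_mul (k j : ℤ) (a b : F) (h : mm m F (k - j) = 0) :
    Tk k j a * Tk k j b = Tk (m := m) k j (a + b) := by
  unfold Tk
  rw [tvS_mul _ _ _ (h12_Tk_dot k j a h) (h12_Tk_dot k j b h), add_smul]

/-- (G8') -/
theorem Tk_inv (k j : ℤ) (a : F) (h : mm m F (k - j) = 0) :
    (Tk k j a)⁻¹ = Tk (m := m) k j (-a) := by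
  unfold Tk
  rw [tvS_inv _ _ (h12_Tk_dot k j a h), neg_smul]

/-- (G8'') -/
theorem Tk_zero (k j : ℤ) : Tk (m := m) (F := F) k j 0 = 1 := by
  unfold Tk
  rw [zero_smul, tvS_zero]

/-- (CM) -/
theorem cmove (k j k' j' : ℤ) (a b : F) (h1 : mm m F (k - j) = 0) (h2 : mm m F (k' - j') = 0)
    (h3 : mm m F (k' - j) = 0) :
    Tk (m := m) k j a * Tk k' j' b * (Tk k j a)⁻¹ * (Tk k' j' b)⁻¹
      = Tk k' j (-(a * b * mm m F (k - j'))) := by
  unfold Tk
  rw [tvS_comm (Pv m F k) (a • Qv m F j) (Pv m F k') (b • Qv m F j') (h12_Tk_dot k j a h1)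
    (h12_Tk_dot k' j' b h2) (h12_Tk_dot k' j a h3)]
  rw [smul_dotProduct, h12_gram, smul_smul, smul_eq_mul]
  congr 2
  ring

/-- `gEl c = Tk 0 0 c` -/
theorem h12_gEl_eq (c : F) : gEl (m := m) c = Tk 0 0 c := by
  unfold gEl Tk
  rw [Pv_zero, Qv_zero]

/-- (S0) -/
theorem sig_zero (c : F) :
    gEl c * uEl m F * (gEl c)⁻¹ * (uEl m F)⁻¹ = sig (m := m) c 0 := by
  unfold sig
  have h := Tk_conj (m := m) (F := F) 1 0 0 c (by rw [sub_self]; exact h12_mm_zero)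
  rw [zpow_one] at h
  rw [← h, h12_gEl_eq]
  group

/-- (S1) -/
theorem sig_conj (c : F) (i j : ℤ) :
    (uEl m F) ^ i * sig c j * ((uEl m F) ^ i)⁻¹ = sig (m := m) c (j + i) := by
  unfold sig
  have h1 := Tk_conj (m := m) (F := F) i j j c (by rw [sub_self]; exact h12_mm_zero)
  have h2 := Tk_conj (m := m) (F := F) i (j + 1) (j + 1) c (by rw [sub_self]; exact h12_mm_zero)
  rw [add_right_comm] at h2
  rw [← h1, ← h2]
  group

/-- (S2) -/
theorem sig_mulVec (hm : 1 ≤ m) (c : F) (k : ℤ) :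
    (sig (m := m) c k).1 *ᵥ Pv m F k = Pv m F k - (c * (-1) ^ m) • Pv m F (k + 1) := by
  have hm0 : mm m F (k + 1 - (k + 1)) = 0 := by rw [sub_self]; exact h12_mm_zero
  have hk0 : mm m F (k - k) = 0 := by rw [sub_self]; exact h12_mm_zero
  unfold sig
  rw [Tk_inv _ _ _ hm0, Matrix.SpecialLinearGroup.coe_mul, ← Matrix.mulVec_mulVec]
  have e1 : (Tk (m := m) (k + 1) (k + 1) (-c)).1 *ᵥ Pv m F k
      = Pv m F k + (-c * (-1) ^ m) • Pv m F (k + 1) := by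
    unfold Tk
    rw [tvS_mulVec _ _ _ (h12_Tk_dot (k + 1) (k + 1) (-c) hm0), smul_dotProduct, h12_gram,
      show k - (k + 1) = -1 by ring, mm_neg_one, smul_eq_mul]
  rw [e1, Matrix.mulVec_add, Matrix.mulVec_smul]
  have e2 : (Tk (m := m) k k c).1 *ᵥ Pv m F k = Pv m F k := by
    unfold Tk
    rw [tvS_mulVec _ _ _ (h12_Tk_dot k k c hk0), smul_dotProduct, h12_gram, hk0, smul_zero,
      zero_smul, add_zero]
  have e3 : (Tk (m := m) k k c).1 *ᵥ Pv m F (k + 1) = Pv m F (k + 1) := by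
    unfold Tk
    rw [tvS_mulVec _ _ _ (h12_Tk_dot k k c hk0), smul_dotProduct, h12_gram,
      show k + 1 - k = 1 by ring, h12_mm_int 1 (by norm_num) (by omega), smul_zero,
      zero_smul, add_zero]
  rw [e2, e3, sub_eq_add_neg, ← neg_smul, neg_mul]

/-- (S3) -/
theorem sig_vecMul (c : F) (k j : ℤ) (h0 : 0 ≤ k - j) (h1 : k - j ≤ m) :
    Qv m F j ᵥ* ((sig (m := m) c k)⁻¹).1 = Qv m F j := by
  have hm0 : mm m F (k + 1 - (k + 1)) = 0 := by rw [sub_self]; exact h12_mm_zero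
  have hk0 : mm m F (k - k) = 0 := by rw [sub_self]; exact h12_mm_zero
  unfold sig
  rw [_root_.mul_inv_rev, inv_inv, Tk_inv _ _ _ hk0, Matrix.SpecialLinearGroup.coe_mul,
    ← Matrix.vecMul_vecMul]
  have e1 : Qv m F j ᵥ* (Tk (m := m) (k + 1) (k + 1) c).1 = Qv m F j := by
    unfold Tk
    rw [tvS_vecMul _ _ _ (h12_Tk_dot (k + 1) (k + 1) c hm0), h12_gram,
      h12_mm_int (k + 1 - j) (by omega) (by omega), zero_smul, add_zero]
  have e2 : Qv m F j ᵥ* (Tk (m := m) k k (-c)).1 = Qv m F j := by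
    unfold Tk
    rw [tvS_vecMul _ _ _ (h12_Tk_dot k k (-c) hk0), h12_gram,
      h12_mm_int (k - j) h0 (by omega), zero_smul, add_zero]
  rw [e1, e2]

/-- (SM) -/
theorem smove (hm : 1 ≤ m) (c a : F) (k j : ℤ) (h0 : 0 ≤ k - j) (h1 : k - j ≤ m) :
    sig (m := m) c k * Tk k j a * (sig c k)⁻¹ * (Tk k j a)⁻¹
      = Tk (k + 1) j (-(c * (-1) ^ m * a)) := by
  have hkj : mm m F (k - j) = 0 := h12_mm_int (k - j) h0 (by omega)
  have hkj1 : mm m F (k + 1 - j) = 0 := h12_mm_int (k + 1 - j) (by omega) (by omega)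
  have hd := h12_Tk_dot k j a hkj
  have hc := tvS_conj (sig (m := m) c k) (Pv m F k) (a • Qv m F j) hd
  have hT : Tk (m := m) k j a = tvS (Pv m F k) (a • Qv m F j) := rfl
  rw [hT, hc.2, sig_mulVec hm, Matrix.smul_vecMul, sig_vecMul c k j h0 h1]
  have hw : (a • Qv m F j) ⬝ᵥ (-((c * (-1) ^ m) • Pv m F (k + 1))) = 0 := by
    rw [dotProduct_neg, dotProduct_smul, h12_Tk_dot (k + 1) j a hkj1, smul_zero, neg_zero]
  rw [sub_eq_add_neg, add_comm (Pv m F k) _, tvS_add_centre _ _ _ hw hd, mul_inv_cancel_right, ← neg_smul,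
    tvS_smul, smul_smul]
  unfold Tk
  congr 2
  ring

end Cfsg.Agent.Helper12.RW
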