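import Mathlib
import Cfsg.Agent.Lib.Helper93.RU0
import Cfsg.Agent.Lib.Helper82.RUA
import Cfsg.Agent.Lib.Helper78.RUD1
import Cfsg.Agent.Lib.Helper44.RUD2
import Cfsg.Agent.Lib.Helper21.RUE1
import Cfsg.Agent.Lib.Helper12.RW0
import Cfsg.Agent.Lib.Helper12.RWKitB
import Cfsg.Agent.Lib.Helper30.RWSPQ

/-!
# RW project (S2279): the end game (FC) full_centre and (WALL) top_of_centre (helper12)
-/

set_option autoImplicit false

namespace Cfsg.Agent.Helper12.RW

open Matrix Cfsg.Agent.Helper93.RU Cfsg.Agent.Helper82.RU Cfsg.Agent.Helper12.RW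

variable {F : Type*} [Field F] {m : ℕ}

theorem h12_tvS_sum_mem {ι : Type*} (H : Subgroup (SLm m F)) (v : Fin (m + 3) → F)
    (s : Finset ι) (ψ : ι → Fin (m + 3) → F) (h0 : ∀ i ∈ s, ψ i ⬝ᵥ v = 0)
    (hH : ∀ i ∈ s, tvS v (ψ i) ∈ H) :
    (∑ i ∈ s, ψ i) ⬝ᵥ v = 0 ∧ tvS v (∑ i ∈ s, ψ i) ∈ H := by
  classical
  induction s using Finset.induction_on with
  | empty =>
    refine ⟨by simp, ?_⟩
    rw [Finset.sum_empty, tvS_zero]; exact H.one_mem
  | insert a s ha ih =>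
    have ih' := ih (fun i hi => h0 i (Finset.mem_insert_of_mem hi))
      (fun i hi => hH i (Finset.mem_insert_of_mem hi))
    have ha0 := h0 a (Finset.mem_insert_self a s)
    rw [Finset.sum_insert ha]
    refine ⟨by rw [add_dotProduct, ha0, ih'.1, add_zero], ?_⟩
    rw [← tvS_mul v _ _ ha0 ih'.1]
    exact H.mul_mem (hH a (Finset.mem_insert_self a s)) ih'.2

/-- (FC) full centre -/
theorem full_centre (H : Subgroup (SLm m F))
    (h : ∀ j : ℕ, j ≤ m + 1 → ∀ a : F, Tk 0 (-(j : ℤ)) a ∈ H) : eV (lastI m) ∈ Wset H := by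
  intro φ hφ
  obtain ⟨a, ha⟩ := Cfsg.Agent.Helper30.RW.span_Q φ hφ
  rw [ha, ← Pv_zero]
  refine (h12_tvS_sum_mem H (Pv m F 0) Finset.univ
    (fun j : Fin (m + 2) => a j • Qv m F (-(j.val : ℤ))) ?_ ?_).2
  · intro j _
    apply h12_Tk_dot
    have hj := j.isLt
    exact h12_mm_int _ (by omega) (by omega)
  · intro j _
    have hj := j.isLt
    exact h j.val (by omega) (a j)

theorem h12_W_sum {ι : Type*} (H : Subgroup (SLm m F)) (s : Finset ι)
    (x : ι → Fin (m + 3) → F) (v0 : Fin (m + 3) → F) (hv0 : v0 ∈ Wset H)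
    (hx : ∀ i ∈ s, x i ∈ Wset H) : ∑ i ∈ s, x i ∈ Wset H := by
  classical
  induction s using Finset.induction_on with
  | empty =>
    rw [Finset.sum_empty]
    have := Cfsg.Agent.Helper44.RU.W_smul H 0 v0 hv0
    rwa [zero_smul] at this
  | insert a s ha ih =>
    rw [Finset.sum_insert ha]
    exact Cfsg.Agent.Helper78.RU.W_add H _ _ (hx a (Finset.mem_insert_self a s))
      (ih (fun i hi => hx i (Finset.mem_insert_of_mem hi)))

/-- (WALL) -/
theorem top_of_centre (H : Subgroup (SLm m F)) (hu : uEl m F ∈ H)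
    (h : eV (lastI m) ∈ Wset H) : H = ⊤ := by
  have hP : ∀ k : ℤ, Pv m F k ∈ Wset H := by
    intro k
    unfold Pv
    exact Cfsg.Agent.Helper44.RU.W_conj H _ (H.zpow_mem hu k) _ h
  have hall : ∀ x : Fin (m + 3) → F, x ∈ Wset H := by
    intro x
    obtain ⟨a, ha⟩ := Cfsg.Agent.Helper30.RW.span_P (m := m) (F := F) x
    rw [ha]
    apply h12_W_sum H Finset.univ _ _ h
    intro k _
    exact Cfsg.Agent.Helper44.RU.W_smul H _ _ (hP _)
  exact Cfsg.Agent.Helper21.RU.eq_top_of_W H (fun k => hall _)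

end Cfsg.Agent.Helper12.RW
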