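import Mathlib
import Cfsg.Agent.Lib.Helper93.RU0
import Cfsg.Agent.Lib.Helper34.RUB3
import Cfsg.Agent.Lib.Helper12.RW0
import Cfsg.Agent.Lib.Helper12.RWAbs
import Cfsg.Agent.Lib.Helper87.SRG2
import Cfsg.Agent.Lib.Helper12.RWKitB
import Cfsg.Agent.Lib.Helper12.RWKitC
import Cfsg.Agent.Lib.Helper67.RWID
import Cfsg.Agent.Lib.Helper76.RWG5

/-!
# RW project (S2279): assembly (helper12).
-/

set_option autoImplicit false

namespace Cfsg.Agent.Helper12.RW

open Matrix Cfsg.Agent.Helper93.RU Cfsg.Agent.Helper12.RW Cfsg.Agent.Helper2.SR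
open Cfsg.Agent.Helper76.RW (mm_nat)
open Cfsg.Agent.Helper67.RW (ident)

variable {F : Type*} [Field F] {m : ℕ}

theorem h12_mm_small (d : ℕ) (hd : d ≤ m + 1) : mm m F (d : ℤ) = 0 := by
  rw [mm_nat, Nat.choose_eq_zero_of_lt (by omega)]; simp

theorem h12_Tk_neg_mem (H : Subgroup (SLm m F)) (k j : ℤ) (a : F) (h : mm m F (k - j) = 0)
    (ha : Tk k j a ∈ H) : Tk k j (-a) ∈ H := by
  rw [← Tk_inv k j a h]; exact H.inv_mem ha

/-- the coefficient groups -/
def LamS (H : Subgroup (SLm m F)) (d : ℕ) : AddSubgroup F where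
  carrier := {a | d ≤ m + 1 → ∀ k j : ℤ, k - j = (d : ℤ) → Tk k j a ∈ H}
  zero_mem' := by
    intro _ k j _
    rw [Tk_zero]; exact H.one_mem
  add_mem' := by
    intro a b ha hb hd k j hkj
    have h0 : mm m F (k - j) = 0 := by rw [hkj]; exact h12_mm_small d hd
    rw [← Tk_mul k j a b h0]
    exact H.mul_mem (ha hd k j hkj) (hb hd k j hkj)
  neg_mem' := by
    intro a ha hd k j hkj
    have h0 : mm m F (k - j) = 0 := by rw [hkj]; exact h12_mm_small d hd
    exact h12_Tk_neg_mem H k j a h0 (ha hd k j hkj)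

theorem h12_mem_LamS (H : Subgroup (SLm m F)) (d : ℕ) (a : F) :
    a ∈ LamS H d ↔ (d ≤ m + 1 → ∀ k j : ℤ, k - j = (d : ℤ) → Tk k j a ∈ H) := Iff.rfl

section grp

variable (H : Subgroup (SLm m F)) (c : F) (hu : uEl m F ∈ H)
  (hv : gEl c * uEl m F * (gEl c)⁻¹ ∈ H)

include hu hv in
theorem h12_sig_mem (j : ℤ) : sig (m := m) c j ∈ H := by
  have h0 : sig (m := m) c 0 ∈ H := by
    rw [← sig_zero]; exact H.mul_mem hv (H.inv_mem hu)
  have h1 := sig_conj (m := m) c j 0
  rw [zero_add] at h1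
  rw [← h1]
  exact H.mul_mem (H.mul_mem (H.zpow_mem hu j) h0) (H.inv_mem (H.zpow_mem hu j))

include hu hv in
theorem h12_hst (hm : 1 ≤ m) : c ^ 3 ∈ LamS H 2 := by
  intro _ k j hkj
  have s0 := h12_sig_mem H c hu hv 0
  have s1 := h12_sig_mem H c hu hv 1
  have hcm : sig (m := m) c 1 * sig c 0 * (sig c 1)⁻¹ * (sig c 0)⁻¹ ∈ H :=
    H.mul_mem (H.mul_mem (H.mul_mem s1 s0) (H.inv_mem s1)) (H.inv_mem s0)
  have h20 : Tk (m := m) 2 0 (c ^ 3) ∈ H := by
    rw [← ident hm c]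
    exact H.mul_mem (H.mul_mem (H.mul_mem hcm s0) (H.inv_mem hcm)) (H.inv_mem s0)
  have hmm : mm m F (2 - 0) = 0 := by
    have := h12_mm_small (m := m) (F := F) 2 (by omega)
    simpa using this
  have h1 := Tk_conj (m := m) j 2 0 (c ^ 3) hmm
  have e1 : (2 : ℤ) + j = k := by push_cast at hkj; omega
  rw [e1, zero_add] at h1
  rw [← h1]
  exact H.mul_mem (H.mul_mem (H.zpow_mem hu j) h20) (H.inv_mem (H.zpow_mem hu j))

include hu hv in
theorem h12_hs (hm : 1 ≤ m) (d : ℕ) (hd : d < m + 1) (a : F) (ha : a ∈ LamS H d) :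
    c * a ∈ LamS H (d + 1) := by
  intro _ k j hkj
  push_cast at hkj
  have hk0 : k - 1 - j = (d : ℤ) := by omega
  have hT := ha (by omega) (k - 1) j hk0
  have hsg := h12_sig_mem H c hu hv (k - 1)
  have hmv := smove hm c a (k - 1) j (by omega) (by omega)
  rw [sub_add_cancel] at hmv
  have hmem : Tk k j (-(c * (-1) ^ m * a)) ∈ H := by
    rw [← hmv]
    exact H.mul_mem (H.mul_mem (H.mul_mem hsg hT) (H.inv_mem hsg)) (H.inv_mem hT)
  have h0 : mm m F (k - j) = 0 := by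
    rw [hkj]
    have := h12_mm_small (m := m) (F := F) (d + 1) (by omega)
    push_cast at this; exact this
  rcases neg_one_pow_eq_or F m with h | h
  · rw [h, mul_one] at hmem
    have := h12_Tk_neg_mem H k j _ h0 hmem
    rwa [neg_neg] at this
  · rw [h] at hmem
    have e : -(c * -1 * a) = c * a := by ring
    rwa [e] at hmem

/-- the general commutator move: `Lam d1 * Lam d2 * C(t, m+2) ⊆ Lam e` when `d1 + d2 = e + t` -/
theorem h12_cm (d1 d2 e t : ℕ) (h1 : d1 ≤ m + 1) (h2 : d2 ≤ m + 1) (he : e ≤ m + 1)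
    (hsum : d1 + d2 = e + t) (a b : F) (ha : a ∈ LamS H d1) (hb : b ∈ LamS H d2) :
    a * b * (Nat.choose t (m + 2) : F) ∈ LamS H e := by
  intro _ K J hKJ
  have hk : (J + d1) - J = (d1 : ℤ) := by omega
  have hk' : K - (K - d2) = (d2 : ℤ) := by omega
  have hTa := ha h1 (J + d1) J hk
  have hTb := hb h2 K (K - d2) hk'
  have m1 : mm m F ((J + d1) - J) = 0 := by rw [hk]; exact h12_mm_small d1 h1
  have m2 : mm m F (K - (K - d2)) = 0 := by rw [hk']; exact h12_mm_small d2 h2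
  have m3 : mm m F (K - J) = 0 := by rw [hKJ]; exact h12_mm_small e he
  have hcmv := cmove (m := m) (J + d1) J K (K - d2) a b m1 m2 m3
  have et : (J + d1) - (K - d2) = (t : ℤ) := by
    have : (d1 : ℤ) + d2 = e + t := by exact_mod_cast hsum
    omega
  rw [et, mm_nat] at hcmv
  have hmem : Tk K J (-(a * b * (Nat.choose t (m + 2) : F))) ∈ H := by
    rw [← hcmv]
    exact H.mul_mem (H.mul_mem (H.mul_mem hTa hTb) (H.inv_mem hTa)) (H.inv_mem hTb)
  have := h12_Tk_neg_mem H K J _ m3 hmem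
  rwa [neg_neg] at this

end grp

/-- the group-theoretic core: with a good `c` the subgroup is everything -/
theorem h12_core [Finite F] (hm : 1 ≤ m) (H : Subgroup (SLm m F)) (c : F) (hc : c ≠ 0)
    (hu : uEl m F ∈ H) (hv : gEl c * uEl m F * (gEl c)⁻¹ ∈ H)
    (hgen : IsGen (c ^ (m + 3)) ∨ ∃ s, s ≤ m ∧ (Nat.choose (m + 2 + s) (m + 2) : F) ≠ 0 ∧
      IsGen ((Nat.choose (m + 2 + s) (m + 2) : F) * c ^ s)) : H = ⊤ := by
  have htop := h12_lam_top (F := F) (m + 1) (by omega) (LamS H) c hc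
    (fun d hd a ha => h12_hs H c hu hv hm d hd a ha)
    (by
      intro d1 d2 h1 h2 h12 a ha b hb
      have h := h12_cm H d1 d2 (d1 + d2 - (m + 1 + 1)) (m + 2) h1 h2 (by omega) (by omega) a b ha hb
      rw [Nat.choose_self, Nat.cast_one, mul_one] at h
      exact h)
    (h12_hst H c hu hv hm)
    (by
      rcases hgen with hA | ⟨s, hs, hr, hg⟩
      · left; exact hA
      · right
        refine ⟨s, _, by omega, hr, hg, ?_⟩
        intro a ha b hb
        have h := h12_cm H (m + 1) (m + 1) (m + 1 - 1 - s) (m + 2 + s) le_rfl le_rfl (by omega)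
          (by omega) a b ha hb
        rw [mul_comm] at h
        exact h)
  apply top_of_centre H hu
  apply full_centre H
  intro j hj a
  have h := htop j hj
  have ha : a ∈ LamS H j := by rw [h]; trivial
  exact ha hj 0 (-(j : ℤ)) (by omega)

end Cfsg.Agent.Helper12.RW
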