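import Mathlib
import Cfsg.Agent.Lib.Helper12.RWMain
import Cfsg.Agent.Lib.Helper65.RWINJ
import Cfsg.Agent.Lib.Helper30.RWLUC

/-!
# RW project (S2279): the choice of `c` and the final statement (helper12).
-/

set_option autoImplicit false

namespace Cfsg.Agent.Helper12.RW

open Matrix Cfsg.Agent.Helper93.RU Cfsg.Agent.Helper12.RW Cfsg.Agent.Helper2.SR
open Cfsg.Agent.Helper65.RW (exists_root)
open Cfsg.Agent.Helper30.RW (luc)

variable {F : Type*} [Field F] {m : ℕ}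

theorem h12_arith (p e n' m : ℕ) (hp : p.Prime) (hm : 1 ≤ m) (hn : m + 3 = p ^ e * n')
    (hdvd : ¬ p ∣ n') (h1 : n' ≠ 1) : p ^ e ≤ m := by
  have hs : 1 ≤ p ^ e := Nat.one_le_pow _ _ hp.pos
  have hn0 : n' ≠ 0 := by
    rintro rfl
    simp at hn
  have hn2 : 2 ≤ n' := by omega
  by_contra hcon
  rw [not_le] at hcon
  -- p^e * n' ≤ p^e + 2
  have h2 : p ^ e * 2 ≤ p ^ e * n' := Nat.mul_le_mul_left _ hn2
  have hs2 : p ^ e ≤ 2 := by omega
  have hs2' : 2 ≤ p ^ e := by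
    by_contra h
    have : p ^ e = 1 := by omega
    rw [this] at hn
    -- n' = m + 3 ≥ 4, and 1 ≤ m, m < 1 ... contradiction with hcon: m < p^e = 1
    omega
  have hse : p ^ e = 2 := by omega
  have hn' : n' = 2 := by
    rw [hse] at hn
    omega
  have he : e ≠ 0 := by
    rintro rfl
    simp at hse
  have hp2 : p ∣ 2 := by
    rw [← hse]; exact dvd_pow_self p he
  exact hdvd (hn' ▸ hp2)

theorem h12_exists_c [Fintype F] (hm : 1 ≤ m) :
    ∃ c : F, c ≠ 0 ∧ (IsGen (c ^ (m + 3)) ∨ ∃ s, s ≤ m ∧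
      (Nat.choose (m + 2 + s) (m + 2) : F) ≠ 0 ∧
      IsGen ((Nat.choose (m + 2 + s) (m + 2) : F) * c ^ s)) := by
  obtain ⟨x, hx0, hxg⟩ := Cfsg.Agent.Helper87.SR.exists_generator (F := F)
  have hx2 : x ^ 2 ≠ 0 := pow_ne_zero _ hx0
  let p := ringChar F
  have : CharP F p := ringChar.charP F
  have hp : p.Prime := CharP.char_is_prime F p
  have : Fact p.Prime := ⟨hp⟩
  obtain ⟨e, n', hdvd, hn⟩ := Nat.exists_eq_pow_mul_and_not_dvd (n := m + 3) (by omega) p hp.ne_one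
  have hpe : p ^ e ≠ 0 := pow_ne_zero _ hp.ne_zero
  by_cases h1 : n' = 1
  · -- case A
    rw [h1, mul_one] at hn
    obtain ⟨c, hc⟩ := exists_root (F := F) p e 1 (x ^ 2) one_ne_zero
    rw [one_mul] at hc
    refine ⟨c, ?_, Or.inl ?_⟩
    · rintro rfl
      rw [zero_pow hpe] at hc
      exact hx2 hc.symm
    · rw [hn, hc]; exact hxg
  · -- case B
    have hsm : p ^ e ≤ m := h12_arith p e n' m hp hm hn hdvd h1
    have h1' : p ^ e ∣ m + 3 := ⟨n', hn⟩
    have h2' : ¬ p ^ (e + 1) ∣ m + 3 := by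
      intro h
      rw [hn, pow_succ] at h
      exact hdvd ((Nat.mul_dvd_mul_iff_left (Nat.pos_of_ne_zero hpe)).1 h)
    have hl := luc p (m + 3) e (by omega) h1' h2'
    have hch : Nat.choose (m + 3 - 1 + p ^ e) (p ^ e) = Nat.choose (m + 2 + p ^ e) (m + 2) := by
      rw [show m + 3 - 1 = m + 2 by omega]
      exact (Nat.choose_symm_add).symm
    rw [hch] at hl
    have hr : (Nat.choose (m + 2 + p ^ e) (m + 2) : F) ≠ 0 := by
      rw [Ne, CharP.cast_eq_zero_iff F p]; exact hl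
    obtain ⟨c, hc⟩ := exists_root (F := F) p e _ (x ^ 2) hr
    refine ⟨c, ?_, Or.inr ⟨p ^ e, hsm, hr, ?_⟩⟩
    · rintro rfl
      rw [zero_pow hpe, mul_zero] at hc
      exact hx2 hc.symm
    · rw [hc]; exact hxg

theorem h12_main [Fintype F] (hm : 1 ≤ m) :
    ∃ c : F, Subgroup.closure
      ({uEl m F, gEl c * uEl m F * (gEl c)⁻¹} : Set (SLm m F)) = ⊤ := by
  obtain ⟨c, hc, hgen⟩ := h12_exists_c (F := F) hm
  refine ⟨c, ?_⟩
  apply h12_core hm _ c hc
  · exact Subgroup.subset_closure (by simp)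
  · exact Subgroup.subset_closure (by simp)
  · exact hgen

/-! ## conjugates of regular unipotents -/

theorem h12_conj_pow {n : Type*} [Fintype n] [DecidableEq n] {R : Type*} [CommRing R]
    (A B N : Matrix n n R) (h : B * A = 1) (k : ℕ) : (A * N * B) ^ k = A * N ^ k * B := by
  have h' : A * B = 1 := mul_eq_one_comm.1 h
  induction k with
  | zero => simp [h']
  | succ k ih =>
    rw [pow_succ, ih, pow_succ]
    calc A * N ^ k * B * (A * N * B) = A * N ^ k * (B * A) * N * B := by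
          simp only [Matrix.mul_assoc]
      _ = A * (N ^ k * N) * B := by rw [h, Matrix.mul_one, Matrix.mul_assoc A]

theorem h12_conj_regular {n : Type*} [Fintype n] [DecidableEq n] {R : Type*} [CommRing R]
    (g u : Matrix.SpecialLinearGroup n R) (k : ℕ)
    (h : IsNilpotent ((u : Matrix n n R) - 1) ∧ ((u : Matrix n n R) - 1) ^ k ≠ 0) :
    IsNilpotent (((g * u * g⁻¹ : Matrix.SpecialLinearGroup n R) : Matrix n n R) - 1) ∧
      (((g * u * g⁻¹ : Matrix.SpecialLinearGroup n R) : Matrix n n R) - 1) ^ k ≠ 0 := by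
  have hgi : (g⁻¹ : Matrix.SpecialLinearGroup n R).1 * g.1 = 1 := by
    rw [← Matrix.SpecialLinearGroup.coe_mul, inv_mul_cancel]; rfl
  have hig : g.1 * (g⁻¹ : Matrix.SpecialLinearGroup n R).1 = 1 := by
    rw [← Matrix.SpecialLinearGroup.coe_mul, mul_inv_cancel]; rfl
  have e : ((g * u * g⁻¹ : Matrix.SpecialLinearGroup n R) : Matrix n n R) - 1
      = g.1 * (u.1 - 1) * (g⁻¹ : Matrix.SpecialLinearGroup n R).1 := by
    rw [Matrix.SpecialLinearGroup.coe_mul, Matrix.SpecialLinearGroup.coe_mul, Matrix.mul_sub,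
      Matrix.sub_mul, Matrix.mul_one, hig]
  rw [e]
  obtain ⟨⟨r, hr⟩, hk⟩ := h
  constructor
  · refine ⟨r, ?_⟩
    rw [h12_conj_pow _ _ _ hgi, hr]; simp
  · rw [h12_conj_pow _ _ _ hgi]
    intro h0
    apply hk
    have : (g⁻¹ : Matrix.SpecialLinearGroup n R).1 * (g.1 * (u.1 - 1) ^ k *
        (g⁻¹ : Matrix.SpecialLinearGroup n R).1) * g.1 = (u.1 - 1) ^ k := by
      calc (g⁻¹ : Matrix.SpecialLinearGroup n R).1 * (g.1 * (u.1 - 1) ^ k *
            (g⁻¹ : Matrix.SpecialLinearGroup n R).1) * g.1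
          = ((g⁻¹ : Matrix.SpecialLinearGroup n R).1 * g.1) * (u.1 - 1) ^ k *
            ((g⁻¹ : Matrix.SpecialLinearGroup n R).1 * g.1) := by
              simp only [Matrix.mul_assoc]
        _ = (u.1 - 1) ^ k := by rw [hgi, Matrix.one_mul, Matrix.mul_one]
    rw [← this, h0]; simp

end Cfsg.Agent.Helper12.RW
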