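import Mathlib
import Cfsg.Prelude.Def_Characters
import Cfsg.Prelude.Def_Perm
import Cfsg.Agent.Lib.Helper12.Orbital

set_option autoImplicit false
set_option linter.unusedSectionVars false

/-! Combinatorics of orbital matrices: paired suborbits, traces, rank 3. -/

namespace Cfsg.Agent.Helper12.Rank3

open Cfsg Cfsg.Agent.Helper12.Orbital

universe u v

section
variable {G : Type u} [Group G] [Fintype G] {Ω : Type v} [Fintype Ω] [DecidableEq Ω]
    [MulAction G Ω]

theorem orb_swap (a b x y : Ω) : Orb G a b y x ↔ Orb G b a x y :=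
  ⟨fun ⟨g, h1, h2⟩ => ⟨g, h2, h1⟩, fun ⟨g, h1, h2⟩ => ⟨g, h2, h1⟩⟩

theorem orb_smul_base (a b x y : Ω) (h : G) : Orb G (h • a) (h • b) x y ↔ Orb G a b x y := by
  constructor
  · rintro ⟨g, h1, h2⟩
    exact ⟨g * h, by rw [mul_smul, h1], by rw [mul_smul, h2]⟩
  · rintro ⟨g, h1, h2⟩
    exact ⟨g * h⁻¹, by rw [mul_smul, inv_smul_smul, h1], by rw [mul_smul, inv_smul_smul, h2]⟩

theorem matC_transpose (a b x y : Ω) : matC G a b y x = matC G b a x y := by
  classical
  rw [matC_apply, matC_apply]
  simp only [orb_swap]

theorem matC_smul_base (a b : Ω) (h : G) : matC G (h • a) (h • b) = matC G a b := by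
  classical
  ext x y
  rw [matC_apply, matC_apply]
  simp only [orb_smul_base]

/-- paired suborbits have the same size -/
theorem paired_card [MulAction.IsPretransitive G Ω] [Nonempty Ω] (a b : Ω) :
    Nat.card (MulAction.orbit (MulAction.stabilizer G b) a) =
      Nat.card (MulAction.orbit (MulAction.stabilizer G a) b) := by
  have h1 : ∑ x : Ω, ∑ y : Ω, matC G a b x y =
      (Fintype.card Ω : ℂ) * (Nat.card (MulAction.orbit (MulAction.stabilizer G a) b) : ℂ) := by
    simp_rw [rowsum a b]
    simp
  have h2 : ∑ x : Ω, ∑ y : Ω, matC G a b x y =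
      (Fintype.card Ω : ℂ) * (Nat.card (MulAction.orbit (MulAction.stabilizer G b) a) : ℂ) := by
    have hc : (∑ x : Ω, ∑ y : Ω, matC G a b x y) = ∑ y : Ω, ∑ x : Ω, matC G a b x y :=
      Finset.sum_comm
    rw [hc]
    simp_rw [matC_transpose a b, rowsum b a]
    simp
  rw [h1] at h2
  have hn : (Fintype.card Ω : ℂ) ≠ 0 := by
    exact_mod_cast Fintype.card_ne_zero
  have := mul_left_cancel₀ hn h2
  exact_mod_cast this.symm

/-- the size of the paired suborbit, realised as a suborbit of `a` -/
theorem paired_card' [MulAction.IsPretransitive G Ω] [Nonempty Ω] (a b : Ω) (h : G)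
    (hb : h • b = a) :
    Nat.card (MulAction.orbit (MulAction.stabilizer G a) (h • a)) =
      Nat.card (MulAction.orbit (MulAction.stabilizer G a) b) := by
  rw [← paired_card a b]
  have h1 := rowsum (G := G) a (h • a) a
  have h2 := rowsum (G := G) b a a
  have h3 : matC G a (h • a) = matC G b a := by
    have := matC_smul_base (G := G) b a h
    rwa [hb] at this
  rw [h3, h2] at h1
  exact_mod_cast h1.symm

/-- a self-paired orbital has a symmetric matrix -/
theorem matC_symm (a b : Ω) (hsp : Orb G a b b a) (x y : Ω) : matC G a b x y = matC G a b y x := by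
  classical
  rw [matC_apply, matC_apply]
  obtain ⟨s, hs1, hs2⟩ := hsp
  have key : ∀ x y, Orb G a b x y → Orb G a b y x := by
    rintro x y ⟨g, rfl, rfl⟩
    exact ⟨g * s, by rw [mul_smul, hs1], by rw [mul_smul, hs2]⟩
  have : Orb G a b x y ↔ Orb G a b y x := ⟨key x y, key y x⟩
  simp only [this]

theorem matC_sq (a b x y : Ω) : matC G a b x y * matC G a b x y = matC G a b x y := by
  classical
  rw [matC_apply]
  split_ifs <;> simp

theorem trace_sq [MulAction.IsPretransitive G Ω] (a b : Ω) (hsp : Orb G a b b a) :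
    ((matC G a b) ^ 2).trace =
      (Fintype.card Ω : ℂ) * (Nat.card (MulAction.orbit (MulAction.stabilizer G a) b) : ℂ) := by
  rw [sq, Matrix.trace]
  simp only [Matrix.diag_apply, Matrix.mul_apply]
  have : ∀ x : Ω, ∑ y, matC G a b x y * matC G a b y x =
      (Nat.card (MulAction.orbit (MulAction.stabilizer G a) b) : ℂ) := by
    intro x
    rw [← rowsum a b x]
    apply Finset.sum_congr rfl
    intro y _
    rw [← matC_symm a b hsp x y, matC_sq]
  simp_rw [this]
  simp

theorem trace_pow_int (a b : Ω) (j : ℕ) : ∃ T : ℤ, ((matC G a b) ^ j).trace = T := by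
  refine ⟨((matZ G a b) ^ j).trace, ?_⟩
  have h1 : matC G a b = (Int.castRingHom ℂ).mapMatrix (matZ G a b) := rfl
  rw [h1, ← map_pow]
  rw [RingHom.mapMatrix_apply]
  have := AddMonoidHom.map_trace (Int.castAddHom ℂ) ((matZ G a b) ^ j)
  simp only [Int.coe_castAddHom] at this
  rw [this]
  rfl

end

section rank3
variable {G : Type u} [Group G] [Fintype G] {Ω : Type v} [Fintype Ω] [MulAction G Ω]

theorem orbit_self (a : Ω) : MulAction.orbit (MulAction.stabilizer G a) a = {a} := by
  ext x
  constructor
  · rintro ⟨g, rfl⟩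
    exact g.2
  · rintro rfl
    exact MulAction.mem_orbit_self _

theorem rank3_structure (a : Ω)
    (hrank : Nat.card (MulAction.orbitRel.Quotient (MulAction.stabilizer G a) Ω) = 3) :
    ∃ b c : Ω, b ≠ a ∧ c ≠ a ∧
      (∀ x, x ≠ a → MulAction.orbit (MulAction.stabilizer G a) x =
          MulAction.orbit (MulAction.stabilizer G a) b ∨
        MulAction.orbit (MulAction.stabilizer G a) x =
          MulAction.orbit (MulAction.stabilizer G a) c) ∧
      1 + Nat.card (MulAction.orbit (MulAction.stabilizer G a) b) +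
        Nat.card (MulAction.orbit (MulAction.stabilizer G a) c) = Fintype.card Ω := by
  classical
  have hQfin : Fintype (MulAction.orbitRel.Quotient (MulAction.stabilizer G a) Ω) :=
    Fintype.ofFinite _
  set Q := MulAction.orbitRel.Quotient (MulAction.stabilizer G a) Ω with hQ
  let ω₀ : Q := Quotient.mk'' a
  rw [Nat.card_eq_fintype_card] at hrank
  have hcard : (Finset.univ.erase ω₀).card = 2 := by
    rw [Finset.card_erase_of_mem (Finset.mem_univ _), Finset.card_univ, hrank]
  obtain ⟨ω₁, ω₂, h12, hset⟩ := Finset.card_eq_two.mp hcard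
  have hmem : ∀ ω : Q, ω ≠ ω₀ → ω = ω₁ ∨ ω = ω₂ := by
    intro ω hω
    have : ω ∈ Finset.univ.erase ω₀ := Finset.mem_erase.mpr ⟨hω, Finset.mem_univ _⟩
    rw [hset] at this
    simpa using this
  have h1 : ω₁ ≠ ω₀ := by
    have : ω₁ ∈ Finset.univ.erase ω₀ := by rw [hset]; simp
    exact (Finset.mem_erase.mp this).1
  have h2 : ω₂ ≠ ω₀ := by
    have : ω₂ ∈ Finset.univ.erase ω₀ := by rw [hset]; simp
    exact (Finset.mem_erase.mp this).1
  have hout_ne : ∀ ω : Q, ω ≠ ω₀ → ω.out ≠ a := by
    intro ω hω h
    apply hω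
    rw [← Quotient.out_eq' ω, h]
  have horb : ∀ (x : Ω) (ω : Q), (Quotient.mk'' x : Q) = ω →
      MulAction.orbit (MulAction.stabilizer G a) x =
        MulAction.orbit (MulAction.stabilizer G a) ω.out := by
    intro x ω h
    rw [MulAction.orbit_eq_iff]
    have h3 : (Quotient.mk'' x : Q) = Quotient.mk'' ω.out := by
      rw [h]; exact (Quotient.out_eq' ω).symm
    exact Quotient.exact' h3
  refine ⟨ω₁.out, ω₂.out, hout_ne ω₁ h1, hout_ne ω₂ h2, ?_, ?_⟩
  · intro x hx
    have hxω : (Quotient.mk'' x : Q) ≠ ω₀ := by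
      intro h
      have h3 : x ∈ MulAction.orbit (MulAction.stabilizer G a) a := Quotient.exact' h
      rw [orbit_self] at h3
      exact hx h3
    rcases hmem _ hxω with h | h
    · left; exact horb x ω₁ h
    · right; exact horb x ω₂ h
  · have hn : Fintype.card Ω =
        ∑ ω : Q, Nat.card (MulAction.orbit (MulAction.stabilizer G a) ω.out) := by
      rw [← Nat.card_eq_fintype_card,
        Nat.card_congr (MulAction.selfEquivSigmaOrbits (MulAction.stabilizer G a) Ω),
        Nat.card_sigma]
    have huniv : (Finset.univ : Finset Q) = insert ω₀ {ω₁, ω₂} := by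
      rw [← hset, Finset.insert_erase (Finset.mem_univ _)]
    have h0 : Nat.card (MulAction.orbit (MulAction.stabilizer G a) ω₀.out) = 1 := by
      have : MulAction.orbit (MulAction.stabilizer G a) ω₀.out =
          MulAction.orbit (MulAction.stabilizer G a) a := by
        rw [MulAction.orbit_eq_iff]
        exact Quotient.exact' (Quotient.out_eq' ω₀)
      rw [this, orbit_self]
      simp
    rw [hn, huniv, Finset.sum_insert, Finset.sum_pair h12, h0]
    · ring
    · simp only [Finset.mem_insert, Finset.mem_singleton]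
      rintro (h | h)
      · exact h1 h.symm
      · exact h2 h.symm

/-- In a primitive group, a non-trivial suborbit of size one forces all suborbits to be trivial. -/
theorem all_trivial_of_one (hprim : MulAction.IsPreprimitive G Ω) (a b : Ω) (hab : b ≠ a)
    (h1 : Nat.card (MulAction.orbit (MulAction.stabilizer G a) b) = 1) (x : Ω) :
    Nat.card (MulAction.orbit (MulAction.stabilizer G a) x) = 1 := by
  have : MulAction.IsPretransitive G Ω := hprim.toIsPretransitive
  have : Nontrivial Ω := ⟨⟨b, a, hab⟩⟩
  set H := MulAction.stabilizer G a with hH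
  have hco : IsCoatom H := MulAction.IsPreprimitive.isCoatom_stabilizer_of_isPreprimitive (G := G) a
  -- H fixes b
  have hHb : H ≤ MulAction.stabilizer G b := by
    intro h hh
    rw [MulAction.mem_stabilizer_iff]
    have hfin : Finite (MulAction.orbit H b) := Nat.finite_of_card_ne_zero (by rw [h1]; norm_num)
    have hsub := (Nat.card_eq_one_iff_unique.mp h1).1
    have := hsub.elim ⟨(⟨h, hh⟩ : H) • b, MulAction.mem_orbit _ _⟩ ⟨b, MulAction.mem_orbit_self _⟩
    exact congrArg Subtype.val this
  have hbtop : MulAction.stabilizer G b ≠ ⊤ := by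
    intro htop
    obtain ⟨g, hg⟩ := MulAction.exists_smul_eq G b a
    have : g ∈ MulAction.stabilizer G b := by rw [htop]; trivial
    rw [MulAction.mem_stabilizer_iff] at this
    exact hab (this.symm.trans hg)
  have hHeq : MulAction.stabilizer G b = H := by
    by_contra hne
    exact hbtop (hco.2 _ (lt_of_le_of_ne hHb (fun h => hne h.symm)))
  obtain ⟨g, hg⟩ := MulAction.exists_smul_eq G a b
  have hgN : g ∈ Subgroup.normalizer (H : Set G) := by
    rw [Subgroup.mem_normalizer_iff_map_conj_eq]
    have := MulAction.stabilizer_smul_eq_stabilizer_map_conj g a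
    rw [hg, hHeq] at this
    exact this.symm
  have hgH : g ∉ H := by
    intro h
    rw [hH, MulAction.mem_stabilizer_iff] at h
    exact hab (hg.symm.trans h)
  have hNtop : Subgroup.normalizer (H : Set G) = ⊤ := by
    apply hco.2
    apply lt_of_le_of_ne Subgroup.le_normalizer
    intro h
    apply hgH
    rw [h]
    exact hgN
  have hnormal : H.Normal := Subgroup.normalizer_eq_top_iff.mp hNtop
  -- H fixes every point
  obtain ⟨g', hg'⟩ := MulAction.exists_smul_eq G a x
  have hx : MulAction.stabilizer G x = H := by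
    rw [← hg', MulAction.stabilizer_smul_eq_stabilizer_map_conj]
    exact Subgroup.Normal.map_conj_eq H g'
  have horb : MulAction.orbit H x = {x} := by
    ext y
    constructor
    · rintro ⟨h, rfl⟩
      have : (h : G) ∈ MulAction.stabilizer G x := by rw [hx]; exact h.2
      exact this
    · rintro rfl
      exact MulAction.mem_orbit_self _
  rw [horb]
  simp

end rank3

end Cfsg.Agent.Helper12.Rank3
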