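import Mathlib
import Cfsg.Agent.Lib.Helper12.RegLinIdx
import Cfsg.Agent.S0106

set_option autoImplicit false
set_option linter.unusedSectionVars false
set_option linter.style.haveILetI false

/-! Groups of order 24 and 48 whose 2-subgroups are cyclic or generalised quaternion. -/

namespace Cfsg.Agent.Helper12.SmallQuat

open Cfsg.Agent.Helper12.IndexTwo Cfsg.Agent.Helper12.RegLinSyl Cfsg.Agent.Helper12.RegLinIdx

abbrev SL23 := Matrix.SpecialLinearGroup (Fin 2) (ZMod 3)

theorem sl23_invol_unique :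
    ∀ s t : SL23, s ≠ 1 → s ^ 2 = 1 → t ≠ 1 → t ^ 2 = 1 → s = t := by
  decide +kernel

theorem sl23_no_order_eight : ∀ g : SL23, g ^ 8 = 1 → g ^ 4 = 1 := by decide +kernel

/-- all 2-subgroups are cyclic or generalised quaternion -/
def HSyl (Γ : Type*) [Group Γ] : Prop :=
  ∀ B : Subgroup Γ, IsPGroup 2 B → IsCyclic B ∨ ∃ n : ℕ, Nonempty (B ≃* QuaternionGroup (2 ^ n))

theorem HSyl.subgroup {Γ : Type*} [Group Γ] (h : HSyl Γ) (X : Subgroup Γ) : HSyl X := by
  intro B hB
  have e := B.equivMapOfInjective X.subtype X.subtype_injective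
  rcases h (B.map X.subtype) (hB.map X.subtype) with h1 | ⟨n, ⟨f⟩⟩
  · left
    exact isCyclic_of_surjective e.symm e.symm.surjective
  · right
    exact ⟨n, ⟨e.trans f⟩⟩

theorem HSyl.of_equiv {Γ Δ : Type*} [Group Γ] [Group Δ] (h : HSyl Γ) (ε : Δ ≃* Γ) : HSyl Δ := by
  intro B hB
  have e := B.equivMapOfInjective ε.toMonoidHom ε.injective
  rcases h (B.map ε.toMonoidHom) (hB.map ε.toMonoidHom) with h1 | ⟨n, ⟨f⟩⟩
  · left
    exact isCyclic_of_surjective e.symm e.symm.surjective
  · right
    exact ⟨n, ⟨e.trans f⟩⟩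

/-- either a subgroup of index 2, or a quaternion Sylow 2-subgroup and a section `SL(2,3)` -/
theorem index_two_or_section {Γ : Type*} [Group Γ] [Finite Γ] (h2 : 2 ∣ Nat.card Γ)
    (hsyl : HSyl Γ) :
    (∃ N : Subgroup Γ, N.index = 2) ∨
      ∃ (S : Sylow 2 Γ) (n : ℕ) (_ : 1 ≤ n) (_ : S ≃* QuaternionGroup (2 ^ n))
        (X Y : Subgroup Γ) (_ : (Y.subgroupOf X).Normal),
        Nonempty ((X ⧸ Y.subgroupOf X) ≃* SL23) := by
  haveI : Fact (Nat.Prime 2) := ⟨Nat.prime_two⟩
  let S : Sylow 2 Γ := default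
  have hcycCase : IsCyclic (S : Subgroup Γ) → ∃ N : Subgroup Γ, N.index = 2 := by
    intro hc
    apply exists_of_npc h2
    exact Cfsg.Agent.Helper53.hasNormalPComplement_of_cyclic (S : Subgroup Γ) hc S.isPGroup'
      S.not_dvd_index
  rcases hsyl S S.isPGroup' with hc | ⟨n, ⟨f⟩⟩
  · exact Or.inl (hcycCase hc)
  rcases Nat.eq_zero_or_pos n with h0 | hn
  · left
    apply hcycCase
    subst h0
    haveI := QuaternionGroup.quaternionGroup_one_isCyclic
    exact isCyclic_of_surjective f.symm f.symm.surjective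
  rcases Cfsg.Agent.S0106.result S n hn ⟨f⟩ with hnpc | ⟨X, Y, hY, ⟨e⟩⟩
  · exact Or.inl (exists_of_npc h2 hnpc)
  · exact Or.inr ⟨S, n, hn, f, X, Y, hY, ⟨e⟩⟩

theorem card_section {Γ : Type*} [Group Γ] [Finite Γ] (X Y : Subgroup Γ)
    (hY : (Y.subgroupOf X).Normal) (e : (X ⧸ Y.subgroupOf X) ≃* SL23) :
    Nat.card X = 24 * Nat.card (Y.subgroupOf X) := by
  have hcardQ : Nat.card (X ⧸ Y.subgroupOf X) = 24 := by
    rw [Nat.card_congr e.toEquiv, card_sl23]
  have hcardX : Nat.card X = Nat.card (X ⧸ Y.subgroupOf X) * Nat.card (Y.subgroupOf X) :=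
    Subgroup.card_eq_card_quotient_mul_card_subgroup _
  rw [hcardQ] at hcardX
  exact hcardX

/-- a group of order 24 with cyclic or quaternion 2-subgroups has a subgroup of index 2 or is
`SL(2,3)` -/
theorem order_24 {Γ : Type*} [Group Γ] [Finite Γ] (hcard : Nat.card Γ = 24) (hsyl : HSyl Γ) :
    (∃ N : Subgroup Γ, N.index = 2) ∨ Nonempty (Γ ≃* SL23) := by
  rcases index_two_or_section (by rw [hcard]; norm_num) hsyl with h | ⟨S, n, hn, f, X, Y, hY, ⟨e⟩⟩
  · exact Or.inl h
  right
  have h1 := card_section X Y hY e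
  have h2 : Nat.card X ∣ 24 := by rw [← hcard]; exact Subgroup.card_subgroup_dvd_card X
  have hpos : 0 < Nat.card (Y.subgroupOf X) := Nat.card_pos
  have hle := Nat.le_of_dvd (by norm_num) h2
  have hY1 : Nat.card (Y.subgroupOf X) = 1 := by omega
  have hX24 : Nat.card X = 24 := by omega
  have hXtop : X = ⊤ := by
    rw [← Subgroup.card_eq_iff_eq_top, hX24, hcard]
  -- the quotient map is bijective
  let φ : X →* SL23 := e.toMonoidHom.comp (QuotientGroup.mk' (Y.subgroupOf X))
  have hsurj : Function.Surjective φ := e.surjective.comp (QuotientGroup.mk'_surjective _)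
  have hbij : Function.Bijective φ :=
    hsurj.bijective_of_nat_card_le (by rw [hX24, card_sl23])
  exact ⟨Subgroup.topEquiv.symm.trans ((MulEquiv.subgroupCongr hXtop.symm).trans
    (MulEquiv.ofBijective φ hbij))⟩

/-- a group of order 48 with a normal subgroup of order 2 and cyclic or quaternion 2-subgroups
does not have quotient `SL(2,3)` -/
theorem not_quotient_sl23 {Δ : Type*} [Group Δ] [Finite Δ] (hcard : Nat.card Δ = 48)
    (hsyl : HSyl Δ) (Z : Subgroup Δ) [hZn : Z.Normal] (hZ : Nat.card Z = 2)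
    (e : (Δ ⧸ Z) ≃* SL23) : False := by
  haveI : Fact (Nat.Prime 2) := ⟨Nat.prime_two⟩
  -- the non-identity element of `Z`
  have hnt : ∃ y ∈ Z, y ≠ 1 := by
    by_contra hcon
    push Not at hcon
    have : Z = ⊥ := (Subgroup.eq_bot_iff_forall Z).mpr hcon
    rw [this, Subgroup.card_bot] at hZ
    omega
  obtain ⟨y₀, hy₀Z, hy₀1⟩ := hnt
  have hZmem : ∀ x ∈ Z, x = 1 ∨ x = y₀ := by
    intro x hx
    by_contra hcon
    rw [not_or] at hcon
    haveI : Fintype Z := Fintype.ofFinite _
    have h3 : 2 < Nat.card Z := by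
      rw [Nat.card_eq_fintype_card (α := Z)]
      exact Fintype.two_lt_card_iff.mpr ⟨⟨1, Z.one_mem⟩, ⟨y₀, hy₀Z⟩, ⟨x, hx⟩,
        fun h => hy₀1 (congrArg Subtype.val h).symm,
        fun h => hcon.1 (congrArg Subtype.val h).symm,
        fun h => hcon.2 (congrArg Subtype.val h).symm⟩
    omega
  have hZsq : ∀ x ∈ Z, x ^ 2 = 1 := by
    intro x hx
    have h := pow_card_eq_one' (G := Z) (x := ⟨x, hx⟩)
    rw [hZ] at h
    exact congrArg Subtype.val h
  let T : Sylow 2 Δ := default
  have hcardT : Nat.card (T : Subgroup Δ) = 16 := by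
    have h1 := T.card_eq_multiplicity
    rw [hcard] at h1
    have h2 : (48 : ℕ).factorization 2 = 4 := by
      have : (48 : ℕ) = 2 ^ 4 * 3 := by norm_num
      rw [this, Nat.factorization_mul (by norm_num) (by norm_num), Nat.Prime.factorization_pow
        Nat.prime_two]
      simp [Nat.factorization_eq_zero_of_not_dvd (show ¬ 2 ∣ 3 by norm_num)]
    rw [h2] at h1
    rw [h1]; norm_num
  -- `Z ≤ T`
  have hZT : Z ≤ (T : Subgroup Δ) := by
    have hZ2 : IsPGroup 2 Z := IsPGroup.of_card (n := 1) (by rw [hZ, pow_one])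
    have h1 : IsPGroup 2 ((T : Subgroup Δ) ⊔ Z : Subgroup Δ) :=
      IsPGroup.to_sup_of_normal_right T.isPGroup' hZ2
    have h2 := T.is_maximal' h1 le_sup_left
    rw [← h2]
    exact le_sup_right
  have hmk1 : ∀ x : Δ, (QuotientGroup.mk x : Δ ⧸ Z) = 1 ↔ x ∈ Z := fun x =>
    QuotientGroup.eq_one_iff x
  rcases hsyl T T.isPGroup' with hc | ⟨n, ⟨f⟩⟩
  · -- cyclic Sylow subgroup: an element of order 16
    obtain ⟨t, ht⟩ := hc.exists_generator
    have hto : orderOf t = 16 := by
      rw [orderOf_eq_card_of_forall_mem_zpowers ht, hcardT]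
    have hto' : orderOf (t : Δ) = 16 := by rw [Subgroup.orderOf_coe, hto]
    have h1 : (e (QuotientGroup.mk (t : Δ))) ^ 8 = 1 := by
      have h16 : (e (QuotientGroup.mk (t : Δ))) ^ 16 = 1 := by
        rw [← map_pow, ← QuotientGroup.mk_pow, ← hto', pow_orderOf_eq_one, QuotientGroup.mk_one,
          map_one]
      have h24 := Cfsg.Agent.S1303.d0 (e (QuotientGroup.mk (t : Δ)))
      have h8 : orderOf (e (QuotientGroup.mk (t : Δ))) ∣ Nat.gcd 16 24 :=
        Nat.dvd_gcd (orderOf_dvd_of_pow_eq_one h16) (orderOf_dvd_of_pow_eq_one h24)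
      have : Nat.gcd 16 24 = 8 := by norm_num
      rw [this] at h8
      exact orderOf_dvd_iff_pow_eq_one.mp h8
    have h2 := sl23_no_order_eight _ h1
    rw [← map_pow, ← QuotientGroup.mk_pow, MulEquiv.map_eq_one_iff, hmk1] at h2
    have h3 := hZsq _ h2
    rw [← pow_mul] at h3
    have := orderOf_dvd_of_pow_eq_one h3
    rw [hto'] at this
    omega
  · -- generalised quaternion of order 16
    have hn : n = 2 := by
      have h1 : Nat.card (T : Subgroup Δ) = 4 * 2 ^ n := by
        haveI : NeZero (2 ^ n) := ⟨by positivity⟩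
        rw [Nat.card_congr f.toEquiv, Nat.card_eq_fintype_card, QuaternionGroup.card]
      rw [hcardT] at h1
      have h2 : 2 ^ n = 2 ^ 2 := by omega
      exact Nat.pow_right_injective (le_refl 2) h2
    subst hn
    set u : Δ := ((f.symm (QuaternionGroup.a 2) : (T : Subgroup Δ)) : Δ) with hu
    set w : Δ := ((f.symm (QuaternionGroup.xa 0) : (T : Subgroup Δ)) : Δ) with hw
    set z₀ : Δ := ((f.symm (QuaternionGroup.a 4) : (T : Subgroup Δ)) : Δ) with hz₀
    have hinj : ∀ a b : QuaternionGroup (2 ^ 2),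
        ((f.symm a : (T : Subgroup Δ)) : Δ) = ((f.symm b : (T : Subgroup Δ)) : Δ) → a = b := by
      intro a b h
      exact f.symm.injective (Subtype.ext h)
    have hmulf : ∀ a b : QuaternionGroup (2 ^ 2),
        ((f.symm a : (T : Subgroup Δ)) : Δ) * ((f.symm b : (T : Subgroup Δ)) : Δ) =
          ((f.symm (a * b) : (T : Subgroup Δ)) : Δ) := by
      intro a b
      rw [map_mul]; rfl
    have honef : ((f.symm (1 : QuaternionGroup (2 ^ 2)) : (T : Subgroup Δ)) : Δ) = 1 := by
      rw [map_one]; rfl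
    -- `y₀ = z₀`
    have hy₀T : y₀ ∈ (T : Subgroup Δ) := hZT hy₀Z
    have hy₀z : y₀ = z₀ := by
      obtain ⟨c, hc⟩ := f.symm.surjective ⟨y₀, hy₀T⟩
      have hc' : ((f.symm c : (T : Subgroup Δ)) : Δ) = y₀ := by rw [hc]
      have hc1 : c ≠ 1 := by
        intro h
        apply hy₀1
        rw [← hc', h, honef]
      have hcc : c * c = 1 := by
        apply hinj
        rw [← hmulf, hc', honef, ← pow_two]
        exact hZsq y₀ hy₀Z
      have hco : orderOf c = 2 := by
        apply orderOf_eq_prime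
        · exact (pow_two c).trans hcc
        · exact hc1
      have := Cfsg.Agent.S0106.quat_invol_unique c hco
      rw [hz₀, ← hc', this]
      rfl
    have hz₀Z : z₀ ∈ Z := by rw [← hy₀z]; exact hy₀Z
    have huu : u * u = z₀ := by
      rw [hu, hz₀, hmulf]
      congr 2
    have hww : w * w = z₀ := by
      rw [hw, hz₀, hmulf]
      congr 2
    have huZ : u ∉ Z := by
      intro h
      rcases hZmem u h with h1 | h1
      · rw [hu, ← honef] at h1
        have := hinj _ _ h1
        revert this; decide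
      · rw [hy₀z, hu, hz₀] at h1
        have := hinj _ _ h1
        revert this; decide
    have hwZ : w ∉ Z := by
      intro h
      rcases hZmem w h with h1 | h1
      · rw [hw, ← honef] at h1
        have := hinj _ _ h1
        revert this; decide
      · rw [hy₀z, hw, hz₀] at h1
        have := hinj _ _ h1
        revert this; decide
    have huwZ : u⁻¹ * w ∉ Z := by
      intro h
      have huinv : u⁻¹ = ((f.symm (QuaternionGroup.a 2)⁻¹ : (T : Subgroup Δ)) : Δ) := by
        rw [hu, map_inv]; rfl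
      rw [huinv, hw, hmulf] at h
      rcases hZmem _ h with h1 | h1
      · rw [← honef] at h1
        have := hinj _ _ h1
        revert this; decide
      · rw [hy₀z, hz₀] at h1
        have := hinj _ _ h1
        revert this; decide
    have h1 : e (QuotientGroup.mk u) ≠ 1 := by
      intro h
      rw [MulEquiv.map_eq_one_iff, hmk1] at h
      exact huZ h
    have h2 : (e (QuotientGroup.mk u)) ^ 2 = 1 := by
      rw [← map_pow, ← QuotientGroup.mk_pow, pow_two, huu, (hmk1 z₀).mpr hz₀Z, map_one]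
    have h3 : e (QuotientGroup.mk w) ≠ 1 := by
      intro h
      rw [MulEquiv.map_eq_one_iff, hmk1] at h
      exact hwZ h
    have h4 : (e (QuotientGroup.mk w)) ^ 2 = 1 := by
      rw [← map_pow, ← QuotientGroup.mk_pow, pow_two, hww, (hmk1 z₀).mpr hz₀Z, map_one]
    have h5 := sl23_invol_unique _ _ h1 h2 h3 h4
    have h6 : (QuotientGroup.mk u : Δ ⧸ Z) = QuotientGroup.mk w := e.injective h5
    rw [QuotientGroup.eq] at h6
    exact huwZ h6

/-- a group of order 48 with cyclic or quaternion 2-subgroups has a subgroup of index 2 -/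
theorem order_48 {Γ : Type*} [Group Γ] [Finite Γ] (hcard : Nat.card Γ = 48) (hsyl : HSyl Γ) :
    ∃ N : Subgroup Γ, N.index = 2 := by
  rcases index_two_or_section (by rw [hcard]; norm_num) hsyl with h | ⟨S, n, hn, f, X, Y, hY, ⟨e⟩⟩
  · exact h
  have h1 := card_section X Y hY e
  have h2 : Nat.card X ∣ 48 := by rw [← hcard]; exact Subgroup.card_subgroup_dvd_card X
  have hpos : 0 < Nat.card (Y.subgroupOf X) := Nat.card_pos
  have hle := Nat.le_of_dvd (by norm_num) h2
  have hY12 : Nat.card (Y.subgroupOf X) = 1 ∨ Nat.card (Y.subgroupOf X) = 2 := by omega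
  rcases hY12 with hY1 | hY2
  · refine ⟨X, ?_⟩
    have := X.card_mul_index
    rw [hcard, h1, hY1] at this
    omega
  · exfalso
    have hX48 : Nat.card X = 48 := by omega
    exact not_quotient_sl23 hX48 (hsyl.subgroup X) (Y.subgroupOf X) hY2 e

end Cfsg.Agent.Helper12.SmallQuat
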