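import Mathlib
import Cfsg.Agent.Lib.Helper12.RegLinIdx
import Cfsg.Agent.Lib.Helper12.SmallQuat
import Cfsg.Agent.Lib.Helper12.CentralSplit

set_option autoImplicit false
set_option linter.unusedSectionVars false
set_option linter.style.haveILetI false

/-! Solvable regular linear groups over the prime field: subgroups of index 2. -/

namespace Cfsg.Agent.Helper12.RegLinSolv

open Module Cfsg.Agent.Helper12.NearFieldSolv Cfsg.Agent.Helper12.IndexTwo
  Cfsg.Agent.Helper12.RegLinSyl Cfsg.Agent.Helper12.FpfLinear Cfsg.Agent.Helper12.QuatPair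
  Cfsg.Agent.Helper12.QuatIndex Cfsg.Agent.Helper12.RegLinIdx Cfsg.Agent.Helper12.SmallQuat
  Cfsg.Agent.Helper12.CentralSplit

variable {p : ℕ} [Fact p.Prime] {V : Type*} [AddCommGroup V] [Module (ZMod p) V]

/-- the centraliser of the normal quaternion group: a normal subgroup of index at most 24 whose
order divides `p ^ e - 1`, where `dim V = 2 e` -/
theorem exists_normal_small [Finite V] (H : Subgroup (V ≃ₗ[ZMod p] V))
    (hreg : ∀ v w : V, v ≠ 0 → w ≠ 0 → ∃! h : H, (h : V ≃ₗ[ZMod p] V) v = w)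
    (hI : ∀ A : Subgroup H, A.Normal → IsCyclic A → ∃ W : Submodule (ZMod p) V, W ≠ ⊥ ∧ W ≠ ⊤ ∧
      ∀ a ∈ A, ∀ v ∈ W, ((a : H) : V ≃ₗ[ZMod p] V) v ∈ W)
    (hsolv : Group.IsSolvable H) :
    ∃ C : Subgroup H, C.Normal ∧ C.index ≤ 24 ∧
      ∃ e : ℕ, finrank (ZMod p) V = 2 * e ∧ Nat.card C ∣ p ^ e - 1 := by
  classical
  have hfinE : Finite (V ≃ₗ[ZMod p] V) :=
    Finite.of_injective (fun e : V ≃ₗ[ZMod p] V => (e : V → V)) DFunLike.coe_injective
  obtain ⟨W0, hW0, -, -⟩ := hI ⊥ inferInstance inferInstance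
  obtain ⟨v₀, -, hv₀⟩ := Submodule.exists_mem_ne_zero_of_ne_bot hW0
  obtain ⟨D, x, y, z, hDn, hxD, hyD, hz1, hzz, hxx, hyy, hxy, hQ⟩ :=
    exists_pair H hreg hI hsolv v₀ hv₀
  have hzneg : ∀ v : V, (z : V ≃ₗ[ZMod p] V) v = -v :=
    invol_apply (z : V ≃ₗ[ZMod p] V) (by
      have := congrArg Subtype.val hzz; simpa using this) (fun h => hz1 (Subtype.ext h))
      (fun v hv hh => by
        have := fpfH H hreg z v hv hh
        rw [this]; rfl)
  have hzc : ∀ w : H, z * w = w * z := by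
    intro w
    apply Subtype.ext
    apply LinearEquiv.ext
    intro v
    change (z : V ≃ₗ[ZMod p] V) ((w : V ≃ₗ[ZMod p] V) v) =
      (w : V ≃ₗ[ZMod p] V) ((z : V ≃ₗ[ZMod p] V) v)
    rw [hzneg, hzneg, map_neg]
  have hp2 : (2 : ZMod p) ≠ 0 := by
    intro h2
    apply hz1
    apply fpfH H hreg z v₀ hv₀
    rw [hzneg]
    have : (2 : ZMod p) • v₀ = 0 := by rw [h2, zero_smul]
    rw [two_smul] at this
    exact (eq_neg_of_add_eq_zero_left this).symm
  have hx : ∀ v, (x : V ≃ₗ[ZMod p] V) ((x : V ≃ₗ[ZMod p] V) v) = -v := fun v => by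
    have h1 : (x : V ≃ₗ[ZMod p] V) ((x : V ≃ₗ[ZMod p] V) v) = (z : V ≃ₗ[ZMod p] V) v :=
      congrArg (fun f : H => (f : V ≃ₗ[ZMod p] V) v) hxx
    rw [h1, hzneg]
  have hy : ∀ v, (y : V ≃ₗ[ZMod p] V) ((y : V ≃ₗ[ZMod p] V) v) = -v := fun v => by
    have h1 : (y : V ≃ₗ[ZMod p] V) ((y : V ≃ₗ[ZMod p] V) v) = (z : V ≃ₗ[ZMod p] V) v :=
      congrArg (fun f : H => (f : V ≃ₗ[ZMod p] V) v) hyy
    rw [h1, hzneg]
  have hxyv : ∀ v, (x : V ≃ₗ[ZMod p] V) ((y : V ≃ₗ[ZMod p] V) v) =
      -((y : V ≃ₗ[ZMod p] V) ((x : V ≃ₗ[ZMod p] V) v)) := fun v => by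
    have h1 : (x : V ≃ₗ[ZMod p] V) ((y : V ≃ₗ[ZMod p] V) v) =
        (z : V ≃ₗ[ZMod p] V) ((y : V ≃ₗ[ZMod p] V) ((x : V ≃ₗ[ZMod p] V) v)) :=
      congrArg (fun f : H => (f : V ≃ₗ[ZMod p] V) v) hxy
    rw [h1, hzneg]
  have hconj : ∀ g w : H, (w = x ∨ w = y) → InQ x y z (cj g w) := by
    intro g w hw
    have hwD : w ∈ D := by
      rcases hw with h | h
      · rw [h]; exact hxD
      · rw [h]; exact hyD
    have hww : w * w = z := by
      rcases hw with h | h
      · rw [h]; exact hxx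
      · rw [h]; exact hyy
    have hcz : cj g z = z := by
      unfold cj
      rw [← hzc g, mul_assoc, mul_inv_cancel, mul_one]
    apply hQ (cj g w) (hDn.conj_mem w hwD g)
    rw [← cj_prod, hww, hcz, hzz]
  obtain ⟨i₁, i₂, i₃, i₄, h1, h1', h2, h2', h3, h3', h4, h4', hidx⟩ :=
    index_cen hz1 hzz hxx hyy hxy hzc hconj
  obtain ⟨e, hfr, hdvd⟩ := card_cen_dvd H hreg hp2 x y hx hy hxyv
  refine ⟨cen x ⊓ cen y, ?_, ?_, e, hfr, hdvd⟩
  · -- normality
    constructor
    intro c hc g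
    have hcx : c * x = x * c := mem_cen_iff.mp hc.1
    have hcy : c * y = y * c := mem_cen_iff.mp hc.2
    have hcz' : c * z = z * c := (hzc c).symm
    have hcq : ∀ m : H, InQ x y z m → c * m = m * c := by
      intro m hm
      rcases hm with h | h | h | h | h | h | h | h <;> rw [h]
      · rw [mul_one, one_mul]
      · exact hcz'
      · exact hcx
      · rw [← mul_assoc, hcz', mul_assoc, hcx, mul_assoc]
      · exact hcy
      · rw [← mul_assoc, hcz', mul_assoc, hcy, mul_assoc]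
      · rw [← mul_assoc, hcx, mul_assoc, hcy, mul_assoc]
      · rw [← mul_assoc, hcz', mul_assoc, ← mul_assoc c, hcx, mul_assoc x, hcy]
        simp only [mul_assoc]
    have key : ∀ w : H, (w = x ∨ w = y) → (g * c * g⁻¹) * w = w * (g * c * g⁻¹) := by
      intro w hw
      have hq := hcq _ (hconj g⁻¹ w hw)
      unfold cj at hq
      rw [inv_inv] at hq
      calc (g * c * g⁻¹) * w = g * (c * (g⁻¹ * w * g)) * g⁻¹ := by group
        _ = g * ((g⁻¹ * w * g) * c) * g⁻¹ := by rw [hq]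
        _ = w * (g * c * g⁻¹) := by group
    exact ⟨mem_cen_iff.mpr (key x (Or.inl rfl)), mem_cen_iff.mpr (key y (Or.inr rfl))⟩
  · rw [hidx]
    calc i₁ * i₂ * i₃ * i₄ ≤ 3 * 2 * 2 * 2 :=
          Nat.mul_le_mul (Nat.mul_le_mul (Nat.mul_le_mul h1' h2') h3') h4'
      _ = 24 := by norm_num

/-- a normal subgroup of order `r` or `2 r` contains a subgroup of order `r` normal in the whole
group -/
theorem exists_normal_prime {Γ : Type*} [Group Γ] [Finite Γ] (C : Subgroup Γ) [hCn : C.Normal]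
    {r : ℕ} (hr : r.Prime) (hr3 : 3 ≤ r) (hC : Nat.card C = r ∨ Nat.card C = 2 * r) :
    ∃ P : Subgroup Γ, P.Normal ∧ Nat.card P = r := by
  haveI : Fact r.Prime := ⟨hr⟩
  have hdvd : r ∣ Nat.card C := by
    rcases hC with h | h <;> rw [h]
    exact Dvd.intro_left 2 rfl
  obtain ⟨c₀, hc₀⟩ := exists_prime_orderOf_dvd_card' r hdvd
  have hc₀o : orderOf (c₀ : Γ) = r := by rw [Subgroup.orderOf_coe, hc₀]
  have hPcard : Nat.card (Subgroup.zpowers (c₀ : Γ)) = r := by rw [Nat.card_zpowers, hc₀o]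
  refine ⟨Subgroup.zpowers (c₀ : Γ), ?_, hPcard⟩
  -- conjugates of `c₀` lie in `⟨c₀⟩`
  have hkey : ∀ g : Γ, g * (c₀ : Γ) * g⁻¹ ∈ Subgroup.zpowers (c₀ : Γ) := by
    intro g
    by_contra hnot
    set c : Γ := g * (c₀ : Γ) * g⁻¹ with hc
    have hcC : c ∈ C := hCn.conj_mem _ c₀.2 g
    have hco : orderOf c = r := by
      rw [hc, ← hc₀o]
      exact (MulAut.conj g).orderOf_eq (c₀ : Γ)
    have hinf : Subgroup.zpowers c ⊓ Subgroup.zpowers (c₀ : Γ) = ⊥ := by
      have h1 : Nat.card (Subgroup.zpowers c ⊓ Subgroup.zpowers (c₀ : Γ) : Subgroup Γ) ∣ r := by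
        have := Subgroup.card_dvd_of_le (inf_le_left :
          Subgroup.zpowers c ⊓ Subgroup.zpowers (c₀ : Γ) ≤ Subgroup.zpowers c)
        rwa [Nat.card_zpowers, hco] at this
      rcases (Nat.dvd_prime hr).mp h1 with h | h
      · exact Subgroup.card_eq_one.mp h
      · exfalso
        apply hnot
        have h2 : Subgroup.zpowers c ⊓ Subgroup.zpowers (c₀ : Γ) = Subgroup.zpowers c := by
          apply Subgroup.eq_of_le_of_card_ge inf_le_left
          rw [h, Nat.card_zpowers, hco]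
        have h3 : Subgroup.zpowers c ≤ Subgroup.zpowers (c₀ : Γ) := by
          rw [← h2]; exact inf_le_right
        exact h3 (Subgroup.mem_zpowers c)
    -- injection of the product into `C`
    let f : Subgroup.zpowers (c₀ : Γ) × Subgroup.zpowers c → C := fun ab =>
      ⟨(ab.1 : Γ) * (ab.2 : Γ), C.mul_mem
        ((Subgroup.zpowers_le.mpr c₀.2) ab.1.2) ((Subgroup.zpowers_le.mpr hcC) ab.2.2)⟩
    have hf : Function.Injective f := by
      rintro ⟨a, b⟩ ⟨a', b'⟩ hab
      have hab' : (a : Γ) * (b : Γ) = (a' : Γ) * (b' : Γ) := congrArg Subtype.val hab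
      have h1 : (a' : Γ)⁻¹ * (a : Γ) = (b' : Γ) * (b : Γ)⁻¹ := by
        calc (a' : Γ)⁻¹ * (a : Γ) = (a' : Γ)⁻¹ * ((a : Γ) * (b : Γ)) * (b : Γ)⁻¹ := by group
          _ = (b' : Γ) * (b : Γ)⁻¹ := by rw [hab']; group
      have h2 : (a' : Γ)⁻¹ * (a : Γ) ∈ Subgroup.zpowers c ⊓ Subgroup.zpowers (c₀ : Γ) := by
        refine ⟨?_, ?_⟩
        · rw [h1]
          exact Subgroup.mul_mem _ b'.2 (Subgroup.inv_mem _ b.2)
        · exact Subgroup.mul_mem _ (Subgroup.inv_mem _ a'.2) a.2
      rw [hinf, Subgroup.mem_bot] at h2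
      have h3 : (a : Γ) = a' := by
        calc (a : Γ) = (a' : Γ) * ((a' : Γ)⁻¹ * (a : Γ)) := by group
          _ = a' := by rw [h2, mul_one]
      have h4 : (b : Γ) = b' := by
        have : (b' : Γ) * (b : Γ)⁻¹ = 1 := by rw [← h1, h2]
        calc (b : Γ) = ((b' : Γ) * (b : Γ)⁻¹)⁻¹ * b' := by group
          _ = b' := by rw [this, inv_one, one_mul]
      exact Prod.ext (Subtype.ext h3) (Subtype.ext h4)
    have hle := Nat.card_le_card_of_injective f hf
    rw [Nat.card_prod, hPcard, Nat.card_zpowers, hco] at hle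
    have hCle : Nat.card C ≤ 2 * r := by
      rcases hC with h | h <;> omega
    have : r * r ≤ 2 * r := hle.trans hCle
    have hrpos : 0 < r := hr.pos
    have : r ≤ 2 := Nat.le_of_mul_le_mul_right this hrpos
    omega
  constructor
  intro x hx g
  rw [Subgroup.mem_zpowers_iff] at hx
  obtain ⟨k, rfl⟩ := hx
  rw [← conj_zpow]
  exact Subgroup.zpow_mem _ (hkey g) k

/-- a group with cyclic or quaternion Sylow 2-subgroups having a small normal subgroup of order
`r` or `2 r`: either there is a subgroup of index 2, or the group splits off a central factor of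
order `r` -/
theorem split_case {Γ : Type*} [Group Γ] [Finite Γ] (C : Subgroup Γ) [C.Normal] {r : ℕ}
    (hr : r.Prime) (hr3 : 3 ≤ r) (hC : Nat.card C = r ∨ Nat.card C = 2 * r)
    (hodd : ∀ d : ℕ, d ∣ r - 1 → d ∣ Nat.card Γ → ¬ 2 ∣ d → d = 1)
    (hr2 : ¬ r ^ 2 ∣ Nat.card Γ) :
    (∃ N : Subgroup Γ, N.index = 2) ∨
      ∃ X₀ : Subgroup Γ, Nat.card X₀ * r = Nat.card Γ ∧
        Nonempty (Γ ≃* X₀ × Multiplicative (ZMod r)) := by
  obtain ⟨P, hPn, hP⟩ := exists_normal_prime C hr hr3 hC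
  haveI := hPn
  rcases central_or_index_two P hr hP hodd with h | hPc
  · exact Or.inl h
  right
  obtain ⟨X₀, hX₀, ⟨e⟩⟩ := exists_split P hr hP hPc hr2
  obtain ⟨e'⟩ := nonempty_mulEquiv_zmod (P := P) hr hP
  exact ⟨X₀, hX₀, ⟨e.trans (MulEquiv.prodCongr (MulEquiv.refl _) e')⟩⟩

/-- pulling back a subgroup of index 2 from a direct factor -/
theorem exists_of_prod {Γ X Z : Type*} [Group Γ] [Group X] [Group Z] (e : Γ ≃* X × Z)
    (h : ∃ N : Subgroup X, N.index = 2) : ∃ N : Subgroup Γ, N.index = 2 := by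
  apply exists_of_surjective ((MonoidHom.fst X Z).comp e.toMonoidHom) _ h
  intro x
  refine ⟨e.symm (x, 1), ?_⟩
  simp

/-- extracting the prime and the dimension from `card V = r ^ 2` -/
theorem prime_dim [Finite V] {r : ℕ} (hr : r.Prime) (h : Nat.card V = r ^ 2) :
    p = r ∧ finrank (ZMod p) V = 2 := by
  have hp : p.Prime := Fact.out
  have hcard : Nat.card V = p ^ finrank (ZMod p) V := card_V
  rw [h] at hcard
  have hn : finrank (ZMod p) V ≠ 0 := by
    intro h0
    rw [h0, pow_zero] at hcard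
    have := hr.one_lt
    nlinarith
  have hpr : p ∣ r ^ 2 := by rw [hcard]; exact dvd_pow_self p hn
  have hpr' : p = r := (Nat.prime_dvd_prime_iff_eq hp hr).mp (hp.dvd_of_dvd_pow hpr)
  subst hpr'
  exact ⟨rfl, (Nat.pow_right_injective hp.two_le hcard).symm⟩

/-- a solvable regular linear group over a prime field of odd characteristic has a subgroup of
index 2, with two exceptions -/
theorem part2 [Finite V] (H : Subgroup (V ≃ₗ[ZMod p] V))
    (hreg : ∀ v w : V, v ≠ 0 → w ≠ 0 → ∃! h : H, (h : V ≃ₗ[ZMod p] V) v = w)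
    (v₀ : V) (hv₀ : v₀ ≠ 0) (hp2 : p ≠ 2) (hsolv : Group.IsSolvable H) :
    (∃ N : Subgroup H, N.index = 2) ∨ (Nat.card V = 25 ∧ Nonempty (H ≃* SL23)) ∨
      (Nat.card V = 121 ∧ Nonempty (H ≃* SL23 × Multiplicative (ZMod 5))) := by
  classical
  have hfinE : Finite (V ≃ₗ[ZMod p] V) :=
    Finite.of_injective (fun e : V ≃ₗ[ZMod p] V => (e : V → V)) DFunLike.coe_injective
  haveI : Fact (Nat.Prime 2) := ⟨Nat.prime_two⟩
  have hp : p.Prime := Fact.out
  have hcardH := Cfsg.Agent.S0685.card_H H hreg v₀ hv₀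
  have hcardV : Nat.card V = p ^ finrank (ZMod p) V := card_V
  have hfr : finrank (ZMod p) V ≠ 0 := by
    intro h0
    rw [h0, pow_zero] at hcardV
    have : Subsingleton V := (Nat.card_eq_one_iff_unique.mp hcardV).1
    exact hv₀ (Subsingleton.elim _ _)
  have hoddp : Odd p := hp.odd_of_ne_two hp2
  have h2 : 2 ∣ Nat.card H := by
    rw [hcardH]
    have : Odd (p ^ finrank (ZMod p) V) := hoddp.pow
    obtain ⟨k, hk⟩ := this
    rw [hk]
    exact ⟨k, by omega⟩
  have hsyl : HSyl H := fun B hB => (syl H hreg 2 B hB).imp id (fun h => h.2)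
  rw [← hcardV] at hcardH
  by_cases hI : ∀ A : Subgroup H, A.Normal → IsCyclic A → ∃ W : Submodule (ZMod p) V,
      W ≠ ⊥ ∧ W ≠ ⊤ ∧ ∀ a ∈ A, ∀ v ∈ W, ((a : H) : V ≃ₗ[ZMod p] V) v ∈ W
  · rcases main H hreg hI hsolv with h | h | h | h
    · -- 25
      have hc : Nat.card H = 24 := by rw [hcardH, h]
      rcases order_24 hc hsyl with hN | he
      · exact Or.inl hN
      · exact Or.inr (Or.inl ⟨h, he⟩)
    · -- 49
      have hc : Nat.card H = 48 := by rw [hcardH, h]
      exact Or.inl (order_48 hc hsyl)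
    · -- 121
      have hc : Nat.card H = 120 := by rw [hcardH, h]
      obtain ⟨hp11, hdim⟩ := prime_dim (p := p) (V := V) (r := 11) (by norm_num) (by rw [h]; norm_num)
      obtain ⟨C, hCn, hCi, e, he, hCd⟩ := exists_normal_small H hreg hI hsolv
      haveI := hCn
      have he1 : e = 1 := by omega
      have hpe : p ^ e - 1 = 10 := by rw [hp11, he1]; norm_num
      rw [hpe] at hCd
      have hmul := C.card_mul_index
      rw [hc] at hmul
      have hCle : Nat.card C ≤ 10 := Nat.le_of_dvd (by norm_num) hCd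
      have hC : Nat.card C = 5 ∨ Nat.card C = 2 * 5 := by
        have h5 : 5 ≤ Nat.card C := by
          by_contra hlt
          push Not at hlt
          have : Nat.card C * C.index ≤ 4 * 24 := Nat.mul_le_mul (by omega) hCi
          omega
        interval_cases hcc : Nat.card C
        · left; rfl
        · exfalso; revert hCd; norm_num
        · exfalso; revert hCd; norm_num
        · exfalso; revert hCd; norm_num
        · exfalso; revert hCd; norm_num
        · right; rfl
      have hodd5 : ∀ d : ℕ, d ∣ 5 - 1 → d ∣ Nat.card H → ¬ 2 ∣ d → d = 1 := by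
        intro d hd4 _ hd2
        have hd4' : d ∣ 4 := hd4
        have hle : d ≤ 4 := Nat.le_of_dvd (by norm_num) hd4'
        interval_cases d
        · simp at hd4'
        · rfl
        · exact absurd (dvd_refl 2) hd2
        · revert hd4'; norm_num
        · exact absurd (by norm_num : 2 ∣ 4) hd2
      have hr25 : ¬ 5 ^ 2 ∣ Nat.card H := by rw [hc]; norm_num
      rcases split_case C (r := 5) (by norm_num) (by norm_num) hC hodd5 hr25 with
        hN | ⟨X₀, hX₀, ⟨ε⟩⟩
      · exact Or.inl hN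
      · have hX : Nat.card X₀ = 24 := by rw [hc] at hX₀; omega
        rcases order_24 hX (hsyl.subgroup X₀) with hN | hε'
        · exact Or.inl (exists_of_prod ε hN)
        · obtain ⟨ε'⟩ := hε'
          exact Or.inr (Or.inr ⟨h, ⟨ε.trans (MulEquiv.prodCongr ε' (MulEquiv.refl _))⟩⟩)
    · -- 529
      have hc : Nat.card H = 528 := by rw [hcardH, h]
      obtain ⟨hp23, hdim⟩ := prime_dim (p := p) (V := V) (r := 23) (by norm_num) (by rw [h]; norm_num)
      obtain ⟨C, hCn, hCi, e, he, hCd⟩ := exists_normal_small H hreg hI hsolv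
      haveI := hCn
      have he1 : e = 1 := by omega
      have hpe : p ^ e - 1 = 22 := by rw [hp23, he1]; norm_num
      rw [hpe] at hCd
      have hmul := C.card_mul_index
      rw [hc] at hmul
      have hCle : Nat.card C ≤ 22 := Nat.le_of_dvd (by norm_num) hCd
      have hC : Nat.card C = 11 ∨ Nat.card C = 2 * 11 := by
        have h5 : 22 ≤ Nat.card C := by
          by_contra hlt
          push Not at hlt
          have : Nat.card C * C.index ≤ 21 * 24 := Nat.mul_le_mul (by omega) hCi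
          omega
        right
        omega
      have hodd11 : ∀ d : ℕ, d ∣ 11 - 1 → d ∣ Nat.card H → ¬ 2 ∣ d → d = 1 := by
        intro d hd10 hdc hd2
        have hd10' : d ∣ 10 := hd10
        rw [hc] at hdc
        have hle : d ≤ 10 := Nat.le_of_dvd (by norm_num) hd10'
        interval_cases d <;> first | rfl | (exfalso; revert hd10' hdc hd2; norm_num)
      have hr211 : ¬ 11 ^ 2 ∣ Nat.card H := by rw [hc]; norm_num
      rcases split_case C (r := 11) (by norm_num) (by norm_num) hC hodd11 hr211 with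
        hN | ⟨X₀, hX₀, ⟨ε⟩⟩
      · exact Or.inl hN
      · have hX : Nat.card X₀ = 48 := by rw [hc] at hX₀; omega
        exact Or.inl (exists_of_prod ε (order_48 hX (hsyl.subgroup X₀)))
  · left
    push Not at hI
    obtain ⟨A₀, hAn, hAc, hirr⟩ := hI
    let S : Sylow 2 H := default
    have hcycCase : IsCyclic (S : Subgroup H) → ∃ N : Subgroup H, N.index = 2 := by
      intro hcy
      apply exists_of_npc h2
      exact Cfsg.Agent.Helper53.hasNormalPComplement_of_cyclic (S : Subgroup H) hcy S.isPGroup'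
        S.not_dvd_index
    rcases syl H hreg 2 S S.isPGroup' with hcy | ⟨-, n, ⟨f⟩⟩
    · exact hcycCase hcy
    rcases Nat.eq_zero_or_pos n with h0 | hn
    · apply hcycCase
      subst h0
      haveI := QuaternionGroup.quaternionGroup_one_isCyclic
      exact isCyclic_of_surjective f.symm f.symm.surjective
    obtain ⟨x₀, y₀, hxy₀⟩ := quat_not_comm hn
    refine caseA H A₀ hAn hAc ?_ S (f.symm x₀ : H) (f.symm y₀ : H) (f.symm x₀).2 (f.symm y₀).2 ?_
    · intro W hW
      by_contra hcon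
      rw [not_or] at hcon
      obtain ⟨a, ha, v, hv, hav⟩ := hirr W hcon.1 hcon.2
      exact hav (hW a ha v hv)
    · intro h
      apply hxy₀
      have h1 : f.symm x₀ * f.symm y₀ = f.symm y₀ * f.symm x₀ := Subtype.ext h
      have h2 := congrArg f h1
      simpa using h2

end Cfsg.Agent.Helper12.RegLinSolv
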