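import Mathlib
import Cfsg.Agent.Lib.Helper93.RU0

/-!
# S3 project (S2278): SL_3(F) is generated by two conjugate regular unipotent elements.
Shared definitions (server: helper12).  We work on the index type `Fin (0 + 3)` of helper93's RU
library (`SLm 0 F`), so that all RU pieces (`tvS`, `Wset`, `W_add`, `W_smul`, `W_conj`,
`eq_top_of_W`, the A-block) apply verbatim with `m := 0`.
-/

set_option autoImplicit false

namespace Cfsg.Agent.Helper12.S3

open Matrix Cfsg.Agent.Helper93.RU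

variable {F : Type*} [Field F]

/-- `SL_3(F)` on the index type of the RU library -/
abbrev G3 (F : Type*) [Field F] := SLm 0 F

/-- the vector `(a, b, c)` -/
def vec3 (a b c : F) : Fin (0 + 3) → F := ![a, b, c]

/-- upper unitriangular `1 + a E01 + b E12 + c E02` -/
def upM (a b c : F) : Matrix (Fin (0 + 3)) (Fin (0 + 3)) F := !![1, a, c; 0, 1, b; 0, 0, 1]

/-- lower unitriangular `1 + a E10 + b E21 + c E20` -/
def loM (a b c : F) : Matrix (Fin (0 + 3)) (Fin (0 + 3)) F := !![1, 0, 0; a, 1, 0; c, b, 1]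

/-- antidiagonal monomial matrix `E02 - k⁻¹ E11 + k E20` (determinant `1` for `k ≠ 0`) -/
def anM (k : F) : Matrix (Fin (0 + 3)) (Fin (0 + 3)) F := !![0, 0, 1; 0, -k⁻¹, 0; k, 0, 0]

/-- conjugator for the prime case: `-P`, `P` the antidiagonal permutation matrix -/
def gPM (F : Type*) [Field F] : Matrix (Fin (0 + 3)) (Fin (0 + 3)) F :=
  !![0, 0, -1; 0, -1, 0; -1, 0, 0]

/-- conjugator for the even case: `diag(lam⁻¹, 1, lam) * (-P)` -/
def gEM (lam : F) : Matrix (Fin (0 + 3)) (Fin (0 + 3)) F :=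
  !![0, 0, -lam⁻¹; 0, -1, 0; -lam, 0, 0]

/-- conjugator for `F_4`: `(1 + ω E21) * (-P)` -/
def g4M (ω : F) : Matrix (Fin (0 + 3)) (Fin (0 + 3)) F :=
  !![0, 0, -1; 0, -1, 0; -1, -ω, 0]

/-- conjugator for the family `N` -/
def gNM (k : F) : Matrix (Fin (0 + 3)) (Fin (0 + 3)) F :=
  !![(k + 1)⁻¹, k * (k - 1) * ((k + 1)⁻¹) ^ 4, 0;
     k + 1, k ^ 2 * (k + 3) * ((k + 1)⁻¹) ^ 2, 0;
     k * (k + 1)⁻¹, k * (k ^ 3 + 4 * k ^ 2 + 2 * k + 1) * ((k + 1)⁻¹) ^ 4, (k + 1) * k⁻¹]

/-- a matrix as an element of `SL_3` (junk value `1` unless the determinant is `1`) -/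
noncomputable def mkS (M : Matrix (Fin (0 + 3)) (Fin (0 + 3)) F) : G3 F :=
  haveI := Classical.propDecidable (M.det = 1)
  if h : M.det = 1 then ⟨M, h⟩ else 1

theorem mkS_val (M : Matrix (Fin (0 + 3)) (Fin (0 + 3)) F) (h : M.det = 1) : (mkS M).1 = M := by
  unfold mkS
  simp [h]

noncomputable def upS (a b c : F) : G3 F := mkS (upM a b c)
noncomputable def loS (a b c : F) : G3 F := mkS (loM a b c)
noncomputable def anS (k : F) : G3 F := mkS (anM k)
noncomputable def gPS (F : Type*) [Field F] : G3 F := mkS (gPM F)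
noncomputable def gES (lam : F) : G3 F := mkS (gEM lam)
noncomputable def g4S (ω : F) : G3 F := mkS (g4M ω)
noncomputable def gNS (k : F) : G3 F := mkS (gNM k)

/-- `x_{02}(y) = 1 + y E02` -/
noncomputable def x02 (y : F) : G3 F := tvS (eV 0) (y • eV 2)

/-- `x_{20}(y) = 1 + y E20` -/
noncomputable def x20 (y : F) : G3 F := tvS (eV 2) (y • eV 0)

/-- the regular unipotent of the family `N`: `u = 1 - E01 - S E12 + (k+3) E02`, `S = (k+1)³/k²` -/
noncomputable def uN (k : F) : G3 F := upS (-1) (-((k + 1) ^ 3 * (k⁻¹) ^ 2)) (k + 3)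

end Cfsg.Agent.Helper12.S3
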