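import Cfsg.Agent.Lib.Helper12.S4017A6core
import Cfsg.Agent.Lib.Helper22.S4017SIMP

set_option autoImplicit false

/-!
# S4017M (A3): `|N(P)| = 2 |P|`, with (A2), (A1) and (S1) as hypotheses

Route: `g ∈ N(P)` ⟹ `g u g⁻¹` is an involution normalising `P` ⟹ it inverts `P` ⟹ it is `z u`,
`z ∈ P`; `z = w²`, `w u w⁻¹ = z u`, so `w⁻¹ g ∈ C(u) ∩ N(P) = {1, u}`. Hence `N(P) = P ∪ P u`.
-/

namespace Cfsg.Agent.Helper12.S4017M

open Cfsg.Agent.Helper64.S4017

variable {G : Type*} [Group G] [Finite G] {a p : ℕ} {Q : Subgroup G} {x : G}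

theorem setting_odd (h : Setting a p Q x) : Odd p := by
  obtain ⟨k, hk⟩ : ∃ k, a = k + 2 := ⟨a - 2, by have := h.two_le; omega⟩
  have h1 := h.p_eq
  rw [hk, pow_succ, pow_succ] at h1
  exact ⟨2 ^ k * 2 - 1, by omega⟩

omit [Finite G] in
theorem pel_sq_eq_one {p : ℕ} (hpodd : Odd p) {y : G} (hy : IsPel p y) (hyy : y * y = 1) :
    y = 1 := by
  obtain ⟨j, hj⟩ := hy
  have h1 : orderOf y ∣ 2 := orderOf_dvd_of_pow_eq_one (by rw [pow_two]; exact hyy)
  have h2 : Odd (orderOf y) := by rw [hj]; exact hpodd.pow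
  have h3 : orderOf y ≤ 2 := Nat.le_of_dvd (by norm_num) h1
  have h4 : orderOf y = 1 := by
    rcases h2 with ⟨k, hk⟩
    have : 0 < orderOf y := Nat.pos_of_dvd_of_pos h1 (by norm_num)
    omega
  exact orderOf_eq_one_iff.mp h4

omit [Finite G] in
/-- an element of odd order is a square of one of its powers -/
theorem pel_exists_sqrt {p : ℕ} (hpodd : Odd p) {z : G} (hz : IsPel p z) :
    ∃ k : ℕ, z ^ k * z ^ k = z := by
  obtain ⟨j, hj⟩ := hz
  have h2 : Odd (orderOf z) := by rw [hj]; exact hpodd.pow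
  obtain ⟨k, hk⟩ := h2
  refine ⟨k + 1, ?_⟩
  rw [← pow_add]
  have : k + 1 + (k + 1) = orderOf z + 1 := by omega
  rw [this, pow_succ, pow_orderOf_eq_one, one_mul]

theorem x_ne_one (h : Setting a p Q x) : x ≠ 1 := by
  intro hx1
  obtain ⟨t, ht, ht1, s, hs, hs1, hst⟩ := Cfsg.Agent.Helper22.S4017M.h22_exists_two h
  obtain ⟨i, hi⟩ := h.x_trans t ht ht1 s hs hs1
  rw [hx1] at hi
  simp at hi
  exact hst hi.symm

theorem p_dvd_card (h : Setting a p Q x) : p ∣ Nat.card G := by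
  obtain ⟨j, hj⟩ := h.x_pel
  have hj0 : j ≠ 0 := by
    intro h0
    rw [h0, pow_zero] at hj
    exact x_ne_one h (orderOf_eq_one_iff.mp hj)
  have h1 : p ∣ orderOf x := by rw [hj]; exact dvd_pow_self p hj0
  exact h1.trans (orderOf_dvd_natCard x)

/-- (A3) with (S1), (A1) for all settings and (A2) for `P` as hypotheses. -/
theorem A_normalizer_of (h : Setting a p Q x)
    (hA : ∀ u z : G, IsInv u → IsPel p z → z * u = u * z → z = 1)
    (hS1 : ∀ u : G, IsInv u → ∃ (Q' : Subgroup G) (x' : G), Setting a p Q' x' ∧ u ∈ Q')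
    (hA1 : ∀ (Q' : Subgroup G) (x' : G), Setting a p Q' x' →
      ∀ t ∈ Q', t ≠ 1 → ∀ g : G, g * t = t * g → g ∈ Q')
    (P : Sylow p G)
    (hA2 : (∃ u : G, IsInv u ∧ ∀ z ∈ P, u * z * u⁻¹ = z⁻¹) ∧
      ∀ z ∈ P, z ≠ 1 → ∀ g : G, g * z = z * g → g ∈ P) :
    Nat.card (Subgroup.normalizer ((P : Subgroup G) : Set G)) = 2 * Nat.card P := by
  have : Fact p.Prime := ⟨h.prime⟩
  have hpodd := setting_odd h
  obtain ⟨⟨u, hu, hinv⟩, hcen⟩ := hA2
  have hui : u⁻¹ = u := isInv_inv_eq hu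
  have hpel : ∀ z ∈ P, IsPel p z := by
    intro z hz
    obtain ⟨k, hk⟩ := (IsPGroup.iff_orderOf.mp P.isPGroup') ⟨z, hz⟩
    exact ⟨k, by rw [← hk, Subgroup.orderOf_mk]⟩
  have huP : u ∉ (P : Subgroup G) := fun hmem =>
    hu.1 (pel_sq_eq_one hpodd (hpel u hmem) hu.2)
  have habel : ∀ z ∈ P, ∀ z' ∈ P, z * z' = z' * z := fun z hz z' hz' => h.abel P z hz z' hz'
  -- a nontrivial element of `P`
  obtain ⟨z₀, hz₀P, hz₀1⟩ : ∃ z₀ ∈ P, z₀ ≠ 1 := by
    have hne := P.ne_bot_of_dvd_card (p_dvd_card h)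
    rcases (P : Subgroup G).bot_or_exists_ne_one with hb | ⟨z, hz, hz1⟩
    · exact absurd hb hne
    · exact ⟨z, hz, hz1⟩
  -- involutions normalising `P` lie in `P u`
  have key1 : ∀ v : G, IsInv v → (∀ z ∈ P, v * z * v⁻¹ ∈ P) → ∃ z ∈ P, v = z * u := by
    intro v hv hvP
    have hvi : v⁻¹ = v := isInv_inv_eq hv
    have hvinv : ∀ z ∈ P, v * z * v⁻¹ = z⁻¹ := by
      intro z hz
      have hz' := hvP z hz
      have hw : z * (v * z * v⁻¹) ∈ P := P.mul_mem hz hz'
      have hcomm : z * (v * z * v⁻¹) * v = v * (z * (v * z * v⁻¹)) := by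
        have e1 : v * (z * (v * z * v⁻¹)) = (v * z * v⁻¹) * (v * v) * z * v⁻¹ := by group
        rw [e1, hv.2, mul_one, hvi, ← habel z hz (v * z * v) (by rw [hvi] at hz'; exact hz')]
      have := hA v _ hv (hpel _ hw) hcomm
      exact (eq_inv_of_mul_eq_one_right this)
    refine ⟨v * u⁻¹, ?_, by group⟩
    apply hcen z₀ hz₀P hz₀1
    have e1 : u⁻¹ * z₀ = z₀⁻¹ * u⁻¹ := by
      have := hinv z₀ hz₀P
      rw [hui]
      calc u * z₀ = (u * z₀ * u⁻¹) * u := by group
        _ = z₀⁻¹ * u := by rw [this]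
    have e2 : v * z₀⁻¹ = z₀ * v := by
      have := hvinv z₀ hz₀P
      calc v * z₀⁻¹ = (v * z₀ * v⁻¹)⁻¹ * v := by group
        _ = z₀ * v := by rw [this, inv_inv]
    calc v * u⁻¹ * z₀ = v * (u⁻¹ * z₀) := by group
      _ = v * (z₀⁻¹ * u⁻¹) := by rw [e1]
      _ = (v * z₀⁻¹) * u⁻¹ := by group
      _ = z₀ * v * u⁻¹ := by rw [e2]
      _ = z₀ * (v * u⁻¹) := by group
  -- `C(u) ∩ N(P) = {1, u}`
  have key2 : ∀ c : G, (∀ z ∈ P, c * z * c⁻¹ ∈ P) → c * u = u * c → c = 1 ∨ c = u := by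
    intro c hcP hcu
    obtain ⟨Q', x', h', huQ⟩ := hS1 u hu
    have hcQ : c ∈ Q' := hA1 Q' x' h' u huQ hu.1 c hcu
    by_cases hc1 : c = 1
    · exact Or.inl hc1
    · right
      have hcinv : IsInv c := ⟨hc1, h'.elem c hcQ⟩
      obtain ⟨z', hz', hcz⟩ := key1 c hcinv hcP
      have hz'u : z' * u = u * z' := by
        have e : z' = c * u⁻¹ := by rw [hcz]; group
        rw [e]
        calc c * u⁻¹ * u = c := by group
          _ = u * c * u⁻¹ := by rw [← hcu]; group
          _ = u * (c * u⁻¹) := by group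
      have := hA u z' hu (hpel z' hz') hz'u
      rw [hcz, this, one_mul]
  -- the normaliser, elementwise
  have hN : ∀ g : G, g ∈ Subgroup.normalizer ((P : Subgroup G) : Set G) →
      g ∈ (P : Subgroup G) ∨ ∃ w ∈ (P : Subgroup G), g = w * u := by
    intro g hg
    have hgN : ∀ z ∈ P, g * z * g⁻¹ ∈ P := fun z hz => (Subgroup.mem_normalizer_iff.mp hg z).mp hz
    have hgN' : ∀ z ∈ P, g⁻¹ * z * g ∈ P := fun z hz =>
      (Subgroup.mem_normalizer_iff''.mp hg z).mp hz
    have huN : ∀ z ∈ P, u * z * u⁻¹ ∈ P := fun z hz => by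
      rw [hinv z hz]; exact P.inv_mem hz
    have hv : IsInv (g * u * g⁻¹) := by
      refine ⟨?_, ?_⟩
      · intro h1
        apply hu.1
        calc u = g⁻¹ * (g * u * g⁻¹) * g := by group
          _ = 1 := by rw [h1]; group
      · calc g * u * g⁻¹ * (g * u * g⁻¹) = g * (u * u) * g⁻¹ := by group
          _ = 1 := by rw [hu.2]; group
    have hvP : ∀ z ∈ P, (g * u * g⁻¹) * z * (g * u * g⁻¹)⁻¹ ∈ P := by
      intro z hz
      have := hgN _ (huN _ (hgN' z hz))
      have e : g * u * g⁻¹ * z * (g * u * g⁻¹)⁻¹ = g * (u * (g⁻¹ * z * g) * u⁻¹) * g⁻¹ := by group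
      rw [e]; exact this
    obtain ⟨z, hz, hvz⟩ := key1 _ hv hvP
    obtain ⟨k, hk⟩ := pel_exists_sqrt hpodd (hpel z hz)
    set w := z ^ k with hw
    have hwP : w ∈ (P : Subgroup G) := P.pow_mem hz k
    -- `w u w⁻¹ = z u`
    have e1 : w * u * w⁻¹ = z * u := by
      have := hinv w hwP
      have e2 : u * w⁻¹ = w * u := by
        calc u * w⁻¹ = (u * w * u⁻¹)⁻¹ * u := by group
          _ = w * u := by rw [this, inv_inv]
      calc w * u * w⁻¹ = w * (u * w⁻¹) := by group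
        _ = w * (w * u) := by rw [e2]
        _ = (w * w) * u := by group
        _ = z * u := by rw [hk]
    have hc : (w⁻¹ * g) * u = u * (w⁻¹ * g) := by
      have e3 : g * u = (z * u) * g := by
        rw [← hvz]; group
      calc w⁻¹ * g * u = w⁻¹ * (g * u) := by group
        _ = w⁻¹ * ((z * u) * g) := by rw [e3]
        _ = w⁻¹ * ((w * u * w⁻¹) * g) := by rw [e1]
        _ = u * (w⁻¹ * g) := by group
    have hcP : ∀ y ∈ P, (w⁻¹ * g) * y * (w⁻¹ * g)⁻¹ ∈ P := by
      intro y hy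
      have e : w⁻¹ * g * y * (w⁻¹ * g)⁻¹ = w⁻¹ * (g * y * g⁻¹) * w := by group
      rw [e]
      exact P.mul_mem (P.mul_mem (P.inv_mem hwP) (hgN y hy)) hwP
    rcases key2 _ hcP hc with h1 | h1
    · left
      have : g = w := by
        calc g = w * (w⁻¹ * g) := by group
          _ = w := by rw [h1, mul_one]
      rw [this]; exact hwP
    · right
      refine ⟨w, hwP, ?_⟩
      calc g = w * (w⁻¹ * g) := by group
        _ = w * u := by rw [h1]
  -- `u` normalises `P`
  have huN : u ∈ Subgroup.normalizer ((P : Subgroup G) : Set G) := by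
    rw [Subgroup.mem_normalizer_iff]
    intro z
    constructor
    · intro hz
      rw [hinv z hz]; exact P.inv_mem hz
    · intro hz
      have := hinv _ hz
      have e : u * (u * z * u⁻¹) * u⁻¹ = z := by
        rw [hui]
        calc u * (u * z * u) * u = (u * u) * z * (u * u) := by group
          _ = z := by rw [hu.2]; group
      rw [e] at this
      have h2 := P.inv_mem hz
      rw [← this] at h2
      exact h2
  have hPN : (P : Subgroup G) ≤ Subgroup.normalizer ((P : Subgroup G) : Set G) :=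
    Subgroup.le_normalizer
  -- the count
  have hset : ((Subgroup.normalizer ((P : Subgroup G) : Set G) : Subgroup G) : Set G) =
      ((P : Subgroup G) : Set G) ∪ (fun w => w * u) '' ((P : Subgroup G) : Set G) := by
    ext g
    simp only [SetLike.mem_coe, Set.mem_union, Set.mem_image]
    constructor
    · intro hg
      rcases hN g hg with h1 | ⟨w, hw, rfl⟩
      · exact Or.inl h1
      · exact Or.inr ⟨w, hw, rfl⟩
    · rintro (h1 | ⟨w, hw, rfl⟩)
      · exact hPN h1
      · exact Subgroup.mul_mem _ (hPN hw) huN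
  have hdisj : Disjoint ((P : Subgroup G) : Set G)
      ((fun w => w * u) '' ((P : Subgroup G) : Set G)) := by
    rw [Set.disjoint_left]
    rintro g hg ⟨w, hw, rfl⟩
    apply huP
    have : u = w⁻¹ * (w * u) := by group
    rw [this]
    exact P.mul_mem (P.inv_mem hw) hg
  have h1 : Nat.card (Subgroup.normalizer ((P : Subgroup G) : Set G)) =
      Set.ncard ((Subgroup.normalizer ((P : Subgroup G) : Set G) : Subgroup G) : Set G) := by
    rw [← Nat.card_coe_set_eq]; rfl
  have h2 : Set.ncard ((P : Subgroup G) : Set G) = Nat.card P := by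
    rw [← Nat.card_coe_set_eq]; rfl
  rw [h1, hset, Set.ncard_union_eq hdisj (Set.toFinite _) (Set.toFinite _),
    Set.ncard_image_of_injective _ (mul_left_injective u), h2]
  ring

end Cfsg.Agent.Helper12.S4017M
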