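import Cfsg.Agent.Lib.Helper12.S4017A6aux
import Cfsg.Agent.Lib.Helper22.S4017S1
import Cfsg.Agent.Lib.Helper86.S4017A1
import Cfsg.Agent.Lib.Helper86.S4017A2
import Cfsg.Agent.Lib.Helper86.S4017E23

set_option autoImplicit false

namespace Cfsg.Agent.Helper12.S4017M

open Cfsg.Agent.Helper64.S4017

variable {G : Type*} [Group G] [Finite G] {a p : ℕ} {Q : Subgroup G} {x : G}

/-- (A6) count the pairs of involutions `(u, v)` by `g = u v`: `g = 1` (`m` pairs), `g` an
involution (`v ∈ C(u) \ {1, u} = Q_u \ {1, u}`: `p - 1` for each `u`), `g` a nontrivial `p`-element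
(for each `g` the `u` inverting `g` form the coset `P u₀`, `P = C(g)`); nothing else by (E23). -/
theorem A_count (hall : ∀ (Q' : Subgroup G) (x' : G), Setting a p Q' x' → Tools a p Q' x')
    (h : Setting a p Q x) (hA : ∀ u z : G, IsInv u → IsPel p z → z * u = u * z → z = 1)
    (P : Sylow p G) :
    Nat.card {u : G // IsInv u} * Nat.card {u : G // IsInv u} =
      Nat.card {u : G // IsInv u} * p +
        Nat.card {y : G // y ≠ 1 ∧ IsPel p y} * Nat.card P := by
  have hA1 : ∀ (Q' : Subgroup G) (x' : G), Setting a p Q' x' →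
      ∀ t ∈ Q', t ≠ 1 → ∀ g : G, g * t = t * g → g ∈ Q' :=
    fun Q' x' h' t ht ht1 g hg =>
      Cfsg.Agent.Helper86.S4017M.A_centralizer h' (hall Q' x' h') hA ht ht1 hg
  refine A_count_of h (fun u hu => Cfsg.Agent.Helper22.S4017M.exists_setting h hu) hA1 ?_
    (fun P' => Cfsg.Agent.Helper86.S4017M.A_sylow hall h hA P') P
  intro u v hu hv huv
  exact Cfsg.Agent.Helper86.S4017M.isPel_mul_of_not_comm h
    (fun Q' x' h' t ht ht1 u' hu' hut => hA1 Q' x' h' t ht ht1 u' hut) hu hv huv

end Cfsg.Agent.Helper12.S4017M
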