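import Cfsg.Agent.Lib.Helper12.S4017A6core

set_option autoImplicit false

/-!
# S4017M (A6): the two local counts and the assembly with the other pieces as hypotheses
-/

namespace Cfsg.Agent.Helper12.S4017M

open Cfsg.Agent.Helper64.S4017

variable {G : Type*} [Group G]

/-- The involutions commuting with `u` are `Q_u \ {1}` when `C(u) ≤ Q_u`, `Q_u` elementary abelian
of order `p + 1`. -/
theorem card_inv_commuting {p : ℕ} (Qu : Subgroup G) (u : G) (hcard : Nat.card Qu = p + 1)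
    (helem : ∀ s ∈ Qu, s * s = 1) (hu : u ∈ Qu) (hcen : ∀ g : G, g * u = u * g → g ∈ Qu) :
    Nat.card {v : G // IsInv v ∧ u * v = v * u} = p := by
  have hcommQ : ∀ s ∈ Qu, ∀ s' ∈ Qu, s * s' = s' * s := by
    intro s hs s' hs'
    have h1 := helem _ (Qu.mul_mem hs hs')
    have h2 := helem s hs
    have h3 := helem s' hs'
    have hs_inv : s⁻¹ = s := inv_eq_of_mul_eq_one_left h2
    have hs'_inv : s'⁻¹ = s' := inv_eq_of_mul_eq_one_left h3
    have : (s * s')⁻¹ = s * s' := inv_eq_of_mul_eq_one_left h1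
    rw [mul_inv_rev, hs_inv, hs'_inv] at this
    exact this.symm
  have hset : {v : G | IsInv v ∧ u * v = v * u} = (Qu : Set G) \ {1} := by
    ext v
    simp only [Set.mem_ofPred_eq, Set.mem_sdiff, SetLike.mem_coe, Set.mem_singleton_iff]
    constructor
    · rintro ⟨hv, hc⟩
      exact ⟨hcen v hc.symm, hv.1⟩
    · rintro ⟨hv, hv1⟩
      exact ⟨⟨hv1, helem v hv⟩, hcommQ u hu v hv⟩
  have h1 : Nat.card {v : G // IsInv v ∧ u * v = v * u} =
      Set.ncard {v : G | IsInv v ∧ u * v = v * u} := by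
    rw [← Nat.card_coe_set_eq]; rfl
  rw [h1, hset, Set.ncard_sdiff_singleton_of_mem (by exact Qu.one_mem)]
  have h2 : Set.ncard (Qu : Set G) = Nat.card Qu := by
    rw [← Nat.card_coe_set_eq]; rfl
  rw [h2, hcard]; simp

/-- The involutions inverting `g` form the coset `P u₀`. -/
theorem card_inv_inverting (Pg : Subgroup G) (g u₀ : G) (hu₀ : IsInv u₀)
    (hinv : ∀ z ∈ Pg, u₀ * z * u₀⁻¹ = z⁻¹) (hcen : ∀ k : G, k * g = g * k → k ∈ Pg)
    (habel : ∀ z ∈ Pg, z * g = g * z) (hg : g ∈ Pg) (hu₀P : u₀ ∉ Pg) :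
    Nat.card {u : G // IsInv u ∧ u * g * u⁻¹ = g⁻¹} = Nat.card Pg := by
  have hu₀i : u₀⁻¹ = u₀ := isInv_inv_eq hu₀
  have hinv' : ∀ z ∈ Pg, u₀ * z = z⁻¹ * u₀ := by
    intro z hz
    have := hinv z hz
    rw [← this]; group
  symm
  refine Nat.card_congr ?_
  refine
    { toFun := fun z => ⟨z.1 * u₀, ?_, ?_⟩
      invFun := fun u => ⟨u.1 * u₀⁻¹, ?_⟩
      left_inv := ?_
      right_inv := ?_ }
  · -- IsInv (z * u₀)
    refine ⟨?_, ?_⟩
    · intro h1
      apply hu₀P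
      have : u₀ = (z.1)⁻¹ := eq_inv_of_mul_eq_one_right h1
      rw [this]; exact Pg.inv_mem z.2
    · calc z.1 * u₀ * (z.1 * u₀) = z.1 * (u₀ * z.1) * u₀ := by group
        _ = z.1 * (z.1⁻¹ * u₀) * u₀ := by rw [hinv' z.1 z.2]
        _ = u₀ * u₀ := by group
        _ = 1 := hu₀.2
  · -- inverts g
    have hzg : z.1 * g⁻¹ = g⁻¹ * z.1 := by
      have := habel z.1 z.2
      calc z.1 * g⁻¹ = g⁻¹ * (g * z.1) * g⁻¹ := by group
        _ = g⁻¹ * (z.1 * g) * g⁻¹ := by rw [this]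
        _ = g⁻¹ * z.1 := by group
    calc z.1 * u₀ * g * (z.1 * u₀)⁻¹ = z.1 * (u₀ * g * u₀⁻¹) * z.1⁻¹ := by group
      _ = z.1 * g⁻¹ * z.1⁻¹ := by rw [hinv g hg]
      _ = g⁻¹ * z.1 * z.1⁻¹ := by rw [hzg]
      _ = g⁻¹ := by group
  · -- u * u₀⁻¹ ∈ Pg
    apply hcen
    obtain ⟨u, hu, hug⟩ := u
    simp only
    have h1 : u₀⁻¹ * g = g⁻¹ * u₀⁻¹ := by
      rw [hu₀i]; exact hinv' g hg
    have h2 : u * g⁻¹ = g * u := by
      calc u * g⁻¹ = (u * g * u⁻¹)⁻¹ * u := by group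
        _ = g * u := by rw [hug, inv_inv]
    calc u * u₀⁻¹ * g = u * (u₀⁻¹ * g) := by group
      _ = u * (g⁻¹ * u₀⁻¹) := by rw [h1]
      _ = (u * g⁻¹) * u₀⁻¹ := by group
      _ = g * u * u₀⁻¹ := by rw [h2]
      _ = g * (u * u₀⁻¹) := by group
  · intro z
    apply Subtype.ext
    simp
  · intro u
    apply Subtype.ext
    simp

end Cfsg.Agent.Helper12.S4017M

namespace Cfsg.Agent.Helper12.S4017M

open Cfsg.Agent.Helper64.S4017

variable {G : Type*} [Group G] [Finite G]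

/-- (A6) with the pieces it uses -- (S1) `exists_setting`, (A1) `A_centralizer` for all settings,
(E23) and (A2) -- as hypotheses. -/
theorem A_count_of {a p : ℕ} {Q : Subgroup G} {x : G} (h : Setting a p Q x)
    (hS1 : ∀ u : G, IsInv u → ∃ (Q' : Subgroup G) (x' : G), Setting a p Q' x' ∧ u ∈ Q')
    (hA1 : ∀ (Q' : Subgroup G) (x' : G), Setting a p Q' x' →
      ∀ t ∈ Q', t ≠ 1 → ∀ g : G, g * t = t * g → g ∈ Q')
    (hE23 : ∀ u v : G, IsInv u → IsInv v → u * v ≠ v * u → IsPel p (u * v))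
    (hA2 : ∀ P : Sylow p G, (∃ u : G, IsInv u ∧ ∀ z ∈ P, u * z * u⁻¹ = z⁻¹) ∧
      ∀ z ∈ P, z ≠ 1 → ∀ g : G, g * z = z * g → g ∈ P)
    (P : Sylow p G) :
    Nat.card {u : G // IsInv u} * Nat.card {u : G // IsInv u} =
      Nat.card {u : G // IsInv u} * p +
        Nat.card {y : G // y ≠ 1 ∧ IsPel p y} * Nat.card P := by
  haveI : Fact p.Prime := ⟨h.prime⟩
  have hpodd : Odd p := by
    obtain ⟨k, hk⟩ : ∃ k, a = k + 2 := ⟨a - 2, by have := h.two_le; omega⟩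
    have h1 := h.p_eq
    rw [hk, pow_succ, pow_succ] at h1
    exact ⟨2 ^ k * 2 - 1, by omega⟩
  have hodd : ∀ y : G, IsPel p y → y * y = 1 → y = 1 := by
    rintro y ⟨j, hj⟩ hyy
    have h1 : orderOf y ∣ 2 := orderOf_dvd_of_pow_eq_one (by rw [pow_two]; exact hyy)
    have h2 : Odd (orderOf y) := by rw [hj]; exact hpodd.pow
    have h3 : orderOf y ≤ 2 := Nat.le_of_dvd (by norm_num) h1
    have h4 : orderOf y = 1 := by
      rcases h2 with ⟨k, hk⟩
      have : 0 < orderOf y := Nat.pos_of_dvd_of_pos h1 (by norm_num)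
      omega
    exact orderOf_eq_one_iff.mp h4
  refine A_count_core (Nat.card P) ?_ hE23 hodd ?_
  · intro u hu
    obtain ⟨Q', x', h', huQ⟩ := hS1 u hu
    refine card_inv_commuting Q' u ?_ h'.elem huQ (hA1 Q' x' h' u huQ hu.1)
    rw [h'.card_Q, h'.p_eq]
  · intro g hg1 hg
    have hpg : IsPGroup p (Subgroup.zpowers g) := by
      obtain ⟨j, hj⟩ := hg
      exact IsPGroup.of_card (n := j) (by rw [Nat.card_zpowers, hj])
    obtain ⟨Pg, hPg⟩ := hpg.exists_le_sylow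
    have hgP : g ∈ Pg := hPg (Subgroup.mem_zpowers g)
    obtain ⟨⟨u₀, hu₀, hinv⟩, hcen⟩ := hA2 Pg
    have hu₀P : u₀ ∉ (Pg : Subgroup G) := by
      intro hmem
      have hpel : IsPel p u₀ := by
        obtain ⟨k, hk⟩ := (IsPGroup.iff_orderOf.mp Pg.isPGroup') ⟨u₀, hmem⟩
        exact ⟨k, by rw [← hk, Subgroup.orderOf_mk]⟩
      exact hu₀.1 (hodd u₀ hpel hu₀.2)
    rw [card_inv_inverting (Pg : Subgroup G) g u₀ hu₀ hinv (hcen g hgP hg1)
      (fun z hz => h.abel Pg z hz g hgP) hgP hu₀P]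
    exact (Sylow.card_eq_multiplicity Pg).trans (Sylow.card_eq_multiplicity P).symm

end Cfsg.Agent.Helper12.S4017M
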