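import Cfsg.Agent.Lib.Helper64.S4017Defs

set_option autoImplicit false

/-!
# S4017M (A6): the pair count, generic core

`A_count_core` is the pure double count of the pairs of involutions `(u, v)` by `g = u v`.
-/

namespace Cfsg.Agent.Helper12.S4017M

open Cfsg.Agent.Helper64.S4017

variable {G : Type*} [Group G]

theorem isInv_inv_eq {u : G} (hu : IsInv u) : u⁻¹ = u :=
  inv_eq_of_mul_eq_one_left hu.2

variable [Finite G]

/-- The double count. -/
theorem A_count_core {p : ℕ} (c : ℕ)
    (hcomm : ∀ u : G, IsInv u → Nat.card {v : G // IsInv v ∧ u * v = v * u} = p)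
    (hE23 : ∀ u v : G, IsInv u → IsInv v → u * v ≠ v * u → IsPel p (u * v))
    (hodd : ∀ y : G, IsPel p y → y * y = 1 → y = 1)
    (hinvert : ∀ g : G, g ≠ 1 → IsPel p g →
      Nat.card {u : G // IsInv u ∧ u * g * u⁻¹ = g⁻¹} = c) :
    Nat.card {u : G // IsInv u} * Nat.card {u : G // IsInv u} =
      Nat.card {u : G // IsInv u} * p + Nat.card {y : G // y ≠ 1 ∧ IsPel p y} * c := by
  classical
  have := Fintype.ofFinite G
  set I : Finset G := Finset.univ.filter IsInv with hIdef
  set Y : Finset G := Finset.univ.filter (fun y => y ≠ 1 ∧ IsPel p y) with hYdef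
  have hI : Nat.card {u : G // IsInv u} = I.card := by
    rw [Nat.card_eq_fintype_card, Fintype.card_subtype]
  have hY : Nat.card {y : G // y ≠ 1 ∧ IsPel p y} = Y.card := by
    rw [Nat.card_eq_fintype_card, Fintype.card_subtype]
  have memI : ∀ u : G, u ∈ I ↔ IsInv u := by
    intro u; simp [hIdef]
  have memY : ∀ y : G, y ∈ Y ↔ (y ≠ 1 ∧ IsPel p y) := by
    intro y; simp [hYdef]
  rw [hI, hY]
  have h1 : ∀ u ∈ I, (I.filter (fun v => u * v = v * u)).card = p := by
    intro u hu
    rw [← hcomm u ((memI u).1 hu), Nat.card_eq_fintype_card, Fintype.card_subtype, hIdef,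
      Finset.filter_filter]
  have h2 : ∀ g ∈ Y, (I.filter (fun u => u * g * u⁻¹ = g⁻¹)).card = c := by
    intro g hg
    have hg' := (memY g).1 hg
    rw [← hinvert g hg'.1 hg'.2, Nat.card_eq_fintype_card, Fintype.card_subtype, hIdef,
      Finset.filter_filter]
  have hsplit : I.card * I.card =
      ((I ×ˢ I).filter (fun x => x.1 * x.2 = x.2 * x.1)).card +
        ((I ×ˢ I).filter (fun x => ¬ (x.1 * x.2 = x.2 * x.1))).card := by
    rw [Finset.card_filter_add_card_filter_not, Finset.card_product]
  have hA : ((I ×ˢ I).filter (fun x => x.1 * x.2 = x.2 * x.1)).card = I.card * p := by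
    rw [Finset.card_filter, Finset.sum_product]
    calc ∑ u ∈ I, ∑ v ∈ I, (if u * v = v * u then 1 else 0) = ∑ u ∈ I, p := by
          apply Finset.sum_congr rfl
          intro u hu
          rw [← Finset.card_filter, h1 u hu]
      _ = I.card * p := by simp
  have hB : ((I ×ˢ I).filter (fun x => ¬ (x.1 * x.2 = x.2 * x.1))).card = Y.card * c := by
    have hbij : ((I ×ˢ I).filter (fun x => ¬ (x.1 * x.2 = x.2 * x.1))).card =
        ((Y ×ˢ I).filter (fun y => y.2 * y.1 * y.2⁻¹ = y.1⁻¹)).card := by
      refine Finset.card_bij' (fun x _ => (x.1 * x.2, x.1)) (fun y _ => (y.2, y.2⁻¹ * y.1))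
        ?_ ?_ ?_ ?_
      · rintro ⟨u, v⟩ hx
        simp only [Finset.mem_filter, Finset.mem_product] at hx ⊢
        obtain ⟨⟨hu, hv⟩, hne⟩ := hx
        have hu' := (memI u).1 hu
        have hv' := (memI v).1 hv
        refine ⟨⟨(memY _).2 ⟨?_, hE23 u v hu' hv' hne⟩, hu⟩, ?_⟩
        · intro h1
          apply hne
          have : v = u⁻¹ := (eq_inv_of_mul_eq_one_right h1)
          rw [this]; simp
        · rw [isInv_inv_eq hu', mul_inv_rev, isInv_inv_eq hu', isInv_inv_eq hv']
          calc u * (u * v) * u = (u * u) * v * u := by group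
            _ = v * u := by rw [hu'.2, one_mul]
      · rintro ⟨g, u⟩ hy
        simp only [Finset.mem_filter, Finset.mem_product] at hy ⊢
        obtain ⟨⟨hg, hu⟩, hinv⟩ := hy
        have hu' := (memI u).1 hu
        have hg' := (memY g).1 hg
        have hgu : u * g * u = g⁻¹ := by
          have := hinv; rwa [isInv_inv_eq hu'] at this
        have hsq : g * g ≠ 1 := fun h => hg'.1 (hodd g hg'.2 h)
        refine ⟨⟨hu, (memI _).2 ⟨?_, ?_⟩⟩, ?_⟩
        · intro h1
          -- u⁻¹ * g = 1 → g = u, then g * g = 1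
          have : g = u := by
            have := eq_of_inv_mul_eq_one h1  -- u = g
            exact this.symm
          apply hsq
          rw [this]; exact hu'.2
        · rw [isInv_inv_eq hu']
          calc u * g * (u * g) = (u * g * u) * g := by group
            _ = 1 := by rw [hgu]; group
        · rw [isInv_inv_eq hu']
          intro hc
          apply hsq
          -- u * (u * g) = (u * g) * u
          have h3 : u * (u * g) = g := by rw [← mul_assoc, hu'.2, one_mul]
          rw [h3, hgu] at hc
          -- g = g⁻¹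
          calc g * g = g * g⁻¹ := by rw [← hc]
            _ = 1 := mul_inv_cancel g
      · rintro ⟨u, v⟩ _
        simp
      · rintro ⟨g, u⟩ _
        simp
    rw [hbij, Finset.card_filter, Finset.sum_product]
    calc ∑ g ∈ Y, ∑ u ∈ I, (if u * g * u⁻¹ = g⁻¹ then 1 else 0) = ∑ g ∈ Y, c := by
          apply Finset.sum_congr rfl
          intro g hg
          rw [← Finset.card_filter, h2 g hg]
      _ = Y.card * c := by simp
  rw [hsplit, hA, hB]

end Cfsg.Agent.Helper12.S4017M
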