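import Mathlib
import Cfsg.Agent.Lib.Helper3.S4017DDefs

/-! # S4017D (L6a) closure_pair_ne_top (helper12, for helper3's server, S4017) -/

set_option autoImplicit false

namespace Cfsg.Agent.Helper12.S4017D

open Cfsg.Agent.Helper3.S4017

variable {G : Type*} [Group G] [Finite G]

/-- (L6a) a simple group whose order is divisible by 4 is not generated by two involutions -/
theorem closure_pair_ne_top (hsimple : IsSimpleGroup G) (h4 : 4 ∣ Nat.card G) (s u : G) (hs : orderOf s = 2)
    (hu : orderOf u = 2) : Subgroup.closure ({s, u} : Set G) ≠ ⊤ := by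
  intro htop
  have hs2 : s ^ 2 = 1 := by rw [← hs]; exact pow_orderOf_eq_one s
  have hu2 : u ^ 2 = 1 := by rw [← hu]; exact pow_orderOf_eq_one u
  have hsinv : s⁻¹ = s := by
    rw [inv_eq_iff_mul_eq_one, ← pow_two]; exact hs2
  have huinv : u⁻¹ = u := by
    rw [inv_eq_iff_mul_eq_one, ← pow_two]; exact hu2
  -- `zpowers (s * u)` is normal
  have hnorm : (Subgroup.zpowers (s * u)).Normal := by
    rw [← Subgroup.normalizer_eq_top_iff, eq_top_iff, ← htop, Subgroup.closure_le]
    have key : ∀ g : G, g * (s * u) * g⁻¹ = (s * u)⁻¹ →
        g ∈ Subgroup.normalizer ((Subgroup.zpowers (s * u) : Subgroup G) : Set G) := by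
      intro g hg
      have hle : (Subgroup.zpowers (s * u)).map (MulAut.conj g).toMonoidHom ≤
          Subgroup.zpowers (s * u) := by
        rw [MonoidHom.map_zpowers, Subgroup.zpowers_le]
        simp only [MulEquiv.coe_toMonoidHom, MulAut.conj_apply]
        rw [hg]
        exact Subgroup.inv_mem _ (Subgroup.mem_zpowers _)
      rw [Subgroup.mem_normalizer_iff]
      intro h
      constructor
      · intro hh
        exact hle ⟨h, hh, rfl⟩
      · intro hh
        -- finite: conjugation is injective on the finite set
        have hcard : Nat.card ↥((Subgroup.zpowers (s * u)).map (MulAut.conj g).toMonoidHom) =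
            Nat.card ↥(Subgroup.zpowers (s * u)) :=
          (Nat.card_congr ((Subgroup.zpowers (s * u)).equivMapOfInjective
            (MulAut.conj g).toMonoidHom (MulAut.conj g).injective).toEquiv).symm
        have heq : (Subgroup.zpowers (s * u)).map (MulAut.conj g).toMonoidHom =
            Subgroup.zpowers (s * u) := Subgroup.eq_of_le_of_card_ge hle (by rw [hcard])
        rw [← heq] at hh
        obtain ⟨h', hh', he⟩ := hh
        have : h' = h := by
          apply (MulAut.conj g).injective
          simpa using he
        rw [← this]; exact hh'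
    rintro x (rfl | rfl)
    · apply key
      have : x * (x * u) * x⁻¹ = u * x := by rw [hsinv]; rw [← mul_assoc, ← pow_two, hs2, one_mul]
      rw [this, mul_inv_rev, hsinv, huinv]
    · apply key
      have : x * (s * x) * x⁻¹ = x * s := by rw [mul_assoc, mul_assoc, mul_inv_cancel, mul_one]
      rw [this, mul_inv_rev, hsinv, huinv]
  rcases hsimple.eq_bot_or_eq_top_of_normal _ hnorm with h | h
  · -- `s = u`, `|G| = 2`
    have hsu : s * u = 1 := by
      rw [Subgroup.zpowers_eq_bot] at h; exact h
    have hsu' : s = u := by
      rw [← huinv]; exact eq_inv_of_mul_eq_one_left hsu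
    rw [← hsu', Set.pair_eq_singleton, ← Subgroup.zpowers_eq_closure] at htop
    have hcard : Nat.card G = 2 := by
      rw [← Nat.card_zpowers, htop, Subgroup.card_top] at hs; exact hs
    rw [hcard] at h4
    omega
  · -- `G` cyclic, so of prime order
    have hcyc : IsCyclic G := ⟨⟨s * u, fun x => by
      have : x ∈ Subgroup.zpowers (s * u) := by rw [h]; exact Subgroup.mem_top x
      exact this⟩⟩
    let _ : CommGroup G := IsCyclic.commGroup
    have hp : (Nat.card G).Prime := IsSimpleGroup.prime_card
    have := (Nat.dvd_prime hp).1 h4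
    rcases this with h1 | h1
    · omega
    · rw [← h1] at hp; exact absurd hp (by decide)

end Cfsg.Agent.Helper12.S4017D
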