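import Mathlib
import Cfsg.Agent.Lib.Helper3.S4017DDefs

/-! # S4017D (L7a) exists_conj_mem_P and (L6b) not_four_dvd_orderOf (helper12, for helper3's server, S4017) -/

set_option autoImplicit false

namespace Cfsg.Agent.Helper12.S4017D

open Cfsg.Agent.Helper3.S4017
open scoped Pointwise

variable {G : Type*} [Group G] [Finite G]

/-- a `p`-element lies in a conjugate of any subgroup `P` of `p`-power order with `p ∤ |G : P|` -/
theorem exists_conj_mem_of_sylow (p : ℕ) [Fact p.Prime] (P : Subgroup G) (hP : IsPGroup p ↥P)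
    (hPi : ¬ p ∣ P.index) (y : G) (b : ℕ) (hy : orderOf y = p ^ b) :
    ∃ g : G, g * y * g⁻¹ ∈ P := by
  have hz : IsPGroup p ↥(Subgroup.zpowers y) := by
    apply IsPGroup.of_card (n := b)
    rw [Nat.card_zpowers, hy]
  obtain ⟨S, hS⟩ := hz.exists_le_sylow
  obtain ⟨g, hg⟩ := MulAction.exists_smul_eq G S (hP.toSylow hPi)
  refine ⟨g, ?_⟩
  have h1 : y ∈ (S : Subgroup G) := hS (Subgroup.mem_zpowers y)
  have h2 : MulAut.conj g • y ∈ MulAut.conj g • (S : Subgroup G) :=
    Subgroup.smul_mem_pointwise_smul _ _ _ h1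
  rw [← Sylow.coe_subgroup_smul, hg, IsPGroup.toSylow_coe] at h2
  simpa [MulAut.smul_def] using h2

variable {Q P : Subgroup G} {t : G} {w : ℕ}

omit [Finite G] in
theorem caseD_P_index (h : CaseD G Q P t w) : ¬ 3 ∣ P.index := by
  intro hd
  apply h.sylow3
  rw [← P.card_mul_index, h.card_P, pow_succ]
  exact Nat.mul_dvd_mul_left _ hd

omit [Finite G] in
theorem caseD_Q_index (h : CaseD G Q P t w) : ¬ 2 ∣ Q.index := by
  intro hd
  apply h.not8
  rw [← Q.card_mul_index, h.card_Q]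
  exact Nat.mul_dvd_mul_left 4 hd

/-- (L7a) every 3-element lies in a conjugate of `P` -/
theorem exists_conj_mem_P (h : CaseD G Q P t w) (y : G) (b : ℕ) (hy : orderOf y = 3 ^ b) :
    ∃ g : G, g * y * g⁻¹ ∈ P := by
  have : Fact (Nat.Prime 3) := ⟨Nat.prime_three⟩
  exact exists_conj_mem_of_sylow 3 P (IsPGroup.of_card (n := w) h.card_P) (caseD_P_index h) y b hy

/-- (L6b) no element of order 4 (so `4 ∤ orderOf g` for every `g`) -/
theorem not_four_dvd_orderOf (h : CaseD G Q P t w) (g : G) : ¬ 4 ∣ orderOf g := by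
  intro h4
  obtain ⟨k, hk⟩ := h4
  -- `x = g ^ k` has order 4
  have hg0 : orderOf g ≠ 0 := (orderOf_pos g).ne'
  have hk0 : k ≠ 0 := by rintro rfl; rw [mul_zero] at hk; exact hg0 hk
  have hx : orderOf (g ^ k) = 2 ^ 2 := by
    rw [orderOf_pow_of_dvd hk0 (Dvd.intro_left 4 hk.symm), hk]
    rw [Nat.mul_div_cancel _ (Nat.pos_of_ne_zero hk0)]
    norm_num
  obtain ⟨c, hc⟩ := exists_conj_mem_of_sylow 2 Q (IsPGroup.of_card (n := 2) h.card_Q)
    (caseD_Q_index h) (g ^ k) 2 hx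
  have h1 := h.elem _ hc
  have h2 : orderOf (c * g ^ k * c⁻¹) = 4 := by
    have : c * g ^ k * c⁻¹ = MulAut.conj c (g ^ k) := by simp
    rw [this, MulEquiv.orderOf_eq, hx]
    norm_num
  have h3 : orderOf (c * g ^ k * c⁻¹) ∣ 2 := by
    apply orderOf_dvd_of_pow_eq_one
    rw [pow_two]; exact h1
  rw [h2] at h3
  omega

end Cfsg.Agent.Helper12.S4017D
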