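import Mathlib
import Cfsg.Agent.Lib.Helper3.S4017DDefs
import Cfsg.Agent.Lib.Helper12.S4017DL6a
import Cfsg.Agent.Lib.Helper12.S4017DL7a

/-! # S4017D (L6) hord_of_caseD (helper12, for helper3's server, S4017) -/

set_option autoImplicit false

namespace Cfsg.Agent.Helper12.S4017D

open Cfsg.Agent.Helper3.S4017

/-- a positive number all of whose prime divisors are 2 or 3 is `2 ^ i * 3 ^ b` -/
theorem eq_two_pow_mul_three_pow (n : ℕ) (hn : n ≠ 0)
    (h : ∀ r : ℕ, r.Prime → r ∣ n → r = 2 ∨ r = 3) : ∃ i b : ℕ, n = 2 ^ i * 3 ^ b := by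
  obtain ⟨i, n1, h2, e1⟩ := Nat.exists_eq_pow_mul_and_not_dvd hn 2 (by norm_num)
  have hn1 : n1 ≠ 0 := by rintro rfl; exact h2 (dvd_zero 2)
  obtain ⟨b, n2, h3, e2⟩ := Nat.exists_eq_pow_mul_and_not_dvd hn1 3 (by norm_num)
  refine ⟨i, b, ?_⟩
  have hn2 : n2 = 1 := by
    by_contra hne
    obtain ⟨r, hr, hrd⟩ := Nat.exists_prime_and_dvd hne
    have hrn : r ∣ n := by
      rw [e1, e2]
      exact Dvd.dvd.mul_left (Dvd.dvd.mul_left hrd _) _
    rcases h r hr hrn with rfl | rfl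
    · apply h2; rw [e2]; exact Dvd.dvd.mul_left hrd _
    · exact h3 hrd
  rw [e1, e2, hn2, mul_one]

variable {G : Type*} [Group G] [Finite G]

variable {Q P : Subgroup G} {t : G} {w : ℕ}

/-- (L6) [uses L6a, L6b] `hord` -/
theorem hord_of_caseD (h : CaseD G Q P t w) (s u : G) (hs : orderOf s = 2) (hu : orderOf u = 2) :
    ∃ i b : ℕ, i ≤ 1 ∧ orderOf (s * u) = 2 ^ i * 3 ^ b := by
  have h4 : 4 ∣ Nat.card G := by rw [← h.card_Q]; exact Subgroup.card_subgroup_dvd_card Q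
  have hne := closure_pair_ne_top h.simple h4 s u hs hu
  set H := Subgroup.closure ({s, u} : Set G) with hH
  have hsH : s ∈ H := Subgroup.subset_closure (by simp)
  have huH : u ∈ H := Subgroup.subset_closure (by simp)
  have h2H : 2 ∣ Nat.card H := by rw [← hs]; exact Subgroup.orderOf_dvd_natCard H hsH
  have hdvd : orderOf (s * u) ∣ Nat.card H := Subgroup.orderOf_dvd_natCard H (H.mul_mem hsH huH)
  obtain ⟨i, b, hib⟩ := eq_two_pow_mul_three_pow (orderOf (s * u)) (orderOf_pos _).ne'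
    (fun r hr hrd => h.star H hne h2H r hr (hrd.trans hdvd))
  refine ⟨i, b, ?_, hib⟩
  by_contra hi
  push Not at hi
  apply not_four_dvd_orderOf h (s * u)
  rw [hib]
  have : (4 : ℕ) ∣ 2 ^ i := by
    have : (2 : ℕ) ^ 2 ∣ 2 ^ i := pow_dvd_pow 2 hi
    simpa using this
  exact Dvd.dvd.mul_right this _

end Cfsg.Agent.Helper12.S4017D
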