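import Mathlib
import Cfsg.Agent.Lib.Helper3.S4017DDefs
import Cfsg.Agent.Lib.Helper12.S4017DL7a

/-! # S4017D (L7b), (L7): core versions with (L2) as a hypothesis (helper12, for helper3's server, S4017) -/

set_option autoImplicit false

namespace Cfsg.Agent.Helper12.S4017D

open Cfsg.Agent.Helper3.S4017

variable {G : Type*} [Group G] [Finite G]

variable {Q P : Subgroup G} {t : G} {w : ℕ}

/-- (L7b), with the `→` direction of (L2) as a hypothesis -/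
theorem hzeta_mem_of (h : CaseD G Q P t w)
    (hL2 : ∀ v : G, (orderOf v = 2 ∧ v ≠ t ∧ Commute v t) →
      ∃ y ∈ P, ∃ s ∈ Q, s ≠ 1 ∧ s ≠ t ∧ v = y * s)
    (y : G) (hyP : y ∈ P) (hy1 : y ≠ 1) :
    (∀ n : G, n * y * n⁻¹ ∈ Subgroup.zpowers y → Commute n t) ∧
      (∀ v : G, orderOf v = 2 → Commute v y → v = t) := by
  have hfirst : ∀ n : G, n * y * n⁻¹ ∈ Subgroup.zpowers y → Commute n t := by
    intro n hn
    have hle : Subgroup.zpowers y ≤ P := by rw [Subgroup.zpowers_le]; exact hyP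
    exact h.ti n ⟨y, hyP, hy1, hle hn⟩
  refine ⟨hfirst, ?_⟩
  intro v hv hvy
  by_contra hvt
  have hvt' : Commute v t := by
    apply hfirst
    have : v * y * v⁻¹ = y := by rw [hvy.eq, mul_inv_cancel_right]
    rw [this]; exact Subgroup.mem_zpowers y
  obtain ⟨y', hy', s, hsQ, hs1, hst, rfl⟩ := hL2 v ⟨hv, hvt, hvt'⟩
  -- `y' * s` inverts `y`
  have h1 : (y' * s) * y * (y' * s)⁻¹ = y⁻¹ := by
    have h2 : s * y * s⁻¹ = y⁻¹ := h.P_inv s hsQ hs1 hst y hyP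
    have h3 : y' * y⁻¹ = y⁻¹ * y' := h.P_comm y' hy' y⁻¹ (P.inv_mem hyP)
    calc (y' * s) * y * (y' * s)⁻¹ = y' * (s * y * s⁻¹) * y'⁻¹ := by group
      _ = y' * y⁻¹ * y'⁻¹ := by rw [h2]
      _ = y⁻¹ := by rw [h3, mul_inv_cancel_right]
  have h4 : (y' * s) * y * (y' * s)⁻¹ = y := by rw [hvy.eq, mul_inv_cancel_right]
  have h5 : y ^ 2 = 1 := by
    have : y = y⁻¹ := h4.symm.trans h1
    rw [pow_two]
    nth_rewrite 1 [this]
    exact inv_mul_cancel y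
  have h6 : orderOf y ∣ 2 := orderOf_dvd_of_pow_eq_one h5
  have h7 : orderOf y ∣ 3 ^ w := by
    rw [← h.card_P]; exact Subgroup.orderOf_dvd_natCard P hyP
  have h8 : orderOf y ∣ Nat.gcd 2 (3 ^ w) := Nat.dvd_gcd h6 h7
  have h9 : Nat.gcd 2 (3 ^ w) = 1 := Nat.Coprime.pow_right w (by norm_num)
  rw [h9, Nat.dvd_one, orderOf_eq_one_iff] at h8
  exact hy1 h8

/-- (L7), with (L7b) as a hypothesis -/
theorem hzeta_of_caseD_of (h : CaseD G Q P t w)
    (hL7b : ∀ y : G, y ∈ P → y ≠ 1 →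
      (∀ n : G, n * y * n⁻¹ ∈ Subgroup.zpowers y → Commute n t) ∧
        (∀ v : G, orderOf v = 2 → Commute v y → v = t))
    (y : G) (hy : ∃ b : ℕ, 1 ≤ b ∧ orderOf y = 3 ^ b) :
    ∃ z : G, orderOf z = 2 ∧ (∀ g : G, g * y * g⁻¹ ∈ Subgroup.zpowers y → Commute g z) ∧
      (∀ v : G, orderOf v = 2 → Commute v y → v = z) := by
  obtain ⟨b, hb1, hb⟩ := hy
  obtain ⟨g, hg⟩ := exists_conj_mem_P h y b hb
  have hy1 : y ≠ 1 := by
    rintro rfl
    rw [orderOf_one] at hb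
    have : 3 ^ 1 ≤ 3 ^ b := Nat.pow_le_pow_right (by norm_num) hb1
    omega
  have hy'1 : g * y * g⁻¹ ≠ 1 := by
    intro h1
    apply hy1
    have : y = g⁻¹ * (g * y * g⁻¹) * g := by group
    rw [this, h1]; group
  obtain ⟨hA, hB⟩ := hL7b (g * y * g⁻¹) hg hy'1
  have ht : orderOf t = 2 :=
    orderOf_eq_prime (by rw [sq]; exact h.elem t h.t_mem) h.t_ne
  refine ⟨g⁻¹ * t * g, ?_, ?_, ?_⟩
  · have : g⁻¹ * t * g = MulAut.conj g⁻¹ t := by simp
    rw [this, MulEquiv.orderOf_eq, ht]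
  · intro n hn
    have hmem : (g * n * g⁻¹) * (g * y * g⁻¹) * (g * n * g⁻¹)⁻¹ ∈
        Subgroup.zpowers (g * y * g⁻¹) := by
      obtain ⟨k, hk⟩ := Subgroup.mem_zpowers_iff.1 hn
      rw [Subgroup.mem_zpowers_iff]
      refine ⟨k, ?_⟩
      rw [conj_zpow, hk]; group
    have hc := hA _ hmem
    -- transport the commutation
    show n * (g⁻¹ * t * g) = g⁻¹ * t * g * n
    have hc' : g * n * g⁻¹ * t = t * (g * n * g⁻¹) := hc.eq
    calc n * (g⁻¹ * t * g) = g⁻¹ * (g * n * g⁻¹ * t) * g := by group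
      _ = g⁻¹ * (t * (g * n * g⁻¹)) * g := by rw [hc']
      _ = g⁻¹ * t * g * n := by group
  · intro v hv hvy
    have hv' : orderOf (g * v * g⁻¹) = 2 := by
      have : g * v * g⁻¹ = MulAut.conj g v := by simp
      rw [this, MulEquiv.orderOf_eq, hv]
    have hc : Commute (g * v * g⁻¹) (g * y * g⁻¹) := by
      show g * v * g⁻¹ * (g * y * g⁻¹) = g * y * g⁻¹ * (g * v * g⁻¹)
      have hvy' : v * y = y * v := hvy.eq
      calc g * v * g⁻¹ * (g * y * g⁻¹) = g * (v * y) * g⁻¹ := by group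
        _ = g * (y * v) * g⁻¹ := by rw [hvy']
        _ = g * y * g⁻¹ * (g * v * g⁻¹) := by group
    have h1 := hB _ hv' hc
    have : v = g⁻¹ * (g * v * g⁻¹) * g := by group
    rw [this, h1]

end Cfsg.Agent.Helper12.S4017D
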