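import Mathlib
import Cfsg.Agent.Lib.Helper3.S4017DDefs
import Cfsg.Agent.Lib.Helper12.S4017DL7core
import Cfsg.Agent.Lib.Helper69.S4017DL2

/-! # S4017D (L7b) hzeta_mem and (L7) hzeta_of_caseD (helper12, for helper3's server, S4017) -/

set_option autoImplicit false

namespace Cfsg.Agent.Helper12.S4017D

open Cfsg.Agent.Helper3.S4017

variable {G : Type*} [Group G] [Finite G]

variable {Q P : Subgroup G} {t : G} {w : ℕ}

/-- (L7b) [uses L2] `hζ` for `y ∈ P`, with `z = t`. -/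
theorem hzeta_mem (h : CaseD G Q P t w) (y : G) (hyP : y ∈ P) (hy1 : y ≠ 1) :
    (∀ n : G, n * y * n⁻¹ ∈ Subgroup.zpowers y → Commute n t) ∧ (∀ v : G, orderOf v = 2 → Commute v y → v = t) :=
  hzeta_mem_of h (fun v hv => (Cfsg.Agent.Helper69.S4017D.invol_Ct_iff h v).1 hv) y hyP hy1

/-- (L7) [uses L7a, L7b] `hζ`: transport L7b along the conjugation of L7a (`z = g⁻¹ t g`). -/
theorem hzeta_of_caseD (h : CaseD G Q P t w) (y : G) (hy : ∃ b : ℕ, 1 ≤ b ∧ orderOf y = 3 ^ b) :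
    ∃ z : G, orderOf z = 2 ∧ (∀ g : G, g * y * g⁻¹ ∈ Subgroup.zpowers y → Commute g z) ∧
      (∀ v : G, orderOf v = 2 → Commute v y → v = z) :=
  hzeta_of_caseD_of h (fun y hyP hy1 => hzeta_mem h y hyP hy1) y hy

end Cfsg.Agent.Helper12.S4017D
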