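import Mathlib
import Cfsg.Agent.Lib.Helper31.SCHDefs

set_option autoImplicit false

namespace Cfsg.Agent.Helper12.SCH
open Cfsg Cfsg.Agent.Helper31.SCH

variable {P : Type*} [Group P] [Finite P] {p : ℕ} [Fact p.Prime]

/-- (P10) counting. -/
theorem q_dvd (α : MulAut P)
    (hnf : ∀ x : P, x ∉ Subgroup.center P → x⁻¹ * α x ∉ Subgroup.center P)
    (hzf : ∀ z ∈ Subgroup.center P, α z = z)
    (hidx : (Subgroup.center P).index = p ^ 2) (q : ℕ) (hq : q.Prime) (hαq : α ^ q = 1) :
    q ∣ p ^ 2 - 1 := by
  classical
  have : Fact q.Prime := ⟨hq⟩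
  haveI : Fintype (P ⧸ Subgroup.center P) := Fintype.ofFinite _
  have hle : Subgroup.center P ≤ (Subgroup.center P).comap α.toMonoidHom := by
    intro z hz
    rw [Subgroup.mem_comap]
    change α z ∈ _
    rw [hzf z hz]; exact hz
  set f : P ⧸ Subgroup.center P →* P ⧸ Subgroup.center P :=
    QuotientGroup.map _ _ α.toMonoidHom hle with hf
  have hfmk : ∀ x : P, f (QuotientGroup.mk x) = QuotientGroup.mk (α x) := fun x => rfl
  set F : Function.End (P ⧸ Subgroup.center P) := (f : _ → _) with hF
  have hpow : ∀ (k : ℕ) (x : P), (F ^ k) (QuotientGroup.mk x) = QuotientGroup.mk ((α ^ k) x) := by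
    intro k
    induction k with
    | zero => intro x; rw [pow_zero, pow_zero]; rfl
    | succ k ih =>
      intro x
      rw [pow_succ', pow_succ']
      change F ((F ^ k) _) = _
      rw [ih x]
      exact hfmk _
  have hFq : F ^ q ^ 1 = 1 := by
    rw [pow_one]
    funext y
    induction y using QuotientGroup.induction_on with
    | H x => rw [hpow q x, hαq]; rfl
  have hmod := Equiv.Perm.card_fixedPoints_modEq (p := q) (n := 1) hFq
  have hcard : Fintype.card (P ⧸ Subgroup.center P) = p ^ 2 := by
    rw [← Nat.card_eq_fintype_card, ← hidx]; rfl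
  have hfp : Function.fixedPoints F = {1} := by
    ext y
    rw [Function.mem_fixedPoints, Set.mem_singleton_iff]
    induction y using QuotientGroup.induction_on with
    | H x =>
      constructor
      · intro hy
        by_contra hne
        have hx : x ∉ Subgroup.center P := by
          intro hx
          exact hne ((QuotientGroup.eq_one_iff x).mpr hx)
        have := hnf x hx
        apply this
        have h1 : (QuotientGroup.mk (α x) : P ⧸ Subgroup.center P) = QuotientGroup.mk x := hy
        exact QuotientGroup.eq.mp h1.symm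
      · intro hy
        have hx : x ∈ Subgroup.center P := (QuotientGroup.eq_one_iff x).mp hy
        change (QuotientGroup.mk (α x) : P ⧸ Subgroup.center P) = QuotientGroup.mk x
        rw [hzf x hx]
  have hcard2 : Fintype.card (Function.fixedPoints F) = 1 := by
    rw [← Nat.card_eq_fintype_card, hfp]
    simp
  rw [hcard, hcard2] at hmod
  have hp1 : 1 ≤ p ^ 2 := Nat.one_le_pow _ _ (Fact.out : p.Prime).pos
  exact (Nat.modEq_iff_dvd' hp1).mp hmod.symm

end Cfsg.Agent.Helper12.SCH
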