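import Mathlib
import Cfsg.Agent.Lib.Helper31.SCHDefs

set_option autoImplicit false

namespace Cfsg.Agent.Helper12.SCH
open Cfsg Cfsg.Agent.Helper31.SCH

variable {P : Type*} [Group P] [Finite P] {p : ℕ} [Fact p.Prime]

omit [Finite P] in
/-- `cmt a (b b') = cmt a b * cmt a b'` when commutators are central. -/
theorem h12_cmt_mul_right (hcc : ∀ x y : P, cmt x y ∈ Subgroup.center P) (a b b' : P) :
    cmt a (b * b') = cmt a b * cmt a b' := by
  have hc : ∀ g : P, g * cmt a b' = cmt a b' * g := fun g =>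
    (Subgroup.mem_center_iff.mp (hcc a b') g)
  -- cmt a (b b') = a b b' a⁻¹ b'⁻¹ b⁻¹ = (a b a⁻¹) (a b' a⁻¹ b'⁻¹) b⁻¹
  have h1 : cmt a (b * b') = (a * b * a⁻¹) * cmt a b' * b⁻¹ := by
    unfold cmt; group
  rw [h1, mul_assoc (a * b * a⁻¹), ← hc b⁻¹, ← mul_assoc]
  unfold cmt; group

omit [Finite P] in
/-- `cmt (x y) g = cmt x g * cmt y g` when commutators are central. -/
theorem h12_cmt_mul_left (hcc : ∀ x y : P, cmt x y ∈ Subgroup.center P) (x y g : P) :
    cmt (x * y) g = cmt x g * cmt y g := by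
  have hc : ∀ k : P, k * cmt y g = cmt y g * k := fun k =>
    (Subgroup.mem_center_iff.mp (hcc y g) k)
  have h1 : cmt (x * y) g = x * cmt y g * (g * x⁻¹ * g⁻¹) := by
    unfold cmt; group
  rw [h1, hc x, mul_assoc]
  rw [← hc]
  unfold cmt; group

/-- (P4) `[a, P] = P'` for noncentral `a`. -/
theorem star (α : MulAut P) (h : SA p α)
    (hfix : ∀ x : P, α x = x ↔ x ∈ Subgroup.center P)
    (hcc : ∀ x y : P, cmt x y ∈ Subgroup.center P) (a : P) (ha : a ∉ Subgroup.center P) (x y : P) :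
    ∃ b : P, cmt x y = cmt a b := by
  -- the homomorphism b ↦ cmt a b
  let φ : P →* P :=
    { toFun := fun b => cmt a b
      map_one' := by unfold cmt; group
      map_mul' := fun b b' => h12_cmt_mul_right hcc a b b' }
  let M : Subgroup P := φ.range
  have hM : ∀ z : P, z ∈ M ↔ ∃ b, cmt a b = z := fun z => Iff.rfl
  -- the homomorphisms x ↦ cmt x g
  let ψ : P → (P →* P) := fun g =>
    { toFun := fun x => cmt x g
      map_one' := by unfold cmt; group
      map_mul' := fun x y => h12_cmt_mul_left hcc x y g }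
  let R : Subgroup P := ⨅ g : P, M.comap (ψ g)
  have hR : ∀ z : P, z ∈ R ↔ ∀ g, cmt z g ∈ M := by
    intro z
    simp only [R, Subgroup.mem_iInf, Subgroup.mem_comap]
    rfl
  have haR : a ∈ R := by
    rw [hR]; intro g; exact (hM _).mpr ⟨g, rfl⟩
  have hinv : ∀ z ∈ R, α z ∈ R := by
    intro z hz
    rw [hR] at hz ⊢
    intro g
    obtain ⟨g', rfl⟩ := α.surjective g
    have h1 : cmt (α z) (α g') = α (cmt z g') := by
      unfold cmt; simp
    rw [h1, (hfix _).mpr (hcc z g')]
    exact hz g'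
  have htop : R = ⊤ := by
    by_contra hne
    exact ha ((hfix a).mp (h.fix R hne hinv a haR))
  have hx : x ∈ R := htop ▸ Subgroup.mem_top x
  rw [hR] at hx
  obtain ⟨b, hb⟩ := (hM _).mp (hx y)
  exact ⟨b, hb.symm⟩

end Cfsg.Agent.Helper12.SCH
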