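import Mathlib
import Cfsg.Agent.Lib.Helper31.SCHDefs

set_option autoImplicit false

namespace Cfsg.Agent.Helper12.SCH
open Cfsg Cfsg.Agent.Helper31.SCH

variable {P : Type*} [Group P] [Finite P] {p : ℕ} [Fact p.Prime]

/-- (P9) `α` has no fixed point on `(P/Z)∖1`. -/
theorem not_fixed_mod_center (α : MulAut P) (h : SA p α)
    (hfix : ∀ x : P, α x = x ↔ x ∈ Subgroup.center P) (hna : ∃ a b : P, a * b ≠ b * a)
    (x : P) (hx : x ∉ Subgroup.center P) : x⁻¹ * α x ∉ Subgroup.center P := by
  intro hz
  set R : Subgroup P := Subgroup.zpowers x ⊔ Subgroup.center P with hR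
  have hxR : x ∈ R := (le_sup_left : Subgroup.zpowers x ≤ R) (Subgroup.mem_zpowers x)
  have hZR : Subgroup.center P ≤ R := le_sup_right
  -- R is contained in the centraliser of x
  have hRc : R ≤ Subgroup.centralizer {x} := by
    refine sup_le ?_ ?_
    · rw [Subgroup.zpowers_le]
      rw [Subgroup.mem_centralizer_iff]
      intro y hy
      rw [Set.mem_singleton_iff] at hy
      rw [hy]
    · exact Subgroup.center_le_centralizer _
  have hne : R ≠ ⊤ := by
    intro htop
    apply hx
    rw [Subgroup.mem_center_iff]
    intro g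
    have hg : g ∈ Subgroup.centralizer {x} := hRc (htop ▸ Subgroup.mem_top g)
    rw [Subgroup.mem_centralizer_iff] at hg
    exact (hg x rfl).symm
  have hinv : ∀ y ∈ R, α y ∈ R := by
    have hle : R ≤ R.comap α.toMonoidHom := by
      refine sup_le ?_ ?_
      · rw [Subgroup.zpowers_le, Subgroup.mem_comap]
        have : α x = x * (x⁻¹ * α x) := by group
        change α x ∈ R
        rw [this]
        exact R.mul_mem hxR (hZR hz)
      · intro c hc
        rw [Subgroup.mem_comap]
        change α c ∈ R
        rw [(hfix c).mpr hc]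
        exact hZR hc
    intro y hy
    exact hle hy
  have hαx : α x = x := h.fix R hne hinv x hxR
  exact hx ((hfix x).mp hαx)

end Cfsg.Agent.Helper12.SCH
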