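import Mathlib
import Cfsg.Agent.Lib.Helper31.HHCliff
import Cfsg.Agent.Lib.Helper31.HHSubQuot

set_option autoImplicit false

/-!
# (CLT) iterated Clifford for a cyclic `p`-power extension (piece of S3793, helper31 server)
-/

namespace Cfsg.Agent.Helper12.SG

open Module Cfsg.Agent.Helper31

universe u v w

section aux

variable {K : Type w} [Field K] {V : Type u} [AddCommGroup V] [Module K V]
variable {M : Type v} [Monoid M] {τ : Representation K M V}

theorem helper12_top_case [FiniteDimensional K V] [Nontrivial V] (τ : Representation K M V)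
    (A : Module.End K V) (p n : ℕ)
    (hirr : ∀ U : Submodule K V, HH.Inv τ U → U = ⊥ ∨ U = ⊤) :
    ∃ j ≤ n, ∃ V₀ : Submodule K V, HH.Simple τ V₀ ∧ (∀ v ∈ V₀, (A ^ p ^ j) v ∈ V₀) ∧
      (⨆ i ∈ Finset.range (p ^ j), V₀.map (A ^ i)) = ⊤ ∧
      p ^ j * finrank K V₀ = finrank K V := by
  refine ⟨0, Nat.zero_le _, ⊤, ⟨fun g s _ => trivial, top_ne_bot, fun S' hS' _ => hirr S' hS'⟩,
    fun v _ => trivial, ?_, ?_⟩
  · rw [pow_zero, Finset.range_one]
    simp only [Finset.mem_singleton, iSup_iSup_eq_left, pow_zero]
    exact Submodule.map_id ⊤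
  · rw [pow_zero, one_mul, finrank_top]

theorem helper12_coe_restrict_pow (U : Submodule K V) (B : Module.End K V)
    (hB : ∀ u ∈ U, B u ∈ U) (k : ℕ) (v : U) :
    ((((B.restrict hB : Module.End K U) ^ k) v : U) : V) = (B ^ k) (v : V) := by
  induction k generalizing v with
  | zero => simp
  | succ k ih =>
    rw [pow_succ', pow_succ', Module.End.mul_apply, Module.End.mul_apply, ← ih v]
    rfl

theorem helper12_pow_mem (U : Submodule K V) (B : Module.End K V)
    (hB : ∀ u ∈ U, B u ∈ U) (k : ℕ) : ∀ u ∈ U, (B ^ k) u ∈ U := by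
  induction k with
  | zero => intro u hu; simpa using hu
  | succ k ih =>
    intro u hu
    rw [pow_succ', Module.End.mul_apply]
    exact hB _ (ih u hu)

theorem helper12_map_restrict_pow (U : Submodule K V) (B : Module.End K V)
    (hB : ∀ u ∈ U, B u ∈ U) (k : ℕ) (S : Submodule K U) :
    (S.map ((B.restrict hB : Module.End K U) ^ k)).map U.subtype
      = (S.map U.subtype).map (B ^ k) := by
  rw [← Submodule.map_comp, ← Submodule.map_comp]
  congr 1
  apply LinearMap.ext
  intro v
  exact helper12_coe_restrict_pow U B hB k v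

theorem helper12_finrank_iSup [FiniteDimensional K V] (X : ℕ → Submodule K V) (p d : ℕ)
    (hX : ∀ i < p, finrank K (X i) = d)
    (hdis : ∀ i ∈ Finset.range p, Disjoint (X i) (⨆ j ∈ (Finset.range p).erase i, X j)) :
    ∀ k ≤ p, finrank K ↥(⨆ i ∈ Finset.range k, X i) = k * d := by
  intro k
  induction k with
  | zero =>
    intro _
    have h0 : (⨆ i ∈ Finset.range 0, X i) = ⊥ := by simp
    rw [h0, finrank_bot, zero_mul]
  | succ k ih =>
    intro hk
    have hkp : k < p := hk
    rw [Finset.range_add_one, Finset.iSup_insert]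
    have hle : (⨆ i ∈ Finset.range k, X i) ≤ ⨆ j ∈ (Finset.range p).erase k, X j := by
      apply iSup₂_le
      intro i hi
      rw [Finset.mem_range] at hi
      exact le_iSup₂ (f := fun j (_ : j ∈ (Finset.range p).erase k) => X j) i
        (Finset.mem_erase.mpr ⟨by omega, Finset.mem_range.mpr (by omega)⟩)
    have hd : X k ⊓ (⨆ i ∈ Finset.range k, X i) = ⊥ := by
      have := hdis k (Finset.mem_range.mpr hkp)
      exact (this.mono_right hle).eq_bot
    have h1 := Submodule.finrank_sup_add_finrank_inf_eq (X k) (⨆ i ∈ Finset.range k, X i)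
    rw [hd, finrank_bot, add_zero, hX k hkp, ih (by omega)] at h1
    rw [h1]
    ring

variable {A Ai : Module.End K V} {α : Equiv.Perm M}

theorem helper12_iSup_eq_top (h : HH.Twist τ A Ai α) (p : ℕ) (hp : 0 < p)
    (hirr : ∀ U : Submodule K V, HH.Inv τ U → (∀ u ∈ U, A u ∈ U) → U = ⊥ ∨ U = ⊤)
    (U : Submodule K V) (hU : HH.Inv τ U) (hUA : ∀ u ∈ U, (A ^ p) u ∈ U) (hne : U ≠ ⊥) :
    (⨆ i ∈ Finset.range p, U.map (A ^ i)) = ⊤ := by
  set W := ⨆ i ∈ Finset.range p, U.map (A ^ i) with hW
  have hUW : U ≤ W := by
    have h0 := le_iSup₂ (f := fun i (_ : i ∈ Finset.range p) => U.map (A ^ i)) 0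
      (Finset.mem_range.mpr hp)
    have h1 : U.map (A ^ 0) = U := by
      rw [pow_zero]
      exact Submodule.map_id U
    rw [h1] at h0
    exact h0
  have hWinv : HH.Inv τ W :=
    HH.Inv.iSup (fun i => HH.Inv.iSup (fun _ => (h.pow i).inv_map hU))
  have hWA : ∀ w ∈ W, A w ∈ W := by
    intro w hw
    have hmap : W.map A ≤ W := by
      rw [hW, Submodule.map_iSup]
      apply iSup_le
      intro i
      rw [Submodule.map_iSup]
      apply iSup_le
      intro hi
      have h1 : (U.map (A ^ i)).map A = U.map (A ^ (i + 1)) := by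
        rw [← Submodule.map_comp, pow_succ']
        rfl
      rw [h1]
      by_cases hi1 : i + 1 < p
      · exact le_iSup₂ (f := fun i (_ : i ∈ Finset.range p) => U.map (A ^ i)) (i + 1)
          (Finset.mem_range.mpr hi1)
      · have hip : i + 1 = p := by
          have := Finset.mem_range.mp hi
          omega
        rw [hip]
        refine le_trans ?_ hUW
        rintro _ ⟨u, hu, rfl⟩
        exact hUA u hu
    exact hmap ⟨w, hw, rfl⟩
  rcases hirr W hWinv hWA with h0 | h1
  · exfalso
    apply hne
    rw [eq_bot_iff, ← h0]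
    exact hUW
  · exact h1

theorem helper12_eq_of_le (h : HH.Twist τ A Ai α) (p : ℕ) (hp : 0 < p)
    (hirr : ∀ U : Submodule K V, HH.Inv τ U → (∀ u ∈ U, A u ∈ U) → U = ⊥ ∨ U = ⊤)
    (V' : Submodule K V)
    (hdis : ∀ i ∈ Finset.range p,
      Disjoint (V'.map (A ^ i)) (⨆ j ∈ (Finset.range p).erase i, V'.map (A ^ j)))
    (U : Submodule K V) (hUV : U ≤ V') (hU : HH.Inv τ U) (hUA : ∀ u ∈ U, (A ^ p) u ∈ U)
    (hne : U ≠ ⊥) : U = V' := by
  classical
  apply le_antisymm hUV
  intro v hv
  have htop := helper12_iSup_eq_top h p hp hirr U hU hUA hne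
  have h0p : 0 ∈ Finset.range p := Finset.mem_range.mpr hp
  rw [← Finset.insert_erase h0p, Finset.iSup_insert] at htop
  have hvtop : v ∈ (⊤ : Submodule K V) := trivial
  rw [← htop] at hvtop
  obtain ⟨a, ha, b, hb, hab⟩ := Submodule.mem_sup.mp hvtop
  have hmap0 : ∀ S : Submodule K V, S.map (A ^ 0) = S := by
    intro S
    rw [pow_zero]
    exact Submodule.map_id S
  rw [hmap0] at ha
  have hb' : b ∈ ⨆ j ∈ (Finset.range p).erase 0, V'.map (A ^ j) := by
    have hle : (⨆ j ∈ (Finset.range p).erase 0, U.map (A ^ j))
        ≤ ⨆ j ∈ (Finset.range p).erase 0, V'.map (A ^ j) := by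
      apply iSup₂_le
      intro j hj
      exact le_trans (Submodule.map_mono hUV)
        (le_iSup₂ (f := fun j (_ : j ∈ (Finset.range p).erase 0) => V'.map (A ^ j)) j hj)
    exact hle hb
  have hbV' : b ∈ V'.map (A ^ 0) := by
    rw [hmap0]
    have : b = v - a := by rw [← hab]; abel
    rw [this]
    exact Submodule.sub_mem _ hv (hUV ha)
  have hb0 : b = 0 := by
    have := (hdis 0 h0p).le_bot (Submodule.mem_inf.mpr ⟨hbV', hb'⟩)
    exact (Submodule.mem_bot K).mp this
  rw [hb0, add_zero] at hab
  rw [← hab]
  exact ha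

end aux

/-- (CLT) iterated Clifford for a cyclic `p`-power extension. -/
theorem sg_clifford_tower {K : Type w} [Field K] [IsAlgClosed K] (p : ℕ) (hp : p.Prime) :
    ∀ (n : ℕ) (V : Type u) [AddCommGroup V] [Module K V] [FiniteDimensional K V] [Nontrivial V]
      (M : Type v) [Monoid M] (τ : Representation K M V) (A Ai : Module.End K V)
      (α : Equiv.Perm M),
      HH.Twist τ A Ai α → A ^ (p ^ n) = 1 →
      (∀ U : Submodule K V, HH.Inv τ U → (∀ u ∈ U, A u ∈ U) → U = ⊥ ∨ U = ⊤) →
      ∃ j ≤ n, ∃ V₀ : Submodule K V, HH.Simple τ V₀ ∧ (∀ v ∈ V₀, (A ^ p ^ j) v ∈ V₀) ∧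
        (⨆ i ∈ Finset.range (p ^ j), V₀.map (A ^ i)) = ⊤ ∧
        p ^ j * finrank K V₀ = finrank K V := by
  intro n
  induction n with
  | zero =>
    intro V _ _ _ _ M _ τ A Ai α h hA hirr
    have hA1 : A = 1 := by simpa using hA
    apply helper12_top_case τ A p 0
    intro U hU
    exact hirr U hU (fun u hu => by rw [hA1]; exact hu)
  | succ n ih =>
    intro V _ _ _ _ M _ τ A Ai α h hA hirr
    rcases HH.clifford_dichotomy h p n hp hA hirr with hI | ⟨V', hV'ne, hV'inv, hV'A, hdis⟩
    · obtain ⟨j, hj, rest⟩ := helper12_top_case τ A p n hI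
      exact ⟨j, Nat.le_succ_of_le hj, rest⟩
    · -- the induced case
      set B : Module.End K V := A ^ p with hB
      set Bi : Module.End K V := Ai ^ p with hBi
      have hBtw : HH.Twist τ B Bi (α ^ p) := h.pow p
      have hBpow : B ^ (p ^ n) = 1 := by
        rw [hB, ← pow_mul, ← pow_succ']
        exact hA
      have hpn : 0 < p ^ n := pow_pos hp.pos n
      have hBi_eq : Bi = B ^ (p ^ n - 1) := by
        have h1 : B * B ^ (p ^ n - 1) = 1 := by
          rw [← pow_succ', Nat.sub_add_cancel hpn, hBpow]
        calc Bi = Bi * (B * B ^ (p ^ n - 1)) := by rw [h1, mul_one]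
          _ = (Bi * B) * B ^ (p ^ n - 1) := by rw [mul_assoc]
          _ = B ^ (p ^ n - 1) := by rw [hBtw.inv_mul, one_mul]
      have hV'Bi : ∀ v ∈ V', Bi v ∈ V' := by
        rw [hBi_eq]
        exact helper12_pow_mem V' B hV'A _
      -- the restricted data
      set τ' : Representation K M V' := HH.subRep τ V' hV'inv with hτ'
      set A' : Module.End K V' := B.restrict hV'A with hA'
      set Ai' : Module.End K V' := Bi.restrict hV'Bi with hAi'
      have hcoeA' : ∀ v : V', ((A' v : V') : V) = B (v : V) := fun v => rfl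
      have hcoeAi' : ∀ v : V', ((Ai' v : V') : V) = Bi (v : V) := fun v => rfl
      have hcoeτ' : ∀ (g : M) (v : V'), ((τ' g v : V') : V) = τ g (v : V) := fun g v => rfl
      have htw' : HH.Twist τ' A' Ai' (α ^ p) := by
        refine ⟨?_, ?_, ?_⟩
        · apply LinearMap.ext
          intro v
          apply Subtype.ext
          rw [Module.End.mul_apply, hcoeA', hcoeAi', Module.End.one_apply]
          exact hBtw.apply_inv _
        · apply LinearMap.ext
          intro v
          apply Subtype.ext
          rw [Module.End.mul_apply, hcoeAi', hcoeA', Module.End.one_apply]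
          exact hBtw.inv_apply _
        · intro g
          apply LinearMap.ext
          intro v
          apply Subtype.ext
          rw [Module.End.mul_apply, Module.End.mul_apply, hcoeA', hcoeτ', hcoeτ', hcoeA']
          exact hBtw.apply g _
      have hA'pow : A' ^ (p ^ n) = 1 := by
        apply LinearMap.ext
        intro v
        apply Subtype.ext
        rw [hA', helper12_coe_restrict_pow V' B hV'A, hBpow]
        rfl
      have : Nontrivial V' := Submodule.nontrivial_iff_ne_bot.mpr hV'ne
      have hirr' : ∀ U' : Submodule K V', HH.Inv τ' U' → (∀ u ∈ U', A' u ∈ U') →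
          U' = ⊥ ∨ U' = ⊤ := by
        intro U' hU'inv hU'A
        by_cases hU'0 : U' = ⊥
        · exact Or.inl hU'0
        right
        set U : Submodule K V := U'.map V'.subtype with hUdef
        have hUV : U ≤ V' := by
          rintro _ ⟨u, -, rfl⟩
          exact u.2
        have hUinv : HH.Inv τ U := by
          rintro g _ ⟨u, hu, rfl⟩
          exact ⟨τ' g u, hU'inv g u hu, rfl⟩
        have hUA : ∀ u ∈ U, (A ^ p) u ∈ U := by
          rintro _ ⟨u, hu, rfl⟩
          exact ⟨A' u, hU'A u hu, rfl⟩
        have hUne : U ≠ ⊥ := by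
          intro h0
          apply hU'0
          rw [eq_bot_iff]
          intro u hu
          have : (u : V) ∈ U := ⟨u, hu, rfl⟩
          rw [h0] at this
          exact (Submodule.mem_bot K).mpr (Subtype.ext ((Submodule.mem_bot K).mp this))
        have hUeq := helper12_eq_of_le h p hp.pos hirr V' hdis U hUV hUinv hUA hUne
        rw [eq_top_iff]
        intro v _
        have hv : (v : V) ∈ U := by rw [hUeq]; exact v.2
        obtain ⟨u, hu, huv⟩ := hv
        have : u = v := Subtype.ext huv
        rw [← this]
        exact hu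
      obtain ⟨j', hj', V₀', hS', hst', hsum', hfr'⟩ :=
        ih V' M τ' A' Ai' (α ^ p) htw' hA'pow hirr'
      set V₀ : Submodule K V := V₀'.map V'.subtype with hV₀
      have hV₀V' : V₀ ≤ V' := by
        rintro _ ⟨u, -, rfl⟩
        exact u.2
      refine ⟨j' + 1, by omega, V₀, ⟨?_, ?_, ?_⟩, ?_, ?_, ?_⟩
      · rintro g _ ⟨w, hw, rfl⟩
        exact ⟨τ' g w, hS'.1 g w hw, rfl⟩
      · intro h0
        apply hS'.2.1
        rw [eq_bot_iff]
        intro w hw
        have : (w : V) ∈ V₀ := ⟨w, hw, rfl⟩
        rw [h0] at this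
        exact (Submodule.mem_bot K).mpr (Subtype.ext ((Submodule.mem_bot K).mp this))
      · intro S hS hle
        set S' : Submodule K V' := S.comap V'.subtype with hS'def
        have hS'inv : HH.Inv τ' S' := by
          intro g s hs
          exact hS g _ hs
        have hS'le : S' ≤ V₀' := by
          intro s hs
          obtain ⟨w, hw, hws⟩ := hle hs
          have : w = s := Subtype.ext hws
          rw [← this]
          exact hw
        rcases hS'.2.2 S' hS'inv hS'le with h0 | h1
        · left
          rw [eq_bot_iff]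
          intro s hs
          obtain ⟨w, hw, rfl⟩ := hle hs
          have hwS' : w ∈ S' := hs
          rw [h0] at hwS'
          rw [(Submodule.mem_bot K).mp hwS']
          exact Submodule.zero_mem _
        · right
          apply le_antisymm hle
          rintro _ ⟨w, hw, rfl⟩
          have : w ∈ S' := by rw [h1]; exact hw
          exact this
      · rintro _ ⟨w, hw, rfl⟩
        have h1 : A ^ p ^ (j' + 1) = B ^ (p ^ j') := by
          rw [hB, ← pow_mul, ← pow_succ']
        rw [h1]
        refine ⟨(A' ^ (p ^ j')) w, hst' w hw, ?_⟩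
        exact helper12_coe_restrict_pow V' B hV'A (p ^ j') w
      · have hV'sum : (⨆ b ∈ Finset.range (p ^ j'), V₀.map (B ^ b)) = V' := by
          have h1 : ∀ b, V₀.map (B ^ b) = (V₀'.map (A' ^ b)).map V'.subtype := fun b =>
            (helper12_map_restrict_pow V' B hV'A b V₀').symm
          simp_rw [h1]
          have h2 : (⨆ b ∈ Finset.range (p ^ j'), (V₀'.map (A' ^ b)).map V'.subtype)
              = (⨆ b ∈ Finset.range (p ^ j'), V₀'.map (A' ^ b)).map V'.subtype := by
            rw [Submodule.map_iSup]
            apply iSup_congr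
            intro b
            rw [Submodule.map_iSup]
          rw [h2, hsum', Submodule.map_subtype_top]
        have htop := helper12_iSup_eq_top h p hp.pos hirr V' hV'inv hV'A hV'ne
        rw [eq_top_iff, ← htop]
        apply iSup₂_le
        intro a ha
        rw [Finset.mem_range] at ha
        rw [← hV'sum, Submodule.map_iSup]
        apply iSup_le
        intro b
        rw [Submodule.map_iSup]
        apply iSup_le
        intro hb
        rw [Finset.mem_range] at hb
        have h1 : (V₀.map (B ^ b)).map (A ^ a) = V₀.map (A ^ (a + p * b)) := by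
          rw [← Submodule.map_comp, hB, ← pow_mul, pow_add]
          rfl
        rw [h1]
        refine le_iSup₂ (f := fun i (_ : i ∈ Finset.range (p ^ (j' + 1))) => V₀.map (A ^ i))
          (a + p * b) ?_
        rw [Finset.mem_range]
        calc a + p * b < p + p * b := by omega
          _ = p * (b + 1) := by ring
          _ ≤ p * p ^ j' := Nat.mul_le_mul_left p hb
          _ = p ^ (j' + 1) := by rw [pow_succ']
      · have hfin0 : finrank K V₀ = finrank K V₀' := by
          have e := Submodule.equivMapOfInjective V'.subtype V'.subtype_injective V₀'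
          exact (LinearEquiv.finrank_eq e).symm
        have hinj : ∀ i : ℕ, Function.Injective ⇑(A ^ i) := fun i =>
          Function.LeftInverse.injective (g := ⇑(Ai ^ i)) (fun v => (h.pow i).inv_apply v)
        have hX : ∀ i < p, finrank K (V'.map (A ^ i)) = finrank K V' := by
          intro i _
          have e := Submodule.equivMapOfInjective (A ^ i) (hinj i) V'
          exact (LinearEquiv.finrank_eq e).symm
        have hsumfr := helper12_finrank_iSup (fun i => V'.map (A ^ i)) p (finrank K V') hX hdis
          p le_rfl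
        have htop := helper12_iSup_eq_top h p hp.pos hirr V' hV'inv hV'A hV'ne
        have htop' : (⨆ i ∈ Finset.range p, (fun i => V'.map (A ^ i)) i) = ⊤ := htop
        rw [htop', finrank_top] at hsumfr
        rw [hfin0, hsumfr, ← hfr', pow_succ']
        ring

end Cfsg.Agent.Helper12.SG
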