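import Mathlib
import Cfsg.Agent.Lib.Helper31.SGDefs
import Cfsg.Agent.Lib.Helper31.HHCore5

set_option autoImplicit false

/-!
# (RED) Shult–Gross: reduction to the minimal faithful irreducible configuration
(piece of S3793, helper31 server)
-/

namespace Cfsg.Agent.Helper12.SG

open Module Subgroup Cfsg.Agent.Helper31.SG Cfsg.Agent.Helper31

universe u uG uK uV

theorem helper12_fpfOn_mono {G : Type*} [Group G] {x : G} {Q Q₁ : Subgroup G} (hle : Q₁ ≤ Q)
    (h : FpfOn x Q) : FpfOn x Q₁ :=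
  fun Q₂ hQ₂ hinv g hg hc => h Q₂ (hQ₂.trans hle) hinv g (hle hg) hc

theorem helper12_fpfOn_subgroupOf {G : Type*} [Group G] (Γ : Subgroup G) (x : G) (hx : x ∈ Γ)
    (Q : Subgroup G) (h : FpfOn x Q) : FpfOn (⟨x, hx⟩ : Γ) (Q.subgroupOf Γ) := by
  intro Q₂ hQ₂ hinv g hg hc
  have h1 := h (Q₂.map Γ.subtype) ?_ ?_ (g : G) (mem_subgroupOf.mp hg) ?_
  · obtain ⟨g', hg', hgg⟩ := h1
    have : g' = g := Subtype.ext hgg
    rwa [← this]
  · rintro _ ⟨a, ha, rfl⟩
    exact mem_subgroupOf.mp (hQ₂ ha)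
  · rintro _ ⟨a, ha, rfl⟩
    exact ⟨(⟨x, hx⟩ : Γ) * a * (⟨x, hx⟩ : Γ)⁻¹, hinv a ha, rfl⟩
  · exact ⟨_, hc, rfl⟩

theorem helper12_fpfOn_map {G H : Type*} [Group G] [Group H] (f : G →* H) (x : G)
    (Q : Subgroup G) (hQx : ∀ g ∈ Q, x * g * x⁻¹ ∈ Q) (h : FpfOn x Q) :
    FpfOn (f x) (Q.map f) := by
  intro Q₂ hQ₂ hinv g' hg' hc
  obtain ⟨g, hg, rfl⟩ := hg'
  have h1 := h (Q ⊓ Q₂.comap f) inf_le_left ?_ g hg ?_
  · exact h1.2
  · intro a ha
    refine ⟨hQx a ha.1, ?_⟩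
    show f (x * a * x⁻¹) ∈ Q₂
    rw [map_mul, map_mul, map_inv]
    exact hinv _ ha.2
  · refine ⟨Q.mul_mem (hQx g hg) (Q.inv_mem hg), ?_⟩
    show f (x * g * x⁻¹ * g⁻¹) ∈ Q₂
    rw [map_mul, map_mul, map_mul, map_inv, map_inv]
    exact hc

theorem helper12_mem_of_sub_mem {K : Type*} [Field K] {V : Type*} [AddCommGroup V] [Module K V]
    [FiniteDimensional K V] (X : End K V) (U : Submodule K V) (hXU : ∀ u ∈ U, X u ∈ U)
    (hfix : ∀ v, X v = v → v = 0) (v : V) (hv : X v - v ∈ U) : v ∈ U := by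
  have hT : ∀ u ∈ U, (X - 1) u ∈ U := by
    intro u hu
    rw [LinearMap.sub_apply, Module.End.one_apply]
    exact U.sub_mem (hXU u hu) hu
  set T : End K U := (X - 1).restrict hT with hTdef
  have hTcoe : ∀ u : U, ((T u : U) : V) = X (u : V) - (u : V) := by
    intro u
    show (X - 1) (u : V) = _
    rw [LinearMap.sub_apply, Module.End.one_apply]
  have hinj : Function.Injective T := by
    rw [← LinearMap.ker_eq_bot, LinearMap.ker_eq_bot']
    intro u hu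
    have h0 : X (u : V) - (u : V) = 0 := by
      rw [← hTcoe, hu]
      rfl
    exact Subtype.ext (hfix _ (sub_eq_zero.mp h0))
  have hsurj : Function.Surjective T := LinearMap.injective_iff_surjective.mp hinj
  obtain ⟨u, hu⟩ := hsurj ⟨X v - v, hv⟩
  have h1 : X (u : V) - (u : V) = X v - v := by
    rw [← hTcoe, hu]
  have h2 : X (v - u) = v - u := by
    calc X (v - u) = X v - X u := map_sub _ _ _
      _ = (X v - v) - (X u - u) + (v - u) := by abel
      _ = v - u := by rw [h1, sub_self, zero_add]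
  have h3 : v - u = 0 := hfix _ h2
  have h4 : v = u := sub_eq_zero.mp h3
  rw [h4]
  exact u.2

/-- The faithful step. -/
theorem helper12_faithful_step {K : Type uK} [Field K] [IsAlgClosed K] (p q r : ℕ)
    [hp : Fact p.Prime] [hq : Fact q.Prime] [hr : Fact r.Prime] (hrq : r ≠ q) [CharP K r]
    (FIN : FinalStmt.{uG, uK, uV} K p q)
    (N : ℕ) (ih : ∀ m < N, SGStmt.{uG, uK, uV} K p q m)
    {V : Type uV} [AddCommGroup V] [Module K V] [FiniteDimensional K V]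
    {G : Type uG} [Group G] [Finite G] (ρ : Representation K G V) (hfaith : Function.Injective ρ)
    (Q : Subgroup G) (x : G) (n : ℕ) (hN : finrank K V + Nat.card Q ≤ N) (hQ : IsPGroup q Q)
    (hQx : ∀ g ∈ Q, x * g * x⁻¹ ∈ Q) (hgen : Q ⊔ zpowers x = ⊤) (hx : orderOf x = p ^ (n + 1))
    (hNC : ∃ g ∈ Q, g * x ^ p ^ n ≠ x ^ p ^ n * g)
    (hfix : ∀ v : V, ρ x v = v → v = 0) (hfpf : FpfOn x Q) : False := by
  have hxP : x ^ p ^ (n + 1) = 1 := by rw [← hx, pow_orderOf_eq_one]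
  have hNCρ : ∃ g ∈ Q, ρ g * ρ (x ^ p ^ n) ≠ ρ (x ^ p ^ n) * ρ g := by
    obtain ⟨g, hg, hgne⟩ := hNC
    refine ⟨g, hg, fun h => hgne (hfaith ?_)⟩
    rw [map_mul, map_mul]
    exact h
  have hQn : Q.Normal := by
    rw [← normalizer_eq_top_iff, eq_top_iff, ← hgen]
    exact sup_le le_normalizer
      (HH.zpowers_le_normalizer_of_conj_mem Q x (pow_pos hp.out.pos (n + 1)) hxP hQx)
  have hnt : Nontrivial V := by
    by_contra hcon
    rw [not_nontrivial_iff_subsingleton] at hcon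
    obtain ⟨g, hg, hgne⟩ := hNCρ
    apply hgne
    apply LinearMap.ext
    intro v
    exact Subsingleton.elim _ _
  -- (S1)
  by_cases hS1 : ∃ Q₁ : Subgroup G, Q₁ ≤ Q ∧ Q₁ ≠ Q ∧ (∀ g ∈ Q₁, x * g * x⁻¹ ∈ Q₁) ∧
      ∃ g ∈ Q₁, g * x ^ p ^ n ≠ x ^ p ^ n * g
  · obtain ⟨Q₁, hle, hne, hinv, g, hg, hgne⟩ := hS1
    have hcard : Nat.card Q₁ < Nat.card Q := by
      by_contra hcon
      push Not at hcon
      exact hne (Subgroup.eq_of_le_of_card_ge hle hcon)
    have := ih (finrank K V + Nat.card Q₁) (by omega) V G ρ Q₁ x n le_rfl (hQ.to_le hle) hinv hxP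
      hfix (helper12_fpfOn_mono hle hfpf) g hg
    apply hgne
    apply hfaith
    rw [map_mul, map_mul]
    exact this
  -- (S2)
  by_cases hS2 : ∃ U : Submodule K V, HH.Inv ρ U ∧ U ≠ ⊥ ∧ U ≠ ⊤
  · obtain ⟨U, hU, hU0, hU1⟩ := hS2
    have hfU : finrank K U < finrank K V := Submodule.finrank_lt hU1
    have hfQ : finrank K (V ⧸ U) < finrank K V := by
      have h1 := Submodule.finrank_quotient_add_finrank U
      have h2 : 0 < finrank K U := by
        rw [Module.finrank_pos_iff]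
        exact (Submodule.nontrivial_iff_ne_bot).mpr hU0
      omega
    set y := x ^ p ^ n with hy
    have hfixU : ∀ u : U, HH.subRep ρ U hU x u = u → u = 0 := by
      intro u hu
      have h1 : ρ x (u : V) = (u : V) := congrArg Subtype.val hu
      exact Subtype.ext (hfix _ h1)
    have hfixQ : ∀ w : V ⧸ U, HH.quotRep ρ U hU x w = w → w = 0 := by
      intro w hw
      obtain ⟨v, rfl⟩ := Submodule.Quotient.mk_surjective U w
      rw [HH.quotRep_mk, Submodule.Quotient.eq] at hw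
      rw [Submodule.Quotient.mk_eq_zero]
      exact helper12_mem_of_sub_mem (ρ x) U (hU x) hfix v hw
    have hsub := ih (finrank K U + Nat.card Q) (by omega) U G (HH.subRep ρ U hU) Q x n le_rfl hQ hQx
      hxP hfixU hfpf
    have hquot := ih (finrank K (V ⧸ U) + Nat.card Q) (by omega) (V ⧸ U) G (HH.quotRep ρ U hU) Q x n
      le_rfl hQ hQx hxP hfixQ hfpf
    obtain ⟨g, hg, hgne⟩ := hNCρ
    apply hgne
    apply HH.commute_of_sub_quot r q hrq ρ Q hQ y (HH.pow_conj_mem Q x hQx _) U hU g hg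
    · intro u hu
      have := congrArg (fun f : End K U => ((f ⟨u, hu⟩ : U) : V)) (hsub g hg)
      exact this
    · intro v
      have := congrArg (fun f : End K (V ⧸ U) => f (Submodule.Quotient.mk v)) (hquot g hg)
      simp only [Module.End.mul_apply, HH.quotRep_mk] at this
      exact (Submodule.Quotient.eq U).mp this
  -- (S3)
  have hminQ : ∀ Q₁ : Subgroup G, Q₁ ≤ Q → Q₁ ≠ Q → (∀ g ∈ Q₁, x * g * x⁻¹ ∈ Q₁) →
      ∀ g ∈ Q₁, g * x ^ p ^ n = x ^ p ^ n * g := by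
    intro Q₁ h1 h2 h3 g hg
    by_contra hcon
    exact hS1 ⟨Q₁, h1, h2, h3, g, hg, hcon⟩
  have hirrG : ∀ U : Submodule K V, HH.Inv ρ U → U = ⊥ ∨ U = ⊤ := by
    intro U hU
    by_contra hcon
    push Not at hcon
    exact hS2 ⟨U, hU, hcon.1, hcon.2⟩
  have hfixQ : ∀ g ∈ Q, x * g * x⁻¹ = g → g = 1 := by
    intro g hg hxg
    have h1 := hfpf ⊥ bot_le (fun a ha => by
      rw [Subgroup.mem_bot] at ha
      rw [ha, mul_one, mul_inv_cancel]
      exact Subgroup.mem_bot.mpr rfl) g hg (by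
        rw [hxg, mul_inv_cancel]
        exact Subgroup.mem_bot.mpr rfl)
    exact Subgroup.mem_bot.mp h1
  exact FIN V G ρ hfaith Q hQ x n hgen hx hNC hminQ hirrG hfix hfixQ

/-- (RED) the reduction to the minimal faithful irreducible configuration. -/
theorem sg_all {K : Type uK} [Field K] [IsAlgClosed K] (p q r : ℕ) [hp : Fact p.Prime]
    [hq : Fact q.Prime] [hr : Fact r.Prime] (hrq : r ≠ q) [CharP K r]
    (FIN : FinalStmt.{uG, uK, uV} K p q) : ∀ N, SGStmt.{uG, uK, uV} K p q N := by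
  intro N
  induction N using Nat.strong_induction_on with
  | _ N ih =>
    intro V _ _ _ G _ _ ρ Q x n hN hQ hQx hx hfix hfpf
    by_contra hcon
    push Not at hcon
    obtain ⟨g₀, hg₀, hg₀ne⟩ := hcon
    have hNC : ∃ g ∈ Q, ρ g * ρ (x ^ p ^ n) ≠ ρ (x ^ p ^ n) * ρ g := ⟨g₀, hg₀, hg₀ne⟩
    set Γ : Subgroup G := Q ⊔ zpowers x with hΓ
    have hQΓ : Q ≤ Γ := le_sup_left
    have hxΓ : x ∈ Γ := (le_sup_right : zpowers x ≤ Γ) (mem_zpowers x)
    set φ : Γ →* End K V := ρ.comp Γ.subtype with hφ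
    set Q' : Subgroup Γ := Q.subgroupOf Γ with hQ'
    set x' : Γ := ⟨x, hxΓ⟩ with hx'
    have hQ'p : IsPGroup q Q' := hQ.comap_subtype
    have hgen' : Q' ⊔ zpowers x' = ⊤ := HH.gen_subgroupOf Q x hxΓ
    have hx'P : x' ^ p ^ (n + 1) = 1 := by
      apply Subtype.ext
      rw [Subgroup.coe_pow, Subgroup.coe_one]
      exact hx
    have hNC' : ∃ g ∈ Q', φ g * φ (x' ^ p ^ n) ≠ φ (x' ^ p ^ n) * φ g := by
      obtain ⟨g, hg, hgne⟩ := hNC
      refine ⟨⟨g, hQΓ hg⟩, by rw [hQ', mem_subgroupOf]; exact hg, ?_⟩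
      exact hgne
    obtain ⟨h1, h2, h3, h4, h5, h6, h7, -⟩ :=
      HH.transfer_quot p q n φ Q' hQ'p x' hgen' hx'P hNC'
    have hcardQ' : Nat.card Q' = Nat.card Q := Nat.card_congr (subgroupOfEquivOfLe hQΓ).toEquiv
    have hQx' : ∀ g ∈ Q', x' * g * x'⁻¹ ∈ Q' := fun g hg =>
      mem_subgroupOf.mpr (hQx _ (mem_subgroupOf.mp hg))
    have hQx'' : ∀ g ∈ Q'.map (QuotientGroup.mk' φ.ker),
        QuotientGroup.mk' φ.ker x' * g * (QuotientGroup.mk' φ.ker x')⁻¹ ∈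
          Q'.map (QuotientGroup.mk' φ.ker) := by
      rintro _ ⟨g, hg, rfl⟩
      refine ⟨x' * g * x'⁻¹, hQx' g hg, by simp⟩
    have hfpf'' : FpfOn (QuotientGroup.mk' φ.ker x') (Q'.map (QuotientGroup.mk' φ.ker)) :=
      helper12_fpfOn_map (QuotientGroup.mk' φ.ker) x' Q' hQx'
        (helper12_fpfOn_subgroupOf Γ x hxΓ Q hfpf)
    have hρx : HH.kerLiftM φ (QuotientGroup.mk' φ.ker x') = ρ x := h5
    have hfix'' : ∀ v : V, HH.kerLiftM φ (QuotientGroup.mk' φ.ker x') v = v → v = 0 := by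
      rw [hρx]
      exact hfix
    exact helper12_faithful_step p q r hrq FIN N ih (HH.kerLiftM φ) h1
      (Q'.map (QuotientGroup.mk' φ.ker)) (QuotientGroup.mk' φ.ker x') n (by omega) h2 hQx'' h3 h4
      h6 hfix'' hfpf''

end Cfsg.Agent.Helper12.SG
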