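import Mathlib
import Cfsg.Agent.Lib.Helper2.SR0

/-!
# SR project (S2281), helper12 kit: self-contained proofs of the generic block A and of
K1 .. K7 of the abstract criterion (own names `kit_*`; the verbatim pieces are in `SRK*.lean`).
-/

set_option autoImplicit false

namespace Cfsg.Agent.Helper12.SR

open Matrix Cfsg Cfsg.Agent.Helper13 Cfsg.Agent.Helper84.SpRoot Cfsg.Agent.Helper5.SpAut
open Cfsg.Agent.Helper2.SR

section A
variable {F : Type*} [Field F] {n : ℕ}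
  {H : Subgroup (Matrix.symplecticGroup (Fin n) F)} {e0 : Fin n ⊕ Fin n → F}

theorem kit_orb_self : e0 ∈ Orb H e0 := ⟨1, H.one_mem, one_act e0⟩

theorem kit_orb_act {x : Fin n ⊕ Fin n → F} (hx : x ∈ Orb H e0)
    {h : Matrix.symplecticGroup (Fin n) F} (hh : h ∈ H) : h.val *ᵥ x ∈ Orb H e0 := by
  obtain ⟨g, hg, rfl⟩ := hx
  exact ⟨h * g, H.mul_mem hh hg, mul_act h g e0⟩

theorem kit_tv_of_orb {x : Fin n ⊕ Fin n → F} (hx : x ∈ Orb H e0) {c : F} (hc : c ∈ MM H e0) :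
    sympT x c ∈ H := by
  obtain ⟨g, hg, rfl⟩ := hx
  rw [← conj_sympT]
  exact H.mul_mem (H.mul_mem hg hc) (H.inv_mem hg)

theorem kit_MM_neg {c : F} (hc : c ∈ MM H e0) : -c ∈ MM H e0 := by
  show sympT e0 (-c) ∈ H
  rw [← sympT_inv]
  exact H.inv_mem hc

theorem kit_QQ_zero : (0 : Fin n ⊕ Fin n → F) ∈ QQ H e0 := by
  refine ⟨sympForm_zero_left e0, 0, ?_⟩
  rw [eich_one]
  exact H.one_mem

theorem kit_QQ_add {w w' : Fin n ⊕ Fin n → F} (hw : w ∈ QQ H e0) (hw' : w' ∈ QQ H e0) :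
    w + w' ∈ QQ H e0 := by
  obtain ⟨h0, c, hc⟩ := hw
  obtain ⟨h0', c', hc'⟩ := hw'
  refine ⟨by rw [sympForm_add_left, h0, h0', add_zero], c + c' + Cfsg.sympForm n F w' w, ?_⟩
  rw [← eich_mul h0 h0']
  exact H.mul_mem hc hc'

theorem kit_QQ_neg {w : Fin n ⊕ Fin n → F} (hw : w ∈ QQ H e0) : -w ∈ QQ H e0 := by
  obtain ⟨h0, c, hc⟩ := hw
  have h0' : Cfsg.sympForm n F (-w) e0 = 0 := by
    have : -w = (-1 : F) • w := by rw [neg_smul, one_smul]
    rw [this, sympForm_smul_left, h0, mul_zero]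
  refine ⟨h0', -c, ?_⟩
  have hmul : eich e0 w c * eich e0 (-w) (-c) = 1 := by
    rw [eich_mul h0 h0']
    have h1 : Cfsg.sympForm n F (-w) w = 0 := by
      have : -w = (-1 : F) • w := by rw [neg_smul, one_smul]
      rw [this, sympForm_smul_left, sympForm_self, mul_zero]
    rw [h1, add_neg_cancel, add_neg_cancel, add_zero, eich_one]
  have : eich e0 (-w) (-c) = (eich e0 w c)⁻¹ := (inv_eq_of_mul_eq_one_right hmul).symm
  rw [this]
  exact H.inv_mem hc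

theorem kit_QQ_sub {w w' : Fin n ⊕ Fin n → F} (hw : w ∈ QQ H e0) (hw' : w' ∈ QQ H e0) :
    w - w' ∈ QQ H e0 := by
  rw [sub_eq_add_neg]
  exact kit_QQ_add hw (kit_QQ_neg hw')

theorem kit_QQ_stab {w : Fin n ⊕ Fin n → F} (hw : w ∈ QQ H e0)
    {h : Matrix.symplecticGroup (Fin n) F} (hh : h ∈ H) (hfix : h.val *ᵥ e0 = e0) :
    h.val *ᵥ w ∈ QQ H e0 := by
  obtain ⟨h0, c, hc⟩ := hw
  refine ⟨?_, c, ?_⟩
  · conv_lhs => rw [← hfix]
    rw [sympForm_mulVec h.2, h0]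
  · have := conj_eich h h0 c
    rw [hfix] at this
    rw [← this]
    exact H.mul_mem (H.mul_mem hh hc) (H.inv_mem hh)

theorem kit_QQ_tv {w y : Fin n ⊕ Fin n → F} (hw : w ∈ QQ H e0) (hy : y ∈ Orb H e0)
    (hy0 : Cfsg.sympForm n F y e0 = 0) {c : F} (hc : c ∈ MM H e0) :
    (c * Cfsg.sympForm n F w y) • y ∈ QQ H e0 := by
  have hT : sympT y c ∈ H := kit_tv_of_orb hy hc
  have hfix : (sympT y c).val *ᵥ e0 = e0 := by
    rw [sympT_act, orth_symm hy0, mul_zero, zero_smul, add_zero]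
  have h1 := kit_QQ_stab hw hT hfix
  rw [sympT_act] at h1
  have h2 := kit_QQ_sub h1 hw
  rwa [add_sub_cancel_left] at h2

end A

section K
variable {F : Type*} [Field F] {n : ℕ}
  {H : Subgroup (Matrix.symplecticGroup (Fin n) F)} {u l : Matrix.symplecticGroup (Fin n) F}
  {e0 e1 p : Fin n ⊕ Fin n → F} {κ γ : F}

theorem kit_linv_e0 (hyp : Hyp H u l e0 e1 p κ γ) : (l⁻¹).val *ᵥ e0 = p := by
  rw [← hyp.lp, inv_mulVec_mulVec]

theorem kit_linv_e1 (hyp : Hyp H u l e0 e1 p κ γ) : (l⁻¹).val *ᵥ e1 = e0 := by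
  rw [← hyp.le0, inv_mulVec_mulVec]

theorem kit_orb_basic (hyp : Hyp H u l e0 e1 p κ γ) :
    e1 ∈ Orb H e0 ∧ e1 + e0 ∈ Orb H e0 ∧ p ∈ Orb H e0 := by
  have h1 : e1 ∈ Orb H e0 := ⟨l, hyp.hl, hyp.le0⟩
  refine ⟨h1, ?_, ?_⟩
  · have := kit_orb_act h1 hyp.hu
    rwa [hyp.ue1] at this
  · exact ⟨l⁻¹, H.inv_mem hyp.hl, kit_linv_e0 hyp⟩

theorem kit_seed (hyp : Hyp H u l e0 e1 p κ γ) {c : F} (hc : c ∈ MM H e0) :
    c • e1 ∈ QQ H e0 := by
  obtain ⟨o1, o2, -⟩ := kit_orb_basic hyp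
  have h0 : Cfsg.sympForm n F (c • e1) e0 = 0 := by
    rw [sympForm_smul_left, hyp.e1e0, mul_zero]
  refine ⟨h0, c, ?_⟩
  have key : sympT (e1 + e0) c * sympT e1 (-c) = eich e0 (c • e1) c := by
    apply sp_ext
    intro x
    rw [mul_act, sympT_act, sympT_act, eich_act h0]
    simp only [sympForm_add_left, sympForm_add_right, sympForm_smul_left, sympForm_smul_right,
      sympForm_self, hyp.e1e0]
    module
  rw [← key]
  exact H.mul_mem (kit_tv_of_orb o2 hc) (kit_tv_of_orb o1 (kit_MM_neg hc))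

theorem kit_pe1 (hyp : Hyp H u l e0 e1 p κ γ) : Cfsg.sympForm n F p e1 = -γ := by
  rw [sympForm_swap, hyp.e1p]

theorem kit_pingpong (hyp : Hyp H u l e0 e1 p κ γ) : ∀ a : F, a • p ∈ QQ H e0 := by
  obtain ⟨o1, -, op⟩ := kit_orb_basic hyp
  have hκ : κ ∈ MM H e0 := hyp.hκ
  let S : AddSubgroup F :=
    { carrier := {a | a • p ∈ QQ H e0}
      zero_mem' := by
        show (0 : F) • p ∈ QQ H e0
        rw [zero_smul]
        exact kit_QQ_zero
      add_mem' := by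
        intro a b ha hb
        show (a + b) • p ∈ QQ H e0
        rw [add_smul]
        exact kit_QQ_add ha hb
      neg_mem' := by
        intro a ha
        show (-a) • p ∈ QQ H e0
        rw [neg_smul]
        exact kit_QQ_neg ha }
  have hseed : κ ^ 2 * γ ∈ S := by
    have h1 := kit_seed hyp hκ
    have h2 := kit_QQ_tv h1 op hyp.pe0 hκ
    rw [sympForm_smul_left, hyp.e1p] at h2
    show (κ ^ 2 * γ) • p ∈ QQ H e0
    have e : κ ^ 2 * γ = κ * (κ * γ) := by ring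
    rw [e]
    exact h2
  have hstab : ∀ a ∈ S, (κ * γ) ^ 2 * a ∈ S := by
    intro a ha
    have ha' : a • p ∈ QQ H e0 := ha
    have h1 := kit_QQ_tv ha' o1 hyp.e1e0 hκ
    have h2 := kit_QQ_tv h1 op hyp.pe0 hκ
    rw [sympForm_smul_left, sympForm_smul_left, kit_pe1 hyp, hyp.e1p] at h2
    have h3 := kit_QQ_neg h2
    rw [← neg_smul] at h3
    show ((κ * γ) ^ 2 * a) • p ∈ QQ H e0
    have e : (κ * γ) ^ 2 * a = -(κ * (κ * (a * -γ) * γ)) := by ring
    rw [e]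
    exact h3
  have hne : κ ^ 2 * γ ≠ 0 := mul_ne_zero (pow_ne_zero 2 hyp.κ0) hyp.γ0
  have htop := hyp.gen S ⟨κ ^ 2 * γ, hseed, hne⟩ hstab
  intro a
  have : a ∈ S := by
    rw [htop]
    exact AddSubgroup.mem_top a
  exact this

theorem kit_lin_e1 (hyp : Hyp H u l e0 e1 p κ γ) : ∀ a : F, a • e1 ∈ QQ H e0 := by
  obtain ⟨o1, -, -⟩ := kit_orb_basic hyp
  have hκ : κ ∈ MM H e0 := hyp.hκ
  intro a
  have h1 := kit_pingpong hyp (-(a / (κ * γ)))
  have h2 := kit_QQ_tv h1 o1 hyp.e1e0 hκ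
  rw [sympForm_smul_left, kit_pe1 hyp] at h2
  have e : κ * (-(a / (κ * γ)) * -γ) = a := by
    field_simp [hyp.κ0, hyp.γ0]
  rwa [e] at h2

theorem kit_QQ_full (hyp : Hyp H u l e0 e1 p κ γ) :
    ∀ w : Fin n ⊕ Fin n → F, Cfsg.sympForm n F w e0 = 0 → w ∈ QQ H e0 := by
  let S : Submodule F (Fin n ⊕ Fin n → F) :=
    { carrier := {w | ∀ a : F, a • w ∈ QQ H e0}
      zero_mem' := by
        intro a
        rw [smul_zero]
        exact kit_QQ_zero
      add_mem' := by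
        intro x y hx hy a
        rw [smul_add]
        exact kit_QQ_add (hx a) (hy a)
      smul_mem' := by
        intro c x hx a
        rw [smul_smul]
        exact hx (a * c) }
  have hp : p ∈ S := kit_pingpong hyp
  have hu : ∀ x ∈ S, u.val *ᵥ x ∈ S := by
    intro x hx a
    rw [← Matrix.mulVec_smul]
    exact kit_QQ_stab (hx a) hyp.hu hyp.ue0
  intro w hw
  have h1 : w ∈ S := hyp.cyc S hp hu w hw
  have h2 := h1 1
  rwa [one_smul] at h2

theorem kit_orb_e1_add (hyp : Hyp H u l e0 e1 p κ γ) : ∀ a : F, e1 + a • e0 ∈ Orb H e0 := by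
  obtain ⟨o1, -, -⟩ := kit_orb_basic hyp
  intro a
  obtain ⟨h0, c, hc⟩ := kit_pingpong hyp (a / γ)
  have h1 := kit_orb_act o1 hc
  rw [eich_act h0, hyp.e1e0, sympForm_smul_right, hyp.e1p] at h1
  have e : a / γ * γ = a := by field_simp [hyp.γ0]
  rw [e] at h1
  convert h1 using 1
  module

theorem kit_orb_smul_p (hyp : Hyp H u l e0 e1 p κ γ) : ∀ a : F, a ≠ 0 → a • p ∈ Orb H e0 := by
  intro a ha
  have h1 := kit_orb_act (kit_orb_e1_add hyp a) (H.inv_mem hyp.hl)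
  rw [Matrix.mulVec_add, Matrix.mulVec_smul, kit_linv_e1 hyp, kit_linv_e0 hyp] at h1
  obtain ⟨h0, c, hc⟩ := kit_lin_e1 hyp ((a * γ)⁻¹)
  have h2 := kit_orb_act h1 hc
  rw [eich_act h0] at h2
  simp only [sympForm_add_left, sympForm_smul_left, sympForm_smul_right, sympForm_self, hyp.pe0,
    kit_pe1 hyp, orth_symm hyp.e1e0] at h2
  have e : (a * γ)⁻¹ * (0 + a * -γ) = -1 := by
    field_simp [ha, hyp.γ0]
    ring
  rw [e] at h2
  convert h2 using 1
  module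

end K

end Cfsg.Agent.Helper12.SR
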