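import Mathlib
import Cfsg.Agent.Lib.Helper2.SR0
import Cfsg.Agent.Lib.Helper12.SRKit

/-! SR project (S2281, helper2 server): piece (K5), statement verbatim from
`tools/sr_sigs_helper2.lean.txt`; the proof is in `Cfsg.Agent.Lib.Helper12.SRKit`. -/

set_option autoImplicit false

namespace Cfsg.Agent.Helper12.SR

open Matrix Cfsg Cfsg.Agent.Helper13 Cfsg.Agent.Helper84.SpRoot Cfsg.Agent.Helper5.SpAut
open Cfsg.Agent.Helper2.SR

variable {F : Type*} [Field F] {n : ℕ}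
  {H : Subgroup (Matrix.symplecticGroup (Fin n) F)} {u l : Matrix.symplecticGroup (Fin n) F}
  {e0 e1 p : Fin n ⊕ Fin n → F} {κ γ : F}

/-- (K5) `{w | ∀ a, a • w ∈ QQ}` is a `u`-stable subspace containing `p`; `hyp.cyc` -/
theorem QQ_full (hyp : Hyp H u l e0 e1 p κ γ) :
    ∀ w : Fin n ⊕ Fin n → F, Cfsg.sympForm n F w e0 = 0 → w ∈ QQ H e0 :=
  kit_QQ_full hyp

end Cfsg.Agent.Helper12.SR
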