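import Mathlib
import Cfsg.Agent.Lib.Helper2.SR0
import Cfsg.Agent.Lib.Helper12.SRKit
import Cfsg.Agent.Lib.Helper42.SRK6
import Cfsg.Agent.Lib.Helper94.SRK9a
import Cfsg.Agent.Lib.Helper23.SRKTail

/-! SR project (S2281, helper2 server): pieces (K8) .. (K14), statements verbatim from
`tools/sr_sigs_helper2.lean.txt`, assembled from `Helper12.SRKit` (K1-K7), `Helper42.SRK6`
(K8, K9 cores), `Helper94.SRK9a` (K9a) and `Helper23.SRKTail` (K10-K14 cores). -/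

set_option autoImplicit false

namespace Cfsg.Agent.Helper12.SR

open Matrix Cfsg Cfsg.Agent.Helper13 Cfsg.Agent.Helper84.SpRoot Cfsg.Agent.Helper5.SpAut
open Cfsg.Agent.Helper2.SR

variable {F : Type*} [Field F] {n : ℕ}
  {H : Subgroup (Matrix.symplecticGroup (Fin n) F)} {u l : Matrix.symplecticGroup (Fin n) F}
  {e0 e1 p : Fin n ⊕ Fin n → F} {κ γ : F}

/-- (K8) `sympT (a • p) κ = sympT p (κ a²)`, conjugate by `l` -/
theorem MM_sq (hyp : Hyp H u l e0 e1 p κ γ) : ∀ a : F, κ * a ^ 2 ∈ MM H e0 :=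
  Cfsg.Agent.Helper42.SR.MM_sq_of hyp (kit_orb_smul_p hyp)

/-- (K9) -/
theorem MM_top [Finite F] (hyp : Hyp H u l e0 e1 p κ γ) : ∀ c : F, c ∈ MM H e0 :=
  Cfsg.Agent.Helper42.SR.MM_top_of hyp (MM_sq hyp) (fun S hS => Cfsg.Agent.Helper94.SR.sq_span S hS)

/-- (K10) `eich e0 w c = eich e0 w c' * sympT e0 (c - c')` -/
theorem Q_le [Finite F] (hyp : Hyp H u l e0 e1 p κ γ) :
    ∀ (w : Fin n ⊕ Fin n → F) (c : F), Cfsg.sympForm n F w e0 = 0 → eich e0 w c ∈ H :=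
  Cfsg.Agent.Helper23.SR.Q_le_of (kit_QQ_full hyp) (MM_top hyp)

/-- (K11) `w0 = l e1 ∈ Orb`, `Q_{e0}` is transitive on `{v | ω v e0 = ω w0 e0}` -/
theorem orb_out [Finite F] (hyp : Hyp H u l e0 e1 p κ γ) :
    ∀ v : Fin n ⊕ Fin n → F, Cfsg.sympForm n F v e0 ≠ 0 → ∃ t : F, t ≠ 0 ∧ t • v ∈ Orb H e0 :=
  Cfsg.Agent.Helper23.SR.orb_out_of hyp (Q_le hyp)

/-- (K12) -/
theorem WW_out [Finite F] (hyp : Hyp H u l e0 e1 p κ γ) :
    ∀ v : Fin n ⊕ Fin n → F, Cfsg.sympForm n F v e0 ≠ 0 → v ∈ WW H :=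
  Cfsg.Agent.Helper23.SR.WW_out_of hyp (MM_top hyp) (Q_le hyp)

/-- (K13) `v = y + (v - y)` with `ω y e0 ≠ 0`, `ω y v ≠ 0` -/
theorem WW_all [Finite F] (hyp : Hyp H u l e0 e1 p κ γ) :
    ∀ v : Fin n ⊕ Fin n → F, v ≠ 0 → v ∈ WW H :=
  Cfsg.Agent.Helper23.SR.WW_all_of hyp (MM_top hyp) (Q_le hyp)

/-- (K14) `Cfsg.Agent.S0765.result` -/
theorem core_top [Finite F] (hyp : Hyp H u l e0 e1 p κ γ) : H = ⊤ :=
  Cfsg.Agent.Helper23.SR.core_top_of hyp (MM_top hyp) (Q_le hyp)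

end Cfsg.Agent.Helper12.SR
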