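import Mathlib
import Cfsg.Agent.Lib.Helper2.SS0

/-!
# SS project (S2411): (Y1) `cEl_val` and (Y2) `c_act`  (helper12, for helper2's lemma server)
-/

set_option autoImplicit false
set_option linter.unusedSimpArgs false

namespace Cfsg.Agent.Helper12.SS

open Matrix Cfsg Cfsg.Agent.Helper13 Cfsg.Agent.Helper84.SpRoot Cfsg.Agent.Helper5.SpAut
open Cfsg.Agent.Helper2.SR Cfsg.Agent.Helper2.SS

variable {F : Type*} [Field F] {m : ℕ}

/-- the lower shift block -/
def h12S (m : ℕ) (F : Type*) [Field F] : Matrix (Fin (m + 2)) (Fin (m + 2)) F :=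
  Matrix.of fun i j => if i.val = j.val + 1 then 1 else 0

/-- the corner block `E_{0,n-1}` -/
def h12E (m : ℕ) (F : Type*) [Field F] : Matrix (Fin (m + 2)) (Fin (m + 2)) F :=
  Matrix.of fun i j => if i.val = 0 ∧ j.val = m + 1 then 1 else 0

theorem h12_cM_blocks : cM m F = Matrix.fromBlocks (h12S m F) (-(h12E m F)) (h12E m F) (h12S m F) := by
  ext a b
  rcases a with i | i <;> rcases b with j | j
  · simp [cM, h12S]
  · simp only [cM, h12E, Matrix.of_apply, Matrix.fromBlocks_apply₁₂, Matrix.neg_apply]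
    split_ifs <;> simp
  · simp [cM, h12E]
  · simp [cM, h12S]

theorem h12_SEt : h12S m F * (h12E m F)ᵀ = 0 := by
  ext i j
  rw [Matrix.mul_apply]
  apply Finset.sum_eq_zero
  intro k _
  simp only [h12S, h12E, Matrix.transpose_apply, Matrix.of_apply]
  have hi := i.isLt
  split_ifs with h1 h2
  · exfalso; omega
  · simp
  · simp
  · simp

theorem h12_ESt : h12E m F * (h12S m F)ᵀ = 0 := by
  have h := congrArg Matrix.transpose (h12_SEt (m := m) (F := F))
  rw [Matrix.transpose_mul, Matrix.transpose_transpose, Matrix.transpose_zero] at h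
  exact h

theorem h12_SSt_EEt : h12S m F * (h12S m F)ᵀ + h12E m F * (h12E m F)ᵀ = 1 := by
  ext i j
  rw [Matrix.add_apply, Matrix.mul_apply, Matrix.mul_apply, Matrix.one_apply]
  simp only [h12S, h12E, Matrix.transpose_apply, Matrix.of_apply]
  have hi := i.isLt
  have hj := j.isLt
  by_cases h0 : i.val = 0
  · -- first sum vanishes
    have e1 : (∑ k : Fin (m + 2), (if i.val = k.val + 1 then (1 : F) else 0) *
        (if j.val = k.val + 1 then (1 : F) else 0)) = 0 := by
      apply Finset.sum_eq_zero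
      intro k _
      rw [if_neg (by omega), zero_mul]
    have e2 : (∑ k : Fin (m + 2), (if i.val = 0 ∧ k.val = m + 1 then (1 : F) else 0) *
        (if j.val = 0 ∧ k.val = m + 1 then (1 : F) else 0)) = if j.val = 0 then 1 else 0 := by
      rw [Finset.sum_eq_single (⟨m + 1, by omega⟩ : Fin (m + 2))]
      · simp [h0]
      · intro k _ hk
        have : k.val ≠ m + 1 := fun h => hk (Fin.ext h)
        rw [if_neg (by tauto), zero_mul]
      · intro h; exact absurd (Finset.mem_univ _) h
    rw [e1, e2, zero_add]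
    by_cases hj0 : j.val = 0
    · rw [if_pos hj0, if_pos (Fin.ext (by omega))]
    · rw [if_neg hj0, if_neg (fun h => hj0 (by rw [← h]; exact h0))]
  · obtain ⟨p, hp⟩ : ∃ p, i.val = p + 1 := ⟨i.val - 1, by omega⟩
    have e1 : (∑ k : Fin (m + 2), (if i.val = k.val + 1 then (1 : F) else 0) *
        (if j.val = k.val + 1 then (1 : F) else 0)) = if j.val = p + 1 then 1 else 0 := by
      rw [Finset.sum_eq_single (⟨p, by omega⟩ : Fin (m + 2))]
      · simp [hp]
      · intro k _ hk
        have : k.val ≠ p := fun h => hk (Fin.ext h)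
        rw [if_neg (by omega), zero_mul]
      · intro h; exact absurd (Finset.mem_univ _) h
    have e2 : (∑ k : Fin (m + 2), (if i.val = 0 ∧ k.val = m + 1 then (1 : F) else 0) *
        (if j.val = 0 ∧ k.val = m + 1 then (1 : F) else 0)) = 0 := by
      apply Finset.sum_eq_zero
      intro k _
      rw [if_neg (by tauto), zero_mul]
    rw [e1, e2, add_zero]
    by_cases hjp : j.val = p + 1
    · rw [if_pos hjp, if_pos (Fin.ext (by omega))]
    · rw [if_neg hjp, if_neg (fun h => hjp (by rw [← h]; exact hp))]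

theorem h12_cM_mem : cM m F ∈ Matrix.symplecticGroup (Fin (m + 2)) F := by
  rw [SymplecticGroup.mem_iff, h12_cM_blocks, Matrix.J, Matrix.fromBlocks_transpose,
    Matrix.fromBlocks_multiply, Matrix.fromBlocks_multiply]
  have h1 := h12_SSt_EEt (m := m) (F := F)
  have h2 := h12_SEt (m := m) (F := F)
  have h3 := h12_ESt (m := m) (F := F)
  congr 1
  · simp only [Matrix.mul_zero, Matrix.mul_one, zero_add, Matrix.neg_mul, Matrix.transpose_neg,
      Matrix.mul_neg, neg_neg, h2, h3, add_zero, neg_zero, Matrix.zero_mul]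
  · simp only [Matrix.mul_zero, Matrix.mul_one, zero_add, Matrix.neg_mul, Matrix.transpose_neg,
      Matrix.mul_neg, neg_neg, add_zero, Matrix.zero_mul]
    have h1' : h12E m F * (h12E m F)ᵀ + h12S m F * (h12S m F)ᵀ = 1 := by
      rw [add_comm (h12E m F * (h12E m F)ᵀ)]; exact h1
    rw [← h1']; abel
  · simp only [Matrix.mul_zero, Matrix.mul_one, zero_add, Matrix.neg_mul, Matrix.transpose_neg,
      Matrix.mul_neg, neg_neg, add_zero, Matrix.zero_mul]
    exact h1
  · simp only [Matrix.mul_zero, Matrix.mul_one, zero_add, Matrix.neg_mul, Matrix.transpose_neg,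
      Matrix.mul_neg, neg_neg, h2, h3, add_zero, neg_zero, Matrix.zero_mul]

/-- (Y1) -/
theorem cEl_val : (cEl m F).val = cM m F := by
  unfold cEl
  rw [dif_pos h12_cM_mem]

theorem h12_cM_be (i : Fin (m + 2)) :
    cM m F *ᵥ be i = fun a => cM m F a (Sum.inl i) := by
  unfold be
  rw [Matrix.mulVec_single_one]
  rfl

theorem h12_cM_bf (i : Fin (m + 2)) :
    cM m F *ᵥ bf i = fun a => cM m F a (Sum.inr i) := by
  unfold bf
  rw [Matrix.mulVec_single_one]
  rfl

/-- (Y2) -/
theorem c_act :
    (∀ i j : Fin (m + 2), j.val = i.val + 1 → (cEl m F).val *ᵥ be i = be j) ∧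
    (cEl m F).val *ᵥ be jB = bf 0 ∧
    (∀ i j : Fin (m + 2), j.val = i.val + 1 → (cEl m F).val *ᵥ bf i = bf j) ∧
    (cEl m F).val *ᵥ bf jB = - be 0 := by
  rw [cEl_val]
  refine ⟨?_, ?_, ?_, ?_⟩
  · intro i j hij
    rw [h12_cM_be]
    have hj := j.isLt
    ext a
    rcases a with x | x
    · simp only [cM, Matrix.of_apply, be, Pi.single_apply, Sum.inl.injEq]
      by_cases h : x = j
      · rw [if_pos h, if_pos (by rw [h, hij])]
      · rw [if_neg h, if_neg (fun h' => h (Fin.ext (by omega)))]
    · simp only [cM, Matrix.of_apply, be, Pi.single_apply, reduceCtorEq, if_false]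
      rw [if_neg (by omega)]
  · rw [h12_cM_be]
    ext a
    rcases a with x | x
    · simp only [cM, Matrix.of_apply, bf, Pi.single_apply, reduceCtorEq, if_false, jB]
      have hx := x.isLt
      rw [if_neg (by omega)]
    · simp only [cM, Matrix.of_apply, bf, Pi.single_apply, Sum.inr.injEq, jB]
      by_cases h : x = 0
      · rw [if_pos h, if_pos ⟨by rw [h]; rfl, trivial⟩]
      · rw [if_neg h, if_neg (fun h' => h (Fin.ext h'.1))]
  · intro i j hij
    rw [h12_cM_bf]
    have hj := j.isLt
    ext a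
    rcases a with x | x
    · simp only [cM, Matrix.of_apply, bf, Pi.single_apply, reduceCtorEq, if_false]
      rw [if_neg (by omega)]
    · simp only [cM, Matrix.of_apply, bf, Pi.single_apply, Sum.inr.injEq]
      by_cases h : x = j
      · rw [if_pos h, if_pos (by rw [h, hij])]
      · rw [if_neg h, if_neg (fun h' => h (Fin.ext (by omega)))]
  · rw [h12_cM_bf]
    ext a
    rcases a with x | x
    · simp only [cM, Matrix.of_apply, be, Pi.neg_apply, Pi.single_apply, Sum.inl.injEq, jB]
      by_cases h : x = 0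
      · rw [if_pos h, if_pos ⟨by rw [h]; rfl, trivial⟩]
      · rw [if_neg h, if_neg (fun h' => h (Fin.ext h'.1)), neg_zero]
    · simp only [cM, Matrix.of_apply, be, Pi.neg_apply, Pi.single_apply, reduceCtorEq, if_false,
        jB, neg_zero]
      have hx := x.isLt
      rw [if_neg (by omega)]

end Cfsg.Agent.Helper12.SS
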