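import Mathlib
import Cfsg.Agent.Lib.Helper2.SS0
import Cfsg.Agent.Lib.Helper2.SRC0

/-!
# SS project (S2411): (Y3) `y_act` and (Y4) `y_d`  (helper12, for helper2's lemma server)
-/

set_option autoImplicit false

namespace Cfsg.Agent.Helper12.SS

open Matrix Cfsg Cfsg.Agent.Helper13 Cfsg.Agent.Helper84.SpRoot Cfsg.Agent.Helper5.SpAut
open Cfsg.Agent.Helper2.SR Cfsg.Agent.Helper2.SS

variable {F : Type*} [Field F] {m : ℕ}

theorem h12_ee (a i : Fin (m + 2)) : Cfsg.sympForm (m + 2) F (be a) (be i) = 0 := by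
  rw [(form_basis (be a) i).1]
  unfold be
  exact Pi.single_eq_of_ne (by simp) _

theorem h12_ff (a i : Fin (m + 2)) : Cfsg.sympForm (m + 2) F (bf a) (bf i) = 0 := by
  rw [(form_basis (bf a) i).2.1]
  unfold bf
  rw [Pi.single_eq_of_ne (by simp), neg_zero]

theorem h12_fe (a i : Fin (m + 2)) :
    Cfsg.sympForm (m + 2) F (bf a) (be i) = if i = a then 1 else 0 := by
  rw [(form_basis (bf a) i).1]
  unfold bf
  rw [Pi.single_apply]
  simp only [Sum.inr.injEq]

theorem h12_ef (a i : Fin (m + 2)) :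
    Cfsg.sympForm (m + 2) F (be a) (bf i) = -(if i = a then 1 else 0) := by
  rw [(form_basis (be a) i).2.1]
  unfold be
  rw [Pi.single_apply]
  simp only [Sum.inl.injEq]

theorem h12_one_ne_zero : (1 : Fin (m + 2)) ≠ 0 := by
  intro h
  have := congrArg Fin.val h
  simp at this

/-- `ω(w', w) = 1` -/
theorem h12_wp_w (ξ : F) :
    Cfsg.sympForm (m + 2) F (wpV (m := m) ξ) (wV (m := m)) = 1 := by
  unfold wpV wV
  rw [sympForm_add_left, sympForm_smul_left, sympForm_sub_right, sympForm_sub_right, h12_ee,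
    h12_ee, h12_fe, h12_fe, if_pos rfl, if_neg h12_one_ne_zero.symm]
  ring

/-- `ω(w, w') = -1` -/
theorem h12_w_wp (ξ : F) :
    Cfsg.sympForm (m + 2) F (wV (m := m)) (wpV (m := m) ξ) = -1 := by
  rw [sympForm_swap, h12_wp_w]

/-- the action of `y` on an arbitrary vector -/
theorem h12_y_apply (α β ξ : F) (v : Fin (m + 2) ⊕ Fin (m + 2) → F) :
    (yEl (m := m) α β ξ).val *ᵥ v = v + (β * Cfsg.sympForm (m + 2) F v (wpV ξ)) • wpV ξ
      + (α * (Cfsg.sympForm (m + 2) F v wV + β * Cfsg.sympForm (m + 2) F v (wpV ξ))) • wV := by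
  unfold yEl
  rw [mul_act, sympT_act, sympT_act, sympForm_add_left, sympForm_smul_left, h12_wp_w]
  module

theorem h12_e0_wp (ξ : F) : Cfsg.sympForm (m + 2) F (be 0) (wpV (m := m) ξ) = 0 := by
  unfold wpV
  rw [sympForm_add_right, sympForm_smul_right, h12_ee, h12_ef, if_neg h12_one_ne_zero]
  ring

theorem h12_e0_w : Cfsg.sympForm (m + 2) F (be 0) (wV (m := m)) = 0 := by
  unfold wV
  rw [sympForm_sub_right, h12_ee, h12_ee, sub_zero]

theorem h12_e1_wp (ξ : F) : Cfsg.sympForm (m + 2) F (be 1) (wpV (m := m) ξ) = -1 := by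
  unfold wpV
  rw [sympForm_add_right, sympForm_smul_right, h12_ee, h12_ef, if_pos rfl]
  ring

theorem h12_e1_w : Cfsg.sympForm (m + 2) F (be 1) (wV (m := m)) = 0 := by
  unfold wV
  rw [sympForm_sub_right, h12_ee, h12_ee, sub_zero]

/-- `d = e_1 - β w' - αβ w` -/
theorem h12_dV_eq (α β ξ : F) :
    dV (m := m) α β ξ = be 1 - β • wpV ξ - (α * β) • wV := by
  unfold dV wpV wV
  module

/-- (Y3) -/
theorem y_act (α β ξ : F) :
    (yEl (m := m) α β ξ).val *ᵥ be 0 = be 0 ∧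
    (yEl (m := m) α β ξ).val *ᵥ be 1 = dV α β ξ ∧
    (∀ c : F, sympT (be (m := m) 0) c * yEl α β ξ = yEl α β ξ * sympT (be 0) c) := by
  have h0 : (yEl (m := m) α β ξ).val *ᵥ be 0 = be 0 := by
    rw [h12_y_apply, h12_e0_wp, h12_e0_w]
    module
  refine ⟨h0, ?_, ?_⟩
  · rw [h12_y_apply, h12_e1_wp, h12_e1_w, h12_dV_eq]
    module
  · intro c
    have h := conj_sympT (yEl (m := m) α β ξ) (be 0) c
    rw [h0] at h
    rw [mul_inv_eq_iff_eq_mul] at h
    exact h.symm

/-- (Y4) -/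
theorem y_d (α β ξ t : F) (ht : α * β = 2 - t) :
    (yEl (m := m) α β ξ).val *ᵥ dV α β ξ = t • dV α β ξ - be 1 + (2 - t) • be 0 := by
  have hdwp : Cfsg.sympForm (m + 2) F (dV (m := m) α β ξ) (wpV ξ) = α * β - 1 := by
    rw [h12_dV_eq, sympForm_sub_left, sympForm_sub_left, sympForm_smul_left, sympForm_smul_left,
      h12_e1_wp, sympForm_self, h12_w_wp]
    ring
  have hdw : Cfsg.sympForm (m + 2) F (dV (m := m) α β ξ) wV = -β := by
    rw [h12_dV_eq, sympForm_sub_left, sympForm_sub_left, sympForm_smul_left, sympForm_smul_left,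
      h12_e1_w, sympForm_self, h12_wp_w]
    ring
  have ht' : t = 2 - α * β := by rw [ht]; ring
  rw [h12_y_apply, hdwp, hdw, ht', h12_dV_eq]
  unfold wV
  module

end Cfsg.Agent.Helper12.SS
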