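import Mathlib
import Cfsg.Agent.Lib.Helper87.PsuA

/-!
# SUO (S2282) proactive brick: cyclicity of a regular unipotent in a hyperbolic basis.

If `g` is upper unitriangular in the hyperbolic basis `b` with nonzero superdiagonal, `S` is a
`g`-stable `F`-subspace, `p ∈ S` has top level exactly `j` (`co p j ≠ 0`, `co p i = 0` for `i > j`),
then `S` contains every vector of level `≤ j`.  With `j = rev 0 - 1` this is `(b 0)^⊥ ⊆ S`.
-/

set_option autoImplicit false
set_option linter.unusedSectionVars false
set_option linter.unusedVariables false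
set_option quotPrecheck false

namespace Cfsg.Agent.Helper12.SUO

open Matrix Cfsg Cfsg.Agent.Helper13 Cfsg.Agent.Helper87.PsuA

variable {F : Type*} [Field F] [Fintype F] {q n : ℕ}

local notation "V" => Fin n → F
local notation "G" => ↥(Cfsg.SU n F q)
local notation "H" => Cfsg.hermForm n F q

variable (hF : Fintype.card F = q ^ 2) {b : Fin n → Fin n → F}

include hF in
/-- coordinates of `g x` from the coordinates of `x` and the matrix of `g` in the basis `b` -/
theorem h12_co_actv (hb : HB q b) (g : G) (x : V) (i : Fin n) :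
    co q b (actv g x) i = ∑ m, co q b x m * co q b (actv g (b m)) i := by
  conv_lhs => rw [expand hb x]
  rw [actv_sum, co_sum hF]
  apply Finset.sum_congr rfl
  intro m _
  rw [actv_smul, co_smul]

include hF in
/-- for `g` upper unitriangular, `g x - x` drops the level by one, with the superdiagonal
coefficient -/
theorem h12_co_sub_top (hb : HB q b) (g : G)
    (hlow : ∀ i j : Fin n, j ≤ i → co q b (actv g (b j)) i = if i = j then 1 else 0)
    (x : V) (j : Fin n) (hx0 : ∀ i, j < i → co q b x i = 0) :
    (∀ i, j ≤ i → co q b (actv g x - x) i = 0) ∧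
    (∀ i : Fin n, i.val + 1 = j.val →
      co q b (actv g x - x) i = co q b x j * co q b (actv g (b j)) i) := by
  constructor
  · intro i hji
    rw [co_sub hF, h12_co_actv hF hb, Finset.sum_eq_single i]
    · rw [hlow i i le_rfl, if_pos rfl, mul_one, sub_self]
    · intro m _ hmi
      rcases lt_or_gt_of_ne hmi with h | h
      · rw [hlow i m h.le, if_neg (Ne.symm hmi), mul_zero]
      · rw [hx0 m (lt_of_le_of_lt hji h), zero_mul]
    · intro h; exact absurd (Finset.mem_univ i) h
  · intro i hij
    have hij' : i < j := by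
      rw [Fin.lt_def]; omega
    rw [co_sub hF, h12_co_actv hF hb, ← Finset.add_sum_erase _ _ (Finset.mem_univ i),
      hlow i i le_rfl, if_pos rfl, mul_one, add_sub_cancel_left]
    rw [Finset.sum_eq_single j]
    · intro m hm hmj
      have hmi : m ≠ i := (Finset.mem_erase.1 hm).1
      rcases lt_or_gt_of_ne hmj with h | h
      · have hmi' : m < i := by
          rw [Fin.lt_def] at h ⊢
          have : m.val ≠ i.val := fun e => hmi (Fin.ext e)
          omega
        rw [hlow i m hmi'.le, if_neg (Ne.symm hmi), mul_zero]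
      · rw [hx0 m h, zero_mul]
    · intro h
      exact absurd (Finset.mem_erase.2 ⟨hij'.ne', Finset.mem_univ j⟩) h

include hF in
/-- cyclicity: a `g`-stable subspace containing a vector of exact level `j` contains all
vectors of level `≤ j` -/
theorem h12_cyc_level (hb : HB q b) (g : G)
    (hlow : ∀ i j : Fin n, j ≤ i → co q b (actv g (b j)) i = if i = j then 1 else 0)
    (hsup : ∀ i j : Fin n, i.val + 1 = j.val → co q b (actv g (b j)) i ≠ 0)
    (S : Submodule F V) (hS : ∀ x ∈ S, actv g x ∈ S) :
    ∀ (k : ℕ) (j : Fin n), j.val = k → ∀ p ∈ S, co q b p j ≠ 0 →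
      (∀ i, j < i → co q b p i = 0) →
      ∀ x : V, (∀ i, j < i → co q b x i = 0) → x ∈ S := by
  intro k
  induction k with
  | zero =>
    intro j hj p hp hpj hp0 x hx0
    have hx : x = (co q b x j / co q b p j) • p := by
      apply ext_co hb
      intro i
      rw [co_smul]
      by_cases hij : i = j
      · subst hij
        field_simp
      · have hlt : j < i := by
          rw [Fin.lt_def]
          have : i.val ≠ j.val := fun e => hij (Fin.ext e)
          omega
        rw [hx0 i hlt, hp0 i hlt, mul_zero]
    rw [hx]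
    exact S.smul_mem _ hp
  | succ k ih =>
    intro j hj p hp hpj hp0 x hx0
    have hjn : k < n := by have := j.isLt; omega
    set j' : Fin n := ⟨k, hjn⟩ with hj'
    have hj'j : j'.val + 1 = j.val := by rw [hj]
    have hlt_iff : ∀ i : Fin n, j' < i ↔ j ≤ i := by
      intro i
      rw [Fin.lt_def, Fin.le_def]
      show k < i.val ↔ j.val ≤ i.val
      omega
    -- the vector `g p - p` has exact level `j'`
    obtain ⟨hN0, hN1⟩ := h12_co_sub_top hF hb g hlow p j hp0
    have hNp : actv g p - p ∈ S := S.sub_mem (hS p hp) hp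
    have hNpj : co q b (actv g p - p) j' ≠ 0 := by
      rw [hN1 j' hj'j]
      exact mul_ne_zero hpj (hsup j' j hj'j)
    have hlow' : ∀ y : V, (∀ i, j' < i → co q b y i = 0) → y ∈ S :=
      ih j' rfl (actv g p - p) hNp hNpj (fun i hi => hN0 i ((hlt_iff i).1 hi))
    -- reduce `x` modulo `p`
    have hy : x - (co q b x j / co q b p j) • p ∈ S := by
      apply hlow'
      intro i hi
      have hji : j ≤ i := (hlt_iff i).1 hi
      rw [co_sub hF, co_smul]
      rcases eq_or_lt_of_le hji with h | h
      · subst h
        field_simp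
        ring
      · rw [hx0 i h, hp0 i h, mul_zero, sub_zero]
    have : x = (x - (co q b x j / co q b p j) • p) + (co q b x j / co q b p j) • p := by
      abel
    rw [this]
    exact S.add_mem hy (S.smul_mem _ hp)

include hF in
/-- cyclicity, final form -/
theorem h12_cyc (hb : HB q b) (g : G)
    (hlow : ∀ i j : Fin n, j ≤ i → co q b (actv g (b j)) i = if i = j then 1 else 0)
    (hsup : ∀ i j : Fin n, i.val + 1 = j.val → co q b (actv g (b j)) i ≠ 0)
    (S : Submodule F V) (hS : ∀ x ∈ S, actv g x ∈ S) (j : Fin n) (p : V) (hp : p ∈ S)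
    (hpj : co q b p j ≠ 0) (hp0 : ∀ i, j < i → co q b p i = 0)
    (x : V) (hx0 : ∀ i, j < i → co q b x i = 0) : x ∈ S :=
  h12_cyc_level hF hb g hlow hsup S hS j.val j rfl p hp hpj hp0 x hx0

include hF in
/-- `(b 0)^⊥` in coordinates: `H (b 0) x = 0` iff the last coordinate of `x` vanishes -/
theorem h12_perp_b0_iff (hb : HB q b) (hn : 0 < n) (x : V) :
    H (b ⟨0, hn⟩) x = 0 ↔ co q b x (Fin.rev ⟨0, hn⟩) = 0 := by
  rw [H_b_right hF]
  constructor
  · intro h
    exact pow_eq_zero_iff (q_pos hF).ne' |>.1 h
  · intro h
    rw [h, frob_zero hF]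

end Cfsg.Agent.Helper12.SUO
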