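import Mathlib
import Cfsg.Agent.Lib.Helper12.SUOT0
import Cfsg.Agent.Lib.Helper12.SUOT_T14
import Cfsg.Agent.Lib.Helper12.SUOCyc
import Cfsg.Agent.Lib.Helper69.SUOT_T5Core
import Cfsg.Agent.Lib.Helper42.SUOReg

/-!
# SUOT (S2282 concrete block): pieces T5 (verbatim wrappers of helper69's core) and T6 (helper12)
-/

set_option autoImplicit false
set_option linter.unusedSectionVars false
set_option linter.unusedVariables false

namespace Cfsg.Agent.Helper12.SUOT

open Matrix Cfsg Cfsg.Agent.Helper13 Cfsg.Agent.Helper87.PsuA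

variable {F : Type*} [Field F] [Fintype F] {q n : ℕ}

/-! ### T5 -/

theorem uEl_b_zero (hF : Fintype.card F = q ^ 2) {b : Fin n → Fin n → F} (hb : HB q b) (al : F)
    (j : Fin n) (hj : j.val = 0) : actv (uEl q b al) (b j) = b j :=
  Cfsg.Agent.Helper69.SUOT.h69_b_zero al (Nm_b_zero hF hb) (uEl_key hF hb al) j hj

theorem uEl_b_succ (hF : Fintype.card F = q ^ 2) {b : Fin n → Fin n → F} (hb : HB q b) (al : F)
    (i j : Fin n) (hij : i.val + 1 = j.val) :
    actv (uEl q b al) (b j) = b j + al • b i - al ^ q • actv (uEl q b al) (b i) :=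
  Cfsg.Agent.Helper69.SUOT.h69_b_succ al (Nm_b_succ hF hb) (uEl_key hF hb al) i j hij

theorem uEl_b_one (hF : Fintype.card F = q ^ 2) {b : Fin n → Fin n → F} (hb : HB q b) (al : F)
    (i j : Fin n) (hi : i.val = 0) (hj : j.val = 1) :
    actv (uEl q b al) (b j) = b j + (al - al ^ q) • b i :=
  Cfsg.Agent.Helper69.SUOT.h69_b_one al (Nm_b_zero hF hb) (Nm_b_succ hF hb) (uEl_key hF hb al)
    i j hi hj

theorem uEl_low (hF : Fintype.card F = q ^ 2) {b : Fin n → Fin n → F} (hb : HB q b) (al : F) :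
    ∀ i j : Fin n, j ≤ i → co q b (actv (uEl q b al) (b j)) i = if i = j then 1 else 0 :=
  Cfsg.Agent.Helper69.SUOT.h69_low al (Nm_b_zero hF hb) (Nm_b_succ hF hb) (uEl_key hF hb al) hF hb

theorem uEl_sup (hF : Fintype.card F = q ^ 2) {b : Fin n → Fin n → F} (hb : HB q b) (al : F) :
    ∀ i j : Fin n, i.val + 1 = j.val → co q b (actv (uEl q b al) (b j)) i = al - al ^ q :=
  Cfsg.Agent.Helper69.SUOT.h69_sup al (Nm_b_zero hF hb) (Nm_b_succ hF hb) (uEl_key hF hb al) hF hb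

/-! ### T6 -/

theorem uEl_regular (hF : Fintype.card F = q ^ 2) {b : Fin n → Fin n → F} (hb : HB q b)
    (hn : 1 ≤ n) (al : F) (hal : al ^ q ≠ al) :
    IsNilpotent ((((uEl q b al : ↥(Cfsg.SU n F q)) : Matrix.SpecialLinearGroup (Fin n) F) :
        Matrix (Fin n) (Fin n) F) - 1) ∧
      ((((uEl q b al : ↥(Cfsg.SU n F q)) : Matrix.SpecialLinearGroup (Fin n) F) :
        Matrix (Fin n) (Fin n) F) - 1) ^ (n - 1) ≠ 0 :=
  Cfsg.Agent.Helper42.SUO.regular_of_co hb hn (uEl q b al) (uEl_low hF hb al)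
    (fun i j hij => by rw [uEl_sup hF hb al i j hij]; exact sub_ne_zero.2 (Ne.symm hal))

theorem uEl_cyc (hF : Fintype.card F = q ^ 2) {b : Fin n → Fin n → F} (hb : HB q b)
    (hn : 5 ≤ n) (al : F) (hal : al ^ q ≠ al) (p : Fin n → F)
    (hp0 : Cfsg.hermForm n F q p (b ⟨0, by omega⟩) = 0)
    (hp1 : Cfsg.hermForm n F q p (b ⟨1, by omega⟩) ≠ 0) :
    ∀ W : Submodule F (Fin n → F), p ∈ W → (∀ w ∈ W, actv (uEl q b al) w ∈ W) →
      ∀ w, Cfsg.hermForm n F q (b ⟨0, by omega⟩) w = 0 → w ∈ W := by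
  intro W hpW hW w hw
  have hrev : ∀ i : Fin n, Fin.rev (⟨1, by omega⟩ : Fin n) < i → Fin.rev i = ⟨0, by omega⟩ := by
    intro i hi
    apply Fin.ext
    rw [Fin.lt_def, Fin.val_rev] at hi
    rw [Fin.val_rev]
    have := i.isLt
    simp at hi ⊢
    omega
  apply Cfsg.Agent.Helper12.SUO.h12_cyc hF hb (uEl q b al) (uEl_low hF hb al)
    (fun i j hij => by rw [uEl_sup hF hb al i j hij]; exact sub_ne_zero.2 (Ne.symm hal))
    W hW (Fin.rev ⟨1, by omega⟩) p hpW
  · unfold co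
    rw [Fin.rev_rev]
    exact hp1
  · intro i hi
    unfold co
    rw [hrev i hi]
    exact hp0
  · intro i hi
    unfold co
    rw [hrev i hi]
    exact H_symm_zero hF hw

end Cfsg.Agent.Helper12.SUOT
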