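import Mathlib
import Cfsg.Agent.Lib.Helper12.SUOT0
import Cfsg.Agent.Lib.Helper12.SUOT_T14
import Cfsg.Agent.Lib.Helper12.SUOT_T56
import Cfsg.Agent.Lib.Helper47.SUOT_T7a
import Cfsg.Agent.Lib.Helper34.SUOT_T7b
import Cfsg.Agent.Lib.Helper26.SUOT_T8
import Cfsg.Agent.Lib.Helper23.SUOT_T9
import Cfsg.Agent.Lib.Helper33.SUOT_T10
import Cfsg.Agent.Lib.Helper13.SUOCore
import Cfsg.Agent.Lib.Helper4.SUOWitt
import Cfsg.Agent.Lib.Helper87.PsuHB

/-!
# SUOT (S2282 concrete block): final assembly (helper12)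
`SU_n(q)`, `n ≥ 5` odd, is generated by three conjugates of the regular unipotent element
`u = A(al) A(al^q)⁻¹`, `A(al) = 1 + al N`, `N` the shift in a hyperbolic basis, `al` a generator of
the multiplicative group.  Pieces: T1-T6 helper12 (T5 core helper69), T7a helper47, T7b helper34,
T8a helper86, T8z T8 helper26, T9 helper23, T10 helper33; abstract core helper13 (design helper20),
Witt step helper4, regularity helper42.
-/

set_option autoImplicit false
set_option linter.unusedSectionVars false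
set_option linter.unusedVariables false

namespace Cfsg.Agent.Helper12.SUOT

open Matrix Cfsg Cfsg.Agent.Helper13 Cfsg.Agent.Helper87.PsuA
open Cfsg.Agent.Helper47.SUOT Cfsg.Agent.Helper34.SUOT Cfsg.Agent.Helper26.SUOT
open Cfsg.Agent.Helper23.SUOT Cfsg.Agent.Helper33.SUOT

variable {F : Type*} [Field F] [Fintype F] {q n : ℕ}

theorem suot_main (hF : Fintype.card F = q ^ 2) (hn : 5 ≤ n) (hodd : Odd n) :
    ∃ u g h : ↥(Cfsg.SU n F q),
      (IsNilpotent (((u : Matrix.SpecialLinearGroup (Fin n) F) : Matrix (Fin n) (Fin n) F) - 1) ∧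
        (((u : Matrix.SpecialLinearGroup (Fin n) F) : Matrix (Fin n) (Fin n) F) - 1) ^ (n - 1)
          ≠ 0) ∧
      Subgroup.closure ({u, g * u * g⁻¹, h * u * h⁻¹} : Set ↥(Cfsg.SU n F q)) = ⊤ := by
  obtain ⟨b, hb0⟩ := Cfsg.Agent.Helper87.PsuHB.exists_hb hF n
  have hb : HB q b := hb0
  obtain ⟨al, hgen⟩ := exists_mulGen (F := F)
  have hal0 : al ≠ 0 := mulGen_ne_zero hF al hgen
  have hal : al ^ q ≠ al := mulGen_not_fixed hF al hgen
  have hreg := uEl_regular hF hb (by omega) al hal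
  have hd : al - al ^ q ≠ 0 := sub_ne_zero.2 (Ne.symm hal)
  obtain ⟨kap, hkapdef⟩ : ∃ kap : F, kap = (al - al ^ q)⁻¹ := ⟨_, rfl⟩
  have hkap0 : kap ≠ 0 := by rw [hkapdef]; exact inv_ne_zero hd
  have hkapmul : kap * (al - al ^ q) = 1 := by rw [hkapdef]; exact inv_mul_cancel₀ hd
  have hkap : kap + kap ^ q = 0 := by
    have h1 : kap ^ q * (al ^ q - al) = 1 := by
      have := congrArg (fun t => t ^ q) hkapmul
      simp only [mul_pow, one_pow] at this
      rwa [frob_sub hF, frob_frob hF] at this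
    have h2 : (kap + kap ^ q) * (al - al ^ q) = 0 := by
      linear_combination hkapmul - h1
    rcases mul_eq_zero.1 h2 with h | h
    · exact h
    · exact absurd h hd
  obtain ⟨g, hg⟩ := exists_g hF hb hn al hal kap hkap
  obtain ⟨p, f, hpp, hp0, hp1, hup, hff, hfp, hf0, hf1⟩ := exists_p hF hb hn hodd al
  obtain ⟨γ, hγdef⟩ : ∃ γ : F, γ = Cfsg.hermForm n F q (vV q b al hn)
      (actv (uEl q b al) (actv (uEl q b al) (vV q b al hn))) := ⟨_, rfl⟩
  have hγ : γ ≠ 0 := by rw [hγdef]; exact frame_v_uuv hF hb hn al hal hal0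
  have hγq : γ ^ q ≠ 0 := pow_ne_zero _ hγ
  have h01 : Cfsg.hermForm n F q (b ⟨0, by omega⟩) (b ⟨1, by omega⟩) = 0 := by
    rw [hb, if_neg]
    intro e
    have := congrArg Fin.val e
    rw [Fin.val_rev] at this
    simp at this
    omega
  have h10 : Cfsg.hermForm n F q (b ⟨1, by omega⟩) (b ⟨0, by omega⟩) = 0 := H_symm_zero hF h01
  have h11 : Cfsg.hermForm n F q (b ⟨1, by omega⟩) (b ⟨1, by omega⟩) = 0 := by
    rw [hb, if_neg]
    intro e
    have := congrArg Fin.val e
    rw [Fin.val_rev] at this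
    simp at this
    omega
  have h00 : Cfsg.hermForm n F q (b ⟨0, by omega⟩) (b ⟨0, by omega⟩) = 0 := by
    rw [hb, if_neg]
    intro e
    have := congrArg Fin.val e
    rw [Fin.val_rev] at this
    simp at this
    omega
  have hpx : Cfsg.hermForm n F q p (γ ^ q • b ⟨1, by omega⟩) = Cfsg.hermForm n F q (vV q b al hn)
      (actv (uEl q b al) (actv (uEl q b al) (vV q b al hn))) := by
    rw [hermForm_smul_right, frob_frob hF, hp1, mul_one, hγdef]
  obtain ⟨h, hle, hlp⟩ := Cfsg.Agent.Helper4.SUO.exists_conj_frame hF (uEl q b al)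
    (vV q b al hn) p (b ⟨0, by omega⟩) (γ ^ q • b ⟨1, by omega⟩) f
    (frame_vv hF hb hn al) (frame_v_uv hF hb hn al) (by rw [← hγdef]; exact hγ) hpp hp0 hpx h00
    (by rw [hermForm_smul_right, h01, mul_zero])
    (by rw [hermForm_smul_left, hermForm_smul_right, h11, mul_zero, mul_zero])
    (b_ne_zero hF hb _) hff hfp hf0
    (by rw [hermForm_smul_right, hf1, mul_zero])
  refine ⟨uEl q b al, g, h, hreg, ?_⟩
  have huH : uEl q b al ∈ Subgroup.closure ({uEl q b al, g * uEl q b al * g⁻¹,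
      h * uEl q b al * h⁻¹} : Set ↥(Cfsg.SU n F q)) := Subgroup.subset_closure (by simp)
  have hgH : g * uEl q b al * g⁻¹ ∈ Subgroup.closure ({uEl q b al, g * uEl q b al * g⁻¹,
      h * uEl q b al * h⁻¹} : Set ↥(Cfsg.SU n F q)) := Subgroup.subset_closure (by simp)
  have hlH : h * uEl q b al * h⁻¹ ∈ Subgroup.closure ({uEl q b al, g * uEl q b al * g⁻¹,
      h * uEl q b al * h⁻¹} : Set ↥(Cfsg.SU n F q)) := Subgroup.subset_closure (by simp)
  have hseed : eich hF (b ⟨0, by omega⟩) 0 kap ∈ Subgroup.closure ({uEl q b al,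
      g * uEl q b al * g⁻¹, h * uEl q b al * h⁻¹} : Set ↥(Cfsg.SU n F q)) := by
    have e : eich hF (b ⟨0, by omega⟩) 0 kap = (g * uEl q b al * g⁻¹) * (uEl q b al)⁻¹ := by
      rw [hg, mul_assoc, mul_inv_cancel, mul_one]
    rw [e]
    exact Subgroup.mul_mem _ hgH (Subgroup.inv_mem _ huH)
  have hue : actv (uEl q b al) (b ⟨0, by omega⟩) = b ⟨0, by omega⟩ :=
    uEl_b_zero hF hb al _ rfl
  have hu1 : actv (uEl q b al) (b ⟨1, by omega⟩) =
      b ⟨1, by omega⟩ + (al - al ^ q) • b ⟨0, by omega⟩ :=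
    uEl_b_one hF hb al ⟨0, by omega⟩ ⟨1, by omega⟩ rfl rfl
  apply Cfsg.Agent.Helper13.SUOCore.core_top hF (by omega) (by omega) _ (b ⟨0, by omega⟩) f
    (uEl q b al) (h * uEl q b al * h⁻¹) huH hlH h00 (H_symm_zero hF hf0)
    (by rw [hff]; exact one_ne_zero) kap hkap0 hkap hseed hue
    (by rw [hle, hermForm_smul_left, h10, mul_zero]) (γ ^ q * (al - al ^ q))
    (mul_ne_zero hγq hd)
    (by rw [hle, actv_smul, hu1, smul_add, smul_smul])
    (by rw [hlp]; exact hp0)
    (by
      rw [hle, hlp, hermForm_smul_left, ← hermForm_conj hF p, hp1, one_pow, mul_one]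
      exact hγq)
  · intro S hne hS
    apply hom_of_mulGen al hgen S hne
    intro a ha
    have := hS a ha
    rw [hlp, hup] at this
    have e : kap * (al * (al - al ^ q)) * a = al * a := by
      linear_combination (al * a) * hkapmul
    rwa [e] at this
  · rw [hlp]
    exact uEl_cyc hF hb hn al hal p hp0 (by rw [hp1]; exact one_ne_zero)

end Cfsg.Agent.Helper12.SUOT
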