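import Cfsg.Prelude.Def_Perm
import Cfsg.Agent.Lib.Helper12.Sharp2
import Mathlib

set_option autoImplicit false

/-! The near-field attached to a finite sharply doubly transitive group. -/

namespace Cfsg.Agent.Helper12.Sharp2

open MulAction

section
variable {G : Type*} [Group G] {α : Type*} [MulAction G α] (hS : IsSharp2 G α) [Finite α]
  (o e : α) (hoe : o ≠ e)

/-- translation by `x`: the kernel element taking `o` to `x`. -/
noncomputable def tr (x : α) : G := Classical.choose (kernel_trans hS o x)

theorem tr_mem (x : α) : tr hS o x ∈ kernel hS := (Classical.choose_spec (kernel_trans hS o x)).1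

theorem tr_apply (x : α) : tr hS o x • o = x := (Classical.choose_spec (kernel_trans hS o x)).2

theorem tr_unique {k : G} (hk : k ∈ kernel hS) {x : α} (h : k • o = x) : k = tr hS o x :=
  kernel_unique hS hk (tr_mem hS o x) (by rw [h, tr_apply])

theorem tr_zero : tr hS o o = 1 :=
  (tr_unique hS o (Subgroup.one_mem _) (one_smul G o)).symm

theorem tr_smul (x y : α) : tr hS o (tr hS o y • x) = tr hS o y * tr hS o x := by
  symm
  apply tr_unique hS o ((kernel hS).mul_mem (tr_mem hS o y) (tr_mem hS o x))
  rw [mul_smul, tr_apply]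

include hS hoe in
theorem exists_mu (a : α) (ha : a ≠ o) : ∃ g : G, g • o = o ∧ g • e = a :=
  hS.trans o e o a hoe (Ne.symm ha)

open Classical in
/-- multiplication by `a`: the element of the stabilizer of `o` taking `e` to `a`. -/
noncomputable def mu (a : α) : G :=
  if ha : a = o then 1 else Classical.choose (exists_mu hS o e hoe a ha)

theorem mu_zero' {a : α} (ha : a ≠ o) : mu hS o e hoe a • o = o := by
  unfold mu
  rw [dif_neg ha]
  exact (Classical.choose_spec (exists_mu hS o e hoe a ha)).1

theorem mu_one' {a : α} (ha : a ≠ o) : mu hS o e hoe a • e = a := by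
  unfold mu
  rw [dif_neg ha]
  exact (Classical.choose_spec (exists_mu hS o e hoe a ha)).2

theorem mu_unique {g : G} {a : α} (ha : a ≠ o) (h0 : g • o = o) (h1 : g • e = a) :
    g = mu hS o e hoe a :=
  hS.unique hoe (by rw [h0, mu_zero' hS o e hoe ha]) (by rw [h1, mu_one' hS o e hoe ha])

theorem mu_e : mu hS o e hoe e = 1 :=
  (mu_unique hS o e hoe (Ne.symm hoe) (one_smul G o) (one_smul G e)).symm

theorem mu_ne {a x : α} (ha : a ≠ o) (hx : x ≠ o) : mu hS o e hoe a • x ≠ o := by
  intro h
  apply hx
  have := mu_zero' hS o e hoe ha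
  exact smul_left_cancel _ (h.trans this.symm)

theorem mu_smul {a b : α} (ha : a ≠ o) (hb : b ≠ o) :
    mu hS o e hoe (mu hS o e hoe b • a) = mu hS o e hoe b * mu hS o e hoe a := by
  symm
  apply mu_unique hS o e hoe (mu_ne hS o e hoe hb ha)
  · rw [mul_smul, mu_zero' hS o e hoe ha, mu_zero' hS o e hoe hb]
  · rw [mul_smul, mu_one' hS o e hoe ha]

/-- addition -/
noncomputable def nfAdd (x y : α) : α := tr hS o y • x

open Classical in
/-- multiplication -/
noncomputable def nfMul (x a : α) : α := if a = o then o else mu hS o e hoe a • x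

theorem nfMul_zero (x : α) : nfMul hS o e hoe x o = o := by
  unfold nfMul; rw [if_pos rfl]

theorem nfMul_of_ne (x : α) {a : α} (ha : a ≠ o) : nfMul hS o e hoe x a = mu hS o e hoe a • x := by
  unfold nfMul; rw [if_neg ha]

theorem nfZero_mul (a : α) : nfMul hS o e hoe o a = o := by
  by_cases ha : a = o
  · rw [ha, nfMul_zero]
  · rw [nfMul_of_ne hS o e hoe o ha, mu_zero' hS o e hoe ha]

theorem nfMul_ne {x a : α} (hx : x ≠ o) (ha : a ≠ o) : nfMul hS o e hoe x a ≠ o := by
  rw [nfMul_of_ne hS o e hoe x ha]
  exact mu_ne hS o e hoe ha hx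

/-- conjugating a translation by a multiplication -/
theorem mu_tr {c : α} (hc : c ≠ o) (y : α) :
    mu hS o e hoe c * tr hS o y * (mu hS o e hoe c)⁻¹ = tr hS o (mu hS o e hoe c • y) := by
  apply tr_unique hS o ((kernel_normal hS).conj_mem _ (tr_mem hS o y) _)
  rw [mul_smul, mul_smul]
  have : (mu hS o e hoe c)⁻¹ • o = o := by rw [inv_smul_eq_iff, mu_zero' hS o e hoe hc]
  rw [this, tr_apply]

/-- The additive group. -/
noncomputable def nfAddGroup : AddGroup α :=
  @AddGroup.ofLeftAxioms α ⟨nfAdd hS o⟩ ⟨fun x => (tr hS o x)⁻¹ • o⟩ ⟨o⟩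
    (by
      intro x y z
      change tr hS o z • tr hS o y • x = tr hS o (tr hS o z • y) • x
      rw [tr_smul, mul_smul])
    (by
      intro x
      change tr hS o x • o = x
      exact tr_apply hS o x)
    (by
      intro x
      change tr hS o x • (tr hS o x)⁻¹ • o = o
      rw [smul_inv_smul])

/-- The multiplicative monoid. -/
noncomputable def nfMonoid : Monoid α where
  mul := nfMul hS o e hoe
  mul_assoc := by
    intro x a b
    change nfMul hS o e hoe (nfMul hS o e hoe x a) b = nfMul hS o e hoe x (nfMul hS o e hoe a b)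
    by_cases ha : a = o
    · rw [ha, nfMul_zero hS o e hoe x, nfZero_mul hS o e hoe b, nfMul_zero hS o e hoe x]
    by_cases hb : b = o
    · rw [hb, nfMul_zero, nfMul_zero, nfMul_zero]
    rw [nfMul_of_ne hS o e hoe _ hb, nfMul_of_ne hS o e hoe x ha, nfMul_of_ne hS o e hoe a hb,
      nfMul_of_ne hS o e hoe x (mu_ne hS o e hoe hb ha), mu_smul hS o e hoe ha hb, mul_smul]
  one := e
  one_mul := by
    intro a
    change nfMul hS o e hoe e a = a
    by_cases ha : a = o
    · rw [ha, nfMul_zero]
    · rw [nfMul_of_ne hS o e hoe e ha, mu_one' hS o e hoe ha]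
  mul_one := by
    intro x
    change nfMul hS o e hoe x e = x
    rw [nfMul_of_ne hS o e hoe x (Ne.symm hoe), mu_e, one_smul]

theorem nfAdd_def (x y : α) :
    @HAdd.hAdd α α α (@instHAdd α (nfAddGroup hS o).toAdd) x y = tr hS o y • x := rfl

theorem nfMul_def (x y : α) :
    @HMul.hMul α α α (@instHMul α (nfMonoid hS o e hoe).toMul) x y = nfMul hS o e hoe x y := rfl

theorem nfZero_def : @OfNat.ofNat α 0 (@Zero.toOfNat0 α (nfAddGroup hS o).toZero) = o := rfl

theorem nfOne_def : @OfNat.ofNat α 1 (@One.toOfNat1 α (nfMonoid hS o e hoe).toOne) = e := rfl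

/-- The near-field structure. -/
noncomputable def nearField : Cfsg.NearField α :=
  { nfAddGroup hS o, nfMonoid hS o e hoe with
    right_distrib := by
      intro x y c
      change nfMul hS o e hoe (tr hS o y • x) c =
        tr hS o (nfMul hS o e hoe y c) • (nfMul hS o e hoe x c)
      by_cases hc : c = o
      · rw [hc, nfMul_zero, nfMul_zero, nfMul_zero, tr_zero, one_smul]
      · rw [nfMul_of_ne hS o e hoe _ hc, nfMul_of_ne hS o e hoe _ hc, nfMul_of_ne hS o e hoe _ hc,
          ← mu_tr hS o e hoe hc, mul_smul, mul_smul, inv_smul_smul]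
    mul_zero := by
      intro a
      exact nfMul_zero hS o e hoe a
    zero_ne_one := hoe
    exists_inv := by
      intro a ha
      have ha' : a ≠ o := ha
      have hinv0 : (mu hS o e hoe a)⁻¹ • o = o := by
        rw [inv_smul_eq_iff, mu_zero' hS o e hoe ha']
      set b := (mu hS o e hoe a)⁻¹ • e with hb
      have hb0 : b ≠ o := by
        intro h
        rw [hb, inv_smul_eq_iff, mu_zero' hS o e hoe ha'] at h
        exact hoe h.symm
      have hmub : mu hS o e hoe b = (mu hS o e hoe a)⁻¹ :=
        (mu_unique hS o e hoe hb0 hinv0 rfl).symm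
      refine ⟨b, ?_, ?_⟩
      · change nfMul hS o e hoe a b = e
        rw [nfMul_of_ne hS o e hoe a hb0, hmub, inv_smul_eq_iff, mu_one' hS o e hoe ha']
      · change nfMul hS o e hoe b a = e
        rw [nfMul_of_ne hS o e hoe b ha', hb, smul_inv_smul] }

end

end Cfsg.Agent.Helper12.Sharp2
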