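import Mathlib

set_option autoImplicit false

/-! Sylow conjugacy inside a subgroup, phrased for subgroups of the ambient group,
and fixed points of `p`-groups on invariant subsets. -/

namespace Cfsg.Agent.Helper12.SylowSub

open MulAction
open scoped Pointwise

universe u v

section conj
variable {G : Type u} [Group G] [Finite G] {p : ℕ} [hp : Fact p.Prime]

/-- a `p`-subgroup of `H` of maximal order, seen inside `H`, is a Sylow subgroup -/
theorem exists_sylow_eq (H S : Subgroup G) (hS : S ≤ H) (h2 : IsPGroup p S)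
    (hmax : ∀ T : Subgroup G, T ≤ H → IsPGroup p T → Nat.card T ≤ Nat.card S) :
    ∃ Q : Sylow p H, (Q : Subgroup H) = S.subgroupOf H := by
  have h2' : IsPGroup p (S.subgroupOf H) :=
    h2.comap_of_injective H.subtype (Subgroup.subtype_injective H)
  obtain ⟨Q, hQ⟩ := h2'.exists_le_sylow
  refine ⟨Q, ?_⟩
  symm
  apply Subgroup.eq_of_le_of_card_ge hQ
  have h1 : Nat.card ((Q : Subgroup H).map H.subtype) = Nat.card (Q : Subgroup H) :=
    Nat.card_congr (Subgroup.equivMapOfInjective _ _ (Subgroup.subtype_injective H)).symm.toEquiv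
  have h3 : Nat.card ((Q : Subgroup H).map H.subtype) ≤ Nat.card S := by
    apply hmax
    · intro x hx
      obtain ⟨y, _, rfl⟩ := hx
      exact y.2
    · exact Q.2.map H.subtype
  have h4 : Nat.card (S.subgroupOf H) = Nat.card S :=
    Nat.card_congr (Subgroup.subgroupOfEquivOfLe hS).toEquiv
  rw [h4, ← h1]
  exact h3

theorem conj_in_subgroup (H S S' : Subgroup G) (hS : S ≤ H) (hS' : S' ≤ H)
    (h2 : IsPGroup p S) (h2' : IsPGroup p S')
    (hmax : ∀ T : Subgroup G, T ≤ H → IsPGroup p T → Nat.card T ≤ Nat.card S)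
    (hcard : Nat.card S' = Nat.card S) :
    ∃ y ∈ H, ∀ g, g ∈ S' ↔ y⁻¹ * g * y ∈ S := by
  obtain ⟨Q, hQ⟩ := exists_sylow_eq H S hS h2 hmax
  obtain ⟨Q', hQ'⟩ := exists_sylow_eq H S' hS' h2' (fun T hT hT2 => by
    rw [hcard]; exact hmax T hT hT2)
  obtain ⟨h, hh⟩ := MulAction.exists_smul_eq H Q Q'
  refine ⟨h.1, h.2, ?_⟩
  have key : ∀ g : H, g ∈ S'.subgroupOf H ↔ h⁻¹ * g * h ∈ S.subgroupOf H := by
    intro g
    rw [← hQ', ← hQ, ← hh, Sylow.smul_def, Sylow.pointwise_smul_def,
      Subgroup.mem_pointwise_smul_iff_inv_smul_mem, ← map_inv, MulAut.smul_def,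
      MulAut.conj_apply, inv_inv]
  intro g
  by_cases hg : g ∈ H
  · have := key ⟨g, hg⟩
    rw [Subgroup.mem_subgroupOf, Subgroup.mem_subgroupOf] at this
    exact this
  · constructor
    · intro hgs
      exact (hg (hS' hgs)).elim
    · intro hgs
      exfalso
      apply hg
      have h1 : h.1⁻¹ * g * h.1 ∈ H := hS hgs
      have h2 : g = h.1 * (h.1⁻¹ * g * h.1) * h.1⁻¹ := by group
      rw [h2]
      exact H.mul_mem (H.mul_mem h.2 h1) (H.inv_mem h.2)

end conj

section fixed
variable {G : Type u} [Group G] {α : Type v} [MulAction G α] {p : ℕ} [hp : Fact p.Prime]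

theorem fixed_in_invariant (T : Subgroup G) (hT : IsPGroup p T) (F : Set α) [Finite F]
    (hinv : ∀ t ∈ T, ∀ x ∈ F, t • x ∈ F) (hodd : ¬ p ∣ F.ncard) :
    ∃ c ∈ F, ∀ t ∈ T, t • c = c := by
  let sub : SubMulAction T α := ⟨F, fun t x hx => hinv t.1 t.2 x hx⟩
  have hcard : Nat.card sub = F.ncard := Nat.card_coe_set_eq F
  have := hT.nonempty_fixed_point_of_prime_not_dvd_card sub (by rw [hcard]; exact hodd)
  obtain ⟨c, hc⟩ := this
  refine ⟨c.1, c.2, ?_⟩
  intro t ht
  have := hc ⟨t, ht⟩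
  exact congrArg Subtype.val this

end fixed

end Cfsg.Agent.Helper12.SylowSub
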