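import Mathlib
import Cfsg.Prelude.Def_Local
import Cfsg.Agent.Lib.Helper89.TH1Defs
import Cfsg.Agent.Lib.Helper81.TH1BDefs

/-!
# TH1B (FIN) `fin` (helper12, for helper81's sub-server of helper89's TH1 server, S3797)

`A = C_M(σ)`.  `τ` lies in the two subgroups `kerM W A` (trivial on `A/W`) and `kerQ A Y` (trivial on `Y/A`), both
normalized by `k`; `k² = ⁅k, τ⁆` (as `τ k τ⁻¹ = k⁻¹`) lies in both, hence so does `k` (odd order); then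
`⁅k², y⁆ = ⁅k, ⁅k, y⁆⁆ ⁅k, y⁆² ∈ W`, and again `k ∈ kerM W Y` by odd order.
-/

set_option autoImplicit false

namespace Cfsg.Agent.Helper12.TH1B

open Cfsg Subgroup Cfsg.Agent.Helper89.TH1 Cfsg.Agent.Helper81.TH1B
open scoped commutatorElement

universe u

variable {G : Type u} [Group G]

/-- elements normalizing `Y` and `A` and acting trivially on `Y/A` -/
def kerQ (A Y : Subgroup G) : Subgroup G where
  carrier := {g | g ∈ normalizer (Y : Set G) ∧ g ∈ normalizer (A : Set G) ∧ ∀ y ∈ Y, ⁅g, y⁆ ∈ A}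
  one_mem' := ⟨one_mem _, one_mem _, fun y _ => by
    rw [commutatorElement_one_left]; exact A.one_mem⟩
  mul_mem' := by
    rintro g h ⟨hg1, hg2, hg3⟩ ⟨hh1, hh2, hh3⟩
    refine ⟨mul_mem hg1 hh1, mul_mem hg2 hh2, fun y hy => ?_⟩
    have e : ⁅g * h, y⁆ = g * ⁅h, y⁆ * g⁻¹ * ⁅g, y⁆ := by
      simp only [commutatorElement_def]; group
    rw [e]
    exact A.mul_mem ((mem_normalizer_iff.1 hg2 _).1 (hh3 y hy)) (hg3 y hy)
  inv_mem' := by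
    rintro g ⟨hg1, hg2, hg3⟩
    refine ⟨inv_mem hg1, inv_mem hg2, fun y hy => ?_⟩
    have e : ⁅g⁻¹, y⁆ = g⁻¹ * (⁅g, y⁆)⁻¹ * g⁻¹⁻¹ := by
      simp only [commutatorElement_def]; group
    rw [e]
    exact (mem_normalizer_iff.1 (inv_mem hg2) _).1 (A.inv_mem (hg3 y hy))

theorem conj_mem_kerQ {A Y : Subgroup G} {h g : G} (hh1 : h ∈ normalizer (Y : Set G))
    (hh2 : h ∈ normalizer (A : Set G)) (hg : g ∈ kerQ A Y) : h * g * h⁻¹ ∈ kerQ A Y := by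
  obtain ⟨hg1, hg2, hg3⟩ := hg
  refine ⟨mul_mem (mul_mem hh1 hg1) (inv_mem hh1), mul_mem (mul_mem hh2 hg2) (inv_mem hh2),
    fun y hy => ?_⟩
  have e : ⁅h * g * h⁻¹, y⁆ = h * ⁅g, h⁻¹ * y * h⁆ * h⁻¹ := by
    simp only [commutatorElement_def]; group
  have hy' : h⁻¹ * y * h ∈ Y := by
    have := (mem_normalizer_iff.1 (inv_mem hh1) y).1 hy
    simpa using this
  rw [e]
  exact (mem_normalizer_iff.1 hh2 _).1 (hg3 _ hy')

theorem mem_of_sq_mem_of_odd {H : Subgroup G} {k : G} (hodd : Odd (orderOf k))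
    (h : k * k ∈ H) : k ∈ H := by
  obtain ⟨j, hj⟩ := hodd
  have e : k = (k * k) ^ (j + 1) := by
    rw [← pow_two, ← pow_mul, show 2 * (j + 1) = orderOf k + 1 by omega, pow_succ,
      pow_orderOf_eq_one, one_mul]
  rw [e]
  exact H.pow_mem h _

variable [Finite G] {W Y K₁ E Q₀ N : Subgroup G}

theorem fin (hC : Core G W Y K₁ E Q₀ N) (hQ : Q₀ ≤ kerM W Y) (τ σ k : G) (hτ : τ ∈ E) (hσ : σ ∈ E)
    (hk : k ∈ K₁) (hi : ∀ y ∈ Y, ⁅σ, y⁆ ∈ W → ⁅τ, y⁆ ∈ W) (hii : ∀ y ∈ Y, ⁅σ, ⁅τ, y⁆⁆ ∈ W)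
    (hσk : σ * k * σ⁻¹ = k) (hτk : τ * k * τ⁻¹ = k⁻¹) : k ∈ kerM W Y := by
  obtain ⟨A, hA⟩ := exists_cM hC σ
  have hτa := E_le_actG hC hτ
  have hσa := E_le_actG hC hσ
  have hka := K₁_le_actG hC hk
  have hWY := W_le_Y hC
  have hAY : A ≤ Y := fun a ha => ((hA a).1 ha).1
  have hWA : W ≤ A := by
    intro w hw
    rw [hA]
    refine ⟨hWY hw, ?_⟩
    rw [commutatorElement_def, conj_eq_of_mem_actG hσa hw, mul_inv_cancel]
    exact W.one_mem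
  have hkodd : Odd (orderOf k) :=
    Odd.of_dvd_nat hC.K_odd (Subgroup.orderOf_dvd_natCard K₁ hk)
  -- `k` normalizes `A`
  have hkA : ∀ a, a ∈ (A : Set G) → k * a * k⁻¹ ∈ (A : Set G) := by
    intro a ha
    obtain ⟨haY, haW⟩ := (hA a).1 ha
    show k * a * k⁻¹ ∈ A
    rw [hA]
    refine ⟨conj_mem_of_mem_actG hka haY, ?_⟩
    have e : ⁅σ, k * a * k⁻¹⁆ = k * ⁅σ, a⁆ * k⁻¹ := by
      have h1 : σ * k = k * σ := mul_inv_eq_iff_eq_mul.mp hσk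
      have h2 : k⁻¹ * σ⁻¹ = σ⁻¹ * k⁻¹ := by rw [← mul_inv_rev, ← mul_inv_rev, h1]
      simp only [commutatorElement_def]
      calc σ * (k * a * k⁻¹) * σ⁻¹ * (k * a * k⁻¹)⁻¹
          = (σ * k) * a * (k⁻¹ * σ⁻¹) * (k * a * k⁻¹)⁻¹ := by group
        _ = (k * σ) * a * (σ⁻¹ * k⁻¹) * (k * a * k⁻¹)⁻¹ := by rw [h1, h2]
        _ = k * (σ * a * σ⁻¹ * a⁻¹) * k⁻¹ := by group
    rw [e, conj_eq_of_mem_actG hka haW]
    exact haW
  have hkN : k ∈ normalizer (A : Set G) := mem_normalizer_fintype hkA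
  -- `τ` acts trivially on `A/W` and on `Y/A`
  have hτA : ∀ a ∈ A, ⁅τ, a⁆ ∈ W := fun a ha => hi a (hAY ha) ((hA a).1 ha).2
  have hτAc : ∀ a, a ∈ (A : Set G) → τ * a * τ⁻¹ ∈ (A : Set G) := by
    intro a ha
    have e : τ * a * τ⁻¹ = ⁅τ, a⁆ * a := by simp only [commutatorElement_def]; group
    show τ * a * τ⁻¹ ∈ A
    rw [e]
    exact A.mul_mem (hWA (hτA a ha)) ha
  have hτN : τ ∈ normalizer (A : Set G) := mem_normalizer_fintype hτAc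
  have hτ1 : τ ∈ kerM W A := ⟨⟨hτN, hτa.2⟩, hτA⟩
  have hτ2 : τ ∈ kerQ A Y := by
    refine ⟨hτa.1, hτN, fun y hy => ?_⟩
    rw [hA]
    refine ⟨?_, hii y hy⟩
    have e : ⁅τ, y⁆ = (τ * y * τ⁻¹) * y⁻¹ := by simp only [commutatorElement_def]
    rw [e]
    exact Y.mul_mem (conj_mem_of_mem_actG hτa hy) (Y.inv_mem hy)
  -- `k * k = ⁅k, τ⁆`
  have hkk : k * k = k * τ * k⁻¹ * τ⁻¹ := by
    have h1 : τ * k⁻¹ * τ⁻¹ = k := by
      have e : τ * k⁻¹ * τ⁻¹ = (τ * k * τ⁻¹)⁻¹ := by group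
      rw [e, hτk, inv_inv]
    calc k * k = k * (τ * k⁻¹ * τ⁻¹) := by rw [h1]
      _ = k * τ * k⁻¹ * τ⁻¹ := by group
  have hk1 : k * k ∈ kerM W A := by
    rw [hkk]
    have hkA' : k ∈ actG W A := ⟨hkN, hka.2⟩
    exact (kerM W A).mul_mem (conj_mem_kerM hkA' hτ1) ((kerM W A).inv_mem hτ1)
  have hk2 : k * k ∈ kerQ A Y := by
    rw [hkk]
    exact (kerQ A Y).mul_mem (conj_mem_kerQ hka.1 hkN hτ2) ((kerQ A Y).inv_mem hτ2)
  have hk1' : k ∈ kerM W A := mem_of_sq_mem_of_odd hkodd hk1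
  have hk2' : k ∈ kerQ A Y := mem_of_sq_mem_of_odd hkodd hk2
  -- `k² ∈ kerM W Y`
  apply mem_of_sq_mem_of_odd hkodd
  refine ⟨(actG W Y).mul_mem hka hka, fun y hy => ?_⟩
  have hcA : ⁅k, y⁆ ∈ A := hk2'.2.2 y hy
  have hcW : ⁅k, ⁅k, y⁆⁆ ∈ W := hk1'.2 _ hcA
  have e : ⁅k * k, y⁆ = ⁅k, ⁅k, y⁆⁆ * ⁅k, y⁆ ^ 2 := by
    simp only [commutatorElement_def, pow_two]; group
  rw [e]
  exact W.mul_mem hcW (hC.sq_mem _ (hAY hcA))

end Cfsg.Agent.Helper12.TH1B
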