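import Mathlib
import Cfsg.Prelude.Def_Local
import Cfsg.Agent.Lib.Helper89.TH1Defs
import Cfsg.Agent.Lib.Helper81.TH1BDefs
import Cfsg.Agent.Lib.Helper51.RuZShort

/-!
# TH1B (STAR) `star` (helper12, second seat, for helper81's sub-server of helper89's TH1 server, S3797)

`M = Y/W` (elementary abelian), `θ` = the involution induced by `e`, `Φ m = m * θ m`; `range Φ ≤ ker Φ`,
`C/W = ker Φ`; `β x = ⁅v, x⁆` (`v = y₀ y₀^e ∉ W`) is onto `W` (by `hnd`) and kills `C`.
-/

set_option autoImplicit false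

namespace Cfsg.Agent.Helper12.TH1B

open Cfsg Subgroup Cfsg.Agent.Helper89.TH1 Cfsg.Agent.Helper81.TH1B
open scoped commutatorElement

universe u

section General

/-- the full preimage of a subgroup of a quotient -/
theorem card_comap_mk' {H : Type*} [Group H] [Finite H] (N : Subgroup H) [N.Normal]
    (K : Subgroup (H ⧸ N)) :
    Nat.card (K.comap (QuotientGroup.mk' N)) = Nat.card K * Nat.card N := by
  have h1 : Nat.card K * K.index = Nat.card (H ⧸ N) := K.card_mul_index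
  have h2 : (K.comap (QuotientGroup.mk' N)).index = K.index :=
    Subgroup.index_comap_of_surjective K (QuotientGroup.mk'_surjective N)
  have h3 : Nat.card (K.comap (QuotientGroup.mk' N)) * K.index = Nat.card H := by
    rw [← h2]; exact Subgroup.card_mul_index _
  have h4 : Nat.card H = Nat.card (H ⧸ N) * Nat.card N :=
    Subgroup.card_eq_card_quotient_mul_card_subgroup N
  have hpos : 0 < K.index := Nat.pos_of_ne_zero Subgroup.index_ne_zero_of_finite
  have : Nat.card (K.comap (QuotientGroup.mk' N)) * K.index = (Nat.card K * Nat.card N) * K.index := by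
    rw [h3, h4, ← h1]; ring
  exact Nat.eq_of_mul_eq_mul_right hpos this

/-- kernel and range of `m ↦ m * θ m` for an involution `θ` of an elementary abelian 2-group -/
theorem exists_Phi {M : Type*} [Group M] (hcomm : ∀ a b : M, a * b = b * a)
    (hsq : ∀ a : M, a * a = 1) (θ : M →* M) (hθ : ∀ m, θ (θ m) = m) :
    ∃ Φ : M →* M, (∀ m, Φ m = m * θ m) ∧ Φ.range ≤ Φ.ker := by
  refine ⟨MonoidHom.mk' (fun m => m * θ m) ?_, fun m => rfl, ?_⟩
  · intro a b
    show a * b * θ (a * b) = a * θ a * (b * θ b)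
    rw [map_mul]
    calc a * b * (θ a * θ b) = a * (b * θ a) * θ b := by group
      _ = a * (θ a * b) * θ b := by rw [hcomm b]
      _ = a * θ a * (b * θ b) := by group
  · rintro _ ⟨m, rfl⟩
    rw [MonoidHom.mem_ker]
    show m * θ m * θ (m * θ m) = 1
    rw [map_mul, hθ]
    calc m * θ m * (θ m * m) = m * (θ m * θ m) * m := by group
      _ = 1 := by rw [hsq, mul_one, hsq]

end General

variable {G : Type u} [Group G] [Finite G] {W Y K₁ E Q₀ N : Subgroup G}

theorem star (hC : Core G W Y K₁ E Q₀ N) (hcard : Nat.card Y = Nat.card W ^ 3)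
    (hnd : ∀ W₀ : Subgroup G, W₀ ≤ W → W₀.relIndex W = 2 →
        ∀ y ∈ Y, (∀ x ∈ Y, ⁅x, y⁆ ∈ W₀) → y ∈ W)
    (hQ : Q₀ ≤ kerM W Y) (e : G) (he : e ∈ E) (hne : e ∉ kerM W Y)
    (C : Subgroup G) (hCm : ∀ y, y ∈ C ↔ y ∈ Y ∧ ⁅e, y⁆ ∈ W) :
    Nat.card C = Nat.card W ^ 2 ∧ ∀ y ∈ C, ∃ x ∈ Y, y * (x * (e * x * e⁻¹))⁻¹ ∈ W := by
  classical
  have hea := E_le_actG hC he
  have he2 : e ^ 2 ∈ kerM W Y := hQ (hC.E_sq e he)
  have hWY := W_le_Y hC
  have hCY : C ≤ Y := fun c hc => ((hCm c).1 hc).1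
  -- the quotient `M = Y / W`
  have hWn : (W.subgroupOf Y).Normal := by
    constructor
    intro n hn g
    rw [Subgroup.mem_subgroupOf] at hn ⊢
    have h1 := hC.W_central _ hn g g.2
    have h2 : ((g * n * g⁻¹ : ↥Y) : G) = (g : G) * (n : G) * (g : G)⁻¹ := by simp
    rw [h2, ← h1, mul_inv_cancel_right]
    exact hn
  set W' : Subgroup ↥Y := W.subgroupOf Y with hW'
  set π : ↥Y →* ↥Y ⧸ W' := QuotientGroup.mk' W' with hπ
  have hπsurj : Function.Surjective π := QuotientGroup.mk'_surjective W'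
  have hπeq : ∀ a b : ↥Y, π a = π b ↔ (a : G) * (b : G)⁻¹ ∈ W := by
    intro a b
    have := QuotientGroup.eq_iff_div_mem (N := W') (x := a) (y := b)
    rw [hπ]
    show ((a : ↥Y ⧸ W') = b) ↔ _
    rw [this, hW', Subgroup.mem_subgroupOf]
    simp [div_eq_mul_inv]
  have hπ1 : ∀ a : ↥Y, π a = 1 ↔ (a : G) ∈ W := by
    intro a
    have := hπeq a 1
    simpa using this
  have hMsq : ∀ m : ↥Y ⧸ W', m * m = 1 := by
    intro m
    obtain ⟨y, rfl⟩ := hπsurj m
    rw [← map_mul, hπ1]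
    have := hC.sq_mem _ y.2
    simpa [pow_two] using this
  have hMcomm : ∀ a b : ↥Y ⧸ W', a * b = b * a := by
    intro a b
    obtain ⟨x, rfl⟩ := hπsurj a
    obtain ⟨y, rfl⟩ := hπsurj b
    rw [← map_mul, ← map_mul, hπeq]
    have h := hC.comm_mem _ x.2 _ y.2
    have e1 : ((x * y : ↥Y) : G) * ((y * x : ↥Y) : G)⁻¹ = ⁅(x : G), (y : G)⁆ := by
      simp only [Subgroup.coe_mul, commutatorElement_def]; group
    rw [e1]; exact h
  -- conjugation by `e` on `Y` and on `M`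
  let cjY : ↥Y →* ↥Y :=
    { toFun := fun y => ⟨e * y * e⁻¹, conj_mem_of_mem_actG hea y.2⟩
      map_one' := by ext; simp
      map_mul' := fun a b => by ext; simp }
  have hcj : ∀ y : ↥Y, ((cjY y : ↥Y) : G) = e * y * e⁻¹ := fun y => rfl
  have hcjW : W' ≤ W'.comap cjY := by
    intro n hn
    rw [Subgroup.mem_comap, hW', Subgroup.mem_subgroupOf, hcj]
    rw [hW', Subgroup.mem_subgroupOf] at hn
    rw [conj_eq_of_mem_actG hea hn]
    exact hn
  let θ : ↥Y ⧸ W' →* ↥Y ⧸ W' := QuotientGroup.map W' W' cjY hcjW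
  have hθπ : ∀ y : ↥Y, θ (π y) = π (cjY y) := fun y => rfl
  have hθθ : ∀ m : ↥Y ⧸ W', θ (θ m) = m := by
    intro m
    obtain ⟨y, rfl⟩ := hπsurj m
    rw [hθπ, hθπ, hπeq, hcj, hcj]
    have h := he2.2 _ y.2
    have e1 : e * (e * (y : G) * e⁻¹) * e⁻¹ * (y : G)⁻¹ = ⁅e ^ 2, (y : G)⁆ := by
      simp only [commutatorElement_def, pow_two]; group
    rw [e1]; exact h
  obtain ⟨Φ, hΦ, hΦrk⟩ := exists_Phi hMcomm hMsq θ hθθ
  -- `C` is the preimage of `ker Φ`
  have hCker : ∀ y : ↥Y, (y : G) ∈ C ↔ π y ∈ Φ.ker := by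
    intro y
    rw [hCm, MonoidHom.mem_ker, hΦ, hθπ]
    have h1 : π y * π (cjY y) = 1 ↔ π (cjY y) = π y := by
      constructor
      · intro h
        have h2 := hMsq (π y)
        exact (mul_left_cancel (h.trans h2.symm))
      · intro h
        rw [h]; exact hMsq _
    rw [h1, hπeq, hcj]
    constructor
    · rintro ⟨-, h⟩
      simpa [commutatorElement_def] using h
    · intro h
      refine ⟨y.2, ?_⟩
      simpa [commutatorElement_def] using h
  have hCcomap : C.subgroupOf Y = Φ.ker.comap π := by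
    ext y
    rw [Subgroup.mem_subgroupOf, Subgroup.mem_comap]
    exact hCker y
  have hcardC : Nat.card C = Nat.card Φ.ker * Nat.card W := by
    have h1 : Nat.card (C.subgroupOf Y) = Nat.card C :=
      Nat.card_congr (Subgroup.subgroupOfEquivOfLe hCY).toEquiv
    have h2 : Nat.card W' = Nat.card W :=
      Nat.card_congr (Subgroup.subgroupOfEquivOfLe hWY).toEquiv
    rw [← h1, hCcomap, hπ, card_comap_mk', h2]
  -- cardinalities
  have hWpos : 0 < Nat.card W := Nat.card_pos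
  have hcardM : Nat.card (↥Y ⧸ W') = Nat.card W ^ 2 := by
    have h2 : Nat.card W' = Nat.card W :=
      Nat.card_congr (Subgroup.subgroupOfEquivOfLe hWY).toEquiv
    have h4 : Nat.card ↥Y = Nat.card (↥Y ⧸ W') * Nat.card W' :=
      Subgroup.card_eq_card_quotient_mul_card_subgroup W'
    rw [hcard, h2] at h4
    have : Nat.card W ^ 2 * Nat.card W = Nat.card (↥Y ⧸ W') * Nat.card W := by
      rw [← h4]; ring
    exact (Nat.eq_of_mul_eq_mul_right hWpos this).symm
  have hΦcard : Nat.card Φ.ker * Nat.card Φ.range = Nat.card (↥Y ⧸ W') := by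
    rw [← Subgroup.index_ker]; exact Subgroup.card_mul_index _
  have hrk : Nat.card Φ.range ≤ Nat.card Φ.ker := Subgroup.card_le_of_le hΦrk
  -- an element `v = y₀ * y₀^e ∉ W`
  obtain ⟨y₀, hy₀, hy₀W⟩ : ∃ y ∈ Y, ⁅e, y⁆ ∉ W := by
    by_contra hcon
    push Not at hcon
    exact hne ⟨hea, hcon⟩
  set v : ↥Y := (⟨y₀, hy₀⟩ : ↥Y) * cjY ⟨y₀, hy₀⟩ with hv
  have hvW : (v : G) ∉ W := by
    intro h
    have h1 : π v = 1 := (hπ1 v).2 h
    have h2 : π (⟨y₀, hy₀⟩ : ↥Y) ∈ Φ.ker := by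
      rw [MonoidHom.mem_ker, hΦ, hθπ, ← map_mul]; exact h1
    have h3 := (hCker ⟨y₀, hy₀⟩).2 h2
    exact hy₀W ((hCm y₀).1 h3).2
  -- `⁅v, c⁆ = 1` for `c ∈ C`
  have hvC : ∀ c ∈ C, ⁅(v : G), c⁆ = 1 := by
    intro c hc
    obtain ⟨hcY, hcW⟩ := (hCm c).1 hc
    have hy₀e : e * y₀ * e⁻¹ ∈ Y := conj_mem_of_mem_actG hea hy₀
    have hce : e * c * e⁻¹ ∈ Y := conj_mem_of_mem_actG hea hcY
    have e0 : (v : G) = y₀ * (e * y₀ * e⁻¹) := rfl
    rw [e0, comm_mul_left' hC hy₀ hy₀e hcY]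
    -- `⁅e y₀ e⁻¹, c⁆ = ⁅e y₀ e⁻¹, e c e⁻¹⁆ = ⁅y₀, c⁆`
    have e1 : e * c * e⁻¹ = ⁅e, c⁆ * c := by simp only [commutatorElement_def]; group
    have e2 : ⁅e * y₀ * e⁻¹, e * c * e⁻¹⁆ = ⁅e * y₀ * e⁻¹, c⁆ := by
      rw [e1, comm_mul_right' hC hy₀e (hWY hcW) hcY, comm_W_right hC hcW hy₀e, one_mul]
    rw [← e2, comm_conj hC hea hy₀ hcY, ← pow_two]
    exact hC.W_exp _ (hC.comm_mem _ hy₀ _ hcY)
  -- the homomorphism `β x = ⁅v, x⁆`
  let β : ↥Y →* ↥W := MonoidHom.mk' (fun x => ⟨⁅(v : G), (x : G)⁆, hC.comm_mem _ v.2 _ x.2⟩)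
    (fun a b => by
      apply Subtype.ext
      show ⁅(v : G), ((a * b : ↥Y) : G)⁆ = ⁅(v : G), (a : G)⁆ * ⁅(v : G), (b : G)⁆
      rw [Subgroup.coe_mul]
      exact comm_mul_right' hC v.2 a.2 b.2)
  have hβ : ∀ x : ↥Y, ((β x : ↥W) : G) = ⁅(v : G), (x : G)⁆ := fun x => rfl
  have hCβ : C.subgroupOf Y ≤ β.ker := by
    intro c hc
    rw [Subgroup.mem_subgroupOf] at hc
    rw [MonoidHom.mem_ker]
    apply Subtype.ext
    rw [hβ, hvC _ hc]
    rfl
  have hβsurj : β.range = ⊤ := by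
    by_contra hcon
    obtain ⟨f, hf⟩ : ∃ f : ↥W, f ∉ β.range := by
      by_contra h
      push Not at h
      exact hcon (eq_top_iff.2 fun x _ => h x)
    obtain ⟨U, hRU, -, hUidx⟩ := Cfsg.Agent.Helper51.RuZ.exists_index_two_not_mem β.range
      (fun x => by
        have h1 : x * x = 1 := by
          apply Subtype.ext
          have := hC.W_exp _ x.2
          simpa [pow_two] using this
        rw [h1]; exact one_mem _)
      (fun x y => by
        have h1 : x * y * x⁻¹ * y⁻¹ = 1 := by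
          apply Subtype.ext
          have h2 := hC.W_central _ x.2 _ (hWY y.2)
          show (x : G) * (y : G) * (x : G)⁻¹ * (y : G)⁻¹ = 1
          rw [h2]; group
        rw [h1]; exact one_mem _) f hf
    have hW₀le : U.map W.subtype ≤ W := Subgroup.map_subtype_le U
    have hW₀idx : (U.map W.subtype).relIndex W = 2 := by
      rw [Subgroup.relIndex, ← hUidx]
      congr 1
      exact Subgroup.comap_map_eq_self_of_injective (Subgroup.subtype_injective W) U
    apply hvW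
    apply hnd _ hW₀le hW₀idx _ v.2
    intro x hx
    have h1 : (β ⟨x, hx⟩)⁻¹ ∈ U := U.inv_mem (hRU ⟨⟨x, hx⟩, rfl⟩)
    refine ⟨(β ⟨x, hx⟩)⁻¹, h1, ?_⟩
    show (((β ⟨x, hx⟩)⁻¹ : ↥W) : G) = ⁅x, (v : G)⁆
    rw [Subgroup.coe_inv, hβ]
    exact commutatorElement_inv _ _
  -- counting
  have hβcard : Nat.card β.ker * Nat.card W = Nat.card ↥Y := by
    have h1 : Nat.card β.ker * Nat.card β.range = Nat.card ↥Y := by
      rw [← Subgroup.index_ker]; exact Subgroup.card_mul_index _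
    rw [hβsurj, Subgroup.card_top] at h1
    exact h1
  have hI : Nat.card C * Nat.card W ≤ Nat.card W ^ 3 := by
    rw [← hcard, ← hβcard]
    have h1 : Nat.card (C.subgroupOf Y) = Nat.card C :=
      Nat.card_congr (Subgroup.subgroupOfEquivOfLe hCY).toEquiv
    rw [← h1]
    exact Nat.mul_le_mul_right _ (Subgroup.card_le_of_le hCβ)
  have hkk_le : Nat.card Φ.ker ≤ Nat.card W := by
    rw [hcardC] at hI
    have h1 : Nat.card Φ.ker * (Nat.card W * Nat.card W) ≤ Nat.card W * (Nat.card W * Nat.card W) := by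
      calc Nat.card Φ.ker * (Nat.card W * Nat.card W)
          = Nat.card Φ.ker * Nat.card W * Nat.card W := by ring
        _ ≤ Nat.card W ^ 3 := hI
        _ = Nat.card W * (Nat.card W * Nat.card W) := by ring
    exact Nat.le_of_mul_le_mul_right h1 (Nat.mul_pos hWpos hWpos)
  have hw_le : Nat.card W ≤ Nat.card Φ.ker := by
    have h1 : Nat.card W * Nat.card W ≤ Nat.card Φ.ker * Nat.card Φ.ker := by
      calc Nat.card W * Nat.card W = Nat.card W ^ 2 := by ring
        _ = Nat.card Φ.ker * Nat.card Φ.range := by rw [hΦcard, hcardM]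
        _ ≤ Nat.card Φ.ker * Nat.card Φ.ker := Nat.mul_le_mul_left _ hrk
    exact Nat.mul_self_le_mul_self_iff.mp h1
  have hkk : Nat.card Φ.ker = Nat.card W := le_antisymm hkk_le hw_le
  have hr : Nat.card Φ.range = Nat.card W := by
    have h1 : Nat.card W * Nat.card Φ.range = Nat.card W * Nat.card W := by
      rw [← hkk, hΦcard, hcardM, hkk]; ring
    exact Nat.eq_of_mul_eq_mul_left hWpos h1
  have hrange_eq : Φ.range = Φ.ker :=
    Subgroup.eq_of_le_of_card_ge hΦrk (by rw [hkk, hr])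
  refine ⟨by rw [hcardC, hkk]; ring, ?_⟩
  intro y hy
  have hyY := hCY hy
  have h1 : π ⟨y, hyY⟩ ∈ Φ.ker := (hCker ⟨y, hyY⟩).1 hy
  rw [← hrange_eq] at h1
  obtain ⟨m, hm⟩ := h1
  obtain ⟨x, rfl⟩ := hπsurj m
  rw [hΦ, hθπ, ← map_mul] at hm
  have h2 := (hπeq _ _).1 hm.symm
  exact ⟨x, x.2, h2⟩

end Cfsg.Agent.Helper12.TH1B
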