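import Mathlib
import Cfsg.Agent.Lib.Helper98.UT1
import Cfsg.Agent.Lib.Helper42.UTD1

/-! UT server (helper98, S2283), wave 2, pieces (V1a) `yEl_vec`, (V1b) `lEl_vec`, (V1c) `dEl_vec`:
the action on coordinate triples.  (helper12) -/

set_option autoImplicit false
set_option quotPrecheck false
set_option linter.unusedSectionVars false
set_option linter.unusedVariables false

namespace Cfsg.Agent.Helper12.UT

open Matrix Cfsg Cfsg.Agent.Helper13 Cfsg.Agent.Helper87.PsuA Cfsg.Agent.Helper87.PsuB0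
  Cfsg.Agent.Helper98.UT

variable {F : Type*} [Field F] [Fintype F] {q : ℕ}

local notation "G" => ↥(Cfsg.SU 3 F q)
local notation "H" => Cfsg.hermForm 3 F q

variable (hF : Fintype.card F = q ^ 2) {b : Fin 3 → Fin 3 → F}

/-- the form of a coordinate triple against the basis -/
theorem h12_H_vec (hb : HB q b) (x y z : F) :
    H (vec b x y z) (b 0) = z ∧ H (vec b x y z) (b 1) = y ∧ H (vec b x y z) (b 2) = x := by
  unfold Cfsg.Agent.Helper98.UT.vec
  refine ⟨?_, ?_, ?_⟩
  · rw [hermForm_add_left, hermForm_add_left, hermForm_smul_left, hermForm_smul_left,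
      hermForm_smul_left, hb 0 0, hb 1 0, hb 2 0, if_neg (by decide), if_neg (by decide),
      if_pos (by decide)]
    ring
  · rw [hermForm_add_left, hermForm_add_left, hermForm_smul_left, hermForm_smul_left,
      hermForm_smul_left, hb 0 1, hb 1 1, hb 2 1, if_neg (by decide), if_pos (by decide),
      if_neg (by decide)]
    ring
  · rw [hermForm_add_left, hermForm_add_left, hermForm_smul_left, hermForm_smul_left,
      hermForm_smul_left, hb 0 2, hb 1 2, hb 2 2, if_pos (by decide), if_neg (by decide),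
      if_neg (by decide)]
    ring

include hF in
/-- the side conditions of the Eichler elements `x(a,β)` (`k = 0`) and `x⁻(a,β)` (`k = 2`) -/
theorem h12_eich_side (hb : HB q b) (k : Fin 3) (hk : k = 0 ∨ k = 2) (a β : F)
    (hab : β + β ^ q + a * a ^ q = 0) :
    H (b k) (b k) = 0 ∧ H (b k) ((-(a ^ q)) • b 1) = 0 ∧
      β + β ^ q + H ((-(a ^ q)) • b 1) ((-(a ^ q)) • b 1) = 0 := by
  have h11 : H (b 1) (b 1) = 1 := by rw [hb 1 1, if_pos (by decide)]
  have hww : H ((-(a ^ q)) • b 1) ((-(a ^ q)) • b 1) = a * a ^ q := by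
    rw [hermForm_smul_left, hermForm_smul_right, h11, frob_neg hF, frob_frob hF]
    ring
  rcases hk with rfl | rfl
  · refine ⟨by rw [hb 0 0, if_neg (by decide)], ?_, by rw [hww]; exact hab⟩
    rw [hermForm_smul_right, hb 0 1, if_neg (by decide), mul_zero]
  · refine ⟨by rw [hb 2 2, if_neg (by decide)], ?_, by rw [hww]; exact hab⟩
    rw [hermForm_smul_right, hb 2 1, if_neg (by decide), mul_zero]

/-- (V1a) -/
theorem yEl_vec (hb : HB q b) (a β : F) (hab : β + β ^ q + a * a ^ q = 0) (x y z : F) :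
    actv (yEl hF b a β) (vec b x y z) = vec b (x + a * y + β * z) (y - a ^ q * z) z := by
  obtain ⟨h1, h2, h3⟩ := h12_eich_side hF hb 0 (Or.inl rfl) a β hab
  obtain ⟨e0, e1, e2⟩ := h12_H_vec hb x y z
  unfold yEl
  rw [eich_act hF h1 h2 h3, hermForm_smul_right, e0, e1, frob_neg hF, frob_frob hF]
  unfold Cfsg.Agent.Helper98.UT.vec
  module

/-- (V1b) -/
theorem lEl_vec (hb : HB q b) (a β : F) (hab : β + β ^ q + a * a ^ q = 0) (x y z : F) :
    actv (lEl hF b a β) (vec b x y z) = vec b x (y - a ^ q * x) (z + a * y + β * x) := by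
  obtain ⟨h1, h2, h3⟩ := h12_eich_side hF hb 2 (Or.inr rfl) a β hab
  obtain ⟨e0, e1, e2⟩ := h12_H_vec hb x y z
  unfold lEl
  rw [eich_act hF h1 h2 h3, hermForm_smul_right, e2, e1, frob_neg hF, frob_frob hF]
  unfold Cfsg.Agent.Helper98.UT.vec
  module

/-- (V1c) -/
theorem dEl_vec (hb : HB q b) (d0 d1 d2 : F) (h02 : d0 * d2 ^ q = 1) (h11 : d1 * d1 ^ q = 1)
    (hdet : d0 * d1 * d2 = 1) (x y z : F) :
    actv (dEl hF b d0 d1 d2) (vec b x y z) = vec b (d0 * x) (d1 * y) (d2 * z) := by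
  obtain ⟨e0, e1, e2⟩ := Cfsg.Agent.Helper42.UT.dEl_act hF hb d0 d1 d2 h02 h11 hdet
  unfold Cfsg.Agent.Helper98.UT.vec
  rw [actv_add, actv_add, actv_smul, actv_smul, actv_smul, e0, e1, e2]
  module

end Cfsg.Agent.Helper12.UT
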