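import Mathlib
import Cfsg.Agent.Lib.Helper98.UT1
import Cfsg.Agent.Lib.Helper42.UTD1
import Cfsg.Agent.Lib.Helper12.UTV1

/-! UT server (helper98, S2283), wave 2, pieces (V2a) `yEl_inv`, (V2b) `lEl_inv`, (V2c) `dEl_inv`.
(helper12) -/

set_option autoImplicit false
set_option quotPrecheck false
set_option linter.unusedSectionVars false
set_option linter.unusedVariables false

namespace Cfsg.Agent.Helper12.UT

open Matrix Cfsg Cfsg.Agent.Helper13 Cfsg.Agent.Helper87.PsuA Cfsg.Agent.Helper87.PsuB0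
  Cfsg.Agent.Helper98.UT

variable {F : Type*} [Field F] [Fintype F] {q : ℕ}

local notation "G" => ↥(Cfsg.SU 3 F q)
local notation "H" => Cfsg.hermForm 3 F q

variable (hF : Fintype.card F = q ^ 2) {b : Fin 3 → Fin 3 → F}

/-- (V2a) -/
theorem yEl_inv (hb : HB q b) (a β : F) (hab : β + β ^ q + a * a ^ q = 0) :
    (yEl hF b a β)⁻¹ = yEl hF b (-a) (β ^ q) := by
  obtain ⟨h1, h2, h3⟩ := h12_eich_side hF hb 0 (Or.inl rfl) a β hab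
  unfold yEl
  rw [eich_inv hF h1 h2 h3, frob_neg hF]
  congr 1
  module

/-- (V2b) -/
theorem lEl_inv (hb : HB q b) (a β : F) (hab : β + β ^ q + a * a ^ q = 0) :
    (lEl hF b a β)⁻¹ = lEl hF b (-a) (β ^ q) := by
  obtain ⟨h1, h2, h3⟩ := h12_eich_side hF hb 2 (Or.inr rfl) a β hab
  unfold lEl
  rw [eich_inv hF h1 h2 h3, frob_neg hF]
  congr 1
  module

/-- (V2c) -/
theorem dEl_inv (hb : HB q b) (d0 d1 d2 : F) (h02 : d0 * d2 ^ q = 1) (h11 : d1 * d1 ^ q = 1)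
    (hdet : d0 * d1 * d2 = 1) :
    (dEl hF b d0 d1 d2)⁻¹ = dEl hF b d0⁻¹ d1⁻¹ d2⁻¹ := by
  obtain ⟨e0, e1, e2⟩ := Cfsg.Agent.Helper42.UT.dEl_act hF hb d0 d1 d2 h02 h11 hdet
  have hd0 : d0 ≠ 0 := fun h => by rw [h, zero_mul] at h02; exact zero_ne_one h02
  have hd1 : d1 ≠ 0 := fun h => by rw [h, zero_mul] at h11; exact zero_ne_one h11
  have hd2 : d2 ≠ 0 := fun h => by rw [h, mul_zero] at hdet; exact zero_ne_one hdet
  have h02' : d0⁻¹ * d2⁻¹ ^ q = 1 := by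
    rw [inv_pow, ← mul_inv, h02, inv_one]
  have h11' : d1⁻¹ * d1⁻¹ ^ q = 1 := by
    rw [inv_pow, ← mul_inv, h11, inv_one]
  have hdet' : d0⁻¹ * d1⁻¹ * d2⁻¹ = 1 := by
    rw [← mul_inv, ← mul_inv, hdet, inv_one]
  obtain ⟨f0, f1, f2⟩ := Cfsg.Agent.Helper42.UT.dEl_act hF hb d0⁻¹ d1⁻¹ d2⁻¹ h02' h11' hdet'
  have key : ∀ (i : Fin 3) (d : F), d ≠ 0 → actv (dEl hF b d0 d1 d2) (b i) = d • b i →
      actv (dEl hF b d0 d1 d2)⁻¹ (b i) = d⁻¹ • b i := by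
    intro i d hd h
    have h1 := actv_inv_actv (dEl hF b d0 d1 d2) (b i)
    rw [h, actv_smul] at h1
    rw [← h1, smul_smul, inv_mul_cancel₀ hd, one_smul]
    rw [h1]
  apply ext_b hb
  intro i
  fin_cases i
  · change actv (dEl hF b d0 d1 d2)⁻¹ (b 0) = actv (dEl hF b d0⁻¹ d1⁻¹ d2⁻¹) (b 0)
    rw [key 0 d0 hd0 e0, f0]
  · change actv (dEl hF b d0 d1 d2)⁻¹ (b 1) = actv (dEl hF b d0⁻¹ d1⁻¹ d2⁻¹) (b 1)
    rw [key 1 d1 hd1 e1, f1]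
  · change actv (dEl hF b d0 d1 d2)⁻¹ (b 2) = actv (dEl hF b d0⁻¹ d1⁻¹ d2⁻¹) (b 2)
    rw [key 2 d2 hd2 e2, f2]

end Cfsg.Agent.Helper12.UT
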