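import Mathlib
import Cfsg.Agent.Lib.Helper12.Jordan
import Cfsg.Agent.Lib.Helper12.SylowSub

set_option autoImplicit false

/-! Wagner's theorem on normal subgroups of triply transitive groups of odd degree. -/

namespace Cfsg.Agent.Helper12.Wagner

open MulAction Cfsg.Agent.Helper12.Jordan Cfsg.Agent.Helper12.SylowSub
open scoped Pointwise

universe u v

section basic
variable {G : Type u} [Group G] {α : Type v} [MulAction G α]

theorem swap_pow_odd {m : G} {a b : α} (hma : m • a = b) (hmb : m • b = a) {r : ℕ}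
    (hr : Odd r) : m ^ r • a = b ∧ m ^ r • b = a := by
  obtain ⟨j, rfl⟩ := hr
  have h2a : (m ^ 2) • a = a := by rw [pow_two, mul_smul, hma, hmb]
  have h2b : (m ^ 2) • b = b := by rw [pow_two, mul_smul, hmb, hma]
  have hja : ∀ j : ℕ, (m ^ 2) ^ j • a = a := by
    intro j
    induction j with
    | zero => simp
    | succ j ih => rw [pow_succ, mul_smul, h2a, ih]
  have hjb : ∀ j : ℕ, (m ^ 2) ^ j • b = b := by
    intro j
    induction j with
    | zero => simp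
    | succ j ih => rw [pow_succ, mul_smul, h2b, ih]
  rw [pow_succ, pow_mul]
  constructor
  · rw [mul_smul, hma, hjb]
  · rw [mul_smul, hmb, hja]

/-- the 2-part of an element swapping two points -/
theorem exists_two_elt_swap [Finite G] {m : G} {a b : α} (hma : m • a = b) (hmb : m • b = a)
    (M : Subgroup G) (hm : m ∈ M) :
    ∃ s ∈ M, (∃ e : ℕ, s ^ 2 ^ e = 1) ∧ s • a = b ∧ s • b = a := by
  have ho : orderOf m ≠ 0 := (orderOf_pos m).ne'
  obtain ⟨e, r, hr, hor⟩ := Nat.exists_eq_two_pow_mul_odd ho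
  refine ⟨m ^ r, M.pow_mem hm r, ⟨e, ?_⟩, swap_pow_odd hma hmb hr⟩
  rw [← pow_mul, mul_comm, ← hor, pow_orderOf_eq_one]

theorem isPGroup_zpowers {s : G} {e : ℕ} (hs : s ^ 2 ^ e = 1) :
    IsPGroup 2 (Subgroup.zpowers s) := by
  intro g
  obtain ⟨g, hg⟩ := g
  obtain ⟨j, rfl⟩ := Subgroup.mem_zpowers_iff.mp hg
  refine ⟨e, ?_⟩
  apply Subtype.ext
  change (s ^ j) ^ 2 ^ e = 1
  rw [← zpow_natCast, ← zpow_mul, mul_comm, zpow_mul, zpow_natCast, hs, one_zpow]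

end basic

section lemmaR
variable {G : Type u} [Group G] [Finite G] {α : Type v} [MulAction G α]

/-- the setwise stabilizer of `{a, b}` in `M` -/
def pairStab (M : Subgroup G) (a b : α) : Subgroup G where
  carrier := {m | m ∈ M ∧ ((m • a = a ∧ m • b = b) ∨ (m • a = b ∧ m • b = a))}
  one_mem' := ⟨M.one_mem, Or.inl ⟨one_smul _ _, one_smul _ _⟩⟩
  mul_mem' := by
    rintro x y ⟨hx, hx'⟩ ⟨hy, hy'⟩
    refine ⟨M.mul_mem hx hy, ?_⟩
    rcases hx' with ⟨h1, h2⟩ | ⟨h1, h2⟩ <;> rcases hy' with ⟨h3, h4⟩ | ⟨h3, h4⟩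
    · left; rw [mul_smul, mul_smul, h3, h4]; exact ⟨h1, h2⟩
    · right; rw [mul_smul, mul_smul, h3, h4]; exact ⟨h2, h1⟩
    · right; rw [mul_smul, mul_smul, h3, h4]; exact ⟨h1, h2⟩
    · left; rw [mul_smul, mul_smul, h3, h4]; exact ⟨h2, h1⟩
  inv_mem' := by
    rintro x ⟨hx, hx'⟩
    refine ⟨M.inv_mem hx, ?_⟩
    rcases hx' with ⟨h1, h2⟩ | ⟨h1, h2⟩
    · left; exact ⟨inv_smul_eq_iff.mpr h1.symm, inv_smul_eq_iff.mpr h2.symm⟩
    · right; exact ⟨inv_smul_eq_iff.mpr h2.symm, inv_smul_eq_iff.mpr h1.symm⟩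

theorem mem_pairStab {M : Subgroup G} {a b : α} {m : G} : m ∈ pairStab M a b ↔
    m ∈ M ∧ ((m • a = a ∧ m • b = b) ∨ (m • a = b ∧ m • b = a)) := Iff.rfl

theorem lemmaR (X M : Subgroup G) (hMX : M ≤ X)
    (hnorm : ∀ g ∈ X, ∀ m ∈ M, g * m * g⁻¹ ∈ M)
    (F : Set α) [Finite F] (hF : ∀ g ∈ X, ∀ x ∈ F, g • x ∈ F) (hodd : Odd F.ncard)
    (hX3 : ∀ a ∈ F, ∀ b ∈ F, ∀ c ∈ F, ∀ c' ∈ F, a ≠ b → a ≠ c → b ≠ c → a ≠ c' → b ≠ c' →
      ∃ g ∈ X, g • a = a ∧ g • b = b ∧ g • c = c')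
    (hM2 : ∀ a ∈ F, ∀ b ∈ F, a ≠ b → ∃ m ∈ M, m • a = b ∧ m • b = a)
    (hH : ∀ u ∈ M, (∃ e : ℕ, u ^ 2 ^ e = 1) → ∀ x ∈ F, ∀ y ∈ F, x ≠ y → u • x = x → u • y = y →
      ∀ z ∈ F, u • z = z) :
    ∀ a ∈ F, ∀ b ∈ F, ∀ c ∈ F, ∀ c' ∈ F, a ≠ b → a ≠ c → b ≠ c → a ≠ c' → b ≠ c' →
      ∃ m ∈ M, m • a = a ∧ m • b = b ∧ m • c = c' := by
  intro a ha b hb c hc c' hc' hab hac hbc hac' hbc'
  haveI : Fact (Nat.Prime 2) := ⟨Nat.prime_two⟩
  -- step 1: a 2-element swapping a and b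
  obtain ⟨m, hmM, hma, hmb⟩ := hM2 a ha b hb hab
  obtain ⟨s₀, hs₀M, ⟨e, hs₀e⟩, hs₀a, hs₀b⟩ := exists_two_elt_swap hma hmb M hmM
  -- step 2: it has a fixed point in F
  obtain ⟨c₀, hc₀F, hc₀⟩ := fixed_in_invariant (p := 2) (Subgroup.zpowers s₀)
    (isPGroup_zpowers hs₀e) F
    (fun t ht x hx => hF t ((Subgroup.zpowers_le.mpr (hMX hs₀M)) ht) x hx)
    (by rw [← Nat.not_even_iff_odd] at hodd; exact fun h => hodd (even_iff_two_dvd.mpr h))
  have hs₀c : s₀ • c₀ = c₀ := hc₀ s₀ (Subgroup.mem_zpowers s₀)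
  have hac₀ : a ≠ c₀ := by
    intro h
    rw [← h, hs₀a] at hs₀c
    exact hab hs₀c.symm
  have hbc₀ : b ≠ c₀ := by
    intro h
    rw [← h, hs₀b] at hs₀c
    exact hab hs₀c
  -- step 3: conjugates fixing c and c'
  have step3 : ∀ d ∈ F, a ≠ d → b ≠ d → ∃ s ∈ M, s ^ 2 ^ e = 1 ∧ s • a = b ∧ s • b = a ∧
      s • d = d := by
    intro d hd had hbd
    obtain ⟨g, hgX, hga, hgb, hgc⟩ := hX3 a ha b hb c₀ hc₀F d hd hab hac₀ hbc₀ had hbd
    have hga' : g⁻¹ • a = a := by rw [inv_smul_eq_iff, hga]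
    have hgb' : g⁻¹ • b = b := by rw [inv_smul_eq_iff, hgb]
    have hgd' : g⁻¹ • d = c₀ := by rw [inv_smul_eq_iff, hgc]
    refine ⟨g * s₀ * g⁻¹, hnorm g hgX s₀ hs₀M, ?_, ?_, ?_, ?_⟩
    · rw [conj_pow, hs₀e, mul_one, mul_inv_cancel]
    · rw [mul_smul, mul_smul, hga', hs₀a, hgb]
    · rw [mul_smul, mul_smul, hgb', hs₀b, hga]
    · rw [mul_smul, mul_smul, hgd', hs₀c, hgc]
  obtain ⟨s, hsM, hse, hsa, hsb, hsc⟩ := step3 c hc hac hbc
  obtain ⟨s', hs'M, hs'e, hs'a, hs'b, hs'c⟩ := step3 c' hc' hac' hbc'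
  -- step 4: Sylow in K
  have hsK : s ∈ pairStab M a b := ⟨hsM, Or.inr ⟨hsa, hsb⟩⟩
  have hs'K : s' ∈ pairStab M a b := ⟨hs'M, Or.inr ⟨hs'a, hs'b⟩⟩
  let K := pairStab M a b
  let sK : K := ⟨s, hsK⟩
  let sK' : K := ⟨s', hs'K⟩
  have hpK : IsPGroup 2 (Subgroup.zpowers sK) :=
    isPGroup_zpowers (e := e) (Subtype.ext (by simpa using hse))
  have hpK' : IsPGroup 2 (Subgroup.zpowers sK') :=
    isPGroup_zpowers (e := e) (Subtype.ext (by simpa using hs'e))
  obtain ⟨P, hP⟩ := hpK.exists_le_sylow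
  obtain ⟨P', hP'⟩ := hpK'.exists_le_sylow
  obtain ⟨k, hk⟩ := MulAction.exists_smul_eq K P P'
  have h1 : k * sK * k⁻¹ ∈ (P' : Subgroup K) := by
    rw [← hk, Sylow.smul_def, Sylow.pointwise_smul_def,
      Subgroup.mem_pointwise_smul_iff_inv_smul_mem, ← map_inv, MulAut.smul_def,
      MulAut.conj_apply, inv_inv]
    have : k⁻¹ * (k * sK * k⁻¹) * k = sK := by group
    rw [this]
    exact hP (Subgroup.mem_zpowers sK)
  have h2 : sK' ∈ (P' : Subgroup K) := hP' (Subgroup.mem_zpowers sK')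
  have h3 : k * sK * k⁻¹ * sK'⁻¹ ∈ (P' : Subgroup K) :=
    (P' : Subgroup K).mul_mem h1 ((P' : Subgroup K).inv_mem h2)
  obtain ⟨e', he'⟩ := P'.2 ⟨_, h3⟩
  have he'' : (k.1 * s * k.1⁻¹ * s'⁻¹) ^ 2 ^ e' = 1 := by
    have := congrArg (fun x : (P' : Subgroup K) => ((x : K) : G)) he'
    simpa using this
  have hkM : k.1 ∈ M := k.2.1
  have hkX : k.1 ∈ X := hMX hkM
  -- k s k⁻¹ swaps a and b
  have hswap : (k.1 * s * k.1⁻¹) • a = b ∧ (k.1 * s * k.1⁻¹) • b = a := by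
    rcases k.2.2 with ⟨hka, hkb⟩ | ⟨hka, hkb⟩
    · have hka' : k.1⁻¹ • a = a := by rw [inv_smul_eq_iff, hka]
      have hkb' : k.1⁻¹ • b = b := by rw [inv_smul_eq_iff, hkb]
      constructor
      · rw [mul_smul, mul_smul, hka', hsa, hkb]
      · rw [mul_smul, mul_smul, hkb', hsb, hka]
    · have hka' : k.1⁻¹ • a = b := by rw [inv_smul_eq_iff, hkb]
      have hkb' : k.1⁻¹ • b = a := by rw [inv_smul_eq_iff, hka]
      constructor
      · rw [mul_smul, mul_smul, hka', hsb, hka]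
      · rw [mul_smul, mul_smul, hkb', hsa, hkb]
  have hs'a' : s'⁻¹ • a = b := by rw [inv_smul_eq_iff, hs'b]
  have hs'b' : s'⁻¹ • b = a := by rw [inv_smul_eq_iff, hs'a]
  have hua : (k.1 * s * k.1⁻¹ * s'⁻¹) • a = a := by
    rw [mul_smul, hs'a', hswap.2]
  have hub : (k.1 * s * k.1⁻¹ * s'⁻¹) • b = b := by
    rw [mul_smul, hs'b', hswap.1]
  have huM : k.1 * s * k.1⁻¹ * s'⁻¹ ∈ M :=
    M.mul_mem (hnorm k.1 hkX s hsM) (M.inv_mem hs'M)
  have hutriv := hH _ huM ⟨e', he''⟩ a ha b hb hab hua hub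
  -- the point k • c
  have hkcF : k.1 • c ∈ F := hF k.1 hkX c hc
  have hfix1 : (k.1 * s * k.1⁻¹) • (k.1 • c) = k.1 • c := by
    rw [mul_smul, mul_smul, inv_smul_smul, hsc]
  have hs'kcF : s' • (k.1 • c) ∈ F := hF s' (hMX hs'M) _ hkcF
  have hfix2 : s' • (k.1 • c) = k.1 • c := by
    have h4 := hutriv _ hs'kcF
    rw [mul_smul, inv_smul_smul, hfix1] at h4
    exact h4.symm
  have hkc : k.1 • c = c' := by
    by_contra hne
    have := hH s' hs'M ⟨e, hs'e⟩ _ hkcF c' hc' hne hfix2 hs'c a ha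
    rw [hs'a] at this
    exact hab this.symm
  rcases k.2.2 with ⟨hka, hkb⟩ | ⟨hka, hkb⟩
  · exact ⟨k.1, hkM, hka, hkb, hkc⟩
  · refine ⟨k.1 * s, M.mul_mem hkM hsM, ?_, ?_, ?_⟩
    · rw [mul_smul, hsa, hkb]
    · rw [mul_smul, hsb, hka]
    · rw [mul_smul, hsc, hkc]

end lemmaR

section witt
variable {G : Type u} [Group G] {α : Type v} [MulAction G α]

/-- the conjugate subgroup `g S g⁻¹` -/
def conjSub (g : G) (S : Subgroup G) : Subgroup G := S.map (MulAut.conj g).toMonoidHom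

theorem mem_conjSub {g x : G} {S : Subgroup G} : x ∈ conjSub g S ↔ g⁻¹ * x * g ∈ S := by
  unfold conjSub
  rw [Subgroup.mem_map]
  constructor
  · rintro ⟨s, hs, rfl⟩
    have : g⁻¹ * (MulAut.conj g).toMonoidHom s * g = s := by
      simp [MulAut.conj_apply, mul_assoc]
    rw [this]
    exact hs
  · intro h
    refine ⟨_, h, ?_⟩
    simp [MulAut.conj_apply, mul_assoc]

theorem conj_mem_conjSub {g s : G} {S : Subgroup G} (hs : s ∈ S) : g * s * g⁻¹ ∈ conjSub g S := by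
  rw [mem_conjSub]
  have : g⁻¹ * (g * s * g⁻¹) * g = s := by group
  rw [this]
  exact hs

theorem card_conjSub (g : G) (S : Subgroup G) : Nat.card (conjSub g S) = Nat.card S :=
  Nat.card_congr (Subgroup.equivMapOfInjective S _ (MulAut.conj g).injective).symm.toEquiv

theorem isPGroup_conjSub {p : ℕ} (g : G) {S : Subgroup G} (hS : IsPGroup p S) :
    IsPGroup p (conjSub g S) := hS.map _

/-- the family of 2-subgroups of `N` fixing at least two points -/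
def fam (N : Subgroup G) (α : Type v) [MulAction G α] : Set (Subgroup G) :=
  {T | T ≤ N ∧ IsPGroup 2 T ∧ ∃ x y : α, x ≠ y ∧ ∀ t ∈ T, t • x = x ∧ t • y = y}

theorem witt_conj [Finite G] (N S : Subgroup G) (hS : S ∈ fam N α)
    (hmax : ∀ T ∈ fam N α, Nat.card T ≤ Nat.card S)
    (H : Subgroup G) (hSH : S ≤ H) (hHN : H ≤ N) {x y : α} (hxy : x ≠ y)
    (hfix : ∀ h ∈ H, h • x = x ∧ h • y = y) (g : G) (hg : conjSub g S ≤ H) :
    ∃ z ∈ H, z⁻¹ * g ∈ Subgroup.normalizer (S : Set G) := by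
  haveI : Fact (Nat.Prime 2) := ⟨Nat.prime_two⟩
  obtain ⟨z, hzH, hz⟩ := conj_in_subgroup (p := 2) H S (conjSub g S) hSH hg hS.2.1
    (isPGroup_conjSub g hS.2.1)
    (fun T hT hT2 => hmax T ⟨hT.trans hHN, hT2, x, y, hxy, fun t ht => hfix t (hT ht)⟩)
    (card_conjSub g S)
  refine ⟨z, hzH, ?_⟩
  rw [Subgroup.mem_normalizer_iff]
  intro h
  have h1 : h ∈ S ↔ g * h * g⁻¹ ∈ conjSub g S := by
    rw [mem_conjSub]
    have : g⁻¹ * (g * h * g⁻¹) * g = h := by group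
    rw [this]
  rw [h1, hz]
  have : z⁻¹ * (g * h * g⁻¹) * z = z⁻¹ * g * h * (z⁻¹ * g)⁻¹ := by group
  rw [this]

end witt

section core
variable {G : Type u} [Group G] [Finite G] {α : Type v} [MulAction G α] [Finite α]

theorem wagner_stab (hodd : Odd (Nat.card α)) (h3 : IsMultiplyPretransitive G α 3)
    (N : Subgroup G) [hN : N.Normal] (hN2 : IsMultiplyPretransitive N α 2)
    (hcard : 3 ≤ Nat.card α) :
    ∃ a b : α, a ≠ b ∧ ∀ c d : α, c ≠ a → c ≠ b → d ≠ a → d ≠ b →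
      ∃ n ∈ N, n • a = a ∧ n • b = b ∧ n • c = d := by
  classical
  haveI : Fact (Nat.Prime 2) := ⟨Nat.prime_two⟩
  have hN2' : ∀ {a b c d : α}, a ≠ b → c ≠ d → ∃ g : N, g • a = c ∧ g • b = d :=
    is_two_pretransitive_iff.mp hN2
  -- choose S
  have hne : (fam N α).Nonempty := by
    obtain ⟨x, _⟩ := exists_notMem (∅ : Finset α) (by simp; omega)
    obtain ⟨y, hy⟩ := exists_notMem ({x} : Finset α) (by rw [Finset.card_singleton]; omega)
    rw [Finset.mem_singleton] at hy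
    refine ⟨⊥, bot_le, IsPGroup.of_bot, x, y, Ne.symm hy, ?_⟩
    intro t ht
    rw [Subgroup.mem_bot] at ht
    rw [ht, one_smul, one_smul]
    exact ⟨rfl, rfl⟩
  obtain ⟨S, hS, hmax⟩ := Set.exists_max_image (fam N α) (fun T => Nat.card T)
    (Set.toFinite _) hne
  obtain ⟨hSN, hS2, a, b, hab, hSab⟩ := hS
  have hSfam : S ∈ fam N α := ⟨hSN, hS2, a, b, hab, hSab⟩
  refine ⟨a, b, hab, ?_⟩
  set F : Set α := {x | ∀ s ∈ S, s • x = x} with hFdef
  set X : Subgroup G := Subgroup.normalizer (S : Set G) with hXdef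
  set M : Subgroup G := N ⊓ X with hMdef
  have haF : a ∈ F := fun s hs => (hSab s hs).1
  have hbF : b ∈ F := fun s hs => (hSab s hs).2
  have hFX : ∀ g ∈ X, ∀ x ∈ F, g • x ∈ F := by
    intro g hg x hx s hs
    have h1 : g⁻¹ * s * g ∈ S := (Subgroup.mem_normalizer_iff''.mp hg s).mp hs
    have h2 := hx _ h1
    calc s • g • x = g • (g⁻¹ * s * g) • x := by
          rw [← mul_smul, ← mul_smul]; congr 1; group
      _ = g • x := by rw [h2]
  have hFodd : Odd F.ncard := by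
    have h1 := hS2.card_modEq_card_fixedPoints α
    have h2 : Nat.card (fixedPoints S α) = F.ncard := by
      rw [← Nat.card_coe_set_eq]
      apply Nat.card_congr
      refine Equiv.subtypeEquivRight ?_
      intro x
      constructor
      · intro hx s hs
        exact hx ⟨s, hs⟩
      · intro hx s
        exact hx s.1 s.2
    rw [h2] at h1
    rw [Nat.odd_iff] at hodd ⊢
    rw [← h1, hodd]
  -- hypotheses of lemmaR
  have hnorm : ∀ g ∈ X, ∀ m ∈ M, g * m * g⁻¹ ∈ M := by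
    intro g hg m hm
    exact ⟨hN.conj_mem m hm.1 g, X.mul_mem (X.mul_mem hg hm.2) (X.inv_mem hg)⟩
  have hX3 : ∀ a' ∈ F, ∀ b' ∈ F, ∀ c ∈ F, ∀ c' ∈ F, a' ≠ b' → a' ≠ c → b' ≠ c → a' ≠ c' →
      b' ≠ c' → ∃ g ∈ X, g • a' = a' ∧ g • b' = b' ∧ g • c = c' := by
    intro a' ha' b' hb' c hc c' hc' hab' hac hbc hac' hbc'
    obtain ⟨g, hga, hgb, hgc⟩ := three h3 hab' hac hbc hab' hac' hbc'
    have hga' : g⁻¹ • a' = a' := by rw [inv_smul_eq_iff, hga]
    have hgb' : g⁻¹ • b' = b' := by rw [inv_smul_eq_iff, hgb]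
    have hgc' : g⁻¹ • c' = c := by rw [inv_smul_eq_iff, hgc]
    let H : Subgroup G := N ⊓ stabilizer G a' ⊓ stabilizer G b' ⊓ stabilizer G c'
    have hSH : S ≤ H := fun s hs => ⟨⟨⟨hSN hs, ha' s hs⟩, hb' s hs⟩, hc' s hs⟩
    have hgH : conjSub g S ≤ H := by
      intro x hx
      rw [mem_conjSub] at hx
      have hx' : x = g * (g⁻¹ * x * g) * g⁻¹ := by group
      refine ⟨⟨⟨?_, ?_⟩, ?_⟩, ?_⟩
      · rw [hx']; exact hN.conj_mem _ (hSN hx) g
      · change x • _ = _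
        rw [hx', mul_smul, mul_smul, hga', ha' _ hx, hga]
      · change x • _ = _
        rw [hx', mul_smul, mul_smul, hgb', hb' _ hx, hgb]
      · change x • _ = _
        rw [hx', mul_smul, mul_smul, hgc', hc _ hx, hgc]
    obtain ⟨z, hzH, hz⟩ := witt_conj N S hSfam hmax H hSH
      (fun x hx => hx.1.1.1) hab' (fun h hh => ⟨hh.1.1.2, hh.1.2⟩) g hgH
    have hza : z⁻¹ • a' = a' := by rw [inv_smul_eq_iff]; exact hzH.1.1.2.symm
    have hzb : z⁻¹ • b' = b' := by rw [inv_smul_eq_iff]; exact hzH.1.2.symm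
    have hzc : z⁻¹ • c' = c' := by rw [inv_smul_eq_iff]; exact hzH.2.symm
    refine ⟨z⁻¹ * g, hz, ?_, ?_, ?_⟩
    · rw [mul_smul, hga, hza]
    · rw [mul_smul, hgb, hzb]
    · rw [mul_smul, hgc, hzc]
  have hM2 : ∀ a' ∈ F, ∀ b' ∈ F, a' ≠ b' → ∃ m ∈ M, m • a' = b' ∧ m • b' = a' := by
    intro a' ha' b' hb' hab'
    obtain ⟨⟨g, hgN⟩, hga, hgb⟩ := hN2' hab' (Ne.symm hab')
    change g • a' = b' at hga
    change g • b' = a' at hgb
    have hga' : g⁻¹ • a' = b' := by rw [inv_smul_eq_iff, hgb]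
    have hgb' : g⁻¹ • b' = a' := by rw [inv_smul_eq_iff, hga]
    let H : Subgroup G := N ⊓ stabilizer G a' ⊓ stabilizer G b'
    have hSH : S ≤ H := fun s hs => ⟨⟨hSN hs, ha' s hs⟩, hb' s hs⟩
    have hgH : conjSub g S ≤ H := by
      intro x hx
      rw [mem_conjSub] at hx
      have hx' : x = g * (g⁻¹ * x * g) * g⁻¹ := by group
      refine ⟨⟨?_, ?_⟩, ?_⟩
      · rw [hx']; exact hN.conj_mem _ (hSN hx) g
      · change x • _ = _
        rw [hx', mul_smul, mul_smul, hga', hb' _ hx, hgb]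
      · change x • _ = _
        rw [hx', mul_smul, mul_smul, hgb', ha' _ hx, hga]
    obtain ⟨z, hzH, hz⟩ := witt_conj N S hSfam hmax H hSH
      (fun x hx => hx.1.1) hab' (fun h hh => ⟨hh.1.2, hh.2⟩) g hgH
    have hza : z⁻¹ • a' = a' := by rw [inv_smul_eq_iff]; exact hzH.1.2.symm
    have hzb : z⁻¹ • b' = b' := by rw [inv_smul_eq_iff]; exact hzH.2.symm
    refine ⟨z⁻¹ * g, ⟨N.mul_mem (N.inv_mem hzH.1.1) hgN, hz⟩, ?_, ?_⟩
    · rw [mul_smul, hga, hzb]
    · rw [mul_smul, hgb, hza]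
  have hH : ∀ u ∈ M, (∃ e : ℕ, u ^ 2 ^ e = 1) → ∀ x ∈ F, ∀ y ∈ F, x ≠ y → u • x = x →
      u • y = y → ∀ z ∈ F, u • z = z := by
    intro u hu ⟨e, he⟩ x hx y hy hxy hux huy z hz
    have hT2 : IsPGroup 2 (Subgroup.zpowers u ⊔ S : Subgroup G) :=
      IsPGroup.to_sup_of_normal_right' (isPGroup_zpowers he) hS2
        (Subgroup.zpowers_le.mpr hu.2)
    have hTfam : (Subgroup.zpowers u ⊔ S : Subgroup G) ∈ fam N α := by
      refine ⟨sup_le (Subgroup.zpowers_le.mpr hu.1) hSN, hT2, x, y, hxy, ?_⟩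
      have hle : (Subgroup.zpowers u ⊔ S : Subgroup G) ≤ stabilizer G x ⊓ stabilizer G y := by
        apply sup_le
        · exact Subgroup.zpowers_le.mpr ⟨hux, huy⟩
        · exact fun s hs => ⟨hx s hs, hy s hs⟩
      intro t ht
      exact ⟨(hle ht).1, (hle ht).2⟩
    have hcardT := hmax _ hTfam
    have hST : S = (Subgroup.zpowers u ⊔ S : Subgroup G) :=
      Subgroup.eq_of_le_of_card_ge le_sup_right hcardT
    have huS : u ∈ S := by
      rw [hST]
      exact (le_sup_left : Subgroup.zpowers u ≤ _) (Subgroup.mem_zpowers u)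
    exact hz u huS
  have hFfin : Finite F := Set.toFinite F |>.to_subtype
  have hR := lemmaR X M inf_le_right hnorm F hFX hFodd hX3 hM2 hH
  -- a third point of F
  obtain ⟨c₀, hc₀F, hc₀a, hc₀b⟩ : ∃ c₀ ∈ F, c₀ ≠ a ∧ c₀ ≠ b := by
    by_contra hcon
    push Not at hcon
    have hFeq : F = {a, b} := by
      ext x
      constructor
      · intro hx
        by_contra hxab
        simp only [Set.mem_insert_iff, Set.mem_singleton_iff, not_or] at hxab
        exact hxab.2 (hcon x hx hxab.1)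
      · intro hx
        rcases hx with rfl | rfl
        · exact haF
        · exact hbF
    rw [hFeq, Set.ncard_pair hab] at hFodd
    exact absurd hFodd (by decide)
  -- lifting
  have lift : ∀ c : α, c ≠ a → c ≠ b → ∃ y ∈ N, y • a = a ∧ y • b = b ∧ y⁻¹ • c ∈ F := by
    intro c hca hcb
    obtain ⟨g, hga, hgb, hgc⟩ := three h3 hab (Ne.symm hc₀a) (Ne.symm hc₀b) hab (Ne.symm hca)
      (Ne.symm hcb)
    have hga' : g⁻¹ • a = a := by rw [inv_smul_eq_iff, hga]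
    have hgb' : g⁻¹ • b = b := by rw [inv_smul_eq_iff, hgb]
    have hgc' : g⁻¹ • c = c₀ := by rw [inv_smul_eq_iff, hgc]
    let H : Subgroup G := N ⊓ stabilizer G a ⊓ stabilizer G b
    have hSH : S ≤ H := fun s hs => ⟨⟨hSN hs, haF s hs⟩, hbF s hs⟩
    have hgH : conjSub g S ≤ H := by
      intro x hx
      rw [mem_conjSub] at hx
      have hx' : x = g * (g⁻¹ * x * g) * g⁻¹ := by group
      refine ⟨⟨?_, ?_⟩, ?_⟩
      · rw [hx']; exact hN.conj_mem _ (hSN hx) g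
      · change x • _ = _
        rw [hx', mul_smul, mul_smul, hga', haF _ hx, hga]
      · change x • _ = _
        rw [hx', mul_smul, mul_smul, hgb', hbF _ hx, hgb]
    obtain ⟨z, hzH, hz⟩ := witt_conj N S hSfam hmax H hSH
      (fun x hx => hx.1.1) hab (fun h hh => ⟨hh.1.2, hh.2⟩) g hgH
    refine ⟨z, hzH.1.1, hzH.1.2, hzH.2, ?_⟩
    -- z⁻¹ • c = (z⁻¹ g) • c₀ ∈ F
    have : z⁻¹ • c = (z⁻¹ * g) • c₀ := by rw [mul_smul, hgc]
    rw [this]
    exact hFX _ hz c₀ hc₀F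
  intro c d hca hcb hda hdb
  obtain ⟨y, hyN, hya, hyb, hyc⟩ := lift c hca hcb
  obtain ⟨w, hwN, hwa, hwb, hwd⟩ := lift d hda hdb
  have hya' : y⁻¹ • a = a := by rw [inv_smul_eq_iff, hya]
  have hyb' : y⁻¹ • b = b := by rw [inv_smul_eq_iff, hyb]
  have hwa' : w⁻¹ • a = a := by rw [inv_smul_eq_iff, hwa]
  have hwb' : w⁻¹ • b = b := by rw [inv_smul_eq_iff, hwb]
  have h1 : a ≠ y⁻¹ • c := by
    intro h
    apply hca
    rw [eq_inv_smul_iff, hya] at h
    exact h.symm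
  have h2 : b ≠ y⁻¹ • c := by
    intro h
    apply hcb
    rw [eq_inv_smul_iff, hyb] at h
    exact h.symm
  have h3' : a ≠ w⁻¹ • d := by
    intro h
    apply hda
    rw [eq_inv_smul_iff, hwa] at h
    exact h.symm
  have h4 : b ≠ w⁻¹ • d := by
    intro h
    apply hdb
    rw [eq_inv_smul_iff, hwb] at h
    exact h.symm
  obtain ⟨m, hmM, hma, hmb, hmc⟩ := hR a haF b hbF _ hyc _ hwd hab h1 h2 h3' h4
  refine ⟨w * m * y⁻¹, N.mul_mem (N.mul_mem hwN hmM.1) (N.inv_mem hyN), ?_, ?_, ?_⟩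
  · rw [mul_smul, mul_smul, hya', hma, hwa]
  · rw [mul_smul, mul_smul, hyb', hmb, hwb]
  · rw [mul_smul, mul_smul, hmc, smul_inv_smul]

end core

section final

theorem three_of_stab {N : Type u} [Group N] {α : Type v} [MulAction N α]
    (hN2 : IsMultiplyPretransitive N α 2) {a b : α} (hab : a ≠ b)
    (h : ∀ c d : α, c ≠ a → c ≠ b → d ≠ a → d ≠ b → ∃ n : N, n • a = a ∧ n • b = b ∧ n • c = d) :
    IsMultiplyPretransitive N α 3 := by
  have hN2' : ∀ {a b c d : α}, a ≠ b → c ≠ d → ∃ g : N, g • a = c ∧ g • b = d :=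
    is_two_pretransitive_iff.mp hN2
  constructor
  intro x y
  have hx01 : x 0 ≠ x 1 := fun h => by simpa using x.injective h
  have hx02 : x 0 ≠ x 2 := fun h => by simpa using x.injective h
  have hx12 : x 1 ≠ x 2 := fun h => by simpa using x.injective h
  have hy01 : y 0 ≠ y 1 := fun h => by simpa using y.injective h
  have hy02 : y 0 ≠ y 2 := fun h => by simpa using y.injective h
  have hy12 : y 1 ≠ y 2 := fun h => by simpa using y.injective h
  obtain ⟨n₁, h1a, h1b⟩ := hN2' hx01 hab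
  obtain ⟨n₂, h2a, h2b⟩ := hN2' hy01 hab
  have hc1 : n₁ • x 2 ≠ a := by
    rw [← h1a]; exact fun h => hx02 (smul_left_cancel n₁ h).symm
  have hc2 : n₁ • x 2 ≠ b := by
    rw [← h1b]; exact fun h => hx12 (smul_left_cancel n₁ h).symm
  have hd1 : n₂ • y 2 ≠ a := by
    rw [← h2a]; exact fun h => hy02 (smul_left_cancel n₂ h).symm
  have hd2 : n₂ • y 2 ≠ b := by
    rw [← h2b]; exact fun h => hy12 (smul_left_cancel n₂ h).symm
  obtain ⟨m, hma, hmb, hmc⟩ := h _ _ hc1 hc2 hd1 hd2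
  refine ⟨n₂⁻¹ * m * n₁, ?_⟩
  ext i
  rw [Function.Embedding.smul_apply]
  fin_cases i
  · change (n₂⁻¹ * m * n₁) • x 0 = y 0
    rw [mul_smul, mul_smul, h1a, hma, inv_smul_eq_iff, h2a]
  · change (n₂⁻¹ * m * n₁) • x 1 = y 1
    rw [mul_smul, mul_smul, h1b, hmb, inv_smul_eq_iff, h2b]
  · change (n₂⁻¹ * m * n₁) • x 2 = y 2
    rw [mul_smul, mul_smul, hmc, inv_smul_smul]

/-- Wagner's theorem (abstract form). -/
theorem wagner {G : Type u} [Group G] {α : Type v} [MulAction G α] [FaithfulSMul G α] [Finite α]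
    (hodd : Odd (Nat.card α)) (h5 : 5 ≤ Nat.card α) (h3 : IsMultiplyPretransitive G α 3)
    (N : Subgroup G) [hN : N.Normal] (hne : N ≠ ⊥) : IsMultiplyPretransitive N α 3 := by
  classical
  haveI : Finite G := by
    have hinj : Function.Injective (MulAction.toPermHom G α) := by
      intro g h hgh
      apply FaithfulSMul.eq_of_smul_eq_smul (α := α)
      intro x
      exact congrArg (fun σ : Equiv.Perm α => σ x) hgh
    exact Finite.of_injective _ hinj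
  -- N is 2-transitive
  have hN2 : IsMultiplyPretransitive N α 2 := by
    rcases jordan 3 (by norm_num) G α (by omega) h3 N hN hne with h | ⟨_, hcomm, hsq⟩
    · exact h
    · exfalso
      have h2 : IsMultiplyPretransitive G α 2 :=
        isMultiplyPretransitive_of_le (n := 3) (by omega) (by omega)
      have hNt := normal_transitive h2 N hne
      obtain ⟨t, htN, ht1⟩ : ∃ t ∈ N, t ≠ 1 := by
        by_contra hcon
        push Not at hcon
        exact hne ((Subgroup.eq_bot_iff_forall N).mpr hcon)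
      haveI : Fact (Nat.Prime 2) := ⟨Nat.prime_two⟩
      have htp : IsPGroup 2 (Subgroup.zpowers t) :=
        isPGroup_zpowers (e := 1) (by rw [pow_one]; exact hsq t htN)
      obtain ⟨c, hc⟩ := htp.nonempty_fixed_point_of_prime_not_dvd_card α (by
        rw [← Nat.not_even_iff_odd] at hodd
        exact fun h => hodd (even_iff_two_dvd.mpr h))
      have htc : t • c = c := hc ⟨t, Subgroup.mem_zpowers t⟩
      apply ht1
      apply FaithfulSMul.eq_of_smul_eq_smul (α := α)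
      intro x
      obtain ⟨⟨n, hn⟩, hnx⟩ := hNt.exists_smul_eq c x
      change n • c = x at hnx
      rw [one_smul, ← hnx, ← mul_smul, hcomm t htN n hn, mul_smul, htc]
  obtain ⟨a, b, hab, hstab⟩ := wagner_stab hodd h3 N hN2 (by omega)
  apply three_of_stab hN2 hab
  intro c d hca hcb hda hdb
  obtain ⟨n, hnN, hna, hnb, hnc⟩ := hstab c d hca hcb hda hdb
  exact ⟨⟨n, hnN⟩, hna, hnb, hnc⟩

end final

end Cfsg.Agent.Helper12.Wagner
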