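import Mathlib

set_option autoImplicit false

namespace Cfsg.Agent.Helper12.ZassArith

theorem helper12_not_pp_119 (p k : ℕ) (hp : p.Prime) : p ^ k ≠ 119 := by
  intro h
  have hk : k ≠ 0 := by
    rintro rfl
    simp at h
  have hpd : p ∣ 119 := by
    rw [← h]
    exact dvd_pow_self p hk
  have h119 : (119 : ℕ) = 7 * 17 := by norm_num
  rw [h119] at hpd
  rcases (Nat.Prime.dvd_mul hp).mp hpd with h7 | h17
  · have : p = 7 := (Nat.prime_dvd_prime_iff_eq hp (by norm_num)).mp h7
    subst this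
    have h17 : 17 ∣ 7 ^ k := by
      rw [h]; norm_num
    have := Nat.Prime.dvd_of_dvd_pow (by norm_num : Nat.Prime 17) h17
    omega
  · have : p = 17 := (Nat.prime_dvd_prime_iff_eq hp (by norm_num)).mp h17
    subst this
    have h7 : 7 ∣ 17 ^ k := by
      rw [h]; norm_num
    have := Nat.Prime.dvd_of_dvd_pow (by norm_num : Nat.Prime 7) h7
    omega

theorem solve (p k m ε Q : ℕ) (hp : p.Prime) (hQ : Q = p ^ k) (hε : ε = 1 ∨ ε = 2)
    (hm : Nat.Coprime m 30) (hm0 : 0 < m) (hcard : Q ^ 2 - 1 = 120 * ε * m)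
    (hdvd : 2 * m ∣ Q - 1) :
    ε = 1 ∧ ((Q = 11 ∧ m = 1) ∨ (Q = 29 ∧ m = 7) ∨ (Q = 59 ∧ m = 29)) := by
  have hQ119 : Q ≠ 119 := by
    rw [hQ]; exact helper12_not_pp_119 p k hp
  have hε0 : 0 < ε := by rcases hε with rfl | rfl <;> norm_num
  have hpos : 0 < 120 * ε * m := by positivity
  have hQ2 : 2 ≤ Q := by
    by_contra hlt
    have hQle : Q ≤ 1 := by omega
    have : Q ^ 2 ≤ 1 := by
      calc Q ^ 2 ≤ 1 ^ 2 := Nat.pow_le_pow_left hQle 2
        _ = 1 := by norm_num
    omega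
  -- coprimality facts
  have h2 : m % 2 = 1 := by
    have : ¬ 2 ∣ m := by
      intro h
      have := Nat.Coprime.eq_one_of_dvd (Nat.Coprime.coprime_dvd_right (by norm_num : 2 ∣ 30) hm).symm h
      omega
    omega
  have h3 : m % 3 ≠ 0 := by
    have : ¬ 3 ∣ m := by
      intro h
      have := Nat.Coprime.eq_one_of_dvd (Nat.Coprime.coprime_dvd_right (by norm_num : 3 ∣ 30) hm).symm h
      omega
    omega
  have h5 : m % 5 ≠ 0 := by
    have : ¬ 5 ∣ m := by
      intro h
      have := Nat.Coprime.eq_one_of_dvd (Nat.Coprime.coprime_dvd_right (by norm_num : 5 ∣ 30) hm).symm h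
      omega
    omega
  obtain ⟨d, hd⟩ := hdvd
  obtain ⟨n, rfl⟩ : ∃ n, Q = n + 1 := ⟨Q - 1, by omega⟩
  have hn : n = 2 * m * d := by simpa using hd
  have hsq : (n + 1) ^ 2 - 1 = n * (n + 2) := by
    have : (n + 1) ^ 2 = n * (n + 2) + 1 := by ring
    omega
  rw [hsq] at hcard
  have hd0 : 0 < d := by
    rcases Nat.eq_zero_or_pos d with h | h
    · subst h
      simp at hn
      omega
    · exact h
  have hkey : d * (n + 2) = 60 * ε := by
    have h1 : (2 * m) * (d * (n + 2)) = (2 * m) * (60 * ε) := by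
      calc (2 * m) * (d * (n + 2)) = (2 * m * d) * (n + 2) := by ring
        _ = n * (n + 2) := by rw [← hn]
        _ = 120 * ε * m := hcard
        _ = (2 * m) * (60 * ε) := by ring
    exact Nat.eq_of_mul_eq_mul_left (by positivity) h1
  have hdle : d ≤ 120 := by
    have : d * 1 ≤ d * (n + 2) := Nat.mul_le_mul_left d (by omega)
    rcases hε with rfl | rfl <;> omega
  clear hcard hsq hd hpos hQ hp
  rcases hε with rfl | rfl
  · interval_cases d <;> omega
  · interval_cases d <;> omega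

end Cfsg.Agent.Helper12.ZassArith
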