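import Mathlib
import Cfsg.Agent.Lib.Helper82.ZassFeitAbel

/-!
# Feit's bound for a (possibly nonabelian) T.I. Frobenius kernel: the coherent case
-/

set_option autoImplicit false
set_option linter.style.haveILetI false
set_option linter.unusedSectionVars false
set_option linter.unusedVariables false

namespace Cfsg.Agent.Helper12.ZassFeitCoh

open Cfsg Cfsg.Agent.Helper81 Cfsg.Agent.Helper82 Cfsg.Agent.Helper82.ZassFeitAbel
open scoped ComplexConjugate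

universe u

section coh

variable {G : Type u} [Group G] [Fintype G] (N : Subgroup G) [Fintype N] (K' : Subgroup N)
  [hKn : K'.Normal]
  (hC' : ∀ n ∈ K', n ≠ 1 → Subgroup.centralizer ({n} : Set N) ≤ K')
  (hind : ∀ ϑ : N → ℂ, IsClassFunction N ϑ → (∀ x : N, x ∉ K' → ϑ x = 0) → ϑ 1 = 0 →
    ∀ x : N, Cfsg.indFun N ϑ x = ϑ x)
  (S : Set (N → ℂ))
  (hS : S = {χ : N → ℂ | IsIrrCharacter N χ ∧ ∃ k ∈ K', χ k ≠ χ 1})
  (star : (N → ℂ) → (G → ℂ)) (hstar : IsLinearIsometryOn (zspan S) star)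
  (hext : ∀ α ∈ zspanOn S ({1}ᶜ : Set N), star α = indFun N α)

include hS in
theorem rel_mem (χ : {χ : IrrCharacter N // ∃ k ∈ K', (χ : N → ℂ) k ≠ (χ : N → ℂ) 1}) :
    (χ.1 : N → ℂ) ∈ S := by
  rw [hS]
  exact ⟨χ.1.2, χ.2⟩

include hS hstar in
/-- The exceptional characters: `star χ = ± f χ` with `f` injective. -/
theorem exists_exc :
    ∃ (sgn : {χ : IrrCharacter N // ∃ k ∈ K', (χ : N → ℂ) k ≠ (χ : N → ℂ) 1} → ℂ)
      (f : {χ : IrrCharacter N // ∃ k ∈ K', (χ : N → ℂ) k ≠ (χ : N → ℂ) 1} → IrrCharacter G),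
      (∀ χ, sgn χ = 1 ∨ sgn χ = -1) ∧ Function.Injective f ∧
      ∀ χ, star (χ.1 : N → ℂ) = sgn χ • (f χ : G → ℂ) := by
  classical
  have h1 : ∀ χ : {χ : IrrCharacter N // ∃ k ∈ K', (χ : N → ℂ) k ≠ (χ : N → ℂ) 1},
      ∃ (s : ℂ) (F : IrrCharacter G), (s = 1 ∨ s = -1) ∧ star (χ.1 : N → ℂ) = s • (F : G → ℂ) := by
    intro χ
    have hχ := rel_mem N K' S hS χ
    have h1 : classInner (star (χ.1 : N → ℂ)) (star (χ.1 : N → ℂ)) = 1 := by
      rw [hstar.2.2.1 _ (subset_zspan hχ) _ (subset_zspan hχ), irr_orthonormal χ.1.2 χ.1.2,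
        if_pos rfl]
    rcases genChar_norm_one (hstar.2.2.2 _ (subset_zspan hχ)) h1 with h | h
    · exact ⟨1, ⟨_, h⟩, Or.inl rfl, by rw [one_smul]⟩
    · exact ⟨-1, ⟨_, h⟩, Or.inr rfl, by simp⟩
  choose sgn f hsgn hf using h1
  refine ⟨sgn, f, hsgn, ?_, hf⟩
  intro χ ξ hχξ
  by_contra hne
  have h2 : classInner (star (χ.1 : N → ℂ)) (star (ξ.1 : N → ℂ)) = 0 := by
    rw [hstar.2.2.1 _ (subset_zspan (rel_mem N K' S hS χ)) _ (subset_zspan (rel_mem N K' S hS ξ)),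
      irr_orthonormal χ.1.2 ξ.1.2, if_neg]
    intro h
    exact hne (Subtype.ext (Subtype.ext h))
  rw [hf χ, hf ξ, hχξ, classInner_smul_left, classInner_smul_right,
    irr_orthonormal (f ξ).2 (f ξ).2, if_pos rfl, mul_one] at h2
  rcases mul_eq_zero.1 h2 with h | h
  · rcases hsgn χ with h' | h' <;> rw [h'] at h <;> norm_num at h
  · rw [map_eq_zero] at h
    rcases hsgn ξ with h' | h' <;> rw [h'] at h <;> norm_num at h


theorem sgn_sq {s : ℂ} (hs : s = 1 ∨ s = -1) : s * s = 1 := by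
  rcases hs with h | h <;> rw [h] <;> norm_num

theorem sgn_conj {s : ℂ} (hs : s = 1 ∨ s = -1) : conj s = s := by
  rcases hs with h | h
  · rw [h, map_one]
  · rw [h, map_neg, map_one]

variable
  (sgn : {χ : IrrCharacter N // ∃ k ∈ K', (χ : N → ℂ) k ≠ (χ : N → ℂ) 1} → ℂ)
  (f : {χ : IrrCharacter N // ∃ k ∈ K', (χ : N → ℂ) k ≠ (χ : N → ℂ) 1} → IrrCharacter G)
  (hsgn : ∀ χ, sgn χ = 1 ∨ sgn χ = -1) (hinj : Function.Injective f)
  (hf : ∀ χ : {χ : IrrCharacter N // ∃ k ∈ K', (χ : N → ℂ) k ≠ (χ : N → ℂ) 1},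
    star (χ.1 : N → ℂ) = sgn χ • (f χ : G → ℂ))

include hS hsgn hf in
/-- Values of the exceptional characters on `K' ∖ {1}`. -/
theorem exc_value (m : ℤ)
    (hm : ∀ χ ∈ S, ∀ k ∈ K', k ≠ 1 → star χ k - χ k = (m : ℂ) * χ 1 / (K'.index : ℂ))
    (χ : {χ : IrrCharacter N // ∃ k ∈ K', (χ : N → ℂ) k ≠ (χ : N → ℂ) 1})
    {k : N} (hk : k ∈ K') (hk1 : k ≠ 1) :
    (f χ : G → ℂ) k =
      sgn χ * ((χ.1 : N → ℂ) k + (m : ℂ) / (K'.index : ℂ) * (χ.1 : N → ℂ) 1) := by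
  have h1 := hm _ (rel_mem N K' S hS χ) k hk hk1
  rw [hf χ, Pi.smul_apply, smul_eq_mul] at h1
  have h2 := sgn_sq (hsgn χ)
  have h3 : (m : ℂ) * (χ.1 : N → ℂ) 1 / (K'.index : ℂ) =
      (m : ℂ) / (K'.index : ℂ) * (χ.1 : N → ℂ) 1 := by ring
  rw [h3] at h1
  linear_combination (sgn χ) * h1 - ((f χ : G → ℂ) k) * h2

include hS hsgn hf in
theorem not_exc_of_ne (ψ : IrrCharacter G) (hψ : ∀ χ, f χ ≠ ψ) :
    ¬ ∃ χ ∈ S, (ψ : G → ℂ) = star χ ∨ (ψ : G → ℂ) = -star χ := by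
  rintro ⟨χ, hχ, hor⟩
  have hχ' := hχ
  rw [hS] at hχ'
  set χ' : {χ : IrrCharacter N // ∃ k ∈ K', (χ : N → ℂ) k ≠ (χ : N → ℂ) 1} :=
    ⟨⟨χ, hχ'.1⟩, hχ'.2⟩ with hχ'def
  have hfχ : star χ = sgn χ' • (f χ' : G → ℂ) := hf χ'
  have hpos : ∀ φ : IrrCharacter G, ∃ d : ℕ, 0 < d ∧ (φ : G → ℂ) 1 = (d : ℂ) := fun φ =>
    ⟨_, (Cfsg.Agent.Helper79.irr_one_eq φ).2, (Cfsg.Agent.Helper79.irr_one_eq φ).1⟩
  have hneg : (ψ : G → ℂ) ≠ -(f χ' : G → ℂ) := by
    intro h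
    obtain ⟨d₁, hd₁, h1⟩ := hpos ψ
    obtain ⟨d₂, hd₂, h2⟩ := hpos (f χ')
    have h3 := congrFun h 1
    rw [Pi.neg_apply, h1, h2] at h3
    have h4 : ((d₁ + d₂ : ℕ) : ℂ) = 0 := by
      push_cast
      linear_combination h3
    have h5 : d₁ + d₂ = 0 := by exact_mod_cast h4
    omega
  have hne : (ψ : G → ℂ) ≠ (f χ' : G → ℂ) := fun h => hψ χ' (Subtype.ext h.symm)
  rcases hor with h | h
  · rw [hfχ] at h
    rcases hsgn χ' with h' | h'
    · rw [h', one_smul] at h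
      exact hne h
    · rw [h', neg_smul, one_smul] at h
      exact hneg h
  · rw [hfχ] at h
    rcases hsgn χ' with h' | h'
    · rw [h', one_smul] at h
      exact hneg h
    · rw [h', neg_smul, one_smul, neg_neg] at h
      exact hne h

section restr

variable [Fintype K']
  (hlin : ∀ ζ : IrrCharacter N, K' ≤ Cfsg.Agent.Helper79.irrKer ζ → (ζ : N → ℂ) 1 = 1)

include hC' hind hS hstar hext hsgn hf hlin in
open Classical in
/-- The non-exceptional characters are constant, with an integer value, on `K' ∖ {1}`. -/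
theorem nonexc_const' (htwo : ∃ χ ∈ S, ∃ ξ ∈ S, χ ≠ ξ) (k₀ : N) (hk₀ : k₀ ∈ K') (hk₀1 : k₀ ≠ 1)
    (ψ : IrrCharacter G) (hψ : ∀ χ, f χ ≠ ψ) :
    ∃ a : ℤ, ∀ k : N, k ∈ K' → k ≠ 1 → (ψ : G → ℂ) k = (a : ℂ) := by
  have hno := not_exc_of_ne N K' S hS star sgn f hsgn hf ψ hψ
  have hconst : ∀ k : N, k ∈ K' → k ≠ 1 → (ψ : G → ℂ) k = (ψ : G → ℂ) k₀ := by
    intro k hk hk1
    by_contra hne
    exact hno ((tifn_exceptional_iff N K' hC' hind S hS star hstar hext htwo ψ.2).2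
      ⟨k, hk, k₀, hk₀, hk1, hk₀1, hne⟩)
  obtain ⟨n, -, -, hsum⟩ := sumK_restrict N K' hlin (IsIrrCharacter.isCharacter ψ.2)
  have hsplit : ∑ k : K', (ψ : G → ℂ) ((k : N) : G) =
      (ψ : G → ℂ) 1 + ((Fintype.card K' - 1 : ℕ) : ℂ) * (ψ : G → ℂ) k₀ := by
    rw [← Finset.add_sum_erase Finset.univ _ (Finset.mem_univ (1 : K'))]
    rw [Finset.sum_congr rfl (fun (k : K') hk => hconst (k : N) k.2
      (fun h => (Finset.ne_of_mem_erase hk) (Subtype.ext h)))]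
    rw [Finset.sum_const, Finset.card_erase_of_mem (Finset.mem_univ _), Finset.card_univ,
      nsmul_eq_mul]
    rfl
  have hK2 : 2 ≤ Fintype.card K' := by
    have : (1 : K') ≠ ⟨k₀, hk₀⟩ := fun h => hk₀1 (congrArg Subtype.val h).symm
    exact Fintype.one_lt_card_iff.2 ⟨1, ⟨k₀, hk₀⟩, this⟩
  have hd := (Cfsg.Agent.Helper79.irr_one_eq ψ).1
  rw [hsum, hd, Nat.card_eq_fintype_card] at hsplit
  have hh0 : ((Fintype.card K' - 1 : ℕ) : ℂ) ≠ 0 := by
    have : Fintype.card K' - 1 ≠ 0 := by omega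
    exact_mod_cast this
  have hq : (ψ : G → ℂ) k₀ = (((((Fintype.card K' : ℕ) : ℚ) * ((∑ ζ ∈ Finset.univ.filter
      (fun ζ : IrrCharacter N => K' ≤ Cfsg.Agent.Helper79.irrKer ζ), n ζ : ℕ) : ℚ) -
        ((charDegree (ψ : G → ℂ) : ℕ) : ℚ)) / ((Fintype.card K' - 1 : ℕ) : ℚ) : ℚ) : ℂ) := by
    push_cast
    rw [eq_div_iff hh0]
    linear_combination -hsplit
  have hint : IsIntegral ℤ ((ψ : G → ℂ) k₀) := Cfsg.Agent.Helper79.irr_isIntegral ψ _
  rw [hq] at hint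
  obtain ⟨a, ha⟩ := int_of_isIntegral_ratCast _ hint
  exact ⟨a, fun k hk hk1 => by rw [hconst k hk hk1, hq, ha]⟩

end restr


open Classical in
/-- The relevant characters, weighted by their degrees, sum to `-|N : K'|` on `K' ∖ {1}`. -/
theorem sum_rel_deg {k : N} (hk : k ∈ K') (hk1 : k ≠ 1) :
    ∑ χ : {χ : IrrCharacter N // ∃ k ∈ K', (χ : N → ℂ) k ≠ (χ : N → ℂ) 1},
      (χ.1 : N → ℂ) 1 * (χ.1 : N → ℂ) k = -(K'.index : ℂ) := by
  have h := Cfsg.Agent.Helper79.sum_degree_mul k hk1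
  rw [sum_split N K'] at h
  have h1 : ∀ ζ ∈ Finset.univ.filter
      (fun ζ : IrrCharacter N => K' ≤ Cfsg.Agent.Helper79.irrKer ζ),
      (ζ : N → ℂ) 1 * (ζ : N → ℂ) k = (ζ : N → ℂ) 1 * (ζ : N → ℂ) 1 := by
    intro ζ hζ
    rw [Finset.mem_filter] at hζ
    rw [(Cfsg.Agent.Helper79.mem_irrKer ζ k).1 (hζ.2 hk)]
  rw [Finset.sum_congr rfl h1, sum_sq_le_ker_complex K'] at h
  linear_combination h

open Classical in
/-- The squares of the degrees of the relevant characters. -/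
theorem sum_rel_deg_sq :
    ∑ χ : {χ : IrrCharacter N // ∃ k ∈ K', (χ : N → ℂ) k ≠ (χ : N → ℂ) 1},
      (χ.1 : N → ℂ) 1 * (χ.1 : N → ℂ) 1 = (Nat.card N : ℂ) - (K'.index : ℂ) := by
  have h := Cfsg.Agent.Helper79.sum_sq_degree (G := N)
  rw [Finset.sum_congr rfl (fun (χ : IrrCharacter N) _ => sq ((χ : N → ℂ) 1)), sum_split N K',
    sum_sq_le_ker_complex K'] at h
  linear_combination h

open Classical in
/-- The squared absolute values of the relevant characters at an element of `N`. -/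
theorem sum_rel_sq' {k : N} (hk : k ∈ K') :
    ∑ χ : {χ : IrrCharacter N // ∃ k ∈ K', (χ : N → ℂ) k ≠ (χ : N → ℂ) 1},
      (χ.1 : N → ℂ) k * conj ((χ.1 : N → ℂ) k) =
        (Nat.card (Subgroup.centralizer ({k} : Set N)) : ℂ) - (K'.index : ℂ) := by
  have h := Cfsg.Agent.Helper79.col_orth_self k
  rw [sum_split N K'] at h
  have h1 : ∀ ζ ∈ Finset.univ.filter
      (fun ζ : IrrCharacter N => K' ≤ Cfsg.Agent.Helper79.irrKer ζ),
      (ζ : N → ℂ) k * conj ((ζ : N → ℂ) k) = (ζ : N → ℂ) 1 * (ζ : N → ℂ) 1 := by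
    intro ζ hζ
    rw [Finset.mem_filter] at hζ
    rw [(Cfsg.Agent.Helper79.mem_irrKer ζ k).1 (hζ.2 hk), (Cfsg.Agent.Helper79.irr_one_eq ζ).1,
      Complex.conj_natCast]
  rw [Finset.sum_congr rfl h1, sum_sq_le_ker_complex K'] at h
  linear_combination h

include hsgn hinj in
open Classical in
/-- Column orthogonality at `k ∈ K' ∖ {1}`: the contribution of the non-exceptional characters. -/
theorem sum_nonexc_sq' {k : N} (hk : k ∈ K') (hk1 : k ≠ 1)
    (hcent : Nat.card (Subgroup.centralizer ({(k : G)} : Set G)) =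
      Nat.card (Subgroup.centralizer ({k} : Set N))) (μ : ℂ) (hμ : conj μ = μ)
    (hc : ∀ χ : {χ : IrrCharacter N // ∃ k ∈ K', (χ : N → ℂ) k ≠ (χ : N → ℂ) 1},
      (f χ : G → ℂ) k = sgn χ * ((χ.1 : N → ℂ) k + μ * (χ.1 : N → ℂ) 1)) :
    ∑ ψ ∈ Finset.univ.filter (fun ψ : IrrCharacter G => ∀ χ, f χ ≠ ψ),
      (ψ : G → ℂ) k * conj ((ψ : G → ℂ) k) = (K'.index : ℂ) + 2 * μ * (K'.index : ℂ) -
        μ ^ 2 * ((Nat.card N : ℂ) - (K'.index : ℂ)) := by
  have h := Cfsg.Agent.Helper79.col_orth_self (k : G)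
  rw [hcent, sum_split_G N K' f hinj] at h
  have h1 : ∀ χ : {χ : IrrCharacter N // ∃ k ∈ K', (χ : N → ℂ) k ≠ (χ : N → ℂ) 1},
      (f χ : G → ℂ) k * conj ((f χ : G → ℂ) k) =
        (χ.1 : N → ℂ) k * conj ((χ.1 : N → ℂ) k) +
          μ * ((χ.1 : N → ℂ) 1 * (χ.1 : N → ℂ) k + conj ((χ.1 : N → ℂ) 1 * (χ.1 : N → ℂ) k)) +
            μ ^ 2 * ((χ.1 : N → ℂ) 1 * (χ.1 : N → ℂ) 1) := by
    intro χ
    have hd : conj ((χ.1 : N → ℂ) 1) = (χ.1 : N → ℂ) 1 := by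
      rw [(Cfsg.Agent.Helper79.irr_one_eq χ.1).1, Complex.conj_natCast]
    rw [hc χ, map_mul, map_add, map_mul, map_mul, sgn_conj (hsgn χ), hμ, hd]
    have h2 := sgn_sq (hsgn χ)
    linear_combination (((χ.1 : N → ℂ) k + μ * (χ.1 : N → ℂ) 1) *
      (conj ((χ.1 : N → ℂ) k) + μ * (χ.1 : N → ℂ) 1)) * h2
  rw [Finset.sum_congr rfl (fun χ _ => h1 χ), Finset.sum_add_distrib, Finset.sum_add_distrib,
    ← Finset.mul_sum, ← Finset.mul_sum, Finset.sum_add_distrib, ← map_sum,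
    sum_rel_deg N K' hk hk1, sum_rel_sq' N K' hk, sum_rel_deg_sq N K'] at h
  rw [map_neg, Complex.conj_natCast] at h
  linear_combination h


section main

variable [Fintype K']
  (hlin : ∀ ζ : IrrCharacter N, K' ≤ Cfsg.Agent.Helper79.irrKer ζ → (ζ : N → ℂ) 1 = 1)
  (hInd : ∀ ζ : IrrCharacter N, K' ≤ Cfsg.Agent.Helper79.irrKer ζ →
    (ζ : N → ℂ) ≠ (fun _ => 1) → IsIrrCharacter G (indFun N (ζ : N → ℂ)) ∧
      ∀ k : N, k ∈ K' → k ≠ 1 → indFun N (ζ : N → ℂ) k = 1)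
  (χ₀ : IrrCharacter G)
  (hperm : ∀ g : G, indFun N (fun _ : N => (1 : ℂ)) g = 1 + (χ₀ : G → ℂ) g)
  (hχ₀ : ∀ k : N, k ∈ K' → k ≠ 1 → (χ₀ : G → ℂ) k = 0)

include hC' hind hS hstar hext hsgn hinj hf hlin hInd hperm hχ₀ in
open Classical in
/-- The constant `m` vanishes, by counting the non-exceptional characters. -/
theorem m_zero (htwo : ∃ χ ∈ S, ∃ ξ ∈ S, χ ≠ ξ) (k₀ : N) (hk₀ : k₀ ∈ K') (hk₀1 : k₀ ≠ 1)
    (hcent : Nat.card (Subgroup.centralizer ({(k₀ : G)} : Set G)) =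
      Nat.card (Subgroup.centralizer ({k₀} : Set N))) (m : ℤ)
    (hm : ∀ χ ∈ S, ∀ k ∈ K', k ≠ 1 → star χ k - χ k = (m : ℂ) * χ 1 / (K'.index : ℂ))
    (hcount : K'.index + 1 +
      Fintype.card {χ : IrrCharacter N // ∃ k ∈ K', (χ : N → ℂ) k ≠ (χ : N → ℂ) 1} ≤
        Fintype.card (IrrCharacter G))
    (hbig : 2 * K'.index + 1 < Nat.card K') : m = 0 := by
  set nonexc := Finset.univ.filter (fun ψ : IrrCharacter G => ∀ χ, f χ ≠ ψ) with hnon
  have he0 : (K'.index : ℂ) ≠ 0 := by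
    exact_mod_cast Subgroup.index_ne_zero_of_finite (H := K')
  have hμconj : conj ((m : ℂ) / (K'.index : ℂ)) = (m : ℂ) / (K'.index : ℂ) := by
    rw [map_div₀, map_intCast, map_natCast]
  have hsq := sum_nonexc_sq' N K' sgn f hsgn hinj hk₀ hk₀1 hcent _ hμconj
    (fun χ => exc_value N K' S hS star sgn f hsgn hf m hm χ hk₀ hk₀1)
  have hNcard : (Nat.card N : ℂ) = (K'.index : ℂ) * (Nat.card K' : ℂ) := by
    rw [← Nat.cast_mul, Subgroup.index_mul_card]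
  have hcard : nonexc.card +
      Fintype.card {χ : IrrCharacter N // ∃ k ∈ K', (χ : N → ℂ) k ≠ (χ : N → ℂ) 1} =
        Fintype.card (IrrCharacter G) := by
    have h1 := Finset.card_filter_add_card_filter_not
      (s := (Finset.univ : Finset (IrrCharacter G))) (fun ψ : IrrCharacter G => ∀ χ, f χ ≠ ψ)
    have h2 : Finset.univ.filter (fun ψ : IrrCharacter G => ¬ ∀ χ, f χ ≠ ψ) =
        Finset.univ.image f := by
      ext ψ
      simp only [Finset.mem_filter, Finset.mem_univ, true_and, Finset.mem_image, not_forall,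
        not_not]
    rw [h2, Finset.card_image_of_injective _ hinj, Finset.card_univ, Finset.card_univ] at h1
    exact h1
  have hval : ∀ ψ : IrrCharacter G, ∃ z : ℤ, ψ ∈ nonexc →
      ((ψ : G → ℂ) k₀ * conj ((ψ : G → ℂ) k₀) = (z : ℂ) ∧ 0 ≤ z ∧ (ψ ≠ χ₀ → 1 ≤ z)) := by
    intro ψ
    by_cases hψ : ψ ∈ nonexc
    · rw [hnon, Finset.mem_filter] at hψ
      obtain ⟨a, ha⟩ := nonexc_const' N K' hC' hind S hS star hstar hext sgn f hsgn hf hlin htwo
        k₀ hk₀ hk₀1 ψ hψ.2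
      refine ⟨a ^ 2, fun _ => ⟨?_, sq_nonneg a, ?_⟩⟩
      · rw [ha k₀ hk₀ hk₀1, map_intCast]
        push_cast
        ring
      · intro hne
        have ha0 : a ≠ 0 := by
          rintro rfl
          apply hne
          have hs : ∑ k : K', (ψ : G → ℂ) ((k : N) : G) = (ψ : G → ℂ) 1 := by
            rw [Finset.sum_eq_single (1 : K')]
            · rfl
            · intro k _ hk1
              rw [ha k k.2 (fun h => hk1 (Subtype.ext h))]
              simp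
            · intro h
              exact absurd (Finset.mem_univ _) h
          have hne0 : ∑ k : K', (ψ : G → ℂ) ((k : N) : G) ≠ 0 := by
            rw [hs, (Cfsg.Agent.Helper79.irr_one_eq ψ).1]
            exact_mod_cast (Cfsg.Agent.Helper79.irr_one_eq ψ).2.ne'
          rcases classify N K' hlin hInd χ₀ hperm ψ hne0 with h | h | ⟨ζ, hζ, hζ1, h⟩
          · exfalso
            have := ha k₀ hk₀ hk₀1
            rw [h] at this
            simp at this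
          · exact h
          · exfalso
            have := ha k₀ hk₀ hk₀1
            rw [h, (hInd ζ hζ hζ1).2 k₀ hk₀ hk₀1] at this
            simp at this
        rcases lt_or_gt_of_ne ha0 with h | h
        · nlinarith
        · nlinarith
    · exact ⟨0, fun h => absurd h hψ⟩
  choose z hz using hval
  have hsumZ : (K'.index : ℂ) * ((∑ ψ ∈ nonexc, z ψ : ℤ) : ℂ) =
      (K'.index : ℂ) ^ 2 + 2 * (m : ℂ) * (K'.index : ℂ) -
        (m : ℂ) ^ 2 * ((Nat.card K' : ℂ) - 1) := by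
    have h1 : ((∑ ψ ∈ nonexc, z ψ : ℤ) : ℂ) =
        ∑ ψ ∈ nonexc, (ψ : G → ℂ) k₀ * conj ((ψ : G → ℂ) k₀) := by
      push_cast
      apply Finset.sum_congr rfl
      intro ψ hψ
      exact ((hz ψ hψ).1).symm
    rw [h1, hsq, hNcard]
    field_simp
  have hsumZ' : (K'.index : ℤ) * (∑ ψ ∈ nonexc, z ψ) =
      (K'.index : ℤ) ^ 2 + 2 * m * (K'.index : ℤ) - m ^ 2 * ((Nat.card K' : ℤ) - 1) := by
    have h' : (((K'.index : ℤ) * (∑ ψ ∈ nonexc, z ψ) : ℤ) : ℂ) =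
        (((K'.index : ℤ) ^ 2 + 2 * m * (K'.index : ℤ) -
          m ^ 2 * ((Nat.card K' : ℤ) - 1) : ℤ) : ℂ) := by
      push_cast
      push_cast at hsumZ
      rw [hsumZ]
    exact_mod_cast h'
  have hge : ((nonexc.card : ℤ) - 1) ≤ ∑ ψ ∈ nonexc, z ψ := by
    calc ((nonexc.card : ℤ) - 1) ≤ ((nonexc.erase χ₀).card : ℤ) := by
          have := Finset.pred_card_le_card_erase (s := nonexc) (a := χ₀)
          omega
      _ = ∑ ψ ∈ nonexc.erase χ₀, (1 : ℤ) := by simp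
      _ ≤ ∑ ψ ∈ nonexc.erase χ₀, z ψ := Finset.sum_le_sum (fun ψ hψ =>
          (hz ψ (Finset.mem_of_mem_erase hψ)).2.2 (Finset.ne_of_mem_erase hψ))
      _ ≤ ∑ ψ ∈ nonexc, z ψ := Finset.sum_le_sum_of_subset_of_nonneg (Finset.erase_subset _ _)
          (fun ψ hψ _ => (hz ψ hψ).2.1)
  have hn : (K'.index : ℤ) + 1 ≤ (nonexc.card : ℤ) := by
    have : K'.index + 1 ≤ nonexc.card := by omega
    exact_mod_cast this
  have hbig' : 2 * (K'.index : ℤ) + 1 < (Nat.card K' : ℤ) := by exact_mod_cast hbig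
  have hepos : (0 : ℤ) < (K'.index : ℤ) := by
    have := Nat.pos_of_ne_zero (Subgroup.index_ne_zero_of_finite (H := K'))
    exact_mod_cast this
  by_contra hm0
  have hS1 : (K'.index : ℤ) ≤ ∑ ψ ∈ nonexc, z ψ := by omega
  have h1 : (K'.index : ℤ) * (K'.index : ℤ) ≤ (K'.index : ℤ) * (∑ ψ ∈ nonexc, z ψ) :=
    mul_le_mul_of_nonneg_left hS1 hepos.le
  rw [hsumZ'] at h1
  have h2 : m ^ 2 * ((Nat.card K' : ℤ) - 1) ≤ 2 * m * (K'.index : ℤ) := by linarith
  have h3 : m ^ 2 * (2 * (K'.index : ℤ) + 1) ≤ m ^ 2 * ((Nat.card K' : ℤ) - 1) :=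
    mul_le_mul_of_nonneg_left (by omega) (sq_nonneg m)
  have hm2 : 0 < m ^ 2 := by positivity
  rcases lt_or_gt_of_ne hm0 with h0 | h0
  · nlinarith
  · have h4 : m ≤ m ^ 2 := by nlinarith
    have h5 := mul_le_mul_of_nonneg_right h4 hepos.le
    nlinarith


include hC' hS hsgn hf hlin hInd hperm hχ₀ in
open Classical in
/-- When `m = 0`, an exceptional character restricts to `N` as the corresponding relevant
character. -/
theorem exc_restrict'
    (hm : ∀ χ ∈ S, ∀ k ∈ K', k ≠ 1 → star χ k - χ k = 0)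
    (χ₁ χ₂ : {χ : IrrCharacter N // ∃ k ∈ K', (χ : N → ℂ) k ≠ (χ : N → ℂ) 1}) (hne : χ₂ ≠ χ₁) :
    ∀ x : N, (f χ₁ : G → ℂ) x = (χ₁.1 : N → ℂ) x := by
  have hval : ∀ k : N, k ∈ K' → k ≠ 1 → (f χ₁ : G → ℂ) k = sgn χ₁ * (χ₁.1 : N → ℂ) k := by
    intro k hk hk1
    have h1 := hm _ (rel_mem N K' S hS χ₁) k hk hk1
    rw [hf χ₁, Pi.smul_apply, smul_eq_mul] at h1
    have h2 := sgn_sq (hsgn χ₁)
    linear_combination (sgn χ₁) * h1 - ((f χ₁ : G → ℂ) k) * h2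
  have hs0 : sgn χ₁ ≠ 0 := by
    rcases hsgn χ₁ with h | h <;> rw [h] <;> norm_num
  obtain ⟨n, hn, hdec, hsum⟩ := sumK_restrict N K' hlin (IsIrrCharacter.isCharacter (f χ₁).2)
  have hsum0 : ∑ k : K', (f χ₁ : G → ℂ) ((k : N) : G) = 0 := by
    by_contra hsum
    have hconst : ∃ v : ℂ, ∀ k : N, k ∈ K' → k ≠ 1 → (f χ₁ : G → ℂ) k = v := by
      rcases classify N K' hlin hInd χ₀ hperm (f χ₁) hsum with h | h | ⟨ζ, hζ, hζ1, h⟩
      · exact ⟨1, fun k _ _ => by rw [h]⟩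
      · exact ⟨0, fun k hk hk1 => by rw [h]; exact hχ₀ k hk hk1⟩
      · exact ⟨1, fun k hk hk1 => by rw [h]; exact (hInd ζ hζ hζ1).2 k hk hk1⟩
    obtain ⟨v, hv⟩ := hconst
    obtain ⟨a, ha, b, hb, ha1, hb1, hab'⟩ := rel_nonconst K' hC' χ₁.1.2 χ₁.2 χ₂.1.2 χ₂.2
      (fun h => hne (Subtype.ext (Subtype.ext h)).symm)
    have h1 := hval a ha ha1
    have h2 := hval b hb hb1
    rw [hv a ha ha1] at h1
    rw [hv b hb hb1] at h2
    have h3 : sgn χ₁ * ((χ₁.1 : N → ℂ) a - (χ₁.1 : N → ℂ) b) = 0 := by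
      linear_combination h2 - h1
    rcases mul_eq_zero.1 h3 with h | h
    · exact hs0 h
    · exact hab' (sub_eq_zero.1 h)
  rw [hsum0] at hsum
  have hK0 : (Nat.card K' : ℂ) ≠ 0 := by exact_mod_cast (Nat.card_pos (α := K')).ne'
  have hsz : ∑ ζ ∈ Finset.univ.filter
      (fun ζ : IrrCharacter N => K' ≤ Cfsg.Agent.Helper79.irrKer ζ), (n ζ : ℂ) = 0 :=
    (mul_eq_zero.1 hsum.symm).resolve_left hK0
  have hn0 : ∀ ζ : IrrCharacter N, K' ≤ Cfsg.Agent.Helper79.irrKer ζ → n ζ = 0 := by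
    intro ζ hζ
    have h1 : ∑ ζ ∈ Finset.univ.filter
        (fun ζ : IrrCharacter N => K' ≤ Cfsg.Agent.Helper79.irrKer ζ), n ζ = 0 := by
      exact_mod_cast hsz
    exact Finset.sum_eq_zero_iff.1 h1 ζ (Finset.mem_filter.2 ⟨Finset.mem_univ _, hζ⟩)
  have hoff : ∀ x : N, x ∉ K' → (f χ₁ : G → ℂ) x = 0 := by
    intro x hx
    have h1 := congrFun hdec x
    simp only [Finset.sum_apply, Pi.smul_apply, smul_eq_mul] at h1
    rw [h1]
    apply Finset.sum_eq_zero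
    intro ζ _
    by_cases hζ : K' ≤ Cfsg.Agent.Helper79.irrKer ζ
    · rw [hn0 ζ hζ, Nat.cast_zero, zero_mul]
    · rw [rel_vanish K' hC' ζ.2 ((not_le_irrKer_iff K' ζ).1 hζ) hx, mul_zero]
  -- the difference is supported at the identity
  set φ : N → ℂ := (fun x : N => (f χ₁ : G → ℂ) x) - sgn χ₁ • (χ₁.1 : N → ℂ) with hφ
  have hφ0 : ∀ x : N, x ≠ 1 → φ x = 0 := by
    intro x hx1
    rw [hφ, Pi.sub_apply, Pi.smul_apply, smul_eq_mul]
    by_cases hx : x ∈ K'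
    · rw [hval x hx hx1, sub_self]
    · rw [hoff x hx, rel_vanish K' hC' χ₁.1.2 χ₁.2 hx, mul_zero, sub_zero]
  have htriv : IsIrrCharacter N (fun _ : N => (1 : ℂ)) := isIrrCharacter_one
  have hin1 : classInner φ (fun _ : N => (1 : ℂ)) = (Nat.card N : ℂ)⁻¹ * φ 1 := by
    unfold classInner
    congr 1
    rw [Finset.sum_eq_single (1 : N)]
    · rw [map_one, mul_one]
    · intro x _ hx1
      rw [hφ0 x hx1, zero_mul]
    · intro h
      exact absurd (Finset.mem_univ _) h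
  have hin2 : classInner φ (fun _ : N => (1 : ℂ)) = 0 := by
    rw [hφ, classInner_sub_left, classInner_smul_left]
    have h1 := hn ⟨fun _ => 1, htriv⟩
    have h2 : n ⟨fun _ => 1, htriv⟩ = 0 := hn0 _ (fun k _ =>
      (Cfsg.Agent.Helper79.mem_irrKer (⟨fun _ => 1, htriv⟩ : IrrCharacter N) k).2 rfl)
    rw [h2, Nat.cast_zero] at h1
    rw [h1, irr_orthonormal χ₁.1.2 htriv, if_neg, mul_zero, sub_zero]
    intro h
    obtain ⟨k, _, hk⟩ := χ₁.2
    apply hk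
    rw [h]
  have hN0 : (Nat.card N : ℂ)⁻¹ ≠ 0 :=
    inv_ne_zero (by exact_mod_cast (Nat.card_pos (α := N)).ne')
  have hφ1 : φ 1 = 0 := by
    rw [hin1] at hin2
    exact (mul_eq_zero.1 hin2).resolve_left hN0
  have hφall : ∀ x : N, (f χ₁ : G → ℂ) x = sgn χ₁ * (χ₁.1 : N → ℂ) x := by
    intro x
    have h1 : φ x = 0 := by
      by_cases hx1 : x = 1
      · rw [hx1, hφ1]
      · exact hφ0 x hx1
    rw [hφ, Pi.sub_apply, Pi.smul_apply, smul_eq_mul] at h1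
    linear_combination h1
  have hsgn1 : sgn χ₁ = 1 := by
    rcases hsgn χ₁ with h | h
    · exact h
    · exfalso
      have h1 := hφall 1
      rw [h] at h1
      have h2 := Cfsg.Agent.Helper79.irr_one_eq (f χ₁)
      have h3 := Cfsg.Agent.Helper79.irr_one_eq χ₁.1
      have h4 : (((1 : N) : G)) = 1 := rfl
      rw [h4, h2.1, h3.1] at h1
      have h5 : ((charDegree (f χ₁ : G → ℂ) + charDegree (χ₁.1 : N → ℂ) : ℕ) : ℂ) = 0 := by
        push_cast
        linear_combination h1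
      have h6 : charDegree (f χ₁ : G → ℂ) + charDegree (χ₁.1 : N → ℂ) = 0 := by
        exact_mod_cast h5
      have := h2.2
      omega
  intro x
  rw [hφall x, hsgn1, one_mul]


include hC' hlin hInd in
open Classical in
/-- The tensor-square bound (no commutativity assumption, the degree of `χ₁` is a hypothesis). -/
theorem tensor_bound' {Λ : G → ℂ} (hΛ : IsIrrCharacter G Λ)
    (χ₁ : {χ : IrrCharacter N // ∃ k ∈ K', (χ : N → ℂ) k ≠ (χ : N → ℂ) 1})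
    (hdeg : (χ₁.1 : N → ℂ) 1 = (K'.index : ℂ))
    (hres : ∀ x : N, Λ x = (χ₁.1 : N → ℂ) x) (hidx : N.index = Nat.card K' + 1) :
    2 + (K'.index - 1) * N.index ≤ 2 * (K'.index * K'.index) := by
  have hΦchar : IsCharacter G (fun g => Λ g * conj (Λ g)) := tensor_isCharacter hΛ
  obtain ⟨m, hm⟩ := exists_nat_decomp hΦchar
  have hmin : ∀ ψ : IrrCharacter G,
      classInner (fun g => Λ g * conj (Λ g)) (ψ : G → ℂ) = (m ψ : ℂ) := by
    intro ψ
    rw [hm]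
    exact classInner_nat_decomp (fun ψ => (m ψ : ℂ)) ψ
  have hΛ1 : Λ 1 = (K'.index : ℂ) := by
    have h1 := hres 1
    rw [hdeg] at h1
    exact h1
  have hsumdeg : K'.index * K'.index = ∑ ψ : IrrCharacter G, m ψ * charDegree (ψ : G → ℂ) := by
    have h1 := congrFun hm 1
    simp only [Finset.sum_apply, Pi.smul_apply, smul_eq_mul] at h1
    rw [hΛ1, Complex.conj_natCast, Finset.sum_congr rfl (fun ψ _ => by
      rw [(Cfsg.Agent.Helper79.irr_one_eq ψ).1])] at h1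
    exact_mod_cast h1
  set triv : IrrCharacter N := ⟨fun _ => 1, isIrrCharacter_one⟩ with htriv
  have htriv_mem : triv ∈ Finset.univ.filter
      (fun ζ : IrrCharacter N => K' ≤ Cfsg.Agent.Helper79.irrKer ζ) := by
    rw [Finset.mem_filter]
    exact ⟨Finset.mem_univ _, fun k _ => (Cfsg.Agent.Helper79.mem_irrKer triv k).2 rfl⟩
  set Z := (Finset.univ.filter
      (fun ζ : IrrCharacter N => K' ≤ Cfsg.Agent.Helper79.irrKer ζ)).erase triv with hZ
  have hZcard : Z.card = K'.index - 1 := by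
    rw [hZ, Finset.card_erase_of_mem htriv_mem, nonrel_card N K' hlin]
  have hZmem : ∀ ζ ∈ Z, K' ≤ Cfsg.Agent.Helper79.irrKer ζ ∧ (ζ : N → ℂ) ≠ (fun _ => 1) := by
    intro ζ hζ
    rw [hZ, Finset.mem_erase, Finset.mem_filter] at hζ
    exact ⟨hζ.2.2, fun h => hζ.1 (Subtype.ext h)⟩
  let I : IrrCharacter N → IrrCharacter G := fun ζ =>
    if h : K' ≤ Cfsg.Agent.Helper79.irrKer ζ ∧ (ζ : N → ℂ) ≠ (fun _ => 1) then
      ⟨indFun N (ζ : N → ℂ), (hInd ζ h.1 h.2).1⟩ else ⟨fun _ => 1, isIrrCharacter_one⟩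
  have hI : ∀ ζ ∈ Z, (I ζ : G → ℂ) = indFun N (ζ : N → ℂ) := by
    intro ζ hζ
    simp only [I, dif_pos (hZmem ζ hζ)]
  have hZT : Z.card ≤ 2 * (Z.image I).card := by
    apply Finset.card_le_mul_card_image Z 2
    intro ψ hψ
    refine le_trans (Finset.card_le_card ?_) (ind_fiber N K' hlin hInd hidx ψ)
    intro ζ hζ
    rw [Finset.mem_filter] at hζ
    obtain ⟨h1, h2⟩ := hZmem ζ hζ.1
    rw [Finset.mem_filter]
    refine ⟨Finset.mem_filter.2 ⟨Finset.mem_univ _, h1⟩, h2, ?_⟩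
    rw [← hI ζ hζ.1, hζ.2]
  have hTm : ∀ ψ ∈ Z.image I, m ψ = 1 ∧ charDegree (ψ : G → ℂ) = N.index := by
    intro ψ hψ
    rw [Finset.mem_image] at hψ
    obtain ⟨ζ, hζ, rfl⟩ := hψ
    obtain ⟨h1, h2⟩ := hZmem ζ hζ
    constructor
    · have h3 := hmin (I ζ)
      rw [hI ζ hζ, tensor_inner_ind N K' hC' hlin hΛ χ₁ hres ζ h1] at h3
      exact_mod_cast h3.symm
    · have h3 := (Cfsg.Agent.Helper79.irr_one_eq (I ζ)).1
      have h4 : (I ζ : G → ℂ) 1 = (N.index : ℂ) := by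
        rw [hI ζ hζ, indFun_one, hlin ζ h1, mul_one]
      rw [h4] at h3
      exact_mod_cast h3.symm
  set trivG : IrrCharacter G := ⟨fun _ => 1, isIrrCharacter_one⟩ with htrivG
  have htrivG1 : m trivG = 1 ∧ charDegree (trivG : G → ℂ) = 1 := by
    constructor
    · have h3 := hmin trivG
      rw [show (trivG : G → ℂ) = fun _ => 1 from rfl, tensor_inner_one hΛ] at h3
      exact_mod_cast h3.symm
    · have h3 := (Cfsg.Agent.Helper79.irr_one_eq trivG).1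
      have h4 : (trivG : G → ℂ) 1 = 1 := rfl
      rw [h4] at h3
      exact_mod_cast h3.symm
  have hnotin : trivG ∉ Z.image I := by
    intro h
    have h3 := (hTm trivG h).2
    rw [htrivG1.2, hidx] at h3
    have h4 := Nat.card_pos (α := K')
    omega
  have hle : ∑ ψ ∈ insert trivG (Z.image I), m ψ * charDegree (ψ : G → ℂ) ≤
      ∑ ψ : IrrCharacter G, m ψ * charDegree (ψ : G → ℂ) :=
    Finset.sum_le_sum_of_subset (Finset.subset_univ _)
  rw [Finset.sum_insert hnotin, htrivG1.1, htrivG1.2, Finset.sum_congr rfl (fun ψ hψ => by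
    rw [(hTm ψ hψ).1, (hTm ψ hψ).2]), Finset.sum_const, smul_eq_mul, ← hsumdeg] at hle
  rw [hZcard] at hZT
  have h1 := Nat.mul_le_mul_right N.index hZT
  nlinarith [h1, hle]

end main

end coh


section count

variable {G : Type u} [Group G] [Fintype G]

open Classical in
/-- The identity class, the classes meeting `K ∖ {1}` and the classes missing `K`. -/
theorem class_count' (K : Subgroup G) :
    1 + (Finset.univ.filter (fun C : ConjClasses G =>
        ∃ k ∈ K, k ≠ 1 ∧ ConjClasses.mk k = C)).card +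
      Nat.card {C : ConjClasses G // ∀ g : G, ConjClasses.mk g = C → g ∉ K} ≤
        Nat.card (ConjClasses G) := by
  set A : Finset (ConjClasses G) := Finset.univ.filter (fun C : ConjClasses G =>
    ∃ k ∈ K, k ≠ 1 ∧ ConjClasses.mk k = C) with hA
  set B : Finset (ConjClasses G) :=
    Finset.univ.filter (fun C : ConjClasses G => ∀ g : G, ConjClasses.mk g = C → g ∉ K) with hB
  have hBcard : Nat.card {C : ConjClasses G // ∀ g : G, ConjClasses.mk g = C → g ∉ K} = B.card := by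
    rw [Nat.card_eq_fintype_card, Fintype.card_subtype]
  have hd1 : Disjoint ({ConjClasses.mk (1 : G)} : Finset (ConjClasses G)) A := by
    rw [Finset.disjoint_singleton_left, hA, Finset.mem_filter]
    rintro ⟨-, k, hk, hk1, hmk⟩
    rw [ConjClasses.mk_eq_mk_iff_isConj] at hmk
    exact hk1 (isConj_one_right.1 hmk.symm)
  have hd2 : Disjoint (({ConjClasses.mk (1 : G)} : Finset (ConjClasses G)) ∪ A) B := by
    rw [Finset.disjoint_left]
    intro C hC hCB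
    rw [hB, Finset.mem_filter] at hCB
    rw [Finset.mem_union, Finset.mem_singleton, hA, Finset.mem_filter] at hC
    rcases hC with rfl | ⟨-, k, hk, -, rfl⟩
    · exact hCB.2 1 rfl K.one_mem
    · exact hCB.2 k rfl hk
  have hcard := Finset.card_le_univ ((({ConjClasses.mk (1 : G)} : Finset (ConjClasses G)) ∪ A) ∪ B)
  rw [Finset.card_union_of_disjoint hd2, Finset.card_union_of_disjoint hd1,
    Finset.card_singleton] at hcard
  rw [hBcard, Nat.card_eq_fintype_card]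
  exact hcard

open Classical in
/-- There are at least as many classes of `G` meeting `K ∖ {1}` as relevant characters of `N`. -/
theorem rel_le_classes (K N : Subgroup G) [Fintype N] (hKN : K ≤ N)
    [hKn : (K.subgroupOf N).Normal]
    (hTI : ∀ g : G, g ∉ N → ∀ k ∈ K, g * k * g⁻¹ ∈ K → k = 1)
    (hC' : ∀ n ∈ K.subgroupOf N, n ≠ 1 →
      Subgroup.centralizer ({n} : Set N) ≤ K.subgroupOf N) :
    Fintype.card {χ : IrrCharacter N // ∃ k ∈ K.subgroupOf N, (χ : N → ℂ) k ≠ (χ : N → ℂ) 1} ≤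
      (Finset.univ.filter (fun C : ConjClasses G =>
        ∃ k ∈ K, k ≠ 1 ∧ ConjClasses.mk k = C)).card := by
  have hrep : ∀ C : {C : ConjClasses G // ∃ k ∈ K, k ≠ 1 ∧ ConjClasses.mk k = C},
      ∃ k : N, k ∈ K.subgroupOf N ∧ k ≠ 1 ∧ ConjClasses.mk (k : G) = C.1 := by
    rintro ⟨C, k, hk, hk1, hmk⟩
    exact ⟨⟨k, hKN hk⟩, Subgroup.mem_subgroupOf.2 hk, fun h => hk1 (congrArg Subtype.val h), hmk⟩
  choose rep hrepK hrep1 hrepmk using hrep
  let v : {χ : IrrCharacter N // ∃ k ∈ K.subgroupOf N, (χ : N → ℂ) k ≠ (χ : N → ℂ) 1} →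
      ({C : ConjClasses G // ∃ k ∈ K, k ≠ 1 ∧ ConjClasses.mk k = C} → ℂ) :=
    fun χ C => (χ.1 : N → ℂ) (rep C)
  have hli : LinearIndependent ℂ v := by
    rw [Fintype.linearIndependent_iff]
    intro g hg χ
    set φ : N → ℂ := ∑ ξ : {χ : IrrCharacter N //
      ∃ k ∈ K.subgroupOf N, (χ : N → ℂ) k ≠ (χ : N → ℂ) 1}, g ξ • (ξ.1 : N → ℂ) with hφ
    have hφx : ∀ x : N, φ x = ∑ ξ : {χ : IrrCharacter N //
        ∃ k ∈ K.subgroupOf N, (χ : N → ℂ) k ≠ (χ : N → ℂ) 1}, g ξ * (ξ.1 : N → ℂ) x := by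
      intro x
      rw [hφ, Finset.sum_apply]
      apply Finset.sum_congr rfl
      intro ξ _
      rw [Pi.smul_apply, smul_eq_mul]
    have hφ0 : ∀ x : N, x ≠ 1 → φ x = 0 := by
      intro x hx1
      rw [hφx]
      by_cases hx : x ∈ K.subgroupOf N
      · have hxK : (x : G) ∈ K := Subgroup.mem_subgroupOf.1 hx
        have hx1' : (x : G) ≠ 1 := fun h => hx1 (Subtype.ext h)
        set C : {C : ConjClasses G // ∃ k ∈ K, k ≠ 1 ∧ ConjClasses.mk k = C} :=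
          ⟨ConjClasses.mk (x : G), (x : G), hxK, hx1', rfl⟩ with hCdef
        have hmk : ConjClasses.mk ((rep C : N) : G) = ConjClasses.mk (x : G) := hrepmk C
        rw [ConjClasses.mk_eq_mk_iff_isConj, isConj_iff] at hmk
        obtain ⟨c, hc⟩ := hmk
        have hcN : c ∈ N := by
          by_contra hcN
          have hr1 := hTI c hcN _ (Subgroup.mem_subgroupOf.1 (hrepK C)) (by rw [hc]; exact hxK)
          exact hrep1 C (Subtype.ext hr1)
        have hconj : (⟨c, hcN⟩ : N) * rep C * (⟨c, hcN⟩ : N)⁻¹ = x := Subtype.ext hc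
        have hval : ∀ ξ : {χ : IrrCharacter N //
            ∃ k ∈ K.subgroupOf N, (χ : N → ℂ) k ≠ (χ : N → ℂ) 1},
            (ξ.1 : N → ℂ) x = v ξ C := by
          intro ξ
          rw [← hconj]
          exact isClassFunction_of_isCharacter (IsIrrCharacter.isCharacter ξ.1.2) _ _
        rw [Finset.sum_congr rfl (fun ξ _ => by rw [hval ξ])]
        have h1 := congrFun hg C
        rw [Finset.sum_apply] at h1
        simp only [Pi.smul_apply, smul_eq_mul, Pi.zero_apply] at h1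
        exact h1
      · apply Finset.sum_eq_zero
        intro ξ _
        rw [rel_vanish (K.subgroupOf N) hC' ξ.1.2 ξ.2 hx, mul_zero]
    have htriv : IsIrrCharacter N (fun _ : N => (1 : ℂ)) := isIrrCharacter_one
    have hin1 : classInner φ (fun _ : N => (1 : ℂ)) = (Nat.card N : ℂ)⁻¹ * φ 1 := by
      unfold classInner
      congr 1
      rw [Finset.sum_eq_single (1 : N)]
      · rw [map_one, mul_one]
      · intro x _ hx1
        rw [hφ0 x hx1, zero_mul]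
      · intro h
        exact absurd (Finset.mem_univ _) h
    have hin2 : classInner φ (fun _ : N => (1 : ℂ)) = 0 := by
      rw [hφ, classInner_sum_left]
      apply Finset.sum_eq_zero
      intro ξ _
      rw [classInner_smul_left, irr_orthonormal ξ.1.2 htriv, if_neg, mul_zero]
      intro h
      obtain ⟨k, _, hk⟩ := ξ.2
      apply hk
      rw [h]
    have hN0 : (Nat.card N : ℂ)⁻¹ ≠ 0 :=
      inv_ne_zero (by exact_mod_cast (Nat.card_pos (α := N)).ne')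
    have hφ1 : φ 1 = 0 := by
      rw [hin1] at hin2
      exact (mul_eq_zero.1 hin2).resolve_left hN0
    have hφz : φ = 0 := by
      funext x
      by_cases hx1 : x = 1
      · rw [hx1, hφ1]
        rfl
      · exact hφ0 x hx1
    have h2 : classInner φ (χ.1 : N → ℂ) = g χ := by
      rw [hφ, classInner_sum_left, Finset.sum_eq_single χ]
      · rw [classInner_smul_left, irr_orthonormal χ.1.2 χ.1.2, if_pos rfl, mul_one]
      · intro ξ _ hξ
        rw [classInner_smul_left, irr_orthonormal ξ.1.2 χ.1.2, if_neg, mul_zero]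
        intro h
        exact hξ (Subtype.ext (Subtype.ext h))
      · intro h
        exact absurd (Finset.mem_univ _) h
    rw [← h2, hφz, classInner_zero_left]
  have h1 := hli.fintype_card_le_finrank
  rw [Module.finrank_fintype_fun_eq_card] at h1
  exact h1.trans (Fintype.card_subtype _).le

end count


section final

variable {G : Type u} [Group G] [Fintype G]

/-- The coherent core with the T.I. induction property as a hypothesis. -/
theorem core_coh_aux (K N : Subgroup G) [Fintype N] [hKn : (K.subgroupOf N).Normal]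
    (hTI : ∀ g : G, g ∉ N → ∀ k ∈ K, g * k * g⁻¹ ∈ K → k = 1) (hlt : K < N)
    (hC : ∀ k ∈ K, k ≠ 1 → Subgroup.centralizer ({k} : Set G) ≤ K)
    (hind : ∀ ϑ : N → ℂ, IsClassFunction N ϑ → (∀ x : N, x ∉ K.subgroupOf N → ϑ x = 0) →
      ϑ 1 = 0 → ∀ x : N, Cfsg.indFun N ϑ x = ϑ x)
    (hlin : ∀ ζ : N → ℂ, Cfsg.IsIrrCharacter N ζ → (∀ k : N, (k : G) ∈ K → ζ k = ζ 1) → ζ 1 = 1)
    (hInd : ∀ ζ : N → ℂ, Cfsg.IsCharacter N ζ → ζ 1 = 1 → (∀ k : N, (k : G) ∈ K → ζ k = 1) →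
      ζ ≠ (fun _ => 1) → Cfsg.IsIrrCharacter G (Cfsg.indFun N ζ) ∧
        ∀ k ∈ K, k ≠ 1 → Cfsg.indFun N ζ k = 1)
    (hperm : ∃ χ₀ : G → ℂ, Cfsg.IsIrrCharacter G χ₀ ∧
      (∀ g, Cfsg.indFun N (fun _ : N => (1 : ℂ)) g = 1 + χ₀ g) ∧ ∀ k ∈ K, k ≠ 1 → χ₀ k = 0)
    (hcls : K.relIndex N ≤
      Nat.card {C : ConjClasses G // ∀ g : G, ConjClasses.mk g = C → g ∉ K})
    (hidx : N.index = Nat.card K + 1)
    (hone : ∃ χ₁ : N → ℂ, Cfsg.IsIrrCharacter N χ₁ ∧ (∃ k : N, (k : G) ∈ K ∧ χ₁ k ≠ χ₁ 1) ∧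
      χ₁ 1 = (K.relIndex N : ℂ))
    (star : (N → ℂ) → (G → ℂ))
    (hstar : Cfsg.IsLinearIsometryOn (Cfsg.zspan {χ : N → ℂ | Cfsg.IsIrrCharacter N χ ∧
      ∃ k : N, (k : G) ∈ K ∧ χ k ≠ χ 1}) star)
    (hext : ∀ α ∈ Cfsg.zspanOn {χ : N → ℂ | Cfsg.IsIrrCharacter N χ ∧
      ∃ k : N, (k : G) ∈ K ∧ χ k ≠ χ 1} ({1}ᶜ : Set N), star α = Cfsg.indFun N α)
    (hbig : 2 * K.relIndex N + 1 < Nat.card K) : False := by
  classical
  have hle : K ≤ N := hlt.le
  have hC' := tifn_hC' K N hC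
  set S : Set (N → ℂ) := {χ : N → ℂ | Cfsg.IsIrrCharacter N χ ∧
      ∃ k : N, (k : G) ∈ K ∧ χ k ≠ χ 1} with hSdef
  have hS : S = {χ : N → ℂ | IsIrrCharacter N χ ∧ ∃ k ∈ K.subgroupOf N, χ k ≠ χ 1} :=
    tifn_hS K N S hSdef
  obtain ⟨sgn, f, hsgn, hinj, hf⟩ := exists_exc N (K.subgroupOf N) S hS star hstar
  have hcK : Nat.card (K.subgroupOf N) = Nat.card K :=
    Nat.card_congr (Subgroup.subgroupOfEquivOfLe hle).toEquiv
  haveI : Fintype (K.subgroupOf N) := Fintype.ofFinite _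
  have hlin' : ∀ ζ : IrrCharacter N, K.subgroupOf N ≤ Cfsg.Agent.Helper79.irrKer ζ →
      (ζ : N → ℂ) 1 = 1 :=
    fun ζ hζ => hlin ζ ζ.2 (fun k hk =>
      (Cfsg.Agent.Helper79.mem_irrKer ζ k).1 (hζ (Subgroup.mem_subgroupOf.2 hk)))
  have hInd' : ∀ ζ : IrrCharacter N, K.subgroupOf N ≤ Cfsg.Agent.Helper79.irrKer ζ →
      (ζ : N → ℂ) ≠ (fun _ => 1) → IsIrrCharacter G (indFun N (ζ : N → ℂ)) ∧
        ∀ k : N, k ∈ K.subgroupOf N → k ≠ 1 → indFun N (ζ : N → ℂ) k = 1 := by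
    intro ζ hζ hζ1
    have hz1 := hlin' ζ hζ
    obtain ⟨h1, h2⟩ := hInd ζ (IsIrrCharacter.isCharacter ζ.2) hz1 (fun k hk => by
      rw [(Cfsg.Agent.Helper79.mem_irrKer ζ k).1 (hζ (Subgroup.mem_subgroupOf.2 hk)), hz1]) hζ1
    exact ⟨h1, fun k hk hk1 => h2 k (Subgroup.mem_subgroupOf.1 hk)
      (fun h => hk1 (Subtype.ext h))⟩
  obtain ⟨χ₀f, hχ₀irr, hperm', hχ₀van⟩ := hperm
  have hχ₀' : ∀ k : N, k ∈ K.subgroupOf N → k ≠ 1 →
      ((⟨χ₀f, hχ₀irr⟩ : IrrCharacter G) : G → ℂ) k = 0 :=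
    fun k hk hk1 => hχ₀van k (Subgroup.mem_subgroupOf.1 hk) (fun h => hk1 (Subtype.ext h))
  change 2 * (K.subgroupOf N).index + 1 < Nat.card K at hbig
  change (K.subgroupOf N).index ≤ _ at hcls
  obtain ⟨χ₁f, hχ₁irr, hχ₁rel, hχ₁deg⟩ := hone
  change χ₁f 1 = ((K.subgroupOf N).index : ℂ) at hχ₁deg
  set χ₁ : {χ : IrrCharacter N // ∃ k ∈ K.subgroupOf N, (χ : N → ℂ) k ≠ (χ : N → ℂ) 1} :=
    ⟨⟨χ₁f, hχ₁irr⟩, by
      obtain ⟨k, hk, hk'⟩ := hχ₁rel
      exact ⟨k, Subgroup.mem_subgroupOf.2 hk, hk'⟩⟩ with hχ₁def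
  have hdeg : (χ₁.1 : N → ℂ) 1 = ((K.subgroupOf N).index : ℂ) := hχ₁deg
  have he0 : (K.subgroupOf N).index ≠ 0 := Subgroup.index_ne_zero_of_finite
  have hNcard : (K.subgroupOf N).index * Nat.card K = Nat.card N := by
    rw [← hcK, Subgroup.index_mul_card]
  -- a second relevant character
  obtain ⟨χ₂, hne⟩ : ∃ χ₂ : {χ : IrrCharacter N //
      ∃ k ∈ K.subgroupOf N, (χ : N → ℂ) k ≠ (χ : N → ℂ) 1}, χ₂ ≠ χ₁ := by
    by_contra hall
    push Not at hall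
    have h1 := sum_rel_deg_sq N (K.subgroupOf N)
    rw [Finset.sum_eq_single χ₁ (fun b _ hb => absurd (hall b) hb)
      (fun h => absurd (Finset.mem_univ _) h), hdeg] at h1
    have h2 : (K.subgroupOf N).index * (K.subgroupOf N).index + (K.subgroupOf N).index =
        Nat.card N := by
      have h3 : (((K.subgroupOf N).index * (K.subgroupOf N).index + (K.subgroupOf N).index : ℕ) : ℂ)
          = ((Nat.card N : ℕ) : ℂ) := by
        push_cast
        linear_combination h1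
      exact_mod_cast h3
    rw [← hNcard] at h2
    have h4 : (K.subgroupOf N).index * ((K.subgroupOf N).index + 1) =
        (K.subgroupOf N).index * Nat.card K := by
      rw [← h2]
      ring
    have h5 := Nat.eq_of_mul_eq_mul_left (Nat.pos_of_ne_zero he0) h4
    omega
  have htwo : ∃ χ ∈ S, ∃ ξ ∈ S, χ ≠ ξ :=
    ⟨_, rel_mem N (K.subgroupOf N) S hS χ₁, _, rel_mem N (K.subgroupOf N) S hS χ₂,
      fun h => hne (Subtype.ext (Subtype.ext h)).symm⟩
  have hK1 : 1 < Nat.card (K.subgroupOf N) := by omega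
  obtain ⟨k₀, hk₀, hk₀1⟩ : ∃ k₀ : N, k₀ ∈ K.subgroupOf N ∧ k₀ ≠ 1 := by
    rw [Subgroup.one_lt_card_iff_ne_bot] at hK1
    obtain ⟨⟨k, hk⟩, hk1⟩ := Subgroup.ne_bot_iff_exists_ne_one.1 hK1
    exact ⟨k, hk, fun h => hk1 (Subtype.ext h)⟩
  have hk₀K : (k₀ : G) ∈ K := Subgroup.mem_subgroupOf.1 hk₀
  have hk₀1' : (k₀ : G) ≠ 1 := fun h => hk₀1 (Subtype.ext h)
  have hcent : Nat.card (Subgroup.centralizer ({(k₀ : G)} : Set G)) =
      Nat.card (Subgroup.centralizer ({k₀} : Set N)) := by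
    symm
    refine Nat.card_congr ⟨fun x => ⟨((x : N) : G), ?_⟩, fun y => ⟨⟨(y : G),
      hle (hC _ hk₀K hk₀1' y.2)⟩, ?_⟩, fun x => rfl, fun y => rfl⟩
    · have hx := x.2
      rw [Subgroup.mem_centralizer_iff] at hx ⊢
      intro z hz
      rw [Set.mem_singleton_iff] at hz
      subst hz
      exact congrArg Subtype.val (hx k₀ rfl)
    · have hy := y.2
      rw [Subgroup.mem_centralizer_iff] at hy ⊢
      intro z hz
      rw [Set.mem_singleton_iff] at hz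
      rw [hz]
      exact Subtype.ext (hy (k₀ : G) rfl)
  obtain ⟨m, hm⟩ := tifn_main N (K.subgroupOf N) hC' hind S hS star hstar hext
    ⟨_, rel_mem N (K.subgroupOf N) S hS χ₁⟩
  have hcount : (K.subgroupOf N).index + 1 + Fintype.card {χ : IrrCharacter N //
      ∃ k ∈ K.subgroupOf N, (χ : N → ℂ) k ≠ (χ : N → ℂ) 1} ≤
        Fintype.card (IrrCharacter G) := by
    have h1 := class_count' K
    have h2 := rel_le_classes K N hle hTI hC'
    rw [← Cfsg.Agent.Helper3.card_irr_eq_card_conjClasses,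
      Nat.card_eq_fintype_card (α := IrrCharacter G)] at h1
    omega
  have hm0 : m = 0 := m_zero N (K.subgroupOf N) hC' hind S hS star hstar hext sgn f hsgn hinj hf
    hlin' hInd' ⟨χ₀f, hχ₀irr⟩ hperm' hχ₀' htwo k₀ hk₀ hk₀1 hcent m hm hcount (by rw [hcK]; exact hbig)
  subst hm0
  have hm' : ∀ χ ∈ S, ∀ k ∈ K.subgroupOf N, k ≠ 1 → star χ k - χ k = 0 := by
    intro χ hχ k hk hk1
    rw [hm χ hχ k hk hk1, Int.cast_zero, zero_mul, zero_div]
  have hres := exc_restrict' N (K.subgroupOf N) hC' S hS star sgn f hsgn hf hlin' hInd'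
    ⟨χ₀f, hχ₀irr⟩ hperm' hχ₀' hm' χ₁ χ₂ hne
  have hb := tensor_bound' N (K.subgroupOf N) hC' hlin' hInd' (f χ₁).2 χ₁ hdeg hres
    (by rw [hidx, hcK])
  rw [hidx] at hb
  have he2 : 2 ≤ (K.subgroupOf N).index := by
    have h1 : (K.subgroupOf N).index ≠ 1 := by
      intro h
      have h2 : K.relIndex N = 1 := h
      rw [Subgroup.relIndex_eq_one] at h2
      exact lt_irrefl _ (lt_of_lt_of_le hlt h2)
    omega
  obtain ⟨d, hd⟩ : ∃ d, (K.subgroupOf N).index = d + 2 :=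
    ⟨(K.subgroupOf N).index - 2, by omega⟩
  rw [hd] at hb hbig
  have h1 : d + 2 - 1 = d + 1 := by omega
  rw [h1] at hb
  have h2 := Nat.mul_le_mul_left (d + 1) (show 2 * d + 7 ≤ Nat.card K + 1 by omega)
  nlinarith [h2, hb]

/-- **Feit's bound, coherent case.**  Same hypotheses as `Helper82.ZassFeitAbel.core` without
commutativity of `K`, plus a relevant character of degree `|N : K|` and coherence. -/
theorem core_coh (K N : Subgroup G) [Fintype N]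
    (hN : Subgroup.normalizer (K : Set G) = N)
    (hTI : ∀ g : G, g ∉ N → ∀ k ∈ K, g * k * g⁻¹ ∈ K → k = 1) (hlt : K < N)
    (hC : ∀ k ∈ K, k ≠ 1 → Subgroup.centralizer ({k} : Set G) ≤ K)
    (hlin : ∀ ζ : N → ℂ, Cfsg.IsIrrCharacter N ζ → (∀ k : N, (k : G) ∈ K → ζ k = ζ 1) → ζ 1 = 1)
    (hInd : ∀ ζ : N → ℂ, Cfsg.IsCharacter N ζ → ζ 1 = 1 → (∀ k : N, (k : G) ∈ K → ζ k = 1) →
      ζ ≠ (fun _ => 1) → Cfsg.IsIrrCharacter G (Cfsg.indFun N ζ) ∧
        ∀ k ∈ K, k ≠ 1 → Cfsg.indFun N ζ k = 1)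
    (hperm : ∃ χ₀ : G → ℂ, Cfsg.IsIrrCharacter G χ₀ ∧
      (∀ g, Cfsg.indFun N (fun _ : N => (1 : ℂ)) g = 1 + χ₀ g) ∧ ∀ k ∈ K, k ≠ 1 → χ₀ k = 0)
    (hcls : K.relIndex N ≤
      Nat.card {C : ConjClasses G // ∀ g : G, ConjClasses.mk g = C → g ∉ K})
    (hidx : N.index = Nat.card K + 1)
    (hone : ∃ χ₁ : N → ℂ, Cfsg.IsIrrCharacter N χ₁ ∧ (∃ k : N, (k : G) ∈ K ∧ χ₁ k ≠ χ₁ 1) ∧
      χ₁ 1 = (K.relIndex N : ℂ))
    (hcoh : Cfsg.IsCoherent {χ : N → ℂ | Cfsg.IsIrrCharacter N χ ∧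
      ∃ k : N, (k : G) ∈ K ∧ χ k ≠ χ 1} ({1}ᶜ : Set N) (fun α => Cfsg.indFun N α))
    (hbig : 2 * K.relIndex N + 1 < Nat.card K) : False := by
  subst hN
  obtain ⟨-, star, hstar, hext⟩ := hcoh
  exact core_coh_aux K (Subgroup.normalizer (K : Set G)) hTI hlt hC (tifn_hind K hTI hlt hC)
    hlin hInd hperm hcls hidx hone star hstar hext hbig

end final

end Cfsg.Agent.Helper12.ZassFeitCoh
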