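import Mathlib
import Cfsg.Prelude.Def_LieExceptional
import Cfsg.Agent.S0339
import Cfsg.Agent.Lib.Helper19.ZassD
import Cfsg.Agent.Lib.Helper96.Zassenhaus
import Cfsg.Agent.Lib.Helper12.ZassOddRed

set_option autoImplicit false
set_option linter.unusedSectionVars false
set_option linter.style.haveILetI false
set_option linter.unusedVariables false

/-! Reduction of Feit's theorem on Zassenhaus groups with two-point stabiliser of odd order
(`n - 2 ≤ 2 |G_ab|`, or the Frobenius kernel `H` is a non-abelian `2`-group with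
`|H : H'| ≤ 4 |G_ab|² + 1`) to the case of simple groups. -/

namespace Cfsg.Agent.Helper12.ZassFeitRed

open MulAction

universe u v

/-- The conclusion of Feit's theorem. -/
def Concl {G : Type u} {Ω : Type v} [Group G] [MulAction G Ω] [Fintype Ω] (a b : Ω)
    (H : Subgroup G) : Prop :=
  Fintype.card Ω - 2 ≤ 2 * Nat.card ↥(stabilizer G a ⊓ stabilizer G b : Subgroup G) ∨
    (IsPGroup 2 H ∧ (∃ x y : H, x * y ≠ y * x) ∧
      (commutator H).index ≤
        4 * Nat.card ↥(stabilizer G a ⊓ stabilizer G b : Subgroup G) ^ 2 + 1)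

/-- Feit's theorem for simple Zassenhaus groups, as a hypothesis. -/
def SimpleFeit : Prop :=
  ∀ (G : Type u) (Ω : Type v) [Group G] [Finite G] [MulAction G Ω] [Fintype Ω] [IsSimpleGroup G]
    (hZ : Cfsg.IsZassenhausGroup G Ω) (a b : Ω) (hab : a ≠ b)
    (hodd : Odd (Nat.card ↥(stabilizer G a ⊓ stabilizer G b : Subgroup G)))
    (H : Subgroup G) (hHa : H ≤ stabilizer G a) (hHcard : Nat.card H + 1 = Fintype.card Ω)
    (hHfix : ∀ u ∈ H, u ≠ 1 → ∀ c : Ω, u • c = c → c = a), Concl a b H

/-- The index of the commutator subgroup is invariant under isomorphism. -/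
theorem commutator_index_congr {A B : Type*} [Group A] [Group B] (e : A ≃* B) :
    (commutator A).index = (commutator B).index := by
  have h : (commutator A).map (e : A →* B) = commutator B := by
    rw [commutator_def, commutator_def, Subgroup.map_commutator]
    have : (⊤ : Subgroup A).map (e : A →* B) = ⊤ := by
      rw [← MonoidHom.range_eq_map]
      exact MonoidHom.range_eq_top.mpr e.surjective
    rw [this]
  rw [← h, Subgroup.index_map_equiv]

section

variable {G : Type u} {Ω : Type v} [Group G] [MulAction G Ω] [Finite G] [Fintype Ω] {a b : Ω}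
  {H : Subgroup G}

/-- Data for a nontrivial normal subgroup (no commutativity). -/
theorem normal_data (hZ : Cfsg.IsZassenhausGroup G Ω) (hHa : H ≤ stabilizer G a)
    (hHcard : Nat.card H + 1 = Fintype.card Ω)
    (hHfix : ∀ u ∈ H, u ≠ 1 → ∀ c : Ω, u • c = c → c = a)
    (N : Subgroup G) [N.Normal] (hN : N ≠ ⊥) :
    Cfsg.IsZassenhausGroup ↥N Ω ∧ (H.subgroupOf N) ≤ stabilizer ↥N a ∧
      Nat.card ↥(H.subgroupOf N) + 1 = Fintype.card Ω ∧
      (∀ u ∈ H.subgroupOf N, u ≠ 1 → ∀ c : Ω, u • c = c → c = a) := by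
  have hHN : H ≤ N := Cfsg.Agent.Helper12.ZassOddRed.H_le_normal hZ hHa hHfix N hN
  refine ⟨Cfsg.Agent.S0339.result hZ N hN, ?_, ?_, ?_⟩
  · intro u hu
    rw [Subgroup.mem_subgroupOf] at hu
    have := hHa hu
    rw [mem_stabilizer_iff] at this ⊢
    exact this
  · rw [Nat.card_congr (Subgroup.subgroupOfEquivOfLe hHN).toEquiv]
    exact hHcard
  · intro u hu hu1 c huc
    rw [Subgroup.mem_subgroupOf] at hu
    refine hHfix (u : G) hu ?_ c huc
    intro h
    exact hu1 (Subtype.ext h)

end

/-- Feit's theorem for all Zassenhaus groups with odd two-point stabiliser, given the simple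
case. -/
theorem feit_aux (hS : SimpleFeit.{u, v}) (Ω : Type v) [Fintype Ω] :
    ∀ (n : ℕ) (G : Type u) [Group G] [Finite G] [MulAction G Ω], Nat.card G = n →
    ∀ (hZ : Cfsg.IsZassenhausGroup G Ω) (a b : Ω) (hab : a ≠ b)
    (hodd : Odd (Nat.card ↥(stabilizer G a ⊓ stabilizer G b : Subgroup G)))
    (H : Subgroup G) (hHa : H ≤ stabilizer G a) (hHcard : Nat.card H + 1 = Fintype.card Ω)
    (hHfix : ∀ u ∈ H, u ≠ 1 → ∀ c : Ω, u • c = c → c = a), Concl a b H := by
  intro n
  induction n using Nat.strong_induction_on with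
  | _ n ih =>
    intro G _ _ _ hn hZ a b hab hodd H hHa hHcard hHfix
    by_cases hsimple : IsSimpleGroup G
    · exact hS G Ω hZ a b hab hodd H hHa hHcard hHfix
    · have hnt : Nontrivial G := by
        obtain ⟨g, hg, _⟩ := hZ.2.2.2.1
        exact ⟨⟨g, 1, hg⟩⟩
      obtain ⟨N, hNn, hN1, hN2⟩ : ∃ N : Subgroup G, N.Normal ∧ N ≠ ⊥ ∧ N ≠ ⊤ := by
        by_contra hcon
        push Not at hcon
        apply hsimple
        refine ⟨fun N hN => ?_⟩
        by_cases h : N = ⊥
        · exact Or.inl h
        · exact Or.inr (hcon N hN h)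
      haveI := hNn
      obtain ⟨hZN, h1, h2, h3⟩ := normal_data hZ hHa hHcard hHfix N hN1
      have hHN : H ≤ N := Cfsg.Agent.Helper12.ZassOddRed.H_le_normal hZ hHa hHfix N hN1
      have hlt : Nat.card ↥N < n := by
        rw [← hn]
        have hle : Nat.card ↥N ≤ Nat.card G := Subgroup.card_le_card_group N
        rcases Nat.lt_or_ge (Nat.card ↥N) (Nat.card G) with h | h
        · exact h
        · exfalso
          exact hN2 (Subgroup.card_eq_iff_eq_top N |>.mp (le_antisymm hle h))
      have hdvd := Cfsg.Agent.Helper12.ZassOddRed.card_D_sub_dvd (a := a) (b := b) N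
      have hoddN : Odd (Nat.card ↥(stabilizer ↥N a ⊓ stabilizer ↥N b : Subgroup ↥N)) := by
        rcases hdvd with ⟨c, hc⟩
        rw [hc] at hodd
        exact (Nat.odd_mul.mp hodd).1
      have hb := ih (Nat.card ↥N) hlt ↥N rfl hZN a b hab hoddN _ h1 h2 h3
      have hle : Nat.card ↥(stabilizer ↥N a ⊓ stabilizer ↥N b : Subgroup ↥N) ≤
          Nat.card ↥(stabilizer G a ⊓ stabilizer G b : Subgroup G) :=
        Nat.le_of_dvd Nat.card_pos hdvd
      let e : ↥(H.subgroupOf N) ≃* ↥H := Subgroup.subgroupOfEquivOfLe hHN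
      rcases hb with hb | ⟨hp, ⟨x, y, hxy⟩, hidx⟩
      · left
        omega
      · right
        refine ⟨?_, ⟨e x, e y, ?_⟩, ?_⟩
        · exact hp.of_equiv e
        · intro h
          apply hxy
          apply e.injective
          rw [map_mul, map_mul]
          exact h
        · rw [← commutator_index_congr e]
          refine le_trans hidx ?_
          have := Nat.pow_le_pow_left hle 2
          omega

section

variable {G : Type u} {Ω : Type v} [Group G] [MulAction G Ω] [Finite G] [Fintype Ω] {a b : Ω}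
  {H : Subgroup G}

theorem feit (hS : SimpleFeit.{u, v}) (hZ : Cfsg.IsZassenhausGroup G Ω) (hab : a ≠ b)
    (hodd : Odd (Nat.card ↥(stabilizer G a ⊓ stabilizer G b : Subgroup G)))
    (hHa : H ≤ stabilizer G a) (hHcard : Nat.card H + 1 = Fintype.card Ω)
    (hHfix : ∀ u ∈ H, u ≠ 1 → ∀ c : Ω, u • c = c → c = a) : Concl a b H :=
  feit_aux hS Ω _ G rfl hZ a b hab hodd H hHa hHcard hHfix

end

end Cfsg.Agent.Helper12.ZassFeitRed
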