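import Mathlib
import Cfsg.Prelude.Def_LieExceptional
import Cfsg.Agent.S0878
import Cfsg.Agent.Lib.Helper19.ZassD
import Cfsg.Agent.Lib.Helper19.ZassH

set_option autoImplicit false
set_option linter.unusedSectionVars false
set_option linter.style.haveILetI false
set_option linter.unusedVariables false

/-! Character-free inputs for the Feit bound in Zassenhaus groups with abelian kernel `H`:
`N_G(H) = G_a`, `H` is TI, `C_G(u) ≤ H` for `u ∈ H#`, `H < G_a`, `|G_a : H| = |G_ab|`. -/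

namespace Cfsg.Agent.Helper12.ZassFeitGT

open MulAction

variable {G Ω : Type*} [Group G] [MulAction G Ω] [Finite G] [Fintype Ω] {a b : Ω}
  {H : Subgroup G}

local notation "𝔇" => (MulAction.stabilizer G a ⊓ MulAction.stabilizer G b : Subgroup G)

theorem normalizer_eq (hZ : Cfsg.IsZassenhausGroup G Ω) (hHa : H ≤ stabilizer G a)
    (hHcard : Nat.card H + 1 = Fintype.card Ω)
    (hHfix : ∀ u ∈ H, u ≠ 1 → ∀ c : Ω, u • c = c → c = a) :
    Subgroup.normalizer (H : Set G) = stabilizer G a :=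
  (Cfsg.Agent.S0878.result hZ a H hHa hHcard hHfix).2

theorem ti (hZ : Cfsg.IsZassenhausGroup G Ω) (hHa : H ≤ stabilizer G a)
    (hHcard : Nat.card H + 1 = Fintype.card Ω)
    (hHfix : ∀ u ∈ H, u ≠ 1 → ∀ c : Ω, u • c = c → c = a) :
    ∀ g : G, g ∉ stabilizer G a → ∀ k ∈ H, g * k * g⁻¹ ∈ H → k = 1 :=
  (Cfsg.Agent.S0878.result hZ a H hHa hHcard hHfix).1

theorem H_lt (hZ : Cfsg.IsZassenhausGroup G Ω) (hab : a ≠ b) (hHa : H ≤ stabilizer G a)
    (hHfix : ∀ u ∈ H, u ≠ 1 → ∀ c : Ω, u • c = c → c = a) : H < stabilizer G a := by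
  refine lt_of_le_of_ne hHa ?_
  intro heq
  obtain ⟨d, hd, hd1⟩ := Cfsg.Agent.Helper19.ZassH.exists_D_ne_one hZ hab
  have hdH : d ∈ H := by rw [heq]; exact (Subgroup.mem_inf.mp hd).1
  exact hd1 (Cfsg.Agent.Helper19.ZassH.H_inf_stab hHfix hab.symm hdH (Subgroup.mem_inf.mp hd).2)

/-- `C_G(u) ≤ H` for `1 ≠ u ∈ H`, `H` abelian. -/
theorem centralizer_le (hZ : Cfsg.IsZassenhausGroup G Ω) (hab : a ≠ b)
    (hHa : H ≤ stabilizer G a) (hHcard : Nat.card H + 1 = Fintype.card Ω)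
    (hHfix : ∀ u ∈ H, u ≠ 1 → ∀ c : Ω, u • c = c → c = a)
    (hHab : ∀ u ∈ H, ∀ v ∈ H, u * v = v * u) :
    ∀ u ∈ H, u ≠ 1 → Subgroup.centralizer ({u} : Set G) ≤ H := by
  intro u hu hu1 x hx
  rw [Subgroup.mem_centralizer_iff] at hx
  have hxu : u * x = x * u := hx u (Set.mem_singleton u)
  have hua : u • a = a := hHa hu
  have hxa : x • a = a := by
    apply hHfix u hu hu1
    rw [← mul_smul, hxu, mul_smul, hua]
  obtain ⟨u', hu', d, hd, hxd⟩ :=
    Cfsg.Agent.Helper19.ZassH.stab_decomp hHa hHcard hHfix hab.symm (g := x) hxa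
  have hda : d • a = a := (Subgroup.mem_inf.mp hd).1
  have hdb : d • b = b := (Subgroup.mem_inf.mp hd).2
  have hdu : u * d = d * u := by
    have h1 : d = u'⁻¹ * x := by rw [hxd]; group
    have h2 : u * u'⁻¹ = u'⁻¹ * u := by
      have := hHab u hu u'⁻¹ (H.inv_mem hu')
      exact this
    rw [h1, ← mul_assoc, h2, mul_assoc, hxu, mul_assoc]
  have hub : u • b ≠ b := fun h => hab.symm (hHfix u hu hu1 b h)
  have hub' : u • b ≠ a := by
    intro h
    exact hab.symm (smul_left_cancel u (h.trans hua.symm))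
  have hdub : d • u • b = u • b := by
    rw [← mul_smul, ← hdu, mul_smul, hdb]
  have hd1 : d = 1 :=
    hZ.2.2.1 d a b (u • b) hab (Ne.symm hub) (Ne.symm hub') hda hdb hdub
  rw [hxd, hd1, mul_one]
  exact hu'

/-- `|G_a : H| = |G_ab|`. -/
theorem relIndex_eq (hab : a ≠ b) (hHa : H ≤ stabilizer G a)
    (hHcard : Nat.card H + 1 = Fintype.card Ω)
    (hHfix : ∀ u ∈ H, u ≠ 1 → ∀ c : Ω, u • c = c → c = a) :
    H.relIndex (stabilizer G a) = Nat.card ↥𝔇 := by
  have hc := Cfsg.Agent.Helper19.ZassD.isComplement' hHa hHcard hHfix hab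
  have h1 := hc.symm.index_eq_card
  rw [Subgroup.relIndex, h1]
  exact Nat.card_congr (Subgroup.subgroupOfEquivOfLe
    (inf_le_left : 𝔇 ≤ stabilizer G a)).toEquiv

/-- the arithmetic hypothesis of the character core from the negated bound -/
theorem big_of_not (hab : a ≠ b) (hHa : H ≤ stabilizer G a)
    (hHcard : Nat.card H + 1 = Fintype.card Ω)
    (hHfix : ∀ u ∈ H, u ≠ 1 → ∀ c : Ω, u • c = c → c = a)
    (hnot : ¬ Fintype.card Ω - 2 ≤ 2 * Nat.card ↥𝔇) :
    2 * H.relIndex (stabilizer G a) + 1 < Nat.card H := by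
  rw [relIndex_eq hab hHa hHcard hHfix]
  omega

end Cfsg.Agent.Helper12.ZassFeitGT
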