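import Mathlib
import Cfsg.Agent.Lib.Helper12.ZassFeitCoh
import Cfsg.Agent.Lib.Helper4.ZassFeitGen2

/-!
# Feit's theorem for simple Zassenhaus groups (nonabelian kernel allowed): final assembly
-/

set_option autoImplicit false

namespace Cfsg.Agent.Helper12.ZassFeitFinal

open Cfsg

universe u v

/-- The coherent-case core in the binder order of `Helper4.ZassFeitGen.CoreCohStatement`. -/
theorem coreCohStatement : Cfsg.Agent.Helper4.ZassFeitGen.CoreCohStatement.{u} := by
  intro G _ _ K N _ hN hTI hlt hC hlin hInd hperm hcls hidx hbig hone star hstar hext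
  subst hN
  exact Cfsg.Agent.Helper12.ZassFeitCoh.core_coh_aux K (Subgroup.normalizer (K : Set G)) hTI hlt hC
    (Cfsg.Agent.Helper82.tifn_hind K hTI hlt hC) hlin hInd hperm hcls hidx hone star hstar hext hbig

/-- **Feit's theorem for simple Zassenhaus groups.** -/
theorem simpleFeit : Cfsg.Agent.Helper12.ZassFeitRed.SimpleFeit.{u, v} :=
  Cfsg.Agent.Helper4.ZassFeitGen.simpleFeit_of_core coreCohStatement

end Cfsg.Agent.Helper12.ZassFeitFinal
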