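import Mathlib
import Cfsg.Prelude.Def_LieExceptional
import Cfsg.Agent.Lib.Helper19.ZassH

set_option autoImplicit false
set_option linter.unusedSectionVars false
set_option linter.style.haveILetI false
set_option linter.unusedVariables false

/-! `C_G(u) ≤ H` for `1 ≠ u ∈ H`, the Frobenius kernel of a point stabiliser of a Zassenhaus group,
without assuming `H` abelian. -/

namespace Cfsg.Agent.Helper12.ZassFeitGT2

open MulAction

variable {G Ω : Type*} [Group G] [MulAction G Ω] [Finite G] [Fintype Ω] {a b : Ω}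
  {H : Subgroup G}

/-- A non-identity element `d` of `G_ab` commutes with no non-identity element of `H`. -/
theorem not_commute (hZ : Cfsg.IsZassenhausGroup G Ω) (hab : a ≠ b)
    (hHa : H ≤ stabilizer G a)
    (hHfix : ∀ u ∈ H, u ≠ 1 → ∀ c : Ω, u • c = c → c = a)
    {d : G} (hda : d • a = a) (hdb : d • b = b) {v : G} (hv : v ∈ H) (hv1 : v ≠ 1)
    (hcomm : d * v = v * d) : d = 1 := by
  have hva : v • a = a := hHa hv
  have hvb : v • b ≠ b := fun h => hab.symm (hHfix v hv hv1 b h)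
  have hvb' : v • b ≠ a := by
    intro h
    exact hab.symm (smul_left_cancel v (h.trans hva.symm))
  have hdvb : d • v • b = v • b := by
    rw [← mul_smul, hcomm, mul_smul, hdb]
  exact hZ.2.2.1 d a b (v • b) hab (Ne.symm hvb) (Ne.symm hvb') hda hdb hdvb

/-- Every element of `G_a` outside `H` fixes a second point. -/
theorem exists_fixed (hZ : Cfsg.IsZassenhausGroup G Ω) (hab : a ≠ b)
    (hHa : H ≤ stabilizer G a) (hHcard : Nat.card H + 1 = Fintype.card Ω)
    (hHfix : ∀ u ∈ H, u ≠ 1 → ∀ c : Ω, u • c = c → c = a)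
    {x : G} (hxa : x • a = a) (hxH : x ∉ H) : ∃ c : Ω, c ≠ a ∧ x • c = c := by
  classical
  obtain ⟨u', hu', d, hd, hxd⟩ :=
    Cfsg.Agent.Helper19.ZassH.stab_decomp hHa hHcard hHfix hab.symm (g := x) hxa
  have hda : d • a = a := (Subgroup.mem_inf.mp hd).1
  have hdb : d • b = b := (Subgroup.mem_inf.mp hd).2
  have hd1 : d ≠ 1 := by
    intro h
    apply hxH
    rw [hxd, h, mul_one]
    exact hu'
  have hdG : d ∈ stabilizer G a := hda
  -- the map `w ↦ w * (d * w⁻¹ * d⁻¹)` on `H`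
  let φ : H → H := fun w => ⟨(w : G) * (d * (w : G)⁻¹ * d⁻¹),
    H.mul_mem w.2 (Cfsg.Agent.Helper19.ZassH.H_conj_mem hZ hHa hHcard hHfix hdG (H.inv_mem w.2))⟩
  have hinj : Function.Injective φ := by
    intro w w' hww
    have h1 : (w : G) * (d * (w : G)⁻¹ * d⁻¹) = (w' : G) * (d * (w' : G)⁻¹ * d⁻¹) :=
      congrArg Subtype.val hww
    -- `v = w'⁻¹ w` commutes with `d`
    have h2 : d * ((w' : G)⁻¹ * (w : G)) = ((w' : G)⁻¹ * (w : G)) * d := by
      have h3 : (w' : G)⁻¹ * (w : G) = d * (w' : G)⁻¹ * d⁻¹ * (d * (w : G)⁻¹ * d⁻¹)⁻¹ := by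
        calc (w' : G)⁻¹ * (w : G)
            = (w' : G)⁻¹ * ((w : G) * (d * (w : G)⁻¹ * d⁻¹)) * (d * (w : G)⁻¹ * d⁻¹)⁻¹ := by group
          _ = (w' : G)⁻¹ * ((w' : G) * (d * (w' : G)⁻¹ * d⁻¹)) * (d * (w : G)⁻¹ * d⁻¹)⁻¹ := by
              rw [h1]
          _ = d * (w' : G)⁻¹ * d⁻¹ * (d * (w : G)⁻¹ * d⁻¹)⁻¹ := by group
      have h4 : d * (w' : G)⁻¹ * d⁻¹ * (d * (w : G)⁻¹ * d⁻¹)⁻¹
          = d * ((w' : G)⁻¹ * (w : G)) * d⁻¹ := by group
      rw [h4] at h3
      calc d * ((w' : G)⁻¹ * (w : G)) = (d * ((w' : G)⁻¹ * (w : G)) * d⁻¹) * d := by group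
        _ = ((w' : G)⁻¹ * (w : G)) * d := by rw [← h3]
    by_contra hne
    have hv1 : (w' : G)⁻¹ * (w : G) ≠ 1 := by
      intro h
      apply hne
      apply Subtype.ext
      have := congrArg (fun z => (w' : G) * z) h
      simpa using this
    exact hd1 (not_commute hZ hab hHa hHfix hda hdb (H.mul_mem (H.inv_mem w'.2) w.2) hv1 h2)
  have hsurj : Function.Surjective φ := Finite.surjective_of_injective hinj
  obtain ⟨w, hw⟩ := hsurj ⟨u', hu'⟩
  have hw' : (w : G) * (d * (w : G)⁻¹ * d⁻¹) = u' := congrArg Subtype.val hw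
  refine ⟨(w : G) • b, ?_, ?_⟩
  · intro h
    have hwa : (w : G) • a = a := hHa w.2
    exact hab.symm (smul_left_cancel (w : G) (h.trans hwa.symm))
  · rw [hxd, ← hw']
    rw [show (w : G) * (d * (w : G)⁻¹ * d⁻¹) * d = (w : G) * d * (w : G)⁻¹ by group]
    rw [mul_smul, mul_smul, inv_smul_smul, hdb]

/-- `C_G(u) ≤ H` for `1 ≠ u ∈ H`. -/
theorem centralizer_le (hZ : Cfsg.IsZassenhausGroup G Ω) (hab : a ≠ b)
    (hHa : H ≤ stabilizer G a) (hHcard : Nat.card H + 1 = Fintype.card Ω)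
    (hHfix : ∀ u ∈ H, u ≠ 1 → ∀ c : Ω, u • c = c → c = a) :
    ∀ u ∈ H, u ≠ 1 → Subgroup.centralizer ({u} : Set G) ≤ H := by
  intro u hu hu1 x hx
  rw [Subgroup.mem_centralizer_iff] at hx
  have hxu : u * x = x * u := hx u (Set.mem_singleton u)
  have hua : u • a = a := hHa hu
  have hxa : x • a = a := by
    apply hHfix u hu hu1
    rw [← mul_smul, hxu, mul_smul, hua]
  by_contra hxH
  obtain ⟨c, hca, hxc⟩ := exists_fixed hZ hab hHa hHcard hHfix hxa hxH
  have huc : u • c ≠ c := fun h => hca (hHfix u hu hu1 c h)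
  have huc' : u • c ≠ a := by
    intro h
    exact hca (smul_left_cancel u (h.trans hua.symm))
  have hxuc : x • u • c = u • c := by
    rw [← mul_smul, ← hxu, mul_smul, hxc]
  have hx1 : x = 1 :=
    hZ.2.2.1 x a c (u • c) (Ne.symm hca) (Ne.symm huc) (Ne.symm huc') hxa hxc hxuc
  exact hxH (hx1 ▸ H.one_mem)

end Cfsg.Agent.Helper12.ZassFeitGT2
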