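import Mathlib
import Cfsg.Prelude.Def_LieExceptional
import Cfsg.Agent.S0738
import Cfsg.Agent.S0741
import Cfsg.Agent.S0878
import Cfsg.Agent.Lib.Helper19.ZassD
import Cfsg.Agent.Lib.Helper19.ZassH
import Cfsg.Agent.Lib.Helper12.ZassFeitRed

set_option autoImplicit false
set_option linter.unusedSectionVars false
set_option linter.style.haveILetI false
set_option linter.unusedVariables false

/-! Consequences of Feit's theorem for simple Zassenhaus groups (`ZassFeitRed.SimpleFeit`):
Feit's theorem for all Zassenhaus groups in the form of S0885, and the prime power degree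
theorem S0346. -/

namespace Cfsg.Agent.Helper12.ZassFeitMain

open MulAction

universe u v

variable {G : Type u} {Ω : Type v} [Group G] [MulAction G Ω] [Finite G] [Fintype Ω]

/-- S0885 modulo the simple case. -/
theorem feit_general (hS : Cfsg.Agent.Helper12.ZassFeitRed.SimpleFeit.{u, v})
    (hZ : Cfsg.IsZassenhausGroup G Ω) {a b : Ω} (hab : a ≠ b) (h e : ℕ)
    (hh : Fintype.card Ω = h + 1)
    (he : Nat.card ↥(MulAction.stabilizer G a ⊓ MulAction.stabilizer G b : Subgroup G) = e)
    (hodd : Odd e) (H : Subgroup G) (hHa : H ≤ MulAction.stabilizer G a)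
    (hHcard : Nat.card H + 1 = Fintype.card Ω)
    (hHfix : ∀ u ∈ H, u ≠ 1 → ∀ c : Ω, u • c = c → c = a) :
    h - 1 ≤ 2 * e ∨ (IsPGroup 2 H ∧ (∃ u v : H, u * v ≠ v * u) ∧
      (commutator H).index ≤ 4 * e ^ 2 + 1) := by
  have hodd' : Odd (Nat.card ↥(stabilizer G a ⊓ stabilizer G b : Subgroup G)) := by
    rw [he]; exact hodd
  have := Cfsg.Agent.Helper12.ZassFeitRed.feit hS hZ hab hodd' hHa hHcard hHfix
  unfold Cfsg.Agent.Helper12.ZassFeitRed.Concl at this
  rw [he, hh] at this
  rcases this with h1 | h1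
  · left
    omega
  · right
    exact h1

/-- The kernel is regular on the remaining points, in the form used by S0738. -/
theorem kernel_regular {a : Ω} {H : Subgroup G} (hHa : H ≤ stabilizer G a)
    (hHcard : Nat.card H + 1 = Fintype.card Ω)
    (hHfix : ∀ u ∈ H, u ≠ 1 → ∀ c : Ω, u • c = c → c = a) :
    ∀ y z : Ω, y ≠ a → z ≠ a → ∃! u : H, (u : G) • y = z := by
  intro y z hy hz
  obtain ⟨u, hu, huy⟩ := Cfsg.Agent.Helper19.ZassH.exists_H_smul hHa hHcard hHfix hy hz
  refine ⟨⟨u, hu⟩, huy, ?_⟩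
  intro w hw
  have hw' : (w : G) • y = z := hw
  have h2 : (u⁻¹ * (w : G)) • y = y := by rw [mul_smul, hw', ← huy, inv_smul_smul]
  by_contra hne
  have h3 : u⁻¹ * (w : G) ≠ 1 := by
    intro h
    apply hne
    apply Subtype.ext
    have := congrArg (fun t => u * t) h
    simpa using this
  exact hy (hHfix _ (H.mul_mem (H.inv_mem hu) w.2) h3 y h2)

/-- S0346 modulo the simple case of Feit's theorem. -/
theorem prime_pow_degree (hS : Cfsg.Agent.Helper12.ZassFeitRed.SimpleFeit.{u, v})
    (hZ : Cfsg.IsZassenhausGroup G Ω) : IsPrimePow (Fintype.card Ω - 1) := by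
  classical
  have hn3 := Cfsg.Agent.S0878.card_ge_three hZ
  obtain ⟨a, b, hab⟩ : ∃ a b : Ω, a ≠ b := by
    have : 1 < Fintype.card Ω := by omega
    obtain ⟨a, b, hab⟩ := Fintype.one_lt_card_iff.mp this
    exact ⟨a, b, hab⟩
  obtain ⟨H, hHa, hHcard, hHfix⟩ := Cfsg.Agent.Helper19.ZassD.exists_kernel hZ a
  have hnorm := Cfsg.Agent.Helper19.ZassD.H_normal hZ hHa hHcard hHfix
  have hreg := kernel_regular hHa hHcard hHfix
  have hfinish : Fintype.card Ω - 2 ≤
      2 * Nat.card ↥(stabilizer G a ⊓ stabilizer G b : Subgroup G) →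
      IsPrimePow (Fintype.card Ω - 1) := by
    intro hd
    obtain ⟨-, p, f, hp, -, hcard⟩ :=
      Cfsg.Agent.S0738.result hZ hab hd H hHa hnorm hreg
    rw [hcard, Nat.add_sub_cancel]
    have hf : f ≠ 0 := by
      rintro rfl
      rw [pow_zero] at hcard
      omega
    exact hp.isPrimePow.pow hf
  rcases Nat.even_or_odd (Nat.card ↥(stabilizer G a ⊓ stabilizer G b : Subgroup G)) with
    heven | hodd
  · exact hfinish (Cfsg.Agent.S0741.result hZ hab heven)
  · rcases Cfsg.Agent.Helper12.ZassFeitRed.feit hS hZ hab hodd hHa hHcard hHfix with h1 | h1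
    · exact hfinish h1
    · obtain ⟨hp, -, -⟩ := h1
      haveI : Fact (Nat.Prime 2) := ⟨Nat.prime_two⟩
      obtain ⟨k, hk⟩ := (IsPGroup.iff_card.mp hp)
      have hsub : Fintype.card Ω - 1 = Nat.card H := by omega
      rw [hsub, hk]
      have hk0 : k ≠ 0 := by
        rintro rfl
        rw [pow_zero] at hk
        omega
      exact Nat.prime_two.isPrimePow.pow hk0

end Cfsg.Agent.Helper12.ZassFeitMain
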