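import Mathlib
import Cfsg.Agent.Lib.Helper4.ZassFeitInst
import Cfsg.Agent.Lib.Helper82.ZassFeitAbel
import Cfsg.Agent.Lib.Helper12.ZassOddRed

set_option autoImplicit false

/-! The Feit bound for simple Zassenhaus groups with abelian kernel (helper82's character core +
helper4's instantiation), in the form used by `ZassOddRed`. -/

namespace Cfsg.Agent.Helper12.ZassSimpleBound

universe u v

theorem simpleBound : Cfsg.Agent.Helper12.ZassOddRed.SimpleBound.{u, v} := by
  intro G Ω _ _ _ _ _ hZ a b hab hodd H hHa hHcard hHfix hHab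
  exact Cfsg.Agent.Helper4.ZassFeitInst.bound_of_core
    (fun K N => Cfsg.Agent.Helper82.ZassFeitAbel.core K N) hZ hab hodd H hHa hHcard hHfix hHab

end Cfsg.Agent.Helper12.ZassSimpleBound
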